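import Mathlib
import Cfsg.Statements.S0427
import Cfsg.Agent.Lib.Steiner

set_option autoImplicit false
open Cfsg

namespace Cfsg.Agent.S0427

open Cfsg.Agent.Lib.Steiner Finset

variable {α : Type*} [Fintype α] {B : Set (Finset α)}

theorem card_filter_sub [Fintype B] (P : Finset α → Prop) [DecidablePred P] :
    (univ.filter fun d : B => P d.1).card = ((bl B).filter P).card := by
  classical
  apply Finset.card_bij (fun (d : B) _ => d.1)
  · intro d hd
    rw [mem_filter] at hd ⊢
    exact ⟨(mem_bl _).mpr d.2, hd.2⟩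
  · intro a _ b _ h
    exact Subtype.ext h
  · intro b hb
    rw [mem_filter, mem_bl] at hb
    exact ⟨⟨b, hb.1⟩, by simp [hb.2], rfl⟩

section
variable [DecidableEq α] (hα : Fintype.card α = 22) (hB : Cfsg.IsSteinerSystem 3 6 B)
include hα hB

theorem card_blocks : (bl B).card = 77 := by
  have := card_containing hB ∅ (by simp)
  simp only [card_empty, Nat.sub_zero, hα, empty_subset, filter_true] at this
  have h1 : Nat.choose 6 3 = 20 := by decide
  have h2 : Nat.choose 22 3 = 1540 := by decide
  rw [h1, h2] at this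
  omega

theorem inter_cases {b c : Finset α} (hb : b ∈ B) (hc : c ∈ B) (hbc : b ≠ c) :
    (b ∩ c).card = 0 ∨ (b ∩ c).card = 2 := by
  have h := hexad22_numbers hα hB hc
  have h1 := ne_of_nn_zero h.2.1 hb
  have h3 : (b ∩ c).card < 3 := by
    by_contra hlt
    exact hbc (eq_of_le_card_inter hB hb hc (not_lt.1 hlt))
  omega

/-- `|d ∩ (b ∪ c)|` -/
theorem card_inter_union (b c d : Finset α) :
    (d ∩ (b ∪ c)).card + (d ∩ (b ∩ c)).card = (d ∩ b).card + (d ∩ c).card := by
  rw [inter_union_distrib_left]
  have := card_union_add_card_inter (d ∩ b) (d ∩ c)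
  have e : (d ∩ b) ∩ (d ∩ c) = d ∩ (b ∩ c) := by
    ext x; simp only [mem_inter]; tauto
  rw [e] at this
  exact this

theorem numbers_disjoint {b c : Finset α} (hb : b ∈ B) (hc : c ∈ B) (hd : (b ∩ c).card = 0) :
    nn B (b ∪ c) 0 = 0 := by
  have hbc : b ≠ c := by
    rintro rfl
    rw [inter_self, hB.1 b hb] at hd
    omega
  have hO : (b ∪ c).card = 12 := by
    have := card_union_add_card_inter b c
    rw [hB.1 b hb, hB.1 c hc, hd] at this
    omega
  -- possible intersection sizes
  have key : ∀ d ∈ B, d ≠ b → d ≠ c → (d ∩ (b ∪ c)).card = 0 ∨ (d ∩ (b ∪ c)).card = 2 ∨ (d ∩ (b ∪ c)).card = 4 := by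
    intro d hdB hdb hdc
    have h1 := inter_cases hα hB hdB hb hdb
    have h2 := inter_cases hα hB hdB hc hdc
    have h3 := card_inter_union hα hB b c d
    have h4 : (d ∩ (b ∩ c)).card ≤ (b ∩ c).card := card_le_card inter_subset_right
    omega
  have hbO : (b ∩ (b ∪ c)).card = 6 := by
    rw [inter_eq_left.mpr subset_union_left, hB.1 b hb]
  have hcO : (c ∩ (b ∪ c)).card = 6 := by
    rw [inter_eq_left.mpr subset_union_right, hB.1 c hc]
  have n6 : nn B (b ∪ c) 6 = 2 := by
    unfold nn
    rw [card_eq_two]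
    refine ⟨b, c, hbc, ?_⟩
    ext d
    simp only [mem_filter, mem_bl, mem_insert, mem_singleton]
    constructor
    · rintro ⟨h1, h2⟩
      by_contra hcon
      push Not at hcon
      rcases key d h1 hcon.1 hcon.2 with h | h | h <;> omega
    · rintro (rfl | rfl)
      · exact ⟨hb, hbO⟩
      · exact ⟨hc, hcO⟩
  have nz : ∀ i, i ≠ 0 → i ≠ 2 → i ≠ 4 → i ≠ 6 → nn B (b ∪ c) i = 0 := by
    intro i h0 h2 h4 h6
    apply nn_zero_of
    intro d hd h
    by_cases e1 : d = b
    · subst e1; omega
    by_cases e2 : d = c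
    · subst e2; omega
    rcases key d hd e1 e2 with h' | h' | h' <;> omega
  have h0 := sum_choose hB (b ∪ c) 0 (by norm_num) 77 (by rw [hα]; decide) (by decide)
  have h1 := sum_choose hB (b ∪ c) 1 (by norm_num) 21 (by rw [hα]; decide) (by decide)
  have h2 := sum_choose hB (b ∪ c) 2 (by norm_num) 5 (by rw [hα]; decide) (by decide)
  rw [hO] at h0 h1 h2
  simp only [sum_range_succ, sum_range_zero, n6, nz 1 (by norm_num) (by norm_num) (by norm_num) (by norm_num),
    nz 3 (by norm_num) (by norm_num) (by norm_num) (by norm_num),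
    nz 5 (by norm_num) (by norm_num) (by norm_num) (by norm_num),
    nz 7 (by norm_num) (by norm_num) (by norm_num) (by norm_num),
    nz 8 (by norm_num) (by norm_num) (by norm_num) (by norm_num),
    nz 9 (by norm_num) (by norm_num) (by norm_num) (by norm_num),
    nz 10 (by norm_num) (by norm_num) (by norm_num) (by norm_num),
    nz 11 (by norm_num) (by norm_num) (by norm_num) (by norm_num),
    nz 12 (by norm_num) (by norm_num) (by norm_num) (by norm_num), Nat.choose] at h0 h1 h2
  omega

theorem numbers_two {b c : Finset α} (hb : b ∈ B) (hc : c ∈ B) (hbc : b ≠ c) (hd : (b ∩ c).card = 2) :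
    nn B (b ∪ c) 0 = 4 := by
  have hO : (b ∪ c).card = 10 := by
    have := card_union_add_card_inter b c
    rw [hB.1 b hb, hB.1 c hc, hd] at this
    omega
  have key : ∀ d ∈ B, d ≠ b → d ≠ c → (d ∩ (b ∪ c)).card = 0 ∨ (d ∩ (b ∪ c)).card = 2 ∨
      (d ∩ (b ∪ c)).card = 3 ∨ (d ∩ (b ∪ c)).card = 4 := by
    intro d hdB hdb hdc
    have h1 := inter_cases hα hB hdB hb hdb
    have h2 := inter_cases hα hB hdB hc hdc
    have h3 := card_inter_union hα hB b c d
    have h4 : (d ∩ (b ∩ c)).card ≤ (b ∩ c).card := card_le_card inter_subset_right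
    have h5 : (d ∩ (b ∩ c)).card ≤ (d ∩ b).card := card_le_card (by
      intro x; simp only [mem_inter]; tauto)
    have h6 : (d ∩ (b ∩ c)).card ≤ (d ∩ c).card := card_le_card (by
      intro x; simp only [mem_inter]; tauto)
    omega
  have hbO : (b ∩ (b ∪ c)).card = 6 := by
    rw [inter_eq_left.mpr subset_union_left, hB.1 b hb]
  have hcO : (c ∩ (b ∪ c)).card = 6 := by
    rw [inter_eq_left.mpr subset_union_right, hB.1 c hc]
  have n6 : nn B (b ∪ c) 6 = 2 := by
    unfold nn
    rw [card_eq_two]
    refine ⟨b, c, hbc, ?_⟩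
    ext d
    simp only [mem_filter, mem_bl, mem_insert, mem_singleton]
    constructor
    · rintro ⟨h1, h2⟩
      by_contra hcon
      push Not at hcon
      rcases key d h1 hcon.1 hcon.2 with h | h | h | h <;> omega
    · rintro (rfl | rfl)
      · exact ⟨hb, hbO⟩
      · exact ⟨hc, hcO⟩
  have nz : ∀ i, i ≠ 0 → i ≠ 2 → i ≠ 3 → i ≠ 4 → i ≠ 6 → nn B (b ∪ c) i = 0 := by
    intro i h0 h2 h3 h4 h6
    apply nn_zero_of
    intro d hd h
    by_cases e1 : d = b
    · subst e1; omega
    by_cases e2 : d = c
    · subst e2; omega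
    rcases key d hd e1 e2 with h' | h' | h' | h' <;> omega
  have h0 := sum_choose hB (b ∪ c) 0 (by norm_num) 77 (by rw [hα]; decide) (by decide)
  have h1 := sum_choose hB (b ∪ c) 1 (by norm_num) 21 (by rw [hα]; decide) (by decide)
  have h2 := sum_choose hB (b ∪ c) 2 (by norm_num) 5 (by rw [hα]; decide) (by decide)
  have h3 := sum_choose hB (b ∪ c) 3 (by norm_num) 1 (by rw [hα]; decide) (by decide)
  rw [hO] at h0 h1 h2 h3
  simp only [sum_range_succ, sum_range_zero, n6, nz 1 (by norm_num) (by norm_num) (by norm_num) (by norm_num) (by norm_num),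
    nz 5 (by norm_num) (by norm_num) (by norm_num) (by norm_num) (by norm_num),
    nz 7 (by norm_num) (by norm_num) (by norm_num) (by norm_num) (by norm_num),
    nz 8 (by norm_num) (by norm_num) (by norm_num) (by norm_num) (by norm_num),
    nz 9 (by norm_num) (by norm_num) (by norm_num) (by norm_num) (by norm_num),
    nz 10 (by norm_num) (by norm_num) (by norm_num) (by norm_num) (by norm_num), Nat.choose] at h0 h1 h2 h3
  omega

theorem adj_iff (b c : B) : (blockGraph B).Adj b c ↔ (c.1 ∩ b.1).card = 0 := by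
  rw [blockGraph, SimpleGraph.fromRel_adj, card_eq_zero, ← disjoint_iff_inter_eq_empty]
  constructor
  · rintro ⟨_, h | h⟩
    · exact h.symm
    · exact h
  · intro h
    refine ⟨?_, Or.inr h⟩
    rintro rfl
    rw [disjoint_self_iff_empty] at h
    have := hB.1 b.1 b.2
    rw [h] at this
    simp at this

end

theorem card_common {V : Type*} [Fintype V] (G : SimpleGraph V) [DecidableRel G.Adj] (v w : V) :
    Fintype.card (G.commonNeighbors v w) = (univ.filter fun u => G.Adj v u ∧ G.Adj w u).card := by
  classical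
  rw [← Set.toFinset_card]
  congr 1
  ext u
  simp [SimpleGraph.mem_commonNeighbors]

/-- The block graph (adjacent = disjoint) of an S(3, 6, 22) is strongly regular with parameters (77, 16, 0, 4). -/
theorem result {α : Type*} [Fintype α] (hα : Fintype.card α = 22) {B : Set (Finset α)} (hB : Cfsg.IsSteinerSystem 3 6 B) [Fintype B] [DecidableRel (Cfsg.blockGraph B).Adj] : (Cfsg.blockGraph B).IsSRGWith 77 16 0 4 := by
  classical
  have hadj := adj_iff hα hB
  have hcommon : ∀ b c : B, Fintype.card ((blockGraph B).commonNeighbors b c) = nn B (b.1 ∪ c.1) 0 := by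
    intro b c
    rw [card_common]
    have e : (univ.filter fun u => (blockGraph B).Adj b u ∧ (blockGraph B).Adj c u) =
        univ.filter fun u : B => (u.1 ∩ (b.1 ∪ c.1)).card = 0 := by
      ext u
      simp only [mem_filter, mem_univ, true_and, hadj]
      rw [inter_union_distrib_left]
      simp [card_eq_zero]
    rw [e, card_filter_sub (B := B) (fun u => (u ∩ (b.1 ∪ c.1)).card = 0)]
    rfl
  constructor
  · have := card_filter_sub (B := B) (fun _ => True)
    simp only [filter_true] at this
    rw [← card_univ, this, card_blocks hα hB]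
  · intro b
    rw [← SimpleGraph.card_neighborFinset_eq_degree, SimpleGraph.neighborFinset_eq_filter]
    have e : (univ.filter fun u => (blockGraph B).Adj b u) =
        univ.filter fun u : B => (u.1 ∩ b.1).card = 0 := by
      ext u
      simp only [mem_filter, mem_univ, true_and, hadj]
    rw [e, card_filter_sub (B := B) (fun u => (u ∩ b.1).card = 0)]
    exact (hexad22_numbers hα hB b.2).1
  · intro b c hbc
    rw [hcommon]
    rw [hadj] at hbc
    rw [inter_comm] at hbc
    exact numbers_disjoint hα hB b.2 c.2 hbc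
  · intro b c hne hbc
    rw [hcommon]
    rw [hadj] at hbc
    rw [inter_comm] at hbc
    have hne' : b.1 ≠ c.1 := fun h => hne (Subtype.ext h)
    rcases inter_cases hα hB b.2 c.2 hne' with h | h
    · exact absurd h hbc
    · exact numbers_two hα hB b.2 c.2 hne' h

end Cfsg.Agent.S0427
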