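import Cfsg.Statements.S0910
import Cfsg.Agent.Lib.BlockNormP
import Cfsg.Agent.Lib.CharCentral
import Cfsg.Agent.Lib.BlockThird

set_option autoImplicit false
open Cfsg

namespace Cfsg.Agent.S0910

open Cfsg Cfsg.Agent.Lib.BlockRing Cfsg.Agent.Lib.BlockGA Cfsg.Agent.Lib.BlockIdem
open Cfsg.Agent.Lib.CharBasic Cfsg.Agent.Lib.BlockNormP
open Cfsg.Agent.Lib

/-- Let G be a non-abelian finite simple group and p a prime. If an irreducible character χ lies in the principal block (relative to a maximal ideal of the algebraic integers containing p) and χ 1 is a power of p, then χ is the principal character. -/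
theorem result {G : Type*} [Group G] [Finite G] (p : ℕ) [Fact p.Prime] (M : Ideal Cfsg.AlgInt) (hM : Cfsg.IsPModular p M) [IsSimpleGroup G] (hna : ∃ a b : G, a * b ≠ b * a) (χ : Cfsg.IrrCharacter G) (hχ : χ ∈ Cfsg.principalBlock M G) (k : ℕ) (hdeg : (χ : G → ℂ) 1 = (p : ℂ) ^ k) : (χ : G → ℂ) = fun _ => 1 := by
  classical
  haveI := isPrime hM
  haveI := Fintype.ofFinite G
  obtain ⟨χ, hirr⟩ := χ
  have hirr' := hirr
  obtain ⟨n, ρ, hρ, rfl⟩ := hirr
  haveI := hρ
  show (ρ.character : G → ℂ) = fun _ => 1
  have hdeg' : ρ.character 1 = (p : ℂ) ^ k := hdeg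
  have h1 : ρ.character 1 = (Module.finrank ℂ (Fin n → ℂ) : ℂ) := Representation.char_one ρ
  have hfr : Module.finrank ℂ (Fin n → ℂ) = p ^ k := by
    have : (Module.finrank ℂ (Fin n → ℂ) : ℂ) = ((p ^ k : ℕ) : ℂ) := by
      rw [← h1, hdeg']; push_cast; rfl
    exact_mod_cast this
  have hker : ∀ g : G, ρ.character g = ρ.character 1 ↔ ρ g = 1 := by
    intro g
    rw [h1]
    exact CharValues.character_eq_finrank_iff ρ g
  rcases IsSimpleGroup.eq_bot_or_eq_top_of_normal (MonoidHom.ker ρ) inferInstance with hbot | htop
  · exfalso
    have hinj : ∀ g : G, ρ g = 1 → g = 1 := by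
      intro g hg
      have : g ∈ MonoidHom.ker ρ := hg
      rwa [hbot, Subgroup.mem_bot] at this
    have hcomm : ∀ z : G, (∀ h : G, ρ z * ρ h = ρ h * ρ z) → z = 1 := by
      intro z hz
      have hzc : z ∈ Subgroup.center G := by
        rw [Subgroup.mem_center_iff]
        intro h
        have h2 : ρ (h * z * h⁻¹ * z⁻¹) = 1 := by
          have h3 : ρ (h * z * h⁻¹ * z⁻¹) = ρ h * ρ z * ρ h⁻¹ * ρ z⁻¹ := by
            rw [map_mul, map_mul, map_mul]
          rw [h3, ← hz h, mul_assoc (ρ z), ← map_mul, mul_inv_cancel, map_one, mul_one, ← map_mul,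
            mul_inv_cancel, map_one]
        have h3 := hinj _ h2
        have h4 := congrArg (fun t => t * z * h) h3
        simpa [mul_assoc] using h4
      rcases IsSimpleGroup.eq_bot_or_eq_top_of_normal (Subgroup.center G) inferInstance with hb | ht
      · rwa [hb, Subgroup.mem_bot] at hzc
      · exfalso
        obtain ⟨a, b, hab⟩ := hna
        apply hab
        have ha : a ∈ Subgroup.center G := by rw [ht]; exact Subgroup.mem_top a
        exact (Subgroup.mem_center_iff.1 ha b).symm
    by_cases hp : p ∣ Nat.card G
    · obtain ⟨P⟩ : Nonempty (Sylow p G) := inferInstance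
      have hPne : Nontrivial P := by
        rw [← Finite.one_lt_card_iff_nontrivial, P.card_eq_multiplicity]
        have : (Nat.card G).factorization p ≠ 0 :=
          (Nat.Prime.factorization_pos_of_dvd hM.1 Nat.card_pos.ne' hp).ne'
        exact Nat.one_lt_pow this hM.1.one_lt
      haveI := P.isPGroup'.center_nontrivial
      obtain ⟨z, hz⟩ := exists_ne (1 : Subgroup.center P)
      set g : G := ((z : P) : G) with hg
      have hg1 : g ≠ 1 := by
        intro h
        exact hz (Subtype.ext (Subtype.ext h))
      have hPC : (P : Subgroup G) ≤ Subgroup.centralizer ({g} : Set G) := by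
        intro w hw
        rw [Subgroup.mem_centralizer_singleton_iff]
        exact congrArg Subtype.val ((Subgroup.mem_center_iff.1 z.2) ⟨w, hw⟩)
      have hidx : ¬ p ∣ (Subgroup.centralizer ({g} : Set G)).index := by
        intro h
        exact P.not_dvd_index (h.trans (Subgroup.index_dvd_of_le hPC))
      have hcop : Nat.Coprime (Module.finrank ℂ (Fin n → ℂ)) (Subgroup.centralizer ({g} : Set G)).index := by
        rw [hfr]
        exact Nat.Coprime.pow_left k ((Nat.Prime.coprime_iff_not_dvd hM.1).2 hidx)
      rcases CharCentral.zero_or_norm_eq_of_coprime ρ g hcop with h0 | h0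
      · -- the central character
        have h2 : MemLocalIdeal M (centralChar (fun _ : G => (1 : ℂ)) g - centralChar (ρ.character : G → ℂ) g) := hχ g
        have h3 : centralChar (fun _ : G => (1 : ℂ)) g = ((Subgroup.centralizer ({g} : Set G)).index : ℂ) := by
          rw [centralChar]; simp
        have h4 : centralChar (ρ.character : G → ℂ) g = 0 := by
          rw [centralChar, h0]; simp
        rw [h3, h4, sub_zero, idl_natCast_iff hM] at h2
        exact hidx h2
      · obtain ⟨ω, hω⟩ := (CharValues.norm_character_eq_iff ρ g).1 h0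
        apply hg1
        apply hcomm
        intro h
        rw [hω]
        ext v
        simp
    · -- degree one
      have h2 : charDegree ρ.character ∣ Nat.card G := BlockDeg.charDegree_dvd_card hirr'
      have h3 : charDegree ρ.character = p ^ k := by
        have := BlockDeg.charDegree_cast hirr'.isCharacter
        rw [hdeg'] at this
        exact_mod_cast this
      have hk : k = 0 := by
        by_contra hk
        exact hp ((dvd_pow_self p hk).trans (h3 ▸ h2))
      have h4 : ρ.character 1 = 1 := by rw [hdeg', hk, pow_zero]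
      obtain ⟨a, b, hab⟩ := hna
      apply hab
      have h5 : ρ (a * b * a⁻¹ * b⁻¹) = 1 := by
        rw [← hker, h4]
        have hc := hirr'.isCharacter
        rw [hc.map_mul_of_linear h4, hc.map_mul_of_linear h4, hc.map_mul_of_linear h4]
        have e1 : ρ.character a * ρ.character a⁻¹ = 1 := by
          rw [← hc.map_mul_of_linear h4, mul_inv_cancel, h4]
        have e2 : ρ.character b * ρ.character b⁻¹ = 1 := by
          rw [← hc.map_mul_of_linear h4, mul_inv_cancel, h4]
        calc ρ.character a * ρ.character b * ρ.character a⁻¹ * ρ.character b⁻¹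
            = (ρ.character a * ρ.character a⁻¹) * (ρ.character b * ρ.character b⁻¹) := by ring
          _ = 1 := by rw [e1, e2, one_mul]
      have h6 := hinj _ h5
      have h7 := congrArg (fun t => t * b * a) h6
      simpa [mul_assoc] using h7
  · have hall : ∀ g : G, ρ.character g = ρ.character 1 := by
      intro g
      rw [hker]
      have : g ∈ MonoidHom.ker ρ := by rw [htop]; exact Subgroup.mem_top g
      exact this
    have h2 := hirr'.classInner_self
    rw [classInner] at h2
    have h3 : ∀ g : G, ρ.character g * (starRingEnd ℂ) (ρ.character g) = (((p ^ k) ^ 2 : ℕ) : ℂ) := by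
      intro g
      rw [hall g, hdeg']
      push_cast
      rw [map_pow, Complex.conj_natCast]
      ring
    rw [Finset.sum_congr rfl fun g _ => h3 g, Finset.sum_const, Finset.card_univ, nsmul_eq_mul,
      ← Nat.card_eq_fintype_card, ← mul_assoc, inv_mul_cancel₀ (by exact_mod_cast Nat.card_pos.ne'), one_mul] at h2
    have h4 : (p ^ k) ^ 2 = 1 := by exact_mod_cast h2
    have h5 : p ^ k = 1 := by
      rcases Nat.pow_eq_one.1 h4 with h | h
      · exact h
      · exact absurd h two_ne_zero
    funext g
    rw [hall g, hdeg']
    exact_mod_cast h5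

end Cfsg.Agent.S0910
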