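import Cfsg.Statements.S1262
import Cfsg.Agent.Lib.Components

set_option autoImplicit false
open Cfsg

namespace Cfsg.Agent.S1262

/-- Let L be a component of the finite group G and H a solvable subgroup normalized by L. Then ⁅L, H⁆ = 1. -/
theorem result {G : Type*} [Group G] [Finite G] (L H : Subgroup G) (hL : Cfsg.IsComponent L) (hsolv : Group.IsSolvable ↥H) (hinv : L ≤ Subgroup.normalizer (H : Set G)) : ⁅L, H⁆ = ⊥ := by
  classical
  have hLM : L ≤ H ⊔ L := le_sup_right
  have hHM : H ≤ H ⊔ L := le_sup_left
  have hn : (H.subgroupOf (H ⊔ L)).Normal :=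
    Subgroup.normal_subgroupOf_of_le_normalizer (sup_le Subgroup.le_normalizer hinv)
  have hcomp := Lib.Components.isComponent_subgroupOf hLM hL
  have hsolv' : Group.IsSolvable ↥(H.subgroupOf (H ⊔ L)) :=
    Group.isSolvable_of_isSolvable_injective
      (f := (Subgroup.subgroupOfEquivOfLe hHM).toMonoidHom)
      (Subgroup.subgroupOfEquivOfLe hHM).injective
  have h1 := Lib.Components.component_centralizes_solvable hcomp hsolv' hn.isSubnormal
  rw [← Subgroup.commutator_eq_bot_iff_le_centralizer] at h1
  have h2 := congrArg (Subgroup.map (H ⊔ L).subtype) h1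
  rw [Subgroup.map_commutator, Subgroup.map_bot, Subgroup.subgroupOf_map_subtype,
    Subgroup.subgroupOf_map_subtype, inf_eq_left.mpr hLM, inf_eq_left.mpr hHM] at h2
  exact h2

end Cfsg.Agent.S1262
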