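import Cfsg.Statements.S4434
import Mathlib
import Cfsg.Agent.Lib.BlockQuotDef

set_option autoImplicit false
open Cfsg

namespace Cfsg.Agent.S4434
open Cfsg Cfsg.Agent.Lib.BlockRing Cfsg.Agent.Lib.BlockGA Cfsg.Agent.Lib.BlockIdem Cfsg.Agent.Lib.BlockDefect
open Cfsg.Agent.Lib.BlockNormP Cfsg.Agent.Lib.CharBasic Cfsg.Agent.Lib.BlockQuotDef


/-- Let N be a normal p-subgroup of the finite group G and write Ḡ = G/N; fix a maximal ideal M of the algebraic integers containing p. Then every block B of G contains a block B̄ of Ḡ (the inflation of every member of B̄ lies in B) whose defect groups are exactly the images in Ḡ of the defect groups of B. -/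
theorem result {G : Type*} [Group G] [Finite G] (p : ℕ) [Fact p.Prime] (M : Ideal Cfsg.AlgInt) (hM : Cfsg.IsPModular p M) (N : Subgroup G) [N.Normal] (hN : IsPGroup p N) (B : Set (Cfsg.IrrCharacter G)) (hB : Cfsg.IsPBlock M B) : ∃ Bbar : Set (Cfsg.IrrCharacter (G ⧸ N)), Cfsg.IsPBlock M Bbar ∧ (∀ χ ∈ Bbar, ∀ ψ : Cfsg.IrrCharacter G, (ψ : G → ℂ) = (χ : G ⧸ N → ℂ) ∘ QuotientGroup.mk → ψ ∈ B) ∧ ∀ Dbar : Subgroup (G ⧸ N), Cfsg.IsDefectGroup p M Bbar Dbar ↔ ∃ P : Subgroup G, Cfsg.IsDefectGroup p M B P ∧ Dbar = P.map (QuotientGroup.mk' N) := by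
  classical
  haveI := isPrime hM
  haveI : Fintype G := Fintype.ofFinite G
  obtain ⟨x, hx⟩ := exists_defectClass hM hB
  obtain ⟨P, hP⟩ := sylIn_exists (p := p) (Subgroup.centralizer ({x} : Set G))
  have hD : IsDefectGroup p M B P := ⟨x, hx, hP⟩
  set U : Set (Cfsg.IrrCharacter (G ⧸ N)) := {χ | ∃ ψ ∈ B, (ψ : G → ℂ) = fun g : G => (χ : G ⧸ N → ℂ) (g : G ⧸ N)} with hU
  have hUmem : ∀ χ : Cfsg.IrrCharacter (G ⧸ N), χ ∈ U ↔
      (⟨fun g : G => (χ : G ⧸ N → ℂ) (g : G ⧸ N), χ.2.inflate N⟩ : Cfsg.IrrCharacter G) ∈ B := by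
    intro χ
    constructor
    · rintro ⟨ψ, hψ, h⟩
      have : ψ = ⟨fun g : G => (χ : G ⧸ N → ℂ) (g : G ⧸ N), χ.2.inflate N⟩ := Subtype.ext h
      rw [← this]; exact hψ
    · intro h; exact ⟨_, h, rfl⟩
  have hUU : UnionOfBlocks M U := by
    intro χ hχ ψ h
    rw [hUmem] at hχ ⊢
    exact mem_of_sameBlock hB hχ (sameBlock_inflate N h)
  -- the projection of the idempotent
  have hproj : projQ N (eB B) = eB U := by
    apply center_ext (projQ_mem_center N (eB_mem_center B)) (eB_mem_center U)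
    intro χ
    rw [omega_projQ]
    have h1 := omega_eB B (⟨fun g : G => (χ : G ⧸ N → ℂ) (g : G ⧸ N), χ.2.inflate N⟩ : Cfsg.IrrCharacter G)
    rw [omega_eB U χ]
    simp only [hUmem χ]
    exact h1
  have hNP : N ≤ P := le_defectGroup hM hN hB hD
  have hPc : P ≤ Subgroup.centralizer ({x} : Set G) := sylIn_le hP
  have hxreg : ¬ p ∣ orderOf x := defectClass_regular hM hB hx
  have hcoef : blockCoeff U (x : G ⧸ N) = blockCoeff B x := by
    rw [← coeff_eB, ← hproj, coeff_projQ, Finset.sum_eq_single x]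
    · rw [if_pos rfl, coeff_eB]
    · intro g _ hg
      split_ifs with h
      · rw [coeff_eB]
        apply Cfsg.Agent.Lib.BlockOsima.blockCoeff_eq_zero hM hB
        -- `g = x n`
        have h1 : x⁻¹ * g ∈ N := QuotientGroup.eq.1 h.symm
        set n := x⁻¹ * g with hn
        have h2 : g = x * n := by rw [hn]; group
        have h3 : n ≠ 1 := by
          intro h4; apply hg; rw [h2, h4, mul_one]
        have h4 : Commute x n := (Subgroup.mem_centralizer_singleton_iff.1 (hPc (hNP h1))).symm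
        have h5 : p ∣ orderOf n := dvd_orderOf_of_isPGroup hM.1 hN h1 h3
        obtain ⟨k, hk⟩ := (IsPGroup.iff_orderOf.1 hN) ⟨n, h1⟩
        rw [Subgroup.orderOf_mk] at hk
        have h6 : (orderOf x).Coprime (orderOf n) := by
          rw [hk]
          exact (Nat.Coprime.pow_left k ((Nat.Prime.coprime_iff_not_dvd hM.1).2 hxreg)).symm
        rw [h2, h4.orderOf_mul_eq_mul_orderOf_of_coprime h6]
        exact h5.mul_left _
      · rfl
    · intro h; exact absurd (Finset.mem_univ _) h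
  obtain ⟨Bbar, hBbar, hBU, hc⟩ := eB_union_block hM hUU (by rw [hcoef]; exact hx.2.1)
  refine ⟨Bbar, hBbar, ?_, ?_⟩
  · intro χ hχ ψ hψ
    have h1 := (hUmem χ).1 (hBU hχ)
    have h2 : ψ = ⟨fun g : G => (χ : G ⧸ N → ℂ) (g : G ⧸ N), χ.2.inflate N⟩ := Subtype.ext hψ
    rw [h2]; exact h1
  · have hdef : IsDefectGroup p M Bbar (P.map (QuotientGroup.mk' N)) := by
      have h1 : ∀ χ ∈ Bbar, ¬ Cfsg.MemLocalIdeal M (Cfsg.centralChar (χ : G ⧸ N → ℂ) (x : G ⧸ N)) ∧
          SylC p (x : G ⧸ N) (P.map (QuotientGroup.mk' N)) := fun χ hχ =>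
        quot_class hM N χ.2 (hx.2.2 _ ((hUmem χ).1 (hBU hχ))) hP
      obtain ⟨χ, hχ⟩ := isPBlock_nonempty hBbar
      exact ⟨(x : G ⧸ N), ⟨loc_blockCoeff hBbar _, hc, fun χ hχ => (h1 χ hχ).1⟩, (h1 χ hχ).2⟩
    intro Dbar
    constructor
    · intro h
      obtain ⟨y, hy⟩ := defectGroup_conj hM hBbar hdef h
      obtain ⟨y, rfl⟩ := QuotientGroup.mk_surjective y
      rw [map_conj_mk] at hy
      exact ⟨_, defectGroup_map_conj hD y, hy⟩
    · rintro ⟨Q, hQ, rfl⟩
      obtain ⟨y, rfl⟩ := defectGroup_conj hM hB hD hQ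
      rw [← map_conj_mk]
      exact defectGroup_map_conj hdef _

end Cfsg.Agent.S4434
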