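import Cfsg.Statements.S0945

set_option autoImplicit false
open Cfsg

namespace Cfsg.Agent.S0945

/-- The set of involutions of `P`. -/
def invs {G : Type*} [Group G] (P : Subgroup G) : Set G := {t | t ∈ P ∧ t ≠ 1 ∧ t * t = 1}

theorem card_two_torsion (m : ℕ) (hm : 1 ≤ m) : Nat.card {a : ZMod (2 ^ m) // a + a = 0} = 2 := by
  have h1 : (2 ^ m : ℕ) = 2 * 2 ^ (m - 1) := by
    rw [← pow_succ']; congr 1; omega
  have hne : NeZero (2 ^ m) := ⟨by positivity⟩
  rw [Nat.card_eq_fintype_card, Fintype.card_subtype]
  have h2 : (Finset.univ.filter (fun a : ZMod (2 ^ m) => a + a = 0)) = {0, ((2 ^ (m - 1) : ℕ) : ZMod (2 ^ m))} := by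
    ext a
    simp only [Finset.mem_filter, Finset.mem_univ, true_and, Finset.mem_insert, Finset.mem_singleton]
    constructor
    · intro h
      have h3 : ((a.val + a.val : ℕ) : ZMod (2 ^ m)) = 0 := by
        rw [Nat.cast_add, ZMod.natCast_zmod_val, h]
      rw [ZMod.natCast_eq_zero_iff] at h3
      have h4 := a.val_lt
      obtain ⟨k, hk⟩ := h3
      have h5 : k < 2 := by
        by_contra hcon
        have : 2 ^ m * 2 ≤ 2 ^ m * k := Nat.mul_le_mul_left _ (by omega)
        omega
      rw [← ZMod.natCast_zmod_val a]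
      rcases (show k = 0 ∨ k = 1 by omega) with rfl | rfl
      · left
        have : a.val = 0 := by omega
        rw [this, Nat.cast_zero]
      · right
        have : a.val = 2 ^ (m - 1) := by omega
        rw [this]
    · rintro (rfl | rfl)
      · simp
      · rw [← Nat.cast_add, ZMod.natCast_eq_zero_iff, ← two_mul, ← h1]
  rw [h2, Finset.card_pair]
  intro h
  have h3 := (ZMod.natCast_eq_zero_iff _ _).1 h.symm
  have := Nat.le_of_dvd (by positivity) h3
  have h4 : 0 < 2 ^ (m - 1) := by positivity
  omega

theorem card_invs {G : Type*} [Group G] [Finite G] (P : Subgroup G) (m : ℕ) (hm : 1 ≤ m)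
    (e : P ≃* Multiplicative (ZMod (2 ^ m) × ZMod (2 ^ m))) : Nat.card (invs P) = 3 := by
  classical
  have h0 : Nat.card {t : P // t * t = 1} = 4 := by
    have e1 : {t : P // t * t = 1} ≃ {a : ZMod (2 ^ m) // a + a = 0} × {a : ZMod (2 ^ m) // a + a = 0} :=
      { toFun := fun t => (⟨(Multiplicative.toAdd (e t.1)).1, by
            have h1 := congrArg (fun x => (Multiplicative.toAdd (e x)).1) t.2
            simpa using h1⟩, ⟨(Multiplicative.toAdd (e t.1)).2, by
            have h1 := congrArg (fun x => (Multiplicative.toAdd (e x)).2) t.2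
            simpa using h1⟩)
        invFun := fun ab => ⟨e.symm (Multiplicative.ofAdd (ab.1.1, ab.2.1)), by
            rw [← map_mul, ← ofAdd_add, Prod.mk_add_mk, ab.1.2, ab.2.2]
            have : Multiplicative.ofAdd ((0 : ZMod (2 ^ m)), (0 : ZMod (2 ^ m))) = 1 := rfl
            rw [this, map_one]⟩
        left_inv := fun t => by
          apply Subtype.ext
          simp
        right_inv := fun ab => by
          apply Prod.ext <;> apply Subtype.ext <;> simp }
    rw [Nat.card_congr e1, Nat.card_prod, card_two_torsion m hm]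
  have e2 : {t : P // t * t = 1} ≃ Option (invs P) :=
    { toFun := fun t => if h : t.1 = 1 then none else some ⟨t.1, t.1.2, fun h' => h (Subtype.ext h'), by
          have := congrArg (Subtype.val) t.2
          simpa using this⟩
      invFun := fun o => o.elim ⟨1, by simp⟩ (fun s => ⟨⟨s.1, s.2.1⟩, Subtype.ext s.2.2.2⟩)
      left_inv := fun t => by
        by_cases h : t.1 = 1
        · simp only [h, dite_true, Option.elim]
          exact Subtype.ext h.symm
        · simp [h]
      right_inv := fun o => by
        cases o with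
        | none => simp
        | some s =>
          have : (⟨s.1, s.2.1⟩ : P) ≠ 1 := fun h => s.2.2.1 (congrArg Subtype.val h)
          simp [this] }
  rw [Nat.card_congr e2, Finite.card_option] at h0
  omega

/-- The conjugation action of `N(P)` on the involutions of `P`. -/
@[instance_reducible] def act {G : Type*} [Group G] (P : Subgroup G) :
    MulAction (Subgroup.normalizer (P : Set G)) (invs P) where
  smul n t := ⟨(n : G) * t.1 * (n : G)⁻¹, by
    refine ⟨((Subgroup.mem_normalizer_iff.1 n.2) t.1).1 t.2.1, ?_, ?_⟩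
    · intro h
      apply t.2.2.1
      have := congrArg (fun x => (n : G)⁻¹ * x * (n : G)) h
      simpa [mul_assoc] using this
    · have : (n : G) * t.1 * (n : G)⁻¹ * ((n : G) * t.1 * (n : G)⁻¹) = (n : G) * (t.1 * t.1) * (n : G)⁻¹ := by group
      rw [this, t.2.2.2]; simp⟩
  one_smul t := by
    apply Subtype.ext
    change ((1 : Subgroup.normalizer (P : Set G)) : G) * t.1 * ((1 : Subgroup.normalizer (P : Set G)) : G)⁻¹ = t.1
    simp
  mul_smul a b t := by
    apply Subtype.ext
    change ((a * b : Subgroup.normalizer (P : Set G)) : G) * t.1 * ((a * b : Subgroup.normalizer (P : Set G)) : G)⁻¹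
      = (a : G) * ((b : G) * t.1 * (b : G)⁻¹) * (a : G)⁻¹
    simp [mul_assoc]

theorem act_smul {G : Type*} [Group G] (P : Subgroup G) (n : Subgroup.normalizer (P : Set G)) (t : invs P) :
    (((act P).toSMul.smul n t : invs P) : G) = (n : G) * t.1 * (n : G)⁻¹ := rfl

/-- An automorphism (conjugation by `n`) of odd order of an abelian 2-group fixing all involutions is trivial. -/
theorem centralizes_of_centralizes_invs {G : Type*} [Group G] [Finite G] (P : Subgroup G)
    (hP : IsPGroup 2 P) (hab : ∀ x ∈ P, ∀ y ∈ P, x * y = y * x) (n : G)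
    (hn : n ∈ Subgroup.normalizer (P : Set G)) (r : ℕ) (hr : Odd r)
    (hnr : n ^ r ∈ Subgroup.centralizer (P : Set G)) (hfix : ∀ t ∈ invs P, n * t * n⁻¹ = t) :
    n ∈ Subgroup.centralizer (P : Set G) := by
  have key : ∀ k : ℕ, ∀ x ∈ P, x ^ 2 ^ k = 1 → n * x * n⁻¹ = x := by
    intro k
    induction k with
    | zero =>
      intro x _ hx
      rw [pow_zero, pow_one] at hx
      rw [hx]; simp
    | succ k ih =>
      intro x hxP hx
      have h1 : n * (x * x) * n⁻¹ = x * x := by
        apply ih _ (P.mul_mem hxP hxP)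
        rw [← pow_two, ← pow_mul, ← pow_succ']
        exact hx
      have h1' : (n * x * n⁻¹) * (n * x * n⁻¹) = x * x := by rw [← h1]; group
      have hyP : n * x * n⁻¹ ∈ P := ((Subgroup.mem_normalizer_iff.1 hn) x).1 hxP
      -- t = n x n⁻¹ x⁻¹
      set t := n * x * n⁻¹ * x⁻¹ with ht
      have htP : t ∈ P := P.mul_mem hyP (P.inv_mem hxP)
      have hnx : n * x * n⁻¹ = t * x := by rw [ht]; group
      have htt : t * t = 1 := by
        have h2 : t * x * (t * x) = x * x := by rw [← hnx]; exact h1'
        have h3 : x * t = t * x := hab x hxP t htP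
        have h4 : t * x * (t * x) = t * t * (x * x) := by
          calc t * x * (t * x) = t * (x * t) * x := by group
            _ = t * t * (x * x) := by rw [h3]; group
        rw [h4] at h2
        exact mul_eq_right.1 h2
      by_cases ht1 : t = 1
      · rw [hnx, ht1, one_mul]
      · have hnt : n * t * n⁻¹ = t := hfix t ⟨htP, ht1, htt⟩
        have h5 : ∀ j : ℕ, n ^ j * x * (n ^ j)⁻¹ = t ^ j * x := by
          intro j
          induction j with
          | zero => simp
          | succ j ihj =>
            have hj : n * t ^ j * n⁻¹ = t ^ j := by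
              have := congrArg (fun y => y ^ j) hnt
              simpa [conj_pow] using this
            calc n ^ (j + 1) * x * (n ^ (j + 1))⁻¹ = n * (n ^ j * x * (n ^ j)⁻¹) * n⁻¹ := by
                  rw [pow_succ']; group
              _ = n * (t ^ j * x) * n⁻¹ := by rw [ihj]
              _ = (n * t ^ j * n⁻¹) * (n * x * n⁻¹) := by group
              _ = t ^ j * (t * x) := by rw [hj, hnx]
              _ = t ^ (j + 1) * x := by rw [pow_succ]; group
        have h6 := h5 r
        have h7 : n ^ r * x * (n ^ r)⁻¹ = x := by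
          have := Subgroup.mem_centralizer_iff.1 hnr x hxP
          rw [← this]; group
        obtain ⟨s, hs⟩ := hr
        have h8 : t ^ r = t := by
          rw [hs, pow_succ, pow_mul, pow_two, htt, one_pow, one_mul]
        rw [h7, h8] at h6
        exact absurd (mul_eq_right.1 h6.symm) ht1
  rw [Subgroup.mem_centralizer_iff]
  intro x hx
  obtain ⟨k, hk⟩ := hP ⟨x, hx⟩
  have h9 := key k x hx (by simpa using congrArg Subtype.val hk)
  exact (mul_inv_eq_iff_eq_mul.1 h9).symm

theorem nat_card_perm {α : Type*} [Finite α] :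
    Nat.card (Equiv.Perm α) = (Nat.card α).factorial := by
  have := Fintype.ofFinite α
  classical
  rw [Nat.card_eq_fintype_card, Nat.card_eq_fintype_card, Fintype.card_perm]

section main

variable {G : Type*} [Group G] [Finite G] (P : Subgroup G) (m : ℕ) (hm : 1 ≤ m)
  (e : P ≃* Multiplicative (ZMod (2 ^ m) × ZMod (2 ^ m)))

include e in
omit [Finite G] in
theorem comm_P : ∀ x ∈ P, ∀ y ∈ P, x * y = y * x := by
  intro x hx y hy
  have h : (⟨x, hx⟩ : P) * ⟨y, hy⟩ = ⟨y, hy⟩ * ⟨x, hx⟩ := by
    apply e.injective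
    rw [map_mul, map_mul, mul_comm]
  exact congrArg Subtype.val h

include e in
omit [Finite G] in
theorem P_le_centralizer : P ≤ Subgroup.centralizer (P : Set G) := by
  intro x hx
  rw [Subgroup.mem_centralizer_iff]
  intro y hy
  exact comm_P P m e y hy x hx

omit [Finite G] in
theorem centralizer_le_normalizer : Subgroup.centralizer (P : Set G) ≤ Subgroup.normalizer (P : Set G) := by
  intro x hx
  rw [Subgroup.mem_normalizer_iff]
  intro y
  rw [Subgroup.mem_centralizer_iff] at hx
  constructor
  · intro hy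
    have : x * y * x⁻¹ = y := by rw [← hx y hy]; group
    rw [this]; exact hy
  · intro hy
    have h1 := hx _ hy
    have : y = x * y * x⁻¹ := by
      have h2 : x * y * x⁻¹ * x = x * (x * y * x⁻¹) := h1
      have h3 : y = x⁻¹ * (x * y * x⁻¹ * x) := by group
      rw [h2] at h3
      simpa using h3
    rw [this]; exact hy

include e in
theorem odd_relIndex (hodd : ¬ 2 ∣ P.index) :
    Odd ((Subgroup.centralizer (P : Set G)).relIndex (Subgroup.normalizer (P : Set G))) := by
  have h1 : (Subgroup.centralizer (P : Set G)).relIndex (Subgroup.normalizer (P : Set G))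
      ∣ P.index := by
    refine Dvd.dvd.trans ?_ (Subgroup.index_dvd_of_le (P_le_centralizer P m e))
    exact ⟨_, (Subgroup.relIndex_mul_index (centralizer_le_normalizer P)).symm⟩
  rw [← Nat.not_even_iff_odd]
  intro h2
  exact hodd (h2.two_dvd.trans h1)

theorem pow_mem_centralizer (n : G) (hn : n ∈ Subgroup.normalizer (P : Set G)) :
    n ^ ((Subgroup.centralizer (P : Set G)).relIndex (Subgroup.normalizer (P : Set G)))
      ∈ Subgroup.centralizer (P : Set G) := by
  have hnorm : ((Subgroup.centralizer (P : Set G)).subgroupOf (Subgroup.normalizer (P : Set G))).Normal := by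
    refine ⟨fun c hc g => ?_⟩
    rw [Subgroup.mem_subgroupOf] at hc ⊢
    rw [Subgroup.mem_centralizer_iff] at hc ⊢
    intro y hy
    have h1 : (g : G)⁻¹ * y * (g : G) ∈ P := by
      have := ((Subgroup.mem_normalizer_iff.1 ((Subgroup.normalizer (P : Set G)).inv_mem g.2)) y).1 hy
      simpa using this
    have h2 := hc _ h1
    have h3 := congrArg (fun t => (g : G) * t * (g : G)⁻¹) h2
    simp only [Subgroup.coe_mul, Subgroup.coe_inv]
    calc y * ((g : G) * c * (g : G)⁻¹) = (g : G) * ((g : G)⁻¹ * y * (g : G) * c) * (g : G)⁻¹ := by group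
      _ = (g : G) * (c * ((g : G)⁻¹ * y * (g : G))) * (g : G)⁻¹ := by rw [h2]
      _ = (g : G) * c * (g : G)⁻¹ * y := by group
  have h4 := Subgroup.pow_index_mem
    ((Subgroup.centralizer (P : Set G)).subgroupOf (Subgroup.normalizer (P : Set G))) ⟨n, hn⟩
  rw [Subgroup.mem_subgroupOf] at h4
  exact h4

include hm e in
theorem main1 (hodd : ¬ 2 ∣ P.index) :
    ((Subgroup.centralizer (P : Set G)).relIndex (Subgroup.normalizer (P : Set G)) = 1 ∨
      (Subgroup.centralizer (P : Set G)).relIndex (Subgroup.normalizer (P : Set G)) = 3) ∧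
    (∀ n ∈ Subgroup.normalizer (P : Set G), (∃ t ∈ invs P, n * t * n⁻¹ = t) →
      n ∈ Subgroup.centralizer (P : Set G)) := by
  classical
  let := act P
  have hodd' := odd_relIndex P m e hodd
  have h2P : IsPGroup 2 P := by
    apply IsPGroup.of_card (n := m + m)
    rw [Nat.card_congr e.toEquiv, Nat.card_congr Multiplicative.toAdd, Nat.card_prod, Nat.card_zmod,
      pow_add]
  have hcard := card_invs P m hm e
  set φ : Subgroup.normalizer (P : Set G) →* Equiv.Perm (invs P) :=
    MulAction.toPermHom (Subgroup.normalizer (P : Set G)) (invs P) with hφ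
  have hφa : ∀ n t, ((φ n t : invs P) : G) = (n : G) * t.1 * (n : G)⁻¹ := fun n t => rfl
  have hker : φ.ker = (Subgroup.centralizer (P : Set G)).subgroupOf (Subgroup.normalizer (P : Set G)) := by
    ext n
    rw [MonoidHom.mem_ker, Subgroup.mem_subgroupOf]
    constructor
    · intro h
      refine centralizes_of_centralizes_invs P h2P (comm_P P m e) n n.2 _ hodd'
        (pow_mem_centralizer P n n.2) ?_
      intro t ht
      have := congrArg (fun f => ((f ⟨t, ht⟩ : invs P) : G)) h
      exact this
    · intro h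
      ext t
      rw [hφa]
      have := Subgroup.mem_centralizer_iff.1 h t.1 t.2.1
      rw [← this]; simp
  have hidx : φ.ker.index = (Subgroup.centralizer (P : Set G)).relIndex (Subgroup.normalizer (P : Set G)) := by
    rw [hker]; rfl
  constructor
  · have h6 : φ.ker.index ∣ 6 := by
      rw [Subgroup.index_ker]
      have := Subgroup.card_subgroup_dvd_card φ.range
      rw [nat_card_perm, hcard] at this
      exact this
    rw [hidx] at h6
    have h7 : (Subgroup.centralizer (P : Set G)).relIndex (Subgroup.normalizer (P : Set G)) ∈ Nat.divisors 6 := by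
      rw [Nat.mem_divisors]; exact ⟨h6, by norm_num⟩
    have h8 : Nat.divisors 6 = {1, 2, 3, 6} := by decide
    rw [h8] at h7
    simp only [Finset.mem_insert, Finset.mem_singleton] at h7
    rcases h7 with h | h | h | h
    · exact Or.inl h
    · rw [h] at hodd'; exact absurd hodd' (by decide)
    · exact Or.inr h
    · rw [h] at hodd'; exact absurd hodd' (by decide)
  · rintro n hn ⟨t, ht, hnt⟩
    have h9 : (⟨n, hn⟩ : Subgroup.normalizer (P : Set G)) ∈ φ.ker := by
      rw [MonoidHom.mem_ker]
      -- a permutation of three points of odd order fixing a point is trivial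
      set σ := φ ⟨n, hn⟩ with hσ
      have hσt : σ ⟨t, ht⟩ = ⟨t, ht⟩ := Subtype.ext (by rw [hφa]; exact hnt)
      have hσr : σ ^ ((Subgroup.centralizer (P : Set G)).relIndex (Subgroup.normalizer (P : Set G))) = 1 := by
        rw [hσ, ← map_pow, ← MonoidHom.mem_ker, hker, Subgroup.mem_subgroupOf]
        exact pow_mem_centralizer P n hn
      have hσ2 : σ ^ 2 = 1 := by
        ext s
        by_contra hs
        have hs' : σ (σ s) ≠ s := fun h => hs (by rw [pow_two, Equiv.Perm.mul_apply, h]; rfl)
        have h10 : s ≠ ⟨t, ht⟩ := fun h => hs' (by rw [h, hσt, hσt])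
        have h11 : σ s ≠ ⟨t, ht⟩ := fun h => h10 (σ.injective (h.trans hσt.symm))
        have h12 : σ (σ s) ≠ ⟨t, ht⟩ := fun h => h11 (σ.injective (h.trans hσt.symm))
        have h13 : σ s ≠ s := fun h => hs' (by rw [h, h])
        have h14 : σ (σ s) ≠ σ s := fun h => h13 (σ.injective h)
        have h15 : ({⟨t, ht⟩, s, σ s, σ (σ s)} : Finset (invs P)).card = 4 := by
          rw [Finset.card_insert_of_notMem, Finset.card_insert_of_notMem, Finset.card_insert_of_notMem,
            Finset.card_singleton]
          · simp [h14.symm]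
          · simp only [Finset.mem_insert, Finset.mem_singleton, not_or]
            exact ⟨h13.symm, hs'.symm⟩
          · simp only [Finset.mem_insert, Finset.mem_singleton, not_or]
            exact ⟨h10.symm, h11.symm, h12.symm⟩
        have : Fintype (invs P) := Fintype.ofFinite _
        have h16 := Finset.card_le_univ ({⟨t, ht⟩, s, σ s, σ (σ s)} : Finset (invs P))
        rw [h15, ← Nat.card_eq_fintype_card, hcard] at h16
        omega
      obtain ⟨k, hk⟩ := hodd'
      rw [hk, pow_succ, pow_mul, hσ2, one_pow, one_mul] at hσr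
      exact hσr
    rw [hker, Subgroup.mem_subgroupOf] at h9
    exact h9

include hm e in
/-- If the index is not `1` then all involutions of `P` are conjugate in `N(P)`. -/
theorem main2 (hodd : ¬ 2 ∣ P.index)
    (hne : (Subgroup.centralizer (P : Set G)).relIndex (Subgroup.normalizer (P : Set G)) ≠ 1) :
    ∀ s ∈ invs P, ∀ t ∈ invs P, IsConj s t := by
  classical
  have hcard := card_invs P m hm e
  obtain ⟨n, hn, hnc⟩ : ∃ n ∈ Subgroup.normalizer (P : Set G), n ∉ Subgroup.centralizer (P : Set G) := by
    by_contra hcon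
    push Not at hcon
    exact hne (Subgroup.relIndex_eq_one.2 hcon)
  have hfp : ∀ t ∈ invs P, n * t * n⁻¹ ≠ t := fun t ht h =>
    hnc ((main1 P m hm e hodd).2 n hn ⟨t, ht, h⟩)
  intro s hs t ht
  let := act P
  set φ : Subgroup.normalizer (P : Set G) →* Equiv.Perm (invs P) :=
    MulAction.toPermHom (Subgroup.normalizer (P : Set G)) (invs P) with hφ
  have hφa : ∀ n t, ((φ n t : invs P) : G) = (n : G) * t.1 * (n : G)⁻¹ := fun n t => rfl
  set σ := φ ⟨n, hn⟩ with hσ
  have hfp' : ∀ x, σ x ≠ x := fun x h => hfp x.1 x.2 (by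
    have := congrArg Subtype.val h
    rw [hσ, hφa] at this
    exact this)
  -- `n²` is not in the centralizer either, because `n` has odd order modulo it
  have hnc2 : n ^ 2 ∉ Subgroup.centralizer (P : Set G) := by
    intro h
    apply hnc
    obtain ⟨k, hk⟩ := odd_relIndex P m e hodd
    have h1 := pow_mem_centralizer P n hn
    rw [hk, pow_succ, pow_mul] at h1
    exact ((Subgroup.centralizer (P : Set G)).mul_mem_cancel_left (Subgroup.pow_mem _ h k)).1 h1
  have hfp2 : ∀ x, σ (σ x) ≠ x := by
    intro x h
    apply hnc2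
    refine (main1 P m hm e hodd).2 _ (Subgroup.pow_mem _ hn 2) ⟨x.1, x.2, ?_⟩
    have h1 := congrArg Subtype.val h
    have h2 : ((σ (σ x) : invs P) : G) = n ^ 2 * x.1 * (n ^ 2)⁻¹ := by
      rw [hφa, hφa]
      simp only [pow_two]
      group
    rw [← h2]; exact h1
  have hex : ∀ x y : invs P, IsConj x.1 y.1 := by
    intro x y
    have h13 : σ x ≠ x := hfp' x
    have h14 : σ (σ x) ≠ σ x := hfp' (σ x)
    have h15 : ({x, σ x, σ (σ x)} : Finset (invs P)).card = 3 := by
      rw [Finset.card_insert_of_notMem, Finset.card_insert_of_notMem, Finset.card_singleton]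
      · simp [h14.symm]
      · simp only [Finset.mem_insert, Finset.mem_singleton, not_or]
        exact ⟨h13.symm, (hfp2 x).symm⟩
    have : Fintype (invs P) := Fintype.ofFinite _
    have h16 : ({x, σ x, σ (σ x)} : Finset (invs P)) = Finset.univ := by
      apply Finset.eq_univ_of_card
      rw [h15, ← Nat.card_eq_fintype_card, hcard]
    have h17 : y ∈ ({x, σ x, σ (σ x)} : Finset (invs P)) := h16 ▸ Finset.mem_univ y
    simp only [Finset.mem_insert, Finset.mem_singleton] at h17
    have hc : ∀ z : invs P, IsConj z.1 (σ z).1 := fun z => isConj_iff.2 ⟨n, (hφa ⟨n, hn⟩ z).symm⟩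
    rcases h17 with rfl | rfl | rfl
    · exact IsConj.refl _
    · exact hc x
    · exact (hc x).trans (hc (σ x))
  exact hex ⟨s, hs⟩ ⟨t, ht⟩

end main

/-- Let P be a Sylow 2-subgroup of the finite group G isomorphic to Z/2^m × Z/2^m with m ≥ 1. Then (i) the index of C_G(P) in N_G(P) is 1 or 3, and (ii) if it is not 1, then for every z ≠ 1 in P, C_G(z) ∩ N_G(P) = C_G(P). -/
theorem result {G : Type*} [Group G] [Finite G] (P : Sylow 2 G) (m : ℕ) (hm : 1 ≤ m) (e : (P : Subgroup G) ≃* Multiplicative (ZMod (2 ^ m) × ZMod (2 ^ m))) : ((Subgroup.centralizer (P : Set G)).relIndex (Subgroup.normalizer (P : Set G)) = 1 ∨ (Subgroup.centralizer (P : Set G)).relIndex (Subgroup.normalizer (P : Set G)) = 3) ∧ ((Subgroup.centralizer (P : Set G)).relIndex (Subgroup.normalizer (P : Set G)) ≠ 1 → ∀ z ∈ (P : Subgroup G), z ≠ 1 → Subgroup.centralizer ({z} : Set G) ⊓ Subgroup.normalizer (P : Set G) = Subgroup.centralizer (P : Set G)) := by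
  have hodd : ¬ 2 ∣ (P : Subgroup G).index := P.not_dvd_index
  obtain ⟨h1, h2⟩ := main1 (P : Subgroup G) m hm e hodd
  refine ⟨h1, fun _ z hz hz1 => ?_⟩
  apply le_antisymm
  · rintro n ⟨hn1, hn2⟩
    replace hn1 : n ∈ Subgroup.centralizer ({z} : Set G) := hn1
    rw [Subgroup.mem_centralizer_singleton_iff] at hn1
    -- some power of `z` is an involution
    obtain ⟨k, hk⟩ := P.isPGroup' ⟨z, hz⟩
    have hk' : z ^ 2 ^ k = 1 := by simpa using congrArg Subtype.val hk
    obtain ⟨d, hd1, hd2⟩ := (Nat.dvd_prime_pow Nat.prime_two).1 (orderOf_dvd_of_pow_eq_one hk')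
    have hd0 : d ≠ 0 := by
      rintro rfl
      rw [pow_zero, orderOf_eq_one_iff] at hd2
      exact hz1 hd2
    obtain ⟨d, rfl⟩ := Nat.exists_eq_succ_of_ne_zero hd0
    refine h2 n hn2 ⟨z ^ 2 ^ d, ⟨(P : Subgroup G).pow_mem hz _, ?_, ?_⟩, ?_⟩
    · intro h
      have h3 := orderOf_dvd_of_pow_eq_one h
      rw [hd2] at h3
      have := (Nat.pow_dvd_pow_iff_le_right (by norm_num : 1 < 2)).1 h3
      omega
    · rw [← pow_add, ← two_mul, ← pow_succ', ← hd2, pow_orderOf_eq_one]
    · have h4 : n * z * n⁻¹ = z := by rw [hn1]; group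
      have := congrArg (fun y => y ^ (2 ^ d)) h4
      simpa [conj_pow] using this
  · intro n hn
    refine ⟨?_, centralizer_le_normalizer (P : Subgroup G) hn⟩
    change n ∈ Subgroup.centralizer ({z} : Set G)
    rw [Subgroup.mem_centralizer_singleton_iff]
    exact (Subgroup.mem_centralizer_iff.1 hn z hz).symm

end Cfsg.Agent.S0945
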