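import Cfsg.Statements.S0966
import Cfsg.Agent.Lib.BlockCover2

set_option autoImplicit false
open Cfsg

namespace Cfsg.Agent.S0966

open Cfsg Cfsg.Agent.Lib.BlockRing Cfsg.Agent.Lib.BlockGA Cfsg.Agent.Lib.BlockIdem Cfsg.Agent.Lib.BlockCover
open Cfsg.Agent.Lib.BlockRes (resH coeff_resH)
open Cfsg.Agent.Lib.BlockSecond (incH coeff_incH_coe coeff_incH_of_not_mem lin_incH locA_incH)
open Cfsg.Agent.Lib.Clifford

/-- Let N be a normal subgroup of p-power index in the finite group G and b a block of N relative to a maximal ideal M of the algebraic integers containing p. Then there is exactly one block B of G containing a character whose restriction to N has a constituent in b. -/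
theorem result {G : Type*} [Group G] [Fintype G] (p : ℕ) [Fact p.Prime] (M : Ideal Cfsg.AlgInt) (hM : Cfsg.IsPModular p M) (N : Subgroup G) [N.Normal] [Fintype N] (hidx : ∃ k : ℕ, N.index = p ^ k) (b : Set (Cfsg.IrrCharacter N)) (hb : Cfsg.IsPBlock M b) : ∃! B : Set (Cfsg.IrrCharacter G), Cfsg.IsPBlock M B ∧ ∃ χ ∈ B, ∃ θ ∈ b, Cfsg.classInner (fun n : N => (χ : G → ℂ) n) (θ : N → ℂ) ≠ 0 := by
  classical
  haveI := isPrime hM
  obtain ⟨θ, hθ⟩ := isPBlock_nonempty hb
  obtain ⟨χ, hχ⟩ := exists_above (G := G) θ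
  refine ⟨blockOf M (χ : G → ℂ), ⟨isPBlock_blockOf χ, χ, mem_blockOf_self χ, θ, hθ, hχ⟩, ?_⟩
  rintro B ⟨hB, hc⟩
  obtain ⟨χ', hχ', hc'⟩ := hc
  have h0 : Covers B b := ⟨χ', hχ', hc'⟩
  have h0' : Covers (blockOf M (χ : G → ℂ)) b := ⟨χ, mem_blockOf_self χ, θ, hθ, hχ⟩
  have hreg : ∀ g : G, g ∉ N → p ∣ orderOf g := by
    intro g hg
    by_contra hpg
    apply hg
    obtain ⟨k, hk⟩ := hidx
    have h1 : orderOf (QuotientGroup.mk' N g) ∣ orderOf g := orderOf_map_dvd _ g
    have h2 : orderOf (QuotientGroup.mk' N g) ∣ p ^ k := by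
      rw [← hk]; exact orderOf_dvd_natCard _
    have h3 : Nat.Coprime (orderOf g) (p ^ k) :=
      Nat.Coprime.pow_right k ((Nat.Prime.coprime_iff_not_dvd hM.1).2 hpg).symm
    have h4 : orderOf (QuotientGroup.mk' N g) = 1 := Nat.eq_one_of_dvd_coprimes h3 h1 h2
    rw [orderOf_eq_one_iff] at h4
    exact (QuotientGroup.eq_one_iff g).1 h4
  have h1 : ∀ n : N, MemLocalIdeal M (centralChar (χ' : G → ℂ) (n : G) - centralChar (χ : G → ℂ) (n : G)) := by
    intro n
    exact idl_sub_trans (passman_mp hB hb h0 hχ' hθ n)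
      (idl_sub_symm (passman_mp (isPBlock_blockOf χ) hb h0' (mem_blockOf_self χ) hθ n))
  have h2 := idl_omega_sub_omega_of_support h1 (eB_mem_center B) (locA_eB hB)
    (fun g hg => by rw [coeff_eB]; exact Cfsg.Agent.Lib.BlockOsima.blockCoeff_eq_zero hM hB (hreg g hg))
  rw [omega_eB_mem hχ'] at h2
  have h3 : χ ∈ B := by
    by_contra h
    rw [omega_eB_not_mem h, sub_zero] at h2
    exact one_not_idl h2
  exact eq_blockOf hB h3

end Cfsg.Agent.S0966
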