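import Cfsg.Statements.S0494
import Cfsg.Agent.Lib.SmallSieve

set_option autoImplicit false
open Cfsg

namespace Cfsg.Agent.S0494

open Cfsg.Agent.Lib.SmallSieve Cfsg.Agent.Lib.SmallSimple

/-- A simple group of order 60 is isomorphic to the alternating group of degree 5. -/
theorem result {G : Type*} [Group G] [Finite G] [IsSimpleGroup G]
    (h : Nat.card G = 60) : Nonempty (G ≃* alternatingGroup (Fin 5)) := by
  have hG : ¬ IsMulCommutative G := not_isMulCommutative_of_card h (by norm_num)
  obtain ⟨H, hH⟩ := exists_index_five h
  have := iso_alternating hG H (by omega) (by rw [h, hH]; decide)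
  rwa [hH] at this

end Cfsg.Agent.S0494
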