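import Cfsg.Statements.S0495
import Cfsg.Agent.Lib.DihD8
import Cfsg.Agent.Lib.ClSeven
import Cfsg.Agent.Lib.Simple168

set_option autoImplicit false
open Cfsg

namespace Cfsg.Agent.S0495

/-- A simple group of order 168 is isomorphic to the projective special linear group of dimension 2 over the field with
7 elements. -/
theorem result {G : Type*} [Group G] [Finite G] [IsSimpleGroup G]
    (h : Nat.card G = 168) {F : Type*} [Field F] [Fintype F] (hF : Fintype.card F = 7) :
    Nonempty (G ≃* Matrix.ProjectiveSpecialLinearGroup (Fin 2) F) := by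
  have hno : ∀ H : Subgroup G, H.index ≠ 2 := by
    intro H hH
    have hHn : H.Normal := Subgroup.normal_of_index_eq_two hH
    rcases hHn.eq_bot_or_eq_top with h1 | h1
    · rw [h1, Subgroup.index_bot, h] at hH
      omega
    · rw [h1, Subgroup.index_top] at hH
      omega
  obtain ⟨T⟩ : Nonempty (Sylow 2 G) := inferInstance
  obtain ⟨z, hz, hz2, hzC⟩ := Lib.Simple168.exists_central_involution h T
  obtain ⟨e⟩ := Lib.Simple168.T_dihedral h T
  obtain ⟨K, hK, hKf, h1 | h1, ⟨e1⟩⟩ := Lib.DihD8.psl2 hno hz2 ((MulEquiv.subgroupCongr hzC).trans e)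
  · exact ⟨e1.trans (Lib.ClSeven.pslCongr 2 (FiniteField.ringEquivOfCardEq (h1.1.trans hF.symm)))⟩
  · omega

end Cfsg.Agent.S0495
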