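import Cfsg.Statements.S0508
import Cfsg.Agent.Lib.DihBSW
import Cfsg.Agent.Lib.H23Basic

set_option autoImplicit false
open Cfsg

namespace Cfsg.Agent.S0508

/-- Let G be a finite simple group with a dihedral Sylow 2-subgroup S (of order at least 4), t an involution in the
centre of S, C the centralizer of t and O the core of C (its largest normal subgroup of odd order). Suppose that: if O
is nontrivial then the centralizer of O in S is cyclic of index 2 in S; every element of S not centralizing O inverts
every element of O; and the normalizer of every nontrivial subgroup of O lies in C. Then G is isomorphic to a projective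
special linear group of dimension 2 over a field of odd order. -/
theorem result {G : Type*} [Group G] [Finite G] [IsSimpleGroup G] (S : Sylow 2 G) (n : ℕ)
    (hn : 2 ≤ n) (hS : Nonempty ((S : Subgroup G) ≃* DihedralGroup n)) (t : G) (ht : orderOf t = 2)
    (htS : t ∈ (S : Subgroup G))
    (htZ : ∀ s ∈ (S : Subgroup G), s * t = t * s) (O : Subgroup G)
    (hO : O = (Cfsg.oddCore (Subgroup.centralizer ({t} : Set G))).map (Subgroup.centralizer ({t} : Set G)).subtype)
    (ha : O ≠ ⊥ → IsCyclic ((S : Subgroup G) ⊓ Subgroup.centralizer (O : Set G) : Subgroup G) ∧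
      ((S : Subgroup G) ⊓ Subgroup.centralizer (O : Set G)).relIndex (S : Subgroup G) = 2)
    (hb : ∀ s ∈ (S : Subgroup G), s ∉ Subgroup.centralizer (O : Set G) → ∀ y ∈ O, s * y * s⁻¹ = y⁻¹)
    (hc : ∀ Y : Subgroup G, Y ≤ O → Y ≠ ⊥ → Subgroup.normalizer (Y : Set G) ≤ Subgroup.centralizer ({t} : Set G)) :
    ∃ (F : Type) (_ : Field F) (_ : Fintype F), Odd (Fintype.card F) ∧ Nonempty (G ≃* Matrix.ProjectiveSpecialLinearGroup (Fin 2) F) := by
  classical
  have : Fact (Nat.Prime 2) := ⟨Nat.prime_two⟩
  obtain ⟨e⟩ := hS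
  have htord : orderOf t = 2 := ht
  have ht2 : t * t = 1 := by rw [← pow_two, ← ht]; exact pow_orderOf_eq_one t
  have ht1 : t ≠ 1 := by rintro rfl; rw [orderOf_one] at ht; omega
  obtain ⟨x, y, q, k, h, hxt⟩ : ∃ (x y : G) (q k : ℕ), Lib.DihSylow.DH (S : Subgroup G) x y q k ∧ x ^ (q : ℤ) = t := by
    obtain ⟨x, y, q, k, h, hnq⟩ := Lib.DihSylow.exists_dh (p := 2) S.isPGroup' hn e
    rcases Nat.lt_or_ge q 2 with hq | hq
    · have hq1 : q = 1 := by have := h.q_pos; omega
      subst hq1
      have hcard : Nat.card (S : Subgroup G) = 4 := by rw [h.card]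
      have hex : ∃ w ∈ (S : Subgroup G), w ∉ Subgroup.zpowers t := by
        by_contra hcon
        push Not at hcon
        have h1 := Subgroup.card_dvd_of_le (show (S : Subgroup G) ≤ Subgroup.zpowers t from hcon)
        rw [Nat.card_zpowers, ht, hcard] at h1
        omega
      obtain ⟨w, hw, hwt⟩ := hex
      have hw1 : w ≠ 1 := by rintro rfl; exact hwt (one_mem _)
      have hsq : w * w = 1 := by
        rcases h.exists_rep hw with ⟨i, rfl⟩ | ⟨i, rfl⟩
        · have hx2 : x ^ 2 = 1 := by
            have := pow_orderOf_eq_one x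
            rwa [h.hx, mul_one] at this
          rw [← zpow_add, ← two_mul, zpow_mul, zpow_ofNat, hx2, one_zpow]
        · exact h.sq i
      refine ⟨t, w, 1, 0, ⟨by norm_num, by rw [hcard], htS, hw, by rw [ht], hsq, ?_, hwt⟩, by simp⟩
      have h1 : t⁻¹ = t := inv_eq_of_mul_eq_one_right ht2
      rw [htZ w hw, h1]; group
    · refine ⟨x, y, q, k, h, ?_⟩
      rcases h.involution htS ht2 ht1 with h1 | ⟨i, hi⟩
      · exact h1.symm
      · exfalso
        have h1 := htZ x h.xS
        have h2 := h.conj_xy 1 i
        rw [zpow_one, ← hi, h1] at h2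
        have h3 : x ^ i * y = x ^ (i + 2 * 1) * y := by
          rw [← h2, ← hi]; group
        have h4 := (h.zpow_eq_iff _ _).1 (mul_right_cancel h3)
        have h5 : ((2 * q : ℕ) : ℤ) ∣ 2 := by
          have : (2 * (q : ℤ)) ∣ 2 := by
            have h6 := (Int.dvd_neg).2 h4
            have h7 : -(i - (i + 2 * 1)) = 2 := by ring
            rwa [h7] at h6
          exact_mod_cast this
        have h6 := Int.le_of_dvd (by norm_num) h5
        push_cast at h6
        omega
  have hno : ∀ H : Subgroup G, H.index ≠ 2 := by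
    intro H hH
    have hHn : H.Normal := Subgroup.normal_of_index_eq_two hH
    rcases hHn.eq_bot_or_eq_top with h1 | h1
    · rw [h1, Subgroup.index_bot] at hH
      have h2 := Subgroup.card_subgroup_dvd_card (S : Subgroup G)
      rw [hH, h.card] at h2
      have := Nat.le_of_dvd (by norm_num) h2
      have := h.q_pos
      omega
    · rw [h1, Subgroup.index_top] at hH
      omega
  have hconj : ∀ a b : G, orderOf a = 2 → orderOf b = 2 → IsConj a b := fun a b ha hb =>
    (h.conj_z_of_no_index_two hno ha).trans (h.conj_z_of_no_index_two hno hb).symm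
  set C := Subgroup.centralizer ({t} : Set G) with hCdef
  have hSC : (S : Subgroup G) ≤ C := fun s hs => Subgroup.mem_centralizer_singleton_iff.2 (htZ s hs)
  have hOt : O ≤ C := by rw [hO]; exact Subgroup.map_subtype_le _
  have hOodd : Odd (Nat.card O) := by
    rw [hO, Subgroup.card_subtype]
    exact Lib.H23Basic.odd_card_oddCore
  have hC : ∀ g ∈ C, ∃ a ∈ O, ∃ b ∈ S, g = a * b := by
    let S' : Sylow 2 C := S.subtype hSC
    have h' : Lib.DihSylow.DH (S' : Subgroup C) ⟨x, hSC h.xS⟩ ⟨y, hSC h.yS⟩ q k := by
      refine ⟨h.hq, ?_, h.xS, h.yS, ?_, Subtype.ext h.hy, Subtype.ext h.hxy, ?_⟩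
      · rw [← h.card]
        exact Nat.card_congr (Subgroup.subgroupOfEquivOfLe hSC).toEquiv
      · rw [Subgroup.orderOf_mk]; exact h.hx
      · rintro ⟨i, hi⟩
        exact h.hyx ⟨i, congrArg Subtype.val hi⟩
    obtain ⟨N, hN, hNodd, hNS⟩ := Lib.DihBSW.exists_compl h' (by
      rw [Subgroup.mem_center_iff]
      intro g
      apply Subtype.ext
      show (g : G) * (x ^ (q : ℤ)) = (x ^ (q : ℤ)) * g
      rw [hxt]
      exact Subgroup.mem_centralizer_singleton_iff.1 g.2)
    intro g hg
    obtain ⟨a, ha, b, hb, hab⟩ := hNS ⟨g, hg⟩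
    refine ⟨a, ?_, b, hb, congrArg Subtype.val hab⟩
    rw [hO]
    exact ⟨a, Lib.H23Basic.le_pPrimeCore hN (Nat.coprime_two_right.2 hNodd) ha, rfl⟩
  have hxy : (∀ o ∈ O, x * o = o * x) ∧ ∀ o ∈ O, y * o * y⁻¹ = o⁻¹ := by
    by_cases hO1 : O = ⊥
    · constructor
      · intro o ho; rw [hO1, Subgroup.mem_bot] at ho; subst ho; simp
      · intro o ho; rw [hO1, Subgroup.mem_bot] at ho; subst ho; simp
    obtain ⟨hcyc, hidx⟩ := ha hO1
    set R := ((S : Subgroup G) ⊓ Subgroup.centralizer (O : Set G)) with hR
    have hRS : R ≤ S := inf_le_left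
    have hRcard : Nat.card R = 2 * q := by
      have h1 : Nat.card (R.subgroupOf S) * R.relIndex (S : Subgroup G) = Nat.card (S : Subgroup G) :=
        (R.subgroupOf (S : Subgroup G)).card_mul_index
      have h2 : Nat.card (R.subgroupOf (S : Subgroup G)) = Nat.card R :=
        Nat.card_congr (Subgroup.subgroupOfEquivOfLe hRS).toEquiv
      rw [h2, hidx, h.card] at h1
      omega
    have htR : t ∈ R := by
      refine Subgroup.mem_inf.2 ⟨htS, Subgroup.mem_centralizer_iff.2 ?_⟩
      intro o ho
      exact Subgroup.mem_centralizer_singleton_iff.1 (hOt ho)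
    have hRx : R = Subgroup.zpowers x := by
      have hxc : Nat.card (Subgroup.zpowers x) = 2 * q := by rw [Nat.card_zpowers, h.hx]
      rcases Nat.lt_or_ge q 2 with hq | hq
      · have hq1 : q = 1 := by have := h.q_pos; omega
        subst hq1
        symm
        apply Subgroup.eq_of_le_of_card_ge
        · rw [Subgroup.zpowers_le]
          have : x = t := by rw [← hxt]; simp
          rw [this]; exact htR
        · rw [hRcard, hxc]
      · obtain ⟨g, hg⟩ := hcyc.exists_generator
        have hgo : orderOf (g : G) = 2 * q := by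
          rw [Subgroup.orderOf_coe, orderOf_eq_card_of_forall_mem_zpowers hg, hRcard]
        have hgx : (g : G) ∈ Subgroup.zpowers x := by
          rcases h.exists_rep (hRS g.2) with ⟨i, hi⟩ | ⟨i, hi⟩
          · rw [hi]; exact zpow_mem (Subgroup.mem_zpowers x) i
          · exfalso
            have h1 : orderOf (g : G) ∣ 2 := orderOf_dvd_of_pow_eq_one (by
              rw [pow_two, hi]; exact h.sq i)
            rw [hgo] at h1
            have := Nat.le_of_dvd (by norm_num) h1
            omega
        apply Subgroup.eq_of_le_of_card_ge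
        · intro r hr
          obtain ⟨i, hi⟩ := hg ⟨r, hr⟩
          have h1 : (g : G) ^ i = r := congrArg Subtype.val hi
          rw [← h1]; exact zpow_mem hgx i
        · rw [hRcard, hxc]
    constructor
    · intro o ho
      have h1 : x ∈ R := by rw [hRx]; exact Subgroup.mem_zpowers x
      exact ((Subgroup.mem_centralizer_iff.1 h1.2) o ho).symm
    · apply hb y h.yS
      intro h1
      apply h.hyx
      rw [← hRx]
      exact ⟨h.yS, h1⟩
  exact Lib.DihBSW.psl2_of_setup (Lib.DihBSW.setup h hxt hconj O hOodd hOt hC hxy.1 hxy.2 hc)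

end Cfsg.Agent.S0508
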