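import Cfsg.Statements.S0741
import Cfsg.Agent.Lib.ZassBasic

set_option autoImplicit false
open Cfsg

namespace Cfsg.Agent.S0741

/-- If the two-point stabilisers of a finite Zassenhaus group of degree `n + 1` have even order `d`, then `2d ≥ n - 1`. -/
theorem result {G Ω : Type*} [Group G] [Finite G] [MulAction G Ω] [Fintype Ω] (hZ : Cfsg.IsZassenhausGroup G Ω) {a b : Ω} (hab : a ≠ b) (heven : Even (Nat.card ↥(MulAction.stabilizer G a ⊓ MulAction.stabilizer G b))) : Fintype.card Ω - 2 ≤ 2 * Nat.card ↥(MulAction.stabilizer G a ⊓ MulAction.stabilizer G b) := by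
  have := Fact.mk Nat.prime_two
  obtain ⟨s, hs⟩ := exists_prime_orderOf_dvd_card' 2 heven.two_dvd
  have hs2 : (s : G) * s = 1 := by
    have : s * s = 1 := by rw [← sq, ← hs, pow_orderOf_eq_one]
    exact congrArg Subtype.val this
  have hs1 : (s : G) ≠ 1 := by
    intro h
    have : s = 1 := Subtype.ext h
    rw [this] at hs
    simp at hs
  rw [← Nat.card_eq_fintype_card]
  exact Cfsg.Agent.Lib.ZassBasic.card_le_two_mul hZ.2.1 hZ.2.2.1 hab hs2 hs1 s.2.1 s.2.2

end Cfsg.Agent.S0741
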