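import Cfsg.Statements.S0344
import Cfsg.Agent.Lib.Sharp3Simple
import Cfsg.Agent.S0741

set_option autoImplicit false
open Cfsg

namespace Cfsg.Agent.S0344

open Cfsg.Agent.Lib

/-- A finite simple Zassenhaus group with a two-point stabiliser of even order is isomorphic to `PSL₂(F)` for a finite
field `F` with more than three elements. -/
theorem result {G Ω : Type*} [Group G] [Finite G] [MulAction G Ω] [Finite Ω]
    (hZ : Cfsg.IsZassenhausGroup G Ω) [IsSimpleGroup G]
    {a b : Ω} (hab : a ≠ b) (heven : Even (Nat.card ↥(MulAction.stabilizer G a ⊓ MulAction.stabilizer G b))) :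
    ∃ (F : Type) (_ : Field F) (_ : Fintype F), 3 < Fintype.card F ∧ Nonempty (G ≃* Matrix.ProjectiveSpecialLinearGroup (Fin 2) F) := by
  classical
  have := Fintype.ofFinite Ω
  have hge := Cfsg.Agent.S0741.result hZ hab heven
  obtain ⟨hfaith, h2, h3, -, -⟩ := hZ
  have h3' : ZassBasic.Fix3 G Ω := h3
  have hge' : Nat.card Ω - 2 ≤ 2 * Nat.card ↥(MulAction.stabilizer G a ⊓ MulAction.stabilizer G b) := by
    rw [Nat.card_eq_fintype_card (α := Ω)]; exact hge
  have hpos : 0 < Nat.card ↥(MulAction.stabilizer G a ⊓ MulAction.stabilizer G b) := Nat.card_pos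
  by_cases hd : 2 * Nat.card ↥(MulAction.stabilizer G a ⊓ MulAction.stabilizer G b) ≤ Nat.card Ω - 2
  · obtain ⟨E, i1, i2, -, hE, hiso⟩ := ZassHalf.psl_of_half h2 h3' hab heven hd
    refine ⟨E, i1, i2, ?_, hiso⟩
    obtain ⟨k, hk⟩ := heven
    omega
  · exfalso
    obtain ⟨h, hh1⟩ : ∃ h : ↥(MulAction.stabilizer G a ⊓ MulAction.stabilizer G b), h ≠ 1 := by
      by_contra hcon
      push Not at hcon
      have : Nat.card ↥(MulAction.stabilizer G a ⊓ MulAction.stabilizer G b) = 1 :=
        Nat.card_eq_one_iff_unique.2 ⟨⟨fun x y => by rw [hcon x, hcon y]⟩, ⟨1⟩⟩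
      rw [this] at heven
      exact absurd heven (by decide)
    obtain ⟨c, hc⟩ := ZassBasic.exists_moved (Ω := Ω) (s := (h : G)) (fun h' => hh1 (Subtype.ext h'))
    have hac : a ≠ c := by rintro rfl; exact hc h.2.1
    have hbc : b ≠ c := by rintro rfl; exact hc h.2.2
    exact Sharp3.not_simple_of_move3 h2 h3' (Sharp3.move3_of_big h2 h3' hab hac hbc hd) hab hac hbc
      heven inferInstance

end Cfsg.Agent.S0344
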