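import Cfsg.Statements.S0347
import Cfsg.Agent.Lib.ZassSz8

set_option autoImplicit false
open Cfsg

namespace Cfsg.Agent.S0347

/-- If in a finite simple Zassenhaus group the stabiliser of a point `x` has a normal `2`-subgroup `U` which is
non-abelian and acts regularly on the points other than `x`, then the group is simple of Suzuki order (order-level
predicate `IsSuzuki`). -/
theorem result {G Ω : Type*} [Group G] [Finite G] [MulAction G Ω] [Finite Ω]
    (hZ : Cfsg.IsZassenhausGroup G Ω) [IsSimpleGroup G]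
    (x : Ω) (U : Subgroup G) (hUle : U ≤ MulAction.stabilizer G x) (hUn : (U.subgroupOf (MulAction.stabilizer G x)).Normal)
    (hU2 : IsPGroup 2 U) (hUna : ∃ u v : U, u * v ≠ v * u)
    (hreg : ∀ y z : Ω, y ≠ x → z ≠ x → ∃! u : U, (u : G) • y = z) :
    Cfsg.IsSuzuki G := by
  obtain ⟨y, hxy⟩ := Lib.ZassOdd.exists_ne_of_zass hZ x
  have K := Lib.ZassSz.kerHyp_of hZ hxy U hUle hreg hU2
  obtain ⟨u, v, huv⟩ := hUna
  obtain ⟨n, hodd, hn, hΩ, he, -⟩ := Lib.ZassSz.main K hU2
    ⟨u, u.2, v, v.2, fun h => huv (Subtype.ext h)⟩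
  refine ⟨inferInstance, ?_⟩
  obtain ⟨m, rfl⟩ := hodd
  refine ⟨m, by omega, ?_⟩
  have h1 := K.card_group
  have h2 := K.hHcard
  have h3 : Nat.card U = (2 ^ (2 * m + 1)) ^ 2 := by
    rw [hΩ] at h2
    rw [← pow_mul, mul_comm (2 * m + 1) 2]
    omega
  rw [h1, h3]
  have h4 : Nat.card ↥(MulAction.stabilizer G x ⊓ MulAction.stabilizer G y : Subgroup G) =
      2 ^ (2 * m + 1) - 1 := Nat.eq_sub_of_add_eq he
  rw [h4]
  ring

end Cfsg.Agent.S0347
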