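import Cfsg.Statements.S0339
import Cfsg.Agent.Lib.ZassNormal

set_option autoImplicit false
open Cfsg

namespace Cfsg.Agent.S0339

open MulAction Cfsg.Agent.Lib.ZassBasic Cfsg.Agent.Lib.ZassNormal in
theorem aux {G Ω : Type*} [Group G] [MulAction G Ω] [Finite Ω]
    (hZ : Cfsg.IsZassenhausGroup G Ω) (N : Subgroup G) [N.Normal] (hN : N ≠ ⊥) :
    Cfsg.IsZassenhausGroup N Ω := by
  classical
  obtain ⟨hf, h2, h3, ⟨g0, hg0, a, b, hab, hga, hgb⟩, hreg⟩ := hZ
  have hfG : Finite G := by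
    apply Finite.of_injective (MulAction.toPermHom G Ω) MulAction.toPerm_injective
  have hnt : Nontrivial Ω := ⟨a, b, hab⟩
  have hnoreg : ∀ K : Subgroup G, K.Normal → (∀ x y : Ω, ∃ k ∈ K, k • x = y) →
      ¬ ∀ k ∈ K, ∀ x : Ω, k • x = x → k = 1 := by
    intro K hK ht hr
    have : MulAction.IsPretransitive K Ω := ⟨fun x y => by
      obtain ⟨k, hk, hkx⟩ := ht x y
      exact ⟨⟨k, hk⟩, hkx⟩⟩
    obtain ⟨x, hx⟩ := hreg K hK this
    apply hx
    rw [eq_bot_iff]
    intro k hk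
    exact Subgroup.mem_bot.mpr (Subtype.ext (hr k k.2 x hk))
  have htr := trans_of_normal h2 N hN
  have hNab : N ⊓ (stabilizer G a ⊓ stabilizer G b) ≠ ⊥ := by
    intro h
    obtain ⟨K, hK, -, hKt, hKr⟩ := exists_regular h2 N hN hab h
    exact hnoreg K hK hKt hKr
  have h2N : IsMultiplyPretransitive N Ω 2 := by
    rw [is_two_pretransitive_iff]
    intro x y z w hxy hzw
    obtain ⟨n, hn, hnx⟩ := htr x z
    have h4 : n • y ≠ z := by
      intro h
      exact hxy (MulAction.injective n (hnx.trans h.symm))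
    obtain ⟨k, hk, hkz, hkw⟩ := stab_trans h2 N h3 hab hNab h4 (Ne.symm hzw)
    refine ⟨⟨k * n, mul_mem hk hn⟩, ?_, ?_⟩
    · show (k * n) • x = z
      rw [mul_smul, hnx, hkz]
    · show (k * n) • y = w
      rw [mul_smul, hkw]
  refine ⟨?_, h2N, ?_, ?_, ?_⟩
  · exact ⟨fun {x y} h => Subtype.ext (FaithfulSMul.eq_of_smul_eq_smul (α := Ω) h)⟩
  · intro g x y z hxy hyz hxz h4 h5 h6
    exact Subtype.ext (h3 g x y z hxy hyz hxz h4 h5 h6)
  · obtain ⟨n, hn, hn1⟩ : ∃ n ∈ N ⊓ (stabilizer G a ⊓ stabilizer G b), n ≠ 1 := by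
      by_contra hcon
      push Not at hcon
      exact hNab ((Subgroup.eq_bot_iff_forall _).mpr hcon)
    exact ⟨⟨n, hn.1⟩, fun h => hn1 (congrArg Subtype.val h), a, b, hab, hn.2.1, hn.2.2⟩
  · intro R hR hRt
    by_contra hcon
    push Not at hcon
    have hfN : FaithfulSMul N Ω :=
      ⟨fun {x y} h => Subtype.ext (FaithfulSMul.eq_of_smul_eq_smul (α := Ω) h)⟩
    have ht : ∀ x y : Ω, ∃ r ∈ R, r • x = y := by
      intro x y
      obtain ⟨r, hr⟩ := MulAction.exists_smul_eq R x y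
      exact ⟨r, r.2, hr⟩
    have hr : ∀ r ∈ R, ∀ x : Ω, r • x = x → r = 1 := by
      intro r hr x hx
      have h4 : (⟨r, hr⟩ : R) ∈ stabilizer R x := hx
      rw [hcon x, Subgroup.mem_bot] at h4
      exact congrArg Subtype.val h4
    have hRb : R ≠ ⊥ := by
      rintro rfl
      obtain ⟨r, hr, hrx⟩ := ht a b
      rw [Subgroup.mem_bot] at hr
      rw [hr, one_smul] at hrx
      exact hab hrx
    -- the image of R in G is normal
    have key : ∀ g : G, ∀ r ∈ R, ∀ h : g * r * g⁻¹ ∈ N, (⟨g * r * g⁻¹, h⟩ : N) ∈ R := by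
      intro g
      let φ : N →* N := ((MulAut.conjNormal g : MulAut N)).toMonoidHom
      have hφ : ∀ n : N, ((φ n : N) : G) = g * n * g⁻¹ := fun n => MulAut.conjNormal_apply g n
      have hφs : Function.Surjective φ := (MulAut.conjNormal g : MulAut N).surjective
      have hφi : Function.Injective φ := (MulAut.conjNormal g : MulAut N).injective
      have hM : (R.map φ).Normal := hR.map φ hφs
      have hMb : R.map φ ≠ ⊥ := by
        intro h
        rw [Subgroup.map_eq_bot_iff_of_injective _ hφi] at h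
        exact hRb h
      have hle := reg_le h2N R ht hr (R.map φ) hMb
      have hcard : Nat.card (R.map φ) = Nat.card R :=
        (Nat.card_congr (R.equivMapOfInjective φ hφi).toEquiv).symm
      have heq : R = R.map φ := Subgroup.eq_of_le_of_card_ge hle hcard.le
      intro r hrR h
      rw [heq]
      exact ⟨r, hrR, Subtype.ext (hφ r)⟩
    have hRn : (R.map N.subtype).Normal := by
      refine ⟨?_⟩
      rintro _ ⟨r, hrR, rfl⟩ g
      have h : g * r * g⁻¹ ∈ N := ‹N.Normal›.conj_mem r r.2 g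
      exact ⟨⟨g * r * g⁻¹, h⟩, key g r hrR h, rfl⟩
    refine hnoreg _ hRn ?_ ?_
    · intro x y
      obtain ⟨r, hr, hrx⟩ := ht x y
      exact ⟨r, ⟨r, hr, rfl⟩, hrx⟩
    · rintro _ ⟨r, hrR, rfl⟩ x hx
      rw [hr r hrR x hx, map_one]

/-- A non-trivial normal subgroup of a Zassenhaus group is itself a Zassenhaus group on the same set. -/
theorem result {G Ω : Type*} [Group G] [MulAction G Ω] [Finite Ω]
    (hZ : Cfsg.IsZassenhausGroup G Ω) (N : Subgroup G) [N.Normal] (hN : N ≠ ⊥) :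
    Cfsg.IsZassenhausGroup N Ω := by
  exact aux hZ N hN

end Cfsg.Agent.S0339
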