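import Cfsg.Statements.S0740
import Cfsg.Agent.Lib.ZassBasic

set_option autoImplicit false
open Cfsg

namespace Cfsg.Agent.S0740

/-- In a finite Zassenhaus group any two points `a ≠ b` are swapped by an involution; every such involution has exactly one fixed point when the degree is odd and 0 or 2 fixed points when the degree is even; and if the two-point stabiliser has even order, some such involution has exactly 2 fixed points. -/
theorem result {G Ω : Type*} [Group G] [Finite G] [MulAction G Ω] [Fintype Ω] (hZ : Cfsg.IsZassenhausGroup G Ω) {a b : Ω} (hab : a ≠ b) : (∃ s : G, orderOf s = 2 ∧ s • a = b ∧ s • b = a) ∧ (∀ s : G, orderOf s = 2 → s • a = b → s • b = a → (Odd (Fintype.card Ω) → Nat.card (MulAction.fixedBy Ω s) = 1) ∧ (Even (Fintype.card Ω) → Nat.card (MulAction.fixedBy Ω s) = 0 ∨ Nat.card (MulAction.fixedBy Ω s) = 2)) ∧ (Even (Fintype.card Ω) → Even (Nat.card ↥(MulAction.stabilizer G a ⊓ MulAction.stabilizer G b)) → ∃ s : G, orderOf s = 2 ∧ s • a = b ∧ s • b = a ∧ Nat.card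 (MulAction.fixedBy Ω s) = 2) := by
  obtain ⟨hfaith, h2, h3, -, -⟩ := hZ
  have hconj : ∀ t g : G, orderOf t = 2 → orderOf (g * t * g⁻¹) = 2 := by
    intro t g ht
    rw [← ht]
    exact (MulAut.conj g).orderOf_eq t
  have hpar : ∀ s : G, orderOf s = 2 → (Odd (Fintype.card Ω) → Nat.card (MulAction.fixedBy Ω s) = 1) ∧ (Even (Fintype.card Ω) → Nat.card (MulAction.fixedBy Ω s) = 0 ∨ Nat.card (MulAction.fixedBy Ω s) = 2) := by
    intro s hs
    have hs2 : s * s = 1 := by rw [← sq, ← hs, pow_orderOf_eq_one]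
    have hs1 : s ≠ 1 := by rintro rfl; simp at hs
    have h4 := Cfsg.Agent.Lib.ZassBasic.involution_parity (Ω := Ω) hs2
    have h5 := Cfsg.Agent.Lib.ZassBasic.fixedBy_le_two h3 hs1
    rw [Nat.card_eq_fintype_card] at h4
    unfold Nat.ModEq at h4
    constructor
    · intro ho
      rw [Nat.odd_iff] at ho
      omega
    · intro he
      rw [Nat.even_iff] at he
      omega
  refine ⟨?_, fun s hs _ _ => hpar s hs, ?_⟩
  · obtain ⟨t, ht⟩ := Cfsg.Agent.Lib.ZassBasic.exists_involution h2 hab
    obtain ⟨g, h4, h5⟩ := Cfsg.Agent.Lib.ZassBasic.exists_conj_swap h2 ht hab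
    exact ⟨g * t * g⁻¹, hconj t g ht, h4, h5⟩
  · intro he heven
    have := Fact.mk Nat.prime_two
    obtain ⟨t, ht⟩ := exists_prime_orderOf_dvd_card' 2 heven.two_dvd
    have ht' : orderOf (t : G) = 2 := by rw [Subgroup.orderOf_coe, ht]
    obtain ⟨g, h4, h5⟩ := Cfsg.Agent.Lib.ZassBasic.exists_conj_swap h2 ht' hab
    refine ⟨g * t * g⁻¹, hconj _ g ht', h4, h5, ?_⟩
    rcases (hpar _ (hconj _ g ht')).2 he with h | h
    · exfalso
      have hmem : g • a ∈ MulAction.fixedBy Ω (g * (t : G) * g⁻¹) := by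
        rw [MulAction.mem_fixedBy, mul_smul, mul_smul, inv_smul_smul]
        have : (t : G) • a = a := t.2.1
        rw [this]
      have : IsEmpty (MulAction.fixedBy Ω (g * (t : G) * g⁻¹)) := by
        have hf : Finite (MulAction.fixedBy Ω (g * (t : G) * g⁻¹)) := Set.toFinite _
        rw [Nat.card_eq_zero] at h
        exact h.resolve_right (fun h' => h'.false)
      exact this.false ⟨_, hmem⟩
    · exact h

end Cfsg.Agent.S0740
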