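import Cfsg.Statements.S0731
import Cfsg.Agent.Lib.ZassMain

set_option autoImplicit false
open Cfsg

namespace Cfsg.Agent.S0731

open Cfsg.Agent.Lib MulAction

theorem pretransitive_of_move3 {G Ω : Type*} [Group G] [MulAction G Ω] (h : Sharp3.Move3 G Ω) :
    IsMultiplyPretransitive G Ω 3 := by
  rw [isMultiplyPretransitive_iff]
  intro x y
  have inj : ∀ (x : Fin 3 ↪ Ω) (i j : Fin 3), i ≠ j → x i ≠ x j := fun x i j hij h => hij (x.injective h)
  obtain ⟨g, h0, h1, h2⟩ := h (x 0) (x 1) (x 2) (y 0) (y 1) (y 2) (inj x _ _ (by decide))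
    (inj x _ _ (by decide)) (inj x _ _ (by decide)) (inj y _ _ (by decide))
    (inj y _ _ (by decide)) (inj y _ _ (by decide))
  refine ⟨g, ?_⟩
  ext i
  fin_cases i
  · exact h0
  · exact h1
  · exact h2

/-- A finite Zassenhaus group whose point stabiliser has an abelian regular normal subgroup on the remaining points is sharply triply transitive or isomorphic to `PSL(2, F)` for a finite field `F` of odd characteristic. -/
theorem result {G Ω : Type*} [Group G] [Finite G] [MulAction G Ω] [Finite Ω] (hZ : Cfsg.IsZassenhausGroup G Ω) (x : Ω) (F : Subgroup G) (hFle : F ≤ MulAction.stabilizer G x) (hFn : (F.subgroupOf (MulAction.stabilizer G x)).Normal) (hFab : IsMulCommutative F) (hreg : ∀ y z : Ω, y ≠ x → z ≠ x → ∃! u : F, (u : G) • y = z) : (MulAction.IsMultiplyPretransitive G Ω 3 ∧ ∀ t : Fin 3 ↪ Ω, MulAction.stabilizer G t = ⊥) ∨ ∃ (K : Type) (_ : Field K) (_ : Fintype K), ringChar K ≠ 2 ∧ Nonempty (G ≃* Matrix.ProjectiveSpecialLinearGroup (Fin 2) K) := by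
  classical
  obtain ⟨hfaith, h2, h3, ⟨g, -, c, d, hcd, -⟩, -⟩ := id hZ
  obtain ⟨b, hxb⟩ : ∃ b : Ω, x ≠ b := by
    by_cases h : x = c
    · exact ⟨d, fun h' => hcd (h.symm.trans h')⟩
    · exact ⟨c, h⟩
  have hin : ∀ u ∈ F, ZassBasic.InK x u := by
    intro u hu
    refine ⟨hFle hu, fun hu1 y hy huy => hu1 ?_⟩
    obtain ⟨w, -, hw⟩ := hreg y y hy hy
    have h4 := hw ⟨u, hu⟩ huy
    have h5 := hw 1 (one_smul _ _)
    exact congrArg Subtype.val (h4.trans h5.symm)
  have hcard : Nat.card F = Nat.card {y : Ω // y ≠ x} := by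
    refine Nat.card_congr (Equiv.ofBijective (fun u => ⟨(u : G) • b, fun h => ?_⟩) ⟨?_, ?_⟩)
    · have hux : (u : G) • x = x := hFle u.2
      exact hxb (MulAction.injective (u : G) (hux.trans h.symm))
    · intro u v huv
      have h4 : (u : G) • b = (v : G) • b := congrArg Subtype.val huv
      have hvb : (v : G) • b ≠ x := by
        intro h
        have hux : (v : G) • x = x := hFle v.2
        exact hxb (MulAction.injective (v : G) (hux.trans h.symm))
      obtain ⟨w, -, hw⟩ := hreg b _ hxb.symm hvb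
      rw [hw u h4, hw v rfl]
    · rintro ⟨y, hy⟩
      obtain ⟨w, hw, -⟩ := hreg b y hxb.symm hy
      exact ⟨w, Subtype.ext hw⟩
  have hK : ∀ u, u ∈ F ↔ ZassBasic.InK x u := by
    intro u
    refine ⟨hin u, fun hu => ?_⟩
    let φ : F → {u : G // ZassBasic.InK x u} := fun u => ⟨u, hin u u.2⟩
    have hφ : Function.Injective φ := by
      intro u v huv
      have h4 : (φ u : G) = (φ v : G) := congrArg Subtype.val huv
      exact Subtype.ext h4
    have hb : Function.Bijective φ := by
      rw [Nat.bijective_iff_injective_and_card]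
      exact ⟨hφ, by rw [hcard, ZassBasic.card_InK h2 h3 hxb]⟩
    obtain ⟨v, hv⟩ := hb.2 ⟨u, hu⟩
    have h4 : (v : G) = u := congrArg Subtype.val hv
    rw [← h4]
    exact v.2
  rcases ZassMain.main hZ hxb F hK (fun u hu v hv =>
    congrArg Subtype.val (hFab.is_comm.comm ⟨u, hu⟩ ⟨v, hv⟩)) with h | ⟨E, i1, i2, h4, -, -, h5⟩
  · left
    refine ⟨pretransitive_of_move3 h, fun t => ?_⟩
    rw [Subgroup.eq_bot_iff_forall]
    intro g hg
    have hg' : ∀ i, g • t i = t i := fun i => DFunLike.congr_fun (mem_stabilizer_iff.1 hg) i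
    have inj : ∀ (i j : Fin 3), i ≠ j → t i ≠ t j := fun i j hij h => hij (t.injective h)
    exact h3 g (t 0) (t 1) (t 2) (inj _ _ (by decide)) (inj _ _ (by decide)) (inj _ _ (by decide))
      (hg' 0) (hg' 1) (hg' 2)
  · right
    exact ⟨E, i1, i2, h4, h5⟩

end Cfsg.Agent.S0731
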