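import Cfsg.Statements.S0738
import Cfsg.Agent.Lib.ZassBasic

set_option autoImplicit false
open Cfsg

namespace Cfsg.Agent.S0738

open MulAction Cfsg.Agent.Lib.ZassBasic

/-- Let a finite Zassenhaus group of degree `n + 1` have two-point stabilisers of order `d` with `2d ≥ n - 1`. Then a normal subgroup of a point stabiliser acting regularly on the remaining points is elementary abelian, and the degree is a prime power plus one. -/
theorem result {G Ω : Type*} [Group G] [Finite G] [MulAction G Ω] [Fintype Ω] (hZ : Cfsg.IsZassenhausGroup G Ω) {a b : Ω} (hab : a ≠ b) (hd : Fintype.card Ω - 2 ≤ 2 * Nat.card ↥(MulAction.stabilizer G a ⊓ MulAction.stabilizer G b)) (F : Subgroup G) (hFle : F ≤ MulAction.stabilizer G a) (hFn : (F.subgroupOf (MulAction.stabilizer G a)).Normal) (hreg : ∀ y z : Ω, y ≠ a → z ≠ a → ∃! u : F, (u : G) • y = z) : IsMulCommutative F ∧ ∃ p f : ℕ, p.Prime ∧ (∀ u ∈ F, u ^ p = 1) ∧ Fintype.card Ω = p ^ f + 1 := by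
  classical
  obtain ⟨hfaith, h2, h3, ⟨g0, hg01, a0, b0, hab0, hga0, hgb0⟩, -⟩ := hZ
  have h3' : Fix3 G Ω := h3
  set H := stabilizer G a ⊓ stabilizer G b with hH
  set d := Nat.card H with hdd
  -- |F| = n
  have hFcard : Nat.card F + 1 = Fintype.card Ω := by
    have e : F ≃ {x : Ω // x ≠ a} := Equiv.ofBijective
      (fun u => ⟨(u : G) • b, fun h => by
        have h1 : (u : G) • a = a := hFle u.2
        exact hab (MulAction.injective (u : G) (h.trans h1.symm)).symm⟩) (by
        constructor
        · intro u v huv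
          have h1 : (u : G) • b = (v : G) • b := congrArg Subtype.val huv
          obtain ⟨w, _, hw⟩ := hreg b ((v : G) • b) hab.symm (fun h => by
            have h1 : (v : G) • a = a := hFle v.2
            exact hab (MulAction.injective (v : G) (h.trans h1.symm)).symm)
          rw [hw u h1, hw v rfl]
        · rintro ⟨x, hx⟩
          obtain ⟨u, hu, _⟩ := hreg b x hab.symm hx
          exact ⟨u, Subtype.ext hu⟩)
    rw [Nat.card_congr e, Nat.card_eq_fintype_card, Fintype.card_subtype_compl, Fintype.card_subtype_eq]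
    have : 0 < Fintype.card Ω := Fintype.card_pos_iff.2 ⟨a⟩
    omega
  -- nonidentity elements of F fix no point other than a
  have hFfix : ∀ u ∈ F, ∀ x, x ≠ a → u • x = x → u = 1 := by
    intro u hu x hx hux
    obtain ⟨w, _, hw⟩ := hreg x x hx hx
    have h1 := hw ⟨u, hu⟩ hux
    have h2 := hw 1 (one_smul _ _)
    rw [← h2] at h1
    exact congrArg Subtype.val h1
  have hFa : ∀ u ∈ F, u • a = a := fun u hu => hFle hu
  -- H normalises F
  have hnorm : ∀ h ∈ stabilizer G a, ∀ u ∈ F, h * u * h⁻¹ ∈ F := by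
    intro h hh u hu
    have := hFn.conj_mem ⟨u, hFle hu⟩ (by rw [Subgroup.mem_subgroupOf]; exact hu) ⟨h, hh⟩
    rw [Subgroup.mem_subgroupOf] at this
    exact this
  -- H acts semiregularly
  have hsemi : ∀ h ∈ H, ∀ u ∈ F, u ≠ 1 → h * u = u * h → h = 1 := by
    intro h hh u hu hu1 hcomm
    refine h3 h a b (u • b) hab ?_ ?_ hh.1 hh.2 ?_
    · intro hb
      exact hu1 (hFfix u hu b hab.symm hb.symm)
    · intro ha'
      have h1 : u • b = u • a := ha'.symm.trans (hFa u hu).symm
      exact hab (MulAction.injective u h1).symm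
    · rw [smul_smul, hcomm, mul_smul]
      have : h • b = b := hh.2
      rw [this]
  -- H is nontrivial
  have hHne : ∃ h ∈ H, h ≠ 1 := by
    obtain ⟨g, hg1, hg2⟩ := exists_move h2 hab0 hab
    refine ⟨g * g0 * g⁻¹, ⟨?_, ?_⟩, ?_⟩
    · show (g * g0 * g⁻¹) • a = a
      rw [mul_smul, mul_smul, ← hg1, inv_smul_smul, hga0]
    · show (g * g0 * g⁻¹) • b = b
      rw [mul_smul, mul_smul, ← hg2, inv_smul_smul, hgb0]
    · intro h
      apply hg01
      have : g0 = g⁻¹ * (g * g0 * g⁻¹) * g := by group
      rw [this, h, mul_one, inv_mul_cancel]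
  -- |Ω| ≥ 3
  have hΩ3 : 3 ≤ Fintype.card Ω := by
    obtain ⟨h, hh, hh1⟩ := hHne
    obtain ⟨x, hx⟩ := exists_moved (Ω := Ω) hh1
    have hxa : x ≠ a := fun h' => hx (by rw [h']; exact hh.1)
    have hxb : x ≠ b := fun h' => hx (by rw [h']; exact hh.2)
    have : ({a, b, x} : Finset Ω).card = 3 := Finset.card_eq_three.2 ⟨a, b, x, hab, hxa.symm, hxb.symm, rfl⟩
    rw [← this, ← Finset.card_univ]
    exact Finset.card_le_card (Finset.subset_univ _)
  -- conjugation orbits
  let cl : G → Set G := fun u => {v | ∃ h ∈ H, v = h * u * h⁻¹}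
  have hcl_card : ∀ u ∈ F, u ≠ 1 → (cl u).ncard = d := by
    intro u hu hu1
    have : cl u = Set.range (fun h : H => (h : G) * u * (h : G)⁻¹) := by
      ext v
      constructor
      · rintro ⟨h, hh, rfl⟩; exact ⟨⟨h, hh⟩, rfl⟩
      · rintro ⟨h, rfl⟩; exact ⟨h, h.2, rfl⟩
    rw [this, ← Set.image_univ, Set.ncard_image_of_injective, Set.ncard_univ]
    intro h k hhk
    have h1 : (h : G) * u * (h : G)⁻¹ = (k : G) * u * (k : G)⁻¹ := hhk
    have h4 : ((k : G)⁻¹ * h) * u = u * ((k : G)⁻¹ * h) := by
      calc ((k : G)⁻¹ * h) * u = (k : G)⁻¹ * ((h : G) * u * (h : G)⁻¹) * h := by group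
        _ = (k : G)⁻¹ * ((k : G) * u * (k : G)⁻¹) * h := by rw [h1]
        _ = u * ((k : G)⁻¹ * h) := by group
    have h5 := hsemi _ (H.mul_mem (H.inv_mem k.2) h.2) u hu hu1 h4
    apply Subtype.ext
    exact (inv_mul_eq_one.1 h5).symm
  have hcl_F : ∀ u ∈ F, cl u ⊆ {v | v ∈ F} := by
    rintro u hu v ⟨h, hh, rfl⟩
    exact hnorm h hh.1 u hu
  have hcl_ne : ∀ u, u ≠ 1 → (1 : G) ∉ cl u := by
    rintro u hu ⟨h, hh, h1⟩
    apply hu
    have : u = h⁻¹ * (h * u * h⁻¹) * h := by group
    rw [this, ← h1, mul_one, inv_mul_cancel]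
  have hcl_ord : ∀ u v, v ∈ cl u → orderOf v = orderOf u := by
    rintro u v ⟨h, hh, rfl⟩
    exact (MulAut.conj h).orderOf_eq u
  have hcl_symm : ∀ u v, v ∈ cl u → cl u = cl v := by
    rintro u v ⟨h, hh, rfl⟩
    ext w
    constructor
    · rintro ⟨k, hk, rfl⟩
      exact ⟨k * h⁻¹, H.mul_mem hk (H.inv_mem hh), by group⟩
    · rintro ⟨k, hk, rfl⟩
      exact ⟨k * h, H.mul_mem hk hh, by group⟩
  have hcl_self : ∀ u, u ∈ cl u := fun u => ⟨1, H.one_mem, by group⟩
  set n := Nat.card F with hn
  have hn2 : 2 ≤ n := by omega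
  have hdn : n - 1 ≤ 2 * d := by omega
  have hFfin : Set.ncard {v | v ∈ F} = n := rfl
  have hdpos : 0 < d := Nat.card_pos
  -- all nonidentity elements have the same order
  have hd1 : 2 ≤ d := by
    obtain ⟨h, hh, hh1⟩ := hHne
    exact Nat.succ_le_of_lt (Finite.one_lt_card_iff_nontrivial.2
      ⟨⟨⟨h, hh⟩, 1, fun h' => hh1 (congrArg Subtype.val h')⟩⟩)
  -- any subset of F containing 1 and two disjoint classes ...
  have hcover : ∀ u v w : G, u ∈ F → v ∈ F → w ∈ F → u ≠ 1 → v ≠ 1 → w ≠ 1 → v ∉ cl u →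
      w ∈ cl u ∨ w ∈ cl v := by
    intro u v w hu hv hw hu1 hv1 hw1 hvu
    by_contra hcon
    push Not at hcon
    have hd12 : Disjoint (cl u) (cl v) := by
      rw [Set.disjoint_left]
      intro x hx hx'
      apply hvu
      rw [hcl_symm u x hx, ← hcl_symm v x hx']
      exact hcl_self v
    have hd13 : Disjoint (cl u) (cl w) := by
      rw [Set.disjoint_left]
      intro x hx hx'
      apply hcon.1
      rw [hcl_symm u x hx, ← hcl_symm w x hx']
      exact hcl_self w
    have hd23 : Disjoint (cl v) (cl w) := by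
      rw [Set.disjoint_left]
      intro x hx hx'
      apply hcon.2
      rw [hcl_symm v x hx, ← hcl_symm w x hx']
      exact hcl_self w
    have h4 : ((cl u ∪ cl v) ∪ cl w).ncard = d + d + d := by
      rw [Set.ncard_union_eq (Set.disjoint_union_left.2 ⟨hd13, hd23⟩) (Set.toFinite _) (Set.toFinite _),
        Set.ncard_union_eq hd12 (Set.toFinite _) (Set.toFinite _), hcl_card u hu hu1, hcl_card v hv hv1,
        hcl_card w hw hw1]
    have h5 : insert (1 : G) ((cl u ∪ cl v) ∪ cl w) ⊆ {v | v ∈ F} := by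
      rintro x (rfl | (hx | hx) | hx)
      · exact F.one_mem
      · exact hcl_F u hu hx
      · exact hcl_F v hv hx
      · exact hcl_F w hw hx
    have h6 := Set.ncard_le_ncard h5 (Set.toFinite _)
    have h1 : (1 : G) ∉ (cl u ∪ cl v) ∪ cl w := by
      rintro ((h | h) | h)
      · exact hcl_ne u hu1 h
      · exact hcl_ne v hv1 h
      · exact hcl_ne w hw1 h
    rw [Set.ncard_insert_of_notMem h1 (Set.toFinite _), h4, hFfin] at h6
    omega
  -- pick an element of prime order
  have : Nontrivial F := by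
    rw [← Finite.one_lt_card_iff_nontrivial]; omega
  obtain ⟨p, hp, hpn⟩ := Nat.exists_prime_and_dvd (show n ≠ 1 by omega)
  have hpf := Fact.mk hp
  obtain ⟨u0, hu0⟩ := exists_prime_orderOf_dvd_card' p hpn
  have hu0' : orderOf (u0 : G) = p := by rw [Subgroup.orderOf_coe, hu0]
  have hu01 : (u0 : G) ≠ 1 := by
    intro h
    rw [h, orderOf_one] at hu0'
    exact hp.one_lt.ne hu0'
  have hallp : ∀ v ∈ F, v ≠ 1 → orderOf v = p := by
    by_contra hcon
    push Not at hcon
    obtain ⟨v, hv, hv1, hvp⟩ := hcon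
    have hvu : v ∉ cl u0 := fun h => hvp ((hcl_ord _ _ h).trans hu0')
    have hcov := hcover u0 v
    -- 2 d = n - 1
    have hdis : Disjoint (cl u0) (cl v) := by
      rw [Set.disjoint_left]
      intro x hx hx'
      apply hvu
      rw [hcl_symm _ x hx, ← hcl_symm v x hx']
      exact hcl_self v
    have h2d : 2 * d = n - 1 := by
      have h5 : insert (1 : G) (cl u0 ∪ cl v) ⊆ {v | v ∈ F} := by
        rintro x (rfl | hx | hx)
        · exact F.one_mem
        · exact hcl_F _ u0.2 hx
        · exact hcl_F v hv hx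
      have h6 := Set.ncard_le_ncard h5 (Set.toFinite _)
      have h1 : (1 : G) ∉ cl u0 ∪ cl v := by
        rintro (h | h)
        · exact hcl_ne _ hu01 h
        · exact hcl_ne v hv1 h
      rw [Set.ncard_insert_of_notMem h1 (Set.toFinite _), Set.ncard_union_eq hdis (Set.toFinite _) (Set.toFinite _),
        hcl_card _ u0.2 hu01, hcl_card v hv hv1, hFfin] at h6
      omega
    rcases Nat.even_or_odd d with hev | hodd
    · -- an involution in H inverts F, so F is abelian
      obtain ⟨t, ht⟩ := exists_prime_orderOf_dvd_card' (G := H) 2 hev.two_dvd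
      have ht2 : (t : G) * t = 1 := by
        have : t * t = 1 := by rw [← sq, ← ht, pow_orderOf_eq_one]
        exact congrArg Subtype.val this
      have ht1 : (t : G) ≠ 1 := by
        intro h
        have : t = 1 := Subtype.ext h
        rw [this] at ht
        simp at ht
      have hFK : ∀ u ∈ F, InK a u := fun u hu => ⟨hFa u hu, fun h1 x hx hux => h1 (hFfix u hu x hx hux)⟩
      have hcomm : ∀ u ∈ F, ∀ v ∈ F, u * v = v * u := fun u hu v hv =>
        inK_comm h2 h3' hab ht2 ht1 t.2.1 t.2.2 (hFK u hu) (hFK v hv)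
      -- elements of order dividing p form a subgroup of order 1 + d
      let E : Subgroup F :=
        { carrier := {x | (x : G) ^ p = 1}
          mul_mem' := by
            intro x y hx hy
            have hc : Commute (x : G) y := hcomm x x.2 y y.2
            have hx' : (x : G) ^ p = 1 := hx
            have hy' : (y : G) ^ p = 1 := hy
            show ((x * y : F) : G) ^ p = 1
            rw [Subgroup.coe_mul, hc.mul_pow, hx', hy', one_mul]
          one_mem' := by show ((1 : F) : G) ^ p = 1; simp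
          inv_mem' := by
            intro x hx
            have hx' : (x : G) ^ p = 1 := hx
            show ((x⁻¹ : F) : G) ^ p = 1
            rw [Subgroup.coe_inv, inv_pow, hx', inv_one] }
      have hE : Nat.card E = 1 + d := by
        have h7 : (Subtype.val '' (E : Set F)) = insert (1 : G) (cl u0) := by
          ext x
          constructor
          · rintro ⟨y, hy, rfl⟩
            by_cases hy1 : (y : G) = 1
            · left; exact hy1
            · right
              rcases hcov y u0.2 hv y.2 hu01 hv1 hy1 hvu with h | h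
              · exact h
              · exfalso
                apply hvp
                rw [← hcl_ord _ _ h]
                exact orderOf_eq_prime hy hy1
          · rintro (rfl | hx)
            · exact ⟨1, E.one_mem, rfl⟩
            · refine ⟨⟨x, hcl_F _ u0.2 hx⟩, ?_, rfl⟩
              show x ^ p = 1
              rw [← hu0', ← hcl_ord _ _ hx, pow_orderOf_eq_one]
        have h8 : (Subtype.val '' (E : Set F)).ncard = Nat.card E := by
          rw [Set.ncard_image_of_injective _ Subtype.val_injective]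
          rfl
        rw [← h8, h7, Set.ncard_insert_of_notMem (hcl_ne _ hu01) (Set.toFinite _), hcl_card _ u0.2 hu01]
        ring
      have h9 : Nat.card E ∣ n := Subgroup.card_subgroup_dvd_card E
      rw [hE] at h9
      obtain ⟨c, hc⟩ := h9
      have hc1 : c = 0 ∨ c = 1 ∨ 2 ≤ c := by omega
      rcases hc1 with rfl | rfl | hc2
      · omega
      · omega
      · have : (1 + d) * 2 ≤ (1 + d) * c := Nat.mul_le_mul_left _ hc2
        omega
    · -- inversion swaps the two classes
      have hinv : (u0 : G)⁻¹ ∉ cl u0 := by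
        rintro ⟨h, hh, he⟩
        -- h^2 centralises u0
        have h10 : (h * h) * u0 = u0 * (h * h) := by
          have h11 : h * (u0 : G) * h⁻¹ = (u0 : G)⁻¹ := he.symm
          have h12 : h * (u0 : G)⁻¹ * h⁻¹ = (u0 : G) := by
            have : h * (u0 : G)⁻¹ * h⁻¹ = (h * (u0 : G) * h⁻¹)⁻¹ := by group
            rw [this, h11, inv_inv]
          have h13 : (h * h) * (u0 : G) * (h * h)⁻¹ = u0 := by
            have : (h * h) * (u0 : G) * (h * h)⁻¹ = h * (h * (u0 : G) * h⁻¹) * h⁻¹ := by group
            rw [this, h11, h12]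
          calc (h * h) * (u0 : G) = ((h * h) * (u0 : G) * (h * h)⁻¹) * (h * h) := by group
            _ = u0 * (h * h) := by rw [h13]
        have h14 := hsemi _ (H.mul_mem hh hh) _ u0.2 hu01 h10
        have h15 : (⟨h, hh⟩ : H) ^ 2 = 1 := Subtype.ext (by rw [sq]; exact h14)
        have h16 : orderOf (⟨h, hh⟩ : H) ∣ 2 := orderOf_dvd_of_pow_eq_one h15
        have h17 : orderOf (⟨h, hh⟩ : H) ∣ d := orderOf_dvd_natCard _
        have h18 : orderOf (⟨h, hh⟩ : H) = 1 := by
          rcases (Nat.dvd_prime Nat.prime_two).1 h16 with h | h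
          · exact h
          · rw [h] at h17
            exact absurd (even_iff_two_dvd.2 h17) (Nat.not_even_iff_odd.2 hodd)
        have h19 : h = 1 := congrArg Subtype.val (orderOf_eq_one_iff.1 h18)
        rw [h19, one_mul, inv_one, mul_one] at he
        -- u0 has order 2 but |F| is odd
        have h20 : (u0 : G) ^ 2 = 1 := by
          rw [sq]
          nth_rewrite 1 [← he]
          exact inv_mul_cancel _
        have h21 : orderOf (u0 : G) ∣ 2 := orderOf_dvd_of_pow_eq_one h20
        rw [hu0'] at h21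
        have h22 : p = 2 := (Nat.prime_dvd_prime_iff_eq hp Nat.prime_two).1 h21
        rw [h22] at hpn
        omega
      have h23 : (u0 : G)⁻¹ ≠ 1 := inv_ne_one.2 hu01
      rcases hcov _ u0.2 hv (F.inv_mem u0.2) hu01 hv1 h23 hvu with h | h
      · exact hinv h
      · apply hvp
        rw [← hcl_ord _ _ h, orderOf_inv, hu0']
  -- F is a p-group
  have hpow : ∀ u ∈ F, u ^ p = 1 := by
    intro u hu
    by_cases h1 : u = 1
    · rw [h1, one_pow]
    · rw [← hallp u hu h1, pow_orderOf_eq_one]
  have hPG : IsPGroup p F := by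
    intro u
    exact ⟨1, Subtype.ext (by rw [pow_one]; exact hpow u u.2)⟩
  -- its centre is everything
  have hZnt : Nontrivial (Subgroup.center F) := hPG.center_nontrivial
  obtain ⟨z, hz1⟩ := exists_ne (1 : Subgroup.center F)
  have hz1' : ((z : F) : G) ≠ 1 := fun h => hz1 (Subtype.ext (Subtype.ext h))
  have hcen : ∀ v ∈ cl ((z : F) : G), ∀ u ∈ F, v * u = u * v := by
    rintro v ⟨h, hh, rfl⟩ u hu
    have h1 : h⁻¹ * u * h ∈ F := by
      have := hnorm h⁻¹ ((stabilizer G a).inv_mem hh.1) u hu
      rwa [inv_inv] at this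
    have h4 : ((z : F) : G) * (h⁻¹ * u * h) = (h⁻¹ * u * h) * ((z : F) : G) := by
      have := (Subgroup.mem_center_iff.1 z.2) ⟨_, h1⟩
      exact (congrArg Subtype.val this).symm
    calc h * ((z : F) : G) * h⁻¹ * u = h * (((z : F) : G) * (h⁻¹ * u * h)) * h⁻¹ := by group
      _ = h * ((h⁻¹ * u * h) * ((z : F) : G)) * h⁻¹ := by rw [h4]
      _ = u * (h * ((z : F) : G) * h⁻¹) := by group
  have hcard : n < 2 * Nat.card (Subgroup.center F) := by
    have h5 : insert (1 : G) (cl ((z : F) : G)) ⊆ Subtype.val '' ((Subgroup.center F : Subgroup F) : Set F) := by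
      rintro x (rfl | hx)
      · exact ⟨1, (Subgroup.center F).one_mem, rfl⟩
      · have hxF := hcl_F _ z.1.2 hx
        refine ⟨⟨x, hxF⟩, ?_, rfl⟩
        rw [SetLike.mem_coe, Subgroup.mem_center_iff]
        intro u
        exact Subtype.ext (hcen x hx u u.2).symm
    have h6 := Set.ncard_le_ncard h5 (Set.toFinite _)
    rw [Set.ncard_insert_of_notMem (hcl_ne _ hz1') (Set.toFinite _), hcl_card _ z.1.2 hz1',
      Set.ncard_image_of_injective _ Subtype.val_injective] at h6
    have h7 : ((Subgroup.center F : Subgroup F) : Set F).ncard = Nat.card (Subgroup.center F) := rfl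
    rw [h7] at h6
    omega
  have htop : Subgroup.center F = ⊤ := by
    have h8 : Nat.card (Subgroup.center F) ∣ n := Subgroup.card_subgroup_dvd_card _
    obtain ⟨c, hc⟩ := h8
    have hc1 : c = 0 ∨ c = 1 ∨ 2 ≤ c := by omega
    rcases hc1 with rfl | rfl | hc2
    · omega
    · rw [mul_one] at hc
      exact Subgroup.eq_top_of_card_eq _ hc.symm
    · have : Nat.card (Subgroup.center F) * 2 ≤ Nat.card (Subgroup.center F) * c := Nat.mul_le_mul_left _ hc2
      omega
  refine ⟨⟨⟨fun u v => ?_⟩⟩, p, ?_⟩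
  · have : u ∈ Subgroup.center F := by rw [htop]; trivial
    exact (Subgroup.mem_center_iff.1 this v).symm
  · obtain ⟨f, hf⟩ := IsPGroup.iff_card.1 hPG
    exact ⟨f, hp, hpow, by rw [← hFcard, ← hf]⟩

end Cfsg.Agent.S0738
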