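import Cfsg.Statements.S0042
import Cfsg.Agent.S0033
import Cfsg.Agent.Lib.FrobThm
-- import your own Cfsg.Agent.* helpers here

set_option autoImplicit false
open Cfsg

namespace Cfsg.Agent.S0042

/-- In a finite Frobenius group, the Frobenius kernel is (the carrier of) a normal subgroup which is nilpotent. -/
theorem result {G : Type*} [Group G] [Finite G] (H : Subgroup G) (hH : Cfsg.IsFrobeniusComplement H) :
    ∃ N : Subgroup G, (N : Set G) = Cfsg.frobeniusKernel H ∧ N.Normal ∧ Group.IsNilpotent N := by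
  classical
  obtain ⟨N, hN, hNn, hc⟩ := Cfsg.Agent.Lib.FrobThm.exists_kernel hH
  refine ⟨N, hN, hNn, ?_⟩
  have hN1 : N ≠ ⊥ := by
    intro h
    obtain ⟨x, hx, hx1⟩ := Cfsg.Agent.Lib.FrobGroup.exists_kernel_ne_one hH
    rw [← hN, h] at hx
    exact hx1 (Subgroup.mem_bot.1 hx)
  have hfpf := (Cfsg.Agent.Lib.FrobGroup.isFrobeniusComplement_iff hc hN1 hH.1).1 hH
  have hcard : Nat.card H ≠ 1 := fun h => hH.1 (Subgroup.card_eq_one.1 h)
  obtain ⟨p, hp, hpd⟩ := Nat.exists_prime_and_dvd hcard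
  have := Fact.mk hp
  obtain ⟨h, hh⟩ := exists_prime_orderOf_dvd_card' (G := H) p hpd
  have hh' : orderOf (h : G) = p := (Subgroup.orderOf_coe h).trans hh
  let φ : N ≃* N := MulAut.conjNormal (h : G)
  have hφ : ∀ x : N, ((φ x : N) : G) = h * x * (h : G)⁻¹ := fun x => rfl
  have hh1 : (h : G) ≠ 1 := by
    intro h1
    rw [h1, orderOf_one] at hh'
    exact hp.one_lt.ne hh'
  have hfix : MonoidHom.FixedPointFree (φ : N →* N) := by
    intro x hx
    have h1 : (h : G) * x * (h : G)⁻¹ = x := congrArg Subtype.val hx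
    have h2 : (x : G) ∈ N ⊓ Subgroup.centralizer {(h : G)} :=
      ⟨x.2, Subgroup.mem_centralizer_singleton_iff.2 (mul_inv_eq_iff_eq_mul.1 h1).symm⟩
    rw [hfpf _ h.2 hh1, Subgroup.mem_bot] at h2
    exact Subtype.ext h2
  refine Cfsg.Agent.S0033.result φ hfix p hp ?_
  have hpow : (φ : MulAut N) ^ p = 1 := by
    change (MulAut.conjNormal (h : G) : MulAut N) ^ p = 1
    rw [← map_pow, ← hh', pow_orderOf_eq_one, map_one]
  apply orderOf_eq_prime hpow
  intro h1
  apply hN1
  rw [eq_bot_iff]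
  intro x hx
  have h2 := hfix ⟨x, hx⟩ (by
    change φ ⟨x, hx⟩ = ⟨x, hx⟩
    have : φ = 1 := h1
    rw [this]; rfl)
  exact congrArg Subtype.val h2

end Cfsg.Agent.S0042
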