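import Cfsg.Statements.S0340
import Cfsg.Agent.Lib.ZassReg
import Cfsg.Agent.Lib.ZassOdd
import Cfsg.Agent.Lib.Sharp3Pgl
import Cfsg.Agent.S0738
import Cfsg.Agent.S0731
import Cfsg.Agent.S0344
import Cfsg.Agent.S0347
import Cfsg.Agent.S0885

set_option autoImplicit false
open Cfsg

namespace Cfsg.Agent.S0340

/-- Classification of Zassenhaus groups, simple case, order-level form: a finite simple Zassenhaus group is
isomorphic to `PSL₂(F)` for some finite field `F` or is simple of Suzuki order. -/
theorem result {G Ω : Type*} [Group G] [Finite G] [MulAction G Ω]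
    [Finite Ω] (hZ : Cfsg.IsZassenhausGroup G Ω) [IsSimpleGroup G] :
    (∃ (F : Type) (_ : Field F) (_ : Fintype F), Nonempty (G ≃* Matrix.ProjectiveSpecialLinearGroup (Fin 2) F)) ∨ Cfsg.IsSuzuki G := by
  classical
  have := Fintype.ofFinite Ω
  have h3 := Lib.ZassKernel.three_le_card hZ
  rw [Nat.card_eq_fintype_card] at h3
  obtain ⟨a⟩ : Nonempty Ω := by rw [← Fintype.card_pos_iff]; omega
  obtain ⟨b, hab⟩ := Lib.ZassOdd.exists_ne_of_zass hZ a
  obtain ⟨H, hHa, hHcard, hHfix⟩ := Lib.ZassOdd.exists_kernel hZ a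
  have hreg := Lib.ZassReg.reg_of_kernel H hHa hHcard hHfix
  have hn := Lib.ZassReg.normal_of_kernel hZ H hHa hHcard hHfix
  rcases Nat.even_or_odd (Nat.card ↥(MulAction.stabilizer G a ⊓ MulAction.stabilizer G b))
      with he | ho
  · left
    obtain ⟨F, i1, i2, -, h⟩ := Cfsg.Agent.S0344.result hZ hab he
    exact ⟨F, i1, i2, h⟩
  · have hHc : Nat.card H + 1 = Fintype.card Ω := by rw [hHcard, Nat.card_eq_fintype_card]
    rcases Cfsg.Agent.S0885.result hZ hab (Nat.card H) _ hHc.symm rfl ho H hHa hHc hHfix with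
        h | ⟨h, hna, -⟩
    · left
      obtain ⟨hab', p, f, hp, -, hΩ⟩ := Cfsg.Agent.S0738.result hZ hab (by omega) H hHa hn
        (fun y z hy hz => hreg y z hy hz)
      rcases Cfsg.Agent.S0731.result hZ a H hHa hn hab' (fun y z hy hz => hreg y z hy hz) with
        ⟨h3t, hsharp⟩ | ⟨K, i1, i2, -, h⟩
      · -- sharply 3-transitive
        have hc1 := Lib.SharpMult.card_of_sharp h3t
          (by rw [Nat.card_eq_fintype_card]; omega) hsharp
        have hc2 := Lib.ZassOdd.card_group hZ hab
        have he3 := Lib.ZassOdd.three_le_of_odd hZ hab ho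
        rw [hc1] at hc2
        obtain ⟨m, hm⟩ : ∃ m, Nat.card Ω = m + 3 :=
          ⟨Nat.card Ω - 3, by rw [Nat.card_eq_fintype_card]; omega⟩
        rw [hm] at hc2
        have hde : (m + 3).descFactorial 3 = (m + 3) * ((m + 2) * (m + 1)) := by
          simp [Nat.descFactorial]; ring
        have hm3 : m + 3 - 1 = m + 2 := by omega
        rw [hde, hm3] at hc2
        have h4 := Nat.eq_of_mul_eq_mul_left (by omega) hc2
        have h5 := Nat.eq_of_mul_eq_mul_left (by omega) h4
        rw [Nat.card_eq_fintype_card, hΩ] at hm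
        -- p = 2
        have hp2 : p = 2 := by
          by_contra hp2
          have hodd : Odd (p ^ f) := (hp.odd_of_ne_two hp2).pow
          rw [← h5] at ho
          obtain ⟨k, hk⟩ := hodd
          obtain ⟨l, hl⟩ := ho
          omega
        subst hp2
        have hf : 2 ≤ f := by
          by_contra hf
          have : f = 0 ∨ f = 1 := by omega
          rcases this with rfl | rfl <;> omega
        obtain ⟨F, i1, i2, hF, ⟨φ⟩⟩ := Lib.Sharp3Pgl.main_case hf hΩ h3t hsharp
        obtain ⟨ψ⟩ := Lib.Sharp3Pgl.psl_equiv_pgl (F := F) (by omega) hF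
        exact ⟨F, i1, i2, ⟨φ.trans ψ.symm⟩⟩
      · exact ⟨K, i1, i2, h⟩
    · right
      exact Cfsg.Agent.S0347.result hZ a H hHa hn h hna (fun y z hy hz => hreg y z hy hz)

end Cfsg.Agent.S0340
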