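import Cfsg.Statements.S3050
import Cfsg.Agent.Lib.HigSL2d

set_option autoImplicit false
open Cfsg

namespace Cfsg.Agent.S3050

/-- Let G be a finite group with a normal 2-subgroup Q such that G/Q is isomorphic to SL(2, 2ⁿ) with n ≥ 2, and suppose some element of G of order 3 fixes no nonidentity element of Q under conjugation. Then Q is elementary abelian and is the direct product of normal subgroups of G on each of which G acts as SL(2, 2ⁿ) acts on its natural two-dimensional module (a Galois twist of the natural action allowed). -/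
theorem result {G : Type*} [Group G] [Finite G]
    (Q : Subgroup G) [Q.Normal] (hQ : IsPGroup 2 ↥Q) (n : ℕ) (hn : 2 ≤ n)
    (K : Type*) [Field K] [Fintype K] (hK : Fintype.card K = 2 ^ n)
    (e : G ⧸ Q ≃* Matrix.SpecialLinearGroup (Fin 2) K)
    (x : G) (hx : orderOf x = 3) (hfpf : ∀ q ∈ Q, x * q * x⁻¹ = q → q = 1) :
    Cfsg.IsElementaryAbelian 2 Q ∧
      ∃ (k : ℕ) (V : Fin k → Subgroup G), (∀ i, V i ≤ Q ∧ (V i).Normal ∧
        Cfsg.ActsAsSL2OnSection K ⊤ ⊤ (V i) ⊥) ∧ iSupIndep V ∧ ⨆ i, V i = Q := by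
  classical
  have : CharP K 2 := charP_of_card_eq_prime_pow hK
  have hcardu : 1 < Fintype.card Kˣ := by
    classical
    rw [Fintype.card_units, hK]
    have : 2 ^ 2 ≤ 2 ^ n := Nat.pow_le_pow_right (by norm_num) hn
    omega
  have : Nontrivial Kˣ := Fintype.one_lt_card_iff_nontrivial.mp hcardu
  obtain ⟨a, ha⟩ := exists_ne (1 : Kˣ)
  let π : G →* Matrix.SpecialLinearGroup (Fin 2) K := e.toMonoidHom.comp (QuotientGroup.mk' Q)
  have hker : π.ker = Q := by
    ext g
    rw [MonoidHom.mem_ker]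
    change e (QuotientGroup.mk' Q g) = 1 ↔ _
    rw [map_eq_one_iff e e.injective]
    exact QuotientGroup.eq_one_iff g
  have hπ : Function.Surjective π := e.surjective.comp (QuotientGroup.mk'_surjective Q)
  have hx3 : x * x * x = 1 := by
    have h1 := pow_orderOf_eq_one x
    rw [hx] at h1
    rw [← h1, pow_succ, pow_two]
  have hxQ : π x ≠ 1 := by
    intro h
    have h1 : x ∈ Q := by rw [← hker]; exact h
    obtain ⟨k, hk⟩ := hQ ⟨x, h1⟩
    have h2 : x ^ (2 ^ k) = 1 := congrArg Subtype.val hk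
    have h3 := orderOf_dvd_of_pow_eq_one h2
    rw [hx] at h3
    have h4 := Nat.prime_three.dvd_of_dvd_pow h3
    omega
  have hxt : Lib.HigSL2.tr (π x) = 1 := Lib.HigSL2.tr_eq_one (by rw [← map_mul, ← map_mul, hx3, map_one]) hxQ
  have hfpf' : ∀ u ∈ π.ker, x * u * x⁻¹ = u → u = 1 := by rw [hker]; exact hfpf
  obtain ⟨h1, h2⟩ := Lib.HigSL2.main_aux a ha _ G rfl π hπ (by rw [hker]; exact hQ) x hx3 hxt hfpf'
  obtain ⟨k, V, h3, h4, h5⟩ := Lib.HigSL2.final hπ h1 h2 hx3 hxt hfpf'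
  rw [hker] at h1 h2 h3 h5
  refine ⟨⟨⟨⟨fun a b => Subtype.ext (h1 a a.2 b b.2)⟩⟩, fun a ha => ?_⟩, k, V, h3, h4, h5⟩
  rw [pow_two]
  exact h2 a ha

end Cfsg.Agent.S3050
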