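import Cfsg.Statements.S3634
import Mathlib
-- import your own Cfsg.Agent.* helpers here

set_option autoImplicit false
open Cfsg

namespace Cfsg.Agent.S3634

/-- Commuting elements whose orders are divisible by distinct primes `p`, `q` give an element of order `p * q`. -/
theorem exists_orderOf_mul {G : Type*} [Group G] {a b : G} (hab : Commute a b) {p q : ℕ}
    (hp : p.Prime) (hq : q.Prime) (hpq : p ≠ q) (ha0 : 0 < orderOf a) (hb0 : 0 < orderOf b)
    (ha : p ∣ orderOf a) (hb : q ∣ orderOf b) :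
    ∃ x : G, orderOf x = p * q := by
  have h1 : orderOf (a ^ (orderOf a / p)) = p := by
    rw [orderOf_pow_of_dvd (Nat.div_pos (Nat.le_of_dvd ha0 ha) hp.pos).ne' (Nat.div_dvd_of_dvd ha),
      Nat.div_div_self ha ha0.ne']
  have h2 : orderOf (b ^ (orderOf b / q)) = q := by
    rw [orderOf_pow_of_dvd (Nat.div_pos (Nat.le_of_dvd hb0 hb) hq.pos).ne' (Nat.div_dvd_of_dvd hb),
      Nat.div_div_self hb hb0.ne']
  refine ⟨a ^ (orderOf a / p) * b ^ (orderOf b / q), ?_⟩
  rw [(hab.pow_pow _ _).orderOf_mul_eq_mul_orderOf_of_coprime, h1, h2]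
  rw [h1, h2]
  exact (Nat.coprime_primes hp hq).mpr hpq

/-- The partition argument for a Frobenius group `Q ⋊ ⟨x⟩` acting on an abelian group without `|Q|`-torsion: `Q` or
`x` has a non-trivial fixed point. -/
theorem frobenius_fixed {A H : Type*} [CommGroup A] [Group H] (φ : H →* MulAut A)
    (Q : Subgroup H) [Finite Q] (x : H) (r : ℕ) (hr : 0 < r) (hxr : x ^ r = 1)
    (hxQ : ∀ y ∈ Q, x * y * x⁻¹ ∈ Q)
    (hfQ : ∀ i, 0 < i → i < r → ∀ y ∈ Q, Commute (x ^ i) y → y = 1)
    (hQA : ∀ a : A, (∀ y ∈ Q, φ y a = a) → a = 1)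
    (hxA : ∀ a : A, φ x a = a → a = 1)
    (htor : ∀ a : A, a ^ (Nat.card Q) = 1 → a = 1) (a : A) : a = 1 := by
  classical
  have := Fintype.ofFinite Q
  -- products over `Q` are trivial
  have hQ : ∀ b : A, ∏ y : Q, φ (y : H) b = 1 := by
    intro b
    apply hQA
    intro z hz
    rw [map_prod]
    have : ∀ y : Q, φ z (φ (y : H) b) = φ (((⟨z, hz⟩ : Q) * y : Q) : H) b := by
      intro y
      rw [Subgroup.coe_mul, map_mul]; rfl
    simp_rw [this]
    exact Fintype.prod_equiv (Equiv.mulLeft (⟨z, hz⟩ : Q)) _ _ (fun y => rfl)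
  -- products over powers of `x` are trivial
  have hX : ∀ b : A, ∏ i ∈ Finset.range r, φ (x ^ i) b = 1 := by
    intro b
    apply hxA
    rw [map_prod]
    have h1 : ∀ i ∈ Finset.range r, φ x (φ (x ^ i) b) = φ (x ^ (i + 1)) b := by
      intro i _
      rw [pow_succ', map_mul]; rfl
    rw [Finset.prod_congr rfl h1]
    obtain ⟨s, rfl⟩ : ∃ s, r = s + 1 := ⟨r - 1, by omega⟩
    rw [Finset.prod_range_succ, Finset.prod_range_succ', hxr, pow_zero]
  have hpowQ : ∀ (i : ℕ), ∀ y ∈ Q, x ^ i * y * (x ^ i)⁻¹ ∈ Q := by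
    intro i
    induction i with
    | zero => intro y hy; simpa using hy
    | succ n ih =>
      intro y hy
      have := ih y hy
      have h2 := hxQ _ this
      have h3 : x ^ (n + 1) * y * (x ^ (n + 1))⁻¹ = x * (x ^ n * y * (x ^ n)⁻¹) * x⁻¹ := by
        rw [pow_succ']; group
      rw [h3]; exact h2
  -- the coset of `Q` through `x ^ i` consists of conjugates of `x ^ i`
  have hcoset : ∀ i, 0 < i → i < r → ∀ b : A,
      ∏ z : Q, φ ((z : H)⁻¹ * x ^ i * z) b = ∏ y : Q, φ ((y : H) * x ^ i) b := by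
    intro i hi0 hir b
    let f : Q → Q := fun z => ⟨(z : H)⁻¹ * (x ^ i * z * (x ^ i)⁻¹), Q.mul_mem (Q.inv_mem z.2) (hpowQ i z z.2)⟩
    have hf : Function.Injective f := by
      intro z w hzw
      have h1 : (z : H)⁻¹ * (x ^ i * z * (x ^ i)⁻¹) = (w : H)⁻¹ * (x ^ i * w * (x ^ i)⁻¹) :=
        congrArg Subtype.val hzw
      have h2 : Commute (x ^ i) ((w : H) * (z : H)⁻¹) := by
        show x ^ i * ((w : H) * (z : H)⁻¹) = ((w : H) * (z : H)⁻¹) * x ^ i
        have h3 : ((w : H) * (z : H)⁻¹) * (x ^ i * z * (x ^ i)⁻¹) = x ^ i * w * (x ^ i)⁻¹ := by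
          rw [mul_assoc (w : H), h1]; group
        calc x ^ i * ((w : H) * (z : H)⁻¹) = (x ^ i * w * (x ^ i)⁻¹) * (x ^ i * (z : H)⁻¹) := by group
          _ = ((w : H) * (z : H)⁻¹) * (x ^ i * z * (x ^ i)⁻¹) * (x ^ i * (z : H)⁻¹) := by rw [h3]
          _ = ((w : H) * (z : H)⁻¹) * x ^ i := by group
      have h4 := hfQ i hi0 hir _ (Q.mul_mem w.2 (Q.inv_mem z.2)) h2
      exact Subtype.ext (mul_inv_eq_one.mp h4).symm
    have hfb : Function.Bijective f := Finite.injective_iff_bijective.mp hf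
    rw [← hfb.prod_comp (fun y : Q => φ ((y : H) * x ^ i) b)]
    apply Finset.prod_congr rfl
    intro z _
    have : (f z : H) * x ^ i = (z : H)⁻¹ * x ^ i * z := by
      show (z : H)⁻¹ * (x ^ i * z * (x ^ i)⁻¹) * x ^ i = _
      group
    rw [this]
  -- now compute the product over all of `Q⟨x⟩` minus `Q`
  have key1 : ∏ i ∈ Finset.Ico 1 r, ∏ z : Q, φ ((z : H)⁻¹ * x ^ i * z) a = 1 := by
    apply Finset.prod_eq_one
    intro i hi
    rw [Finset.mem_Ico] at hi
    rw [hcoset i (by omega) hi.2]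
    have : ∀ y : Q, φ ((y : H) * x ^ i) a = φ (y : H) (φ (x ^ i) a) := by
      intro y
      rw [map_mul]; rfl
    simp_rw [this]
    exact hQ _
  have key2 : ∀ z : Q, ∏ i ∈ Finset.Ico 1 r, φ ((z : H)⁻¹ * x ^ i * z) a = a⁻¹ := by
    intro z
    have h1 : ∀ i ∈ Finset.Ico 1 r, φ ((z : H)⁻¹ * x ^ i * z) a = φ ((z : H)⁻¹) (φ (x ^ i) (φ z a)) := by
      intro i _
      rw [map_mul, map_mul]; rfl
    rw [Finset.prod_congr rfl h1, ← map_prod]
    have h2 : ∏ i ∈ Finset.Ico 1 r, φ (x ^ i) (φ z a) = (φ z a)⁻¹ := by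
      have h3 := hX (φ z a)
      rw [Finset.range_eq_Ico, Finset.prod_eq_prod_Ico_succ_bot hr, pow_zero, map_one] at h3
      exact eq_inv_of_mul_eq_one_right h3
    rw [h2, map_inv, ← MulAut.mul_apply, ← map_mul, inv_mul_cancel, map_one]
    rfl
  rw [Finset.prod_comm, Finset.prod_congr rfl (fun z _ => key2 z), Finset.prod_const, Finset.card_univ] at key1
  have h5 : (a⁻¹ : A) = 1 := htor _ (by rw [Nat.card_eq_fintype_card]; exact key1)
  exact inv_eq_one.mp h5

/-- The case of a normal `p`-subgroup. -/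
theorem normal_case {G : Type*} [Group G] [Finite G] (P M : Subgroup G) [P.Normal] [M.Normal]
    (p q r : ℕ) (hp : p.Prime) (hq : q.Prime) (hr : r.Prime) (hpq : p ≠ q) (hpr : p ≠ r) (hqr : q ≠ r)
    (hP : IsPGroup p P) (hP1 : P ≠ ⊥) (hqM : q ∣ Nat.card M) (hrM : r ∣ M.index) :
    (∃ x : G, orderOf x = p * q) ∨ (∃ x : G, orderOf x = p * r) ∨ (∃ x : G, orderOf x = q * r) := by
  classical
  by_contra hcon
  push Not at hcon
  obtain ⟨hnpq, hnpr, hnqr⟩ := hcon
  have := Fact.mk hp
  have := Fact.mk hq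
  have := Fact.mk hr
  -- a Sylow `q`-subgroup of `M`
  obtain ⟨Q⟩ : Nonempty (Sylow q M) := inferInstance
  set Q' : Subgroup G := (Q : Subgroup M).map M.subtype with hQ'
  have hfr : Subgroup.normalizer (Q' : Set G) ⊔ M = ⊤ := Q.normalizer_sup_eq_top
  have hrN : r ∣ Nat.card (Subgroup.normalizer (Q' : Set G)) := by
    have h1 : M.relIndex (Subgroup.normalizer (Q' : Set G)) = M.index := by
      rw [← Subgroup.relIndex_sup_right, hfr, Subgroup.relIndex_top_right]
    rw [← h1] at hrM
    exact hrM.trans (Subgroup.relIndex_dvd_card _ _)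
  obtain ⟨⟨x, hxN⟩, hx⟩ := exists_prime_orderOf_dvd_card' r hrN
  rw [Subgroup.orderOf_mk] at hx
  have hQp : IsPGroup q Q' := Q.isPGroup'.map M.subtype
  have hQcard : Nat.card Q' ≠ 1 := by
    intro h
    have h1 : Nat.card (Q : Subgroup M) = 1 := by
      rw [← h]
      exact (Nat.card_congr ((Q : Subgroup M).equivMapOfInjective M.subtype M.subtype_injective).toEquiv)
    have := Q.card_eq_multiplicity
    have h3 : q ∣ Nat.card (Q : Subgroup M) := Q.dvd_card_of_dvd_card hqM
    rw [h1] at h3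
    exact hq.one_lt.ne' (Nat.dvd_one.mp h3)
  -- the centre of `P`
  set V : Subgroup G := (Subgroup.center P).map P.subtype with hV
  have : V.Normal := inferInstance
  have hVP : V ≤ P := by
    rw [hV]; exact Subgroup.map_subtype_le _
  have hVcomm : ∀ a b : V, a * b = b * a := by
    rintro ⟨a, ha⟩ ⟨b, hb⟩
    obtain ⟨a', ha', rfl⟩ := ha
    obtain ⟨b', hb', rfl⟩ := hb
    apply Subtype.ext
    show (a' : G) * (b' : G) = b' * a'
    have := Subgroup.mem_center_iff.mp ha' b'
    rw [← Subgroup.coe_mul, ← Subgroup.coe_mul, this]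
  let _ : CommGroup V := { (inferInstance : Group V) with mul_comm := hVcomm }
  have hVp : IsPGroup p V := hP.to_le hVP
  have hVne : V ≠ ⊥ := by
    intro h
    have : Nontrivial P := (Subgroup.nontrivial_iff_ne_bot P).mpr hP1
    have h1 := hP.center_nontrivial
    rw [hV, Subgroup.map_eq_bot_iff_of_injective _ P.subtype_injective] at h
    exact (Subgroup.nontrivial_iff_ne_bot _).mp h1 h
  -- orders of non-trivial elements
  have hord : ∀ (s : ℕ) (hs : s.Prime) (S : Subgroup G), IsPGroup s S → ∀ y ∈ S, y ≠ 1 → s ∣ orderOf y := by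
    intro s hs S hS y hy hy1
    have := Fact.mk hs
    obtain ⟨k, hk⟩ := (IsPGroup.iff_orderOf.mp hS) ⟨y, hy⟩
    rw [Subgroup.orderOf_mk] at hk
    rw [hk]
    apply dvd_pow_self
    rintro rfl
    rw [pow_zero, orderOf_eq_one_iff] at hk
    exact hy1 hk
  have hpos : ∀ y : G, 0 < orderOf y := fun y => orderOf_pos y
  let φ : G →* MulAut V := MulAut.conjNormal
  have hφ : ∀ (g : G) (v : V), φ g v = v → Commute g v := by
    intro g v h
    have h1 : g * v * g⁻¹ = v := by
      have := congrArg Subtype.val h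
      rwa [MulAut.conjNormal_apply] at this
    show g * v = v * g
    calc g * (v : G) = (g * v * g⁻¹) * g := by group
      _ = v * g := by rw [h1]
  have hall : ∀ a : V, a = 1 := by
    refine frobenius_fixed φ Q' x r hr.pos ?_ ?_ ?_ ?_ ?_ ?_
    · rw [← hx]; exact pow_orderOf_eq_one x
    · intro y hy
      exact (Subgroup.mem_normalizer_iff.mp hxN y).mp hy
    · intro i hi0 hir y hy hc
      by_contra hy1
      have h1 : orderOf (x ^ i) = r := by
        have : r.Coprime i := Nat.coprime_of_lt_prime hi0.ne' hir hr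
        rw [← hx] at this ⊢
        exact this.orderOf_pow
      obtain ⟨z, hz⟩ := exists_orderOf_mul hc.symm hq hr hqr (hpos _) (hpos _)
        (hord q hq Q' hQp y hy hy1) (by rw [h1])
      exact hnqr z hz
    · intro a ha
      by_contra ha1
      have hQne : Q' ≠ ⊥ := by
        intro h
        apply hQcard
        rw [h]; simp
      obtain ⟨⟨y, hy⟩, hy2⟩ := Subgroup.ne_bot_iff_exists_ne_one.mp hQne
      have hy1 : y ≠ 1 := fun h => hy2 (Subtype.ext h)
      have hc := hφ y a (ha y hy)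
      have ha1' : (a : G) ≠ 1 := fun h => ha1 (Subtype.ext h)
      obtain ⟨z, hz⟩ := exists_orderOf_mul hc.symm hp hq hpq (hpos _) (hpos _)
        (hord p hp V hVp a a.2 ha1') (hord q hq Q' hQp y hy hy1)
      exact hnpq z hz
    · intro a ha
      by_contra ha1
      have hc := hφ x a ha
      have ha1' : (a : G) ≠ 1 := fun h => ha1 (Subtype.ext h)
      obtain ⟨z, hz⟩ := exists_orderOf_mul hc.symm hp hr hpr (hpos _) (hpos _)
        (hord p hp V hVp a a.2 ha1') (by rw [hx])
      exact hnpr z hz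
    · intro a ha
      by_contra ha1
      have ha1' : (a : G) ≠ 1 := fun h => ha1 (Subtype.ext h)
      have h1 := hord p hp V hVp a a.2 ha1'
      have h2 : orderOf (a : G) ∣ Nat.card Q' := by
        rw [Subgroup.orderOf_coe]
        exact orderOf_dvd_of_pow_eq_one ha
      obtain ⟨n, hn⟩ := (IsPGroup.iff_card.mp hQp)
      rw [hn] at h2
      have h3 := hp.dvd_of_dvd_pow (h1.trans h2)
      exact hpq ((Nat.prime_dvd_prime_iff_eq hp hq).mp h3)
  apply hVne
  rw [eq_bot_iff]
  intro v hv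
  have := hall ⟨v, hv⟩
  rw [Subgroup.mem_bot]
  exact congrArg Subtype.val this

/-- Let G be a finite group with normal subgroups K ≤ M, and let p, q, r be distinct primes with p dividing the order of K, q dividing the order of M/K and r dividing the order of G/M. Then p, q, r are not pairwise non-adjacent in the prime graph of G: G has an element of order pq, pr or qr. -/
theorem result {G : Type*} [Group G] [Finite G] (K M : Subgroup G) [K.Normal] [M.Normal] (hKM : K ≤ M)
    (p q r : ℕ) (hp : p.Prime) (hq : q.Prime) (hr : r.Prime) (hpq : p ≠ q) (hpr : p ≠ r) (hqr : q ≠ r)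
    (hpK : p ∣ Nat.card ↥K) (hqM : q ∣ Nat.card ↥M / Nat.card ↥K) (hrG : r ∣ Nat.card G / Nat.card ↥M) :
    (∃ x : G, orderOf x = p * q) ∨ (∃ x : G, orderOf x = p * r) ∨ (∃ x : G, orderOf x = q * r) := by
  classical
  have := Fact.mk hp
  obtain ⟨P⟩ : Nonempty (Sylow p K) := inferInstance
  set P' : Subgroup G := (P : Subgroup K).map K.subtype with hP'
  set N : Subgroup G := Subgroup.normalizer (P' : Set G) with hN
  have hfr : N ⊔ K = ⊤ := P.normalizer_sup_eq_top
  have hP'N : P' ≤ N := Subgroup.le_normalizer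
  have hP'p : IsPGroup p P' := P.isPGroup'.map K.subtype
  have hP'ne : P' ≠ ⊥ := by
    intro h
    have h3 : p ∣ Nat.card (P : Subgroup K) := P.dvd_card_of_dvd_card hpK
    rw [hP', Subgroup.map_eq_bot_iff_of_injective _ K.subtype_injective] at h
    rw [h, Subgroup.card_bot] at h3
    exact hp.one_lt.ne' (Nat.dvd_one.mp h3)
  have hindex : Nat.card G / Nat.card M = M.index := by
    rw [← M.card_mul_index, Nat.mul_div_cancel_left _ Nat.card_pos]
  have hrel : Nat.card M / Nat.card K = K.relIndex M := by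
    have h1 : Nat.card K * K.relIndex M = Nat.card M := by
      have := (⊥ : Subgroup G).relIndex_mul_relIndex K M bot_le hKM
      rwa [Subgroup.relIndex_bot_left, Subgroup.relIndex_bot_left] at this
    rw [← h1, Nat.mul_div_cancel_left _ Nat.card_pos]
  -- facts about `M ∩ N`
  have hr' : r ∣ (M.subgroupOf N).index := by
    have h1 : M.relIndex N = M.index := by
      have hNM : N ⊔ M = ⊤ := by
        rw [eq_top_iff, ← hfr]
        exact sup_le_sup_left hKM N
      rw [← Subgroup.relIndex_sup_right, hNM, Subgroup.relIndex_top_right]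
    show r ∣ M.relIndex N
    rw [h1, ← hindex]; exact hrG
  have hq' : q ∣ Nat.card (M.subgroupOf N) := by
    have h1 : (M ⊓ N) ⊔ K = M := by
      apply le_antisymm
      · exact sup_le inf_le_left hKM
      · intro m hm
        have : m ∈ N ⊔ K := by rw [hfr]; trivial
        rw [Subgroup.mem_sup_of_normal_right] at this
        obtain ⟨n, hn, k, hk, rfl⟩ := this
        have hnM : n ∈ M := by
          have := M.mul_mem hm (M.inv_mem (hKM hk))
          simpa using this
        exact Subgroup.mul_mem_sup ⟨hnM, hn⟩ hk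
    have h2 : K.relIndex M = K.relIndex (M ⊓ N) := by
      conv_lhs => rw [← h1]
      exact Subgroup.relIndex_sup_right _ _
    have h3 : q ∣ Nat.card (M ⊓ N : Subgroup G) := by
      rw [hrel, h2] at hqM
      exact hqM.trans (Subgroup.relIndex_dvd_card _ _)
    have h4 : Nat.card (M.subgroupOf N) = Nat.card (M ⊓ N : Subgroup G) := by
      rw [← Subgroup.inf_subgroupOf_right M N]
      exact Nat.card_congr (Subgroup.subgroupOfEquivOfLe inf_le_right).toEquiv
    rw [h4]; exact h3
  have hPn : (P'.subgroupOf N).Normal := by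
    rw [hN]; infer_instance
  have hPp : IsPGroup p (P'.subgroupOf N) := hP'p.comap_subtype
  have hPne : P'.subgroupOf N ≠ ⊥ := by
    intro h
    rw [Subgroup.subgroupOf_eq_bot] at h
    exact hP'ne (h.eq_bot_of_le hP'N)
  have := normal_case (P'.subgroupOf N) (M.subgroupOf N) p q r hp hq hr hpq hpr hqr hPp hPne hq' hr'
  rcases this with ⟨x, hx⟩ | ⟨x, hx⟩ | ⟨x, hx⟩
  · exact Or.inl ⟨x, by rw [Subgroup.orderOf_coe]; exact hx⟩
  · exact Or.inr (Or.inl ⟨x, by rw [Subgroup.orderOf_coe]; exact hx⟩)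
  · exact Or.inr (Or.inr ⟨x, by rw [Subgroup.orderOf_coe]; exact hx⟩)

end Cfsg.Agent.S3634
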