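import Cfsg.Statements.S3633
import Cfsg.Agent.S3634
import Mathlib
-- import your own Cfsg.Agent.* helpers here

set_option autoImplicit false
open Cfsg

namespace Cfsg.Agent.S3633

open scoped commutatorElement

/-- A non-trivial solvable normal subgroup `L` of `G` has a normal subgroup of `G` of index a power of a prime in it. -/
theorem exists_step {G : Type*} [Group G] [Finite G] (L : Subgroup G) [L.Normal] (hL : Group.IsSolvable ↥L)
    (hne : L ≠ ⊥) :
    ∃ (L' : Subgroup G) (t k : ℕ), L'.Normal ∧ L' < L ∧ t.Prime ∧ Nat.card L = Nat.card L' * t ^ k := by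
  classical
  have hnt : Nontrivial L := (Subgroup.nontrivial_iff_ne_bot L).mpr hne
  have hlt := Group.IsSolvable.commutator_lt_top_of_nontrivial L
  have hD : ⁅L, L⁆ < L := by
    refine lt_of_le_of_ne (Subgroup.commutator_le_right L L) ?_
    intro h
    apply hlt.ne
    apply Subgroup.map_injective L.subtype_injective
    rw [commutator_def, Subgroup.map_commutator, ← MonoidHom.range_eq_map, Subgroup.range_subtype, h]
  let S : Set (Subgroup G) := {N | N.Normal ∧ ⁅L, L⁆ ≤ N ∧ N < L}
  have hSne : S.Nonempty := ⟨⁅L, L⁆, inferInstance, le_refl _, hD⟩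
  obtain ⟨L', hL'⟩ := (Set.toFinite S).exists_maximal hSne
  obtain ⟨⟨hN, hDL, hlt'⟩, hmax⟩ := hL'
  have hcomm : ∀ a ∈ L, ∀ b ∈ L, ⁅a, b⁆ ∈ L' := fun a ha b hb => hDL (Subgroup.commutator_mem_commutator ha hb)
  have hrel : Nat.card L' * L'.relIndex L = Nat.card L := by
    have := (⊥ : Subgroup G).relIndex_mul_relIndex L' L bot_le hlt'.le
    rwa [Subgroup.relIndex_bot_left, Subgroup.relIndex_bot_left] at this
  have hrel1 : L'.relIndex L ≠ 1 := by
    intro h
    rw [Subgroup.relIndex_eq_one] at h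
    exact absurd h (not_le_of_gt hlt')
  obtain ⟨t, ht, htd⟩ := Nat.exists_prime_and_dvd hrel1
  have hfact := Fact.mk ht
  -- commuting modulo `L'`
  have hquot : ∀ a b : L ⧸ (L'.subgroupOf L), a * b = b * a := by
    intro a b
    obtain ⟨a, rfl⟩ := QuotientGroup.mk_surjective a
    obtain ⟨b, rfl⟩ := QuotientGroup.mk_surjective b
    rw [← QuotientGroup.mk_mul, ← QuotientGroup.mk_mul, QuotientGroup.eq]
    rw [Subgroup.mem_subgroupOf]
    have h := hcomm _ (L.inv_mem b.2) _ (L.inv_mem a.2)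
    have h2 : (((a * b)⁻¹ * (b * a) : L) : G) = ⁅((b : G))⁻¹, ((a : G))⁻¹⁆ := by
      rw [commutatorElement_def]
      push_cast
      group
    rw [h2]; exact h
  let _ : CommGroup (L ⧸ (L'.subgroupOf L)) := { (inferInstance : Group (L ⧸ (L'.subgroupOf L))) with mul_comm := hquot }
  -- the elements whose `t`-th power is in `L'`
  let E : Subgroup G := ((powMonoidHom t : (L ⧸ (L'.subgroupOf L)) →* _).comp (QuotientGroup.mk' (L'.subgroupOf L))).ker.map L.subtype
  have hE : ∀ x, x ∈ E ↔ x ∈ L ∧ x ^ t ∈ L' := by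
    intro x
    constructor
    · rintro ⟨y, hy, rfl⟩
      refine ⟨y.2, ?_⟩
      have h1 : (QuotientGroup.mk' (L'.subgroupOf L) y) ^ t = 1 := hy
      rw [← map_pow, QuotientGroup.mk'_apply, QuotientGroup.eq_one_iff] at h1
      exact h1
    · rintro ⟨hx, hxt⟩
      refine ⟨⟨x, hx⟩, ?_, rfl⟩
      show (QuotientGroup.mk' (L'.subgroupOf L) ⟨x, hx⟩) ^ t = 1
      rw [← map_pow, QuotientGroup.mk'_apply, QuotientGroup.eq_one_iff]
      exact hxt
  have hEn : E.Normal := by
    refine ⟨fun x hx g => ?_⟩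
    rw [hE] at hx ⊢
    refine ⟨Subgroup.Normal.conj_mem inferInstance x hx.1 g, ?_⟩
    rw [conj_pow]
    exact Subgroup.Normal.conj_mem inferInstance _ hx.2 g
  have hEL : E ≤ L := fun x hx => ((hE x).mp hx).1
  have hL'E : L' < E := by
    refine lt_of_le_of_ne (fun x hx => (hE x).mpr ⟨hlt'.le hx, L'.pow_mem hx t⟩) ?_
    intro h
    have hcard : t ∣ Nat.card (L ⧸ (L'.subgroupOf L)) := htd
    obtain ⟨z, hz⟩ := exists_prime_orderOf_dvd_card' t hcard
    obtain ⟨z, rfl⟩ := QuotientGroup.mk_surjective z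
    have hz1 : (z : G) ^ t ∈ L' := by
      have := pow_orderOf_eq_one (QuotientGroup.mk z : L ⧸ (L'.subgroupOf L))
      rw [hz, ← QuotientGroup.mk_pow, QuotientGroup.eq_one_iff] at this
      exact this
    have hz2 : (z : G) ∈ L' := by
      rw [h, hE]
      exact ⟨z.2, hz1⟩
    have hz3 : (QuotientGroup.mk z : L ⧸ (L'.subgroupOf L)) = 1 := (QuotientGroup.eq_one_iff z).mpr hz2
    rw [hz3, orderOf_one] at hz
    exact ht.one_lt.ne hz
  have hEeq : E = L := by
    by_contra hne'
    have hEin : E ∈ S := ⟨hEn, hDL.trans hL'E.le, lt_of_le_of_ne hEL hne'⟩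
    exact absurd (hmax hEin hL'E.le) (not_le_of_gt hL'E)
  have hpg : IsPGroup t (L ⧸ (L'.subgroupOf L)) := by
    intro z
    obtain ⟨z, rfl⟩ := QuotientGroup.mk_surjective z
    refine ⟨1, ?_⟩
    rw [pow_one, ← QuotientGroup.mk_pow, QuotientGroup.eq_one_iff]
    have : (z : G) ∈ E := by rw [hEeq]; exact z.2
    exact ((hE _).mp this).2
  obtain ⟨k, hk⟩ := IsPGroup.iff_card.mp hpg
  refine ⟨L', t, k, hN, hlt', ht, ?_⟩
  rw [← hrel]
  show _ * Nat.card (L ⧸ (L'.subgroupOf L)) = _
  rw [hk]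

theorem main {G : Type*} [Group G] [Finite G] (ρ : Finset ℕ) (hρ : 3 ≤ ρ.card) (hc : ((∀ r ∈ ρ, r.Prime ∧ r ∣ Nat.card G) ∧ (∀ r ∈ ρ, ∀ s ∈ ρ, r ≠ s → ¬ ∃ x : G, orderOf x = r * s)))
    (n : ℕ) : ∀ (K : Subgroup G) [K.Normal], Group.IsSolvable ↥K → Nat.card K ≤ n →
    (∀ r ∈ ρ, ∀ s ∈ ρ, r ∣ Nat.card ↥K → s ∣ Nat.card ↥K → r = s) := by
  induction n with
  | zero =>
    intro K _ _ h
    have : 0 < Nat.card K := Nat.card_pos
    omega
  | succ n ih =>
    intro L _ hL hcard
    by_cases hne : L = ⊥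
    · intro r hr s hs hrL hsL
      rw [hne, Subgroup.card_bot] at hrL
      exact absurd (Nat.dvd_one.mp hrL) (hc.1 r hr).1.one_lt.ne'
    obtain ⟨L', t, k, hN, hlt, ht, hcd⟩ := exists_step L hL hne
    have hlt2 : Nat.card L' < Nat.card L := by
      apply lt_of_le_of_ne (Nat.card_mono (Set.toFinite _) hlt.le)
      intro h
      exact hlt.ne (Subgroup.eq_of_le_of_card_ge hlt.le h.ge)
    have hsol : Group.IsSolvable L' := by
      have := hL
      exact Group.isSolvable_of_isSolvable_injective (Subgroup.inclusion_injective hlt.le)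
    have ihL := ih L' hsol (by omega)
    have hpos : 0 < Nat.card L' := Nat.card_pos
    -- the key step, with `r ≠ t`
    have key : ∀ r ∈ ρ, ∀ s ∈ ρ, r ∣ Nat.card ↥L → s ∣ Nat.card ↥L → r ≠ s → r ≠ t → False := by
      intro r hr s hs hrL hsL hrs hrt
      have hrp := (hc.1 r hr).1
      have hsp := (hc.1 s hs).1
      have hrL' : r ∣ Nat.card L' := by
        rw [hcd] at hrL
        rcases (Nat.Prime.dvd_mul hrp).mp hrL with h | h
        · exact h
        · exact absurd ((Nat.prime_dvd_prime_iff_eq hrp ht).mp (hrp.dvd_of_dvd_pow h)) hrt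
      have hsL' : ¬ s ∣ Nat.card L' := fun h => hrs (ihL r hr s hs hrL' h)
      have hst : s ∣ t ^ k := by
        rw [hcd] at hsL
        exact ((Nat.Prime.dvd_mul hsp).mp hsL).resolve_left hsL'
      have hst' : s = t := (Nat.prime_dvd_prime_iff_eq hsp ht).mp (hsp.dvd_of_dvd_pow hst)
      obtain ⟨u, hu, hur, hus⟩ : ∃ u ∈ ρ, u ≠ r ∧ u ≠ s := by
        by_contra hcon
        push Not at hcon
        have hsub : ρ ⊆ {r, s} := by
          intro u hu
          rw [Finset.mem_insert, Finset.mem_singleton]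
          by_cases h : u = r
          · exact Or.inl h
          · exact Or.inr (hcon u hu h)
        have := Finset.card_le_card hsub
        have h2 : ({r, s} : Finset ℕ).card ≤ 2 := Finset.card_le_two
        omega
      have hup := (hc.1 u hu).1
      have huL : ¬ u ∣ Nat.card L := by
        rw [hcd]
        intro h
        rcases (Nat.Prime.dvd_mul hup).mp h with h | h
        · exact hur (ihL u hu r hr h hrL')
        · exact hus (by rw [hst']; exact (Nat.prime_dvd_prime_iff_eq hup ht).mp (hup.dvd_of_dvd_pow h))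
      have huG : u ∣ Nat.card G / Nat.card L := by
        have h1 := (hc.1 u hu).2
        have h2 : Nat.card G = Nat.card L * L.index := L.card_mul_index.symm
        rw [h2, Nat.mul_div_cancel_left _ Nat.card_pos]
        rw [h2] at h1
        exact ((Nat.Prime.dvd_mul hup).mp h1).resolve_left huL
      have hsq : s ∣ Nat.card L / Nat.card L' := by
        rw [hcd, Nat.mul_div_cancel_left _ hpos]
        exact hst
      rcases Cfsg.Agent.S3634.result L' L hlt.le r s u hrp hsp hup hrs (Ne.symm hur) (Ne.symm hus) hrL' hsq huG with h | h | h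
      · exact hc.2 r hr s hs hrs h
      · exact hc.2 r hr u hu (Ne.symm hur) h
      · exact hc.2 s hs u hu (Ne.symm hus) h
    intro r hr s hs hrL hsL
    by_contra hrs
    by_cases hrt : r = t
    · exact key s hs r hr hsL hrL (Ne.symm hrs) (fun h => hrs (hrt.trans h.symm))
    · exact key r hr s hs hrL hsL hrs hrt

/-- Let G be a finite group and ρ a set of at least three prime divisors of the order of G that are pairwise non-adjacent in the prime graph (no element of order rs for distinct r, s ∈ ρ). Then at most one prime of ρ divides the order of any given solvable normal subgroup of G; in particular G is not solvable. -/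
theorem result {G : Type*} [Group G] [Finite G] (ρ : Finset ℕ) (hρ : 3 ≤ ρ.card) (hc : ((∀ r ∈ ρ, r.Prime ∧ r ∣ Nat.card G) ∧ (∀ r ∈ ρ, ∀ s ∈ ρ, r ≠ s → ¬ ∃ x : G, orderOf x = r * s)))
    (K : Subgroup G) [K.Normal] (hK : Group.IsSolvable ↥K) :
    (∀ r ∈ ρ, ∀ s ∈ ρ, r ∣ Nat.card ↥K → s ∣ Nat.card ↥K → r = s) ∧ ¬ Group.IsSolvable G := by
  refine ⟨main ρ hρ hc _ K hK le_rfl, ?_⟩
  intro hG
  have hsol : Group.IsSolvable (⊤ : Subgroup G) := inferInstance
  have := main ρ hρ hc _ ⊤ hsol le_rfl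
  obtain ⟨r, hr, s, hs, hrs⟩ := Finset.one_lt_card.mp (by omega : 1 < ρ.card)
  apply hrs
  apply this r hr s hs
  · rw [Subgroup.card_top]; exact (hc.1 r hr).2
  · rw [Subgroup.card_top]; exact (hc.1 s hs).2

end Cfsg.Agent.S3633
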