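import Cfsg.Statements.S2507
import Cfsg.Agent.Lib.PSL2ClassSize

set_option autoImplicit false
open Cfsg

namespace Cfsg.Agent.S2507

open Cfsg.Agent.Lib.PSL2ClassSize Cfsg.Agent.Lib.SL2Basic Cfsg.Agent.Lib.SL2Tori

/-- Let F be a finite field with q = 2^f ≥ 4 elements. The conjugacy class sizes of PSL(2,F) are exactly 1, q(q − 1), q² − 1 and q(q + 1). -/
theorem result {F : Type*} [Field F] [Fintype F]
    (h2 : 2 ∣ Fintype.card F) (h4 : 4 ≤ Fintype.card F) :
    Set.range (fun g : (Matrix.ProjectiveSpecialLinearGroup (Fin 2) F) => (Subgroup.centralizer ({g} : Set (Matrix.ProjectiveSpecialLinearGroup (Fin 2) F))).index) =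
      {1, Fintype.card F * (Fintype.card F - 1), Fintype.card F ^ 2 - 1, Fintype.card F * (Fintype.card F + 1)} := by
  have h20 : (2 : F) = 0 := by
    obtain ⟨k, hk⟩ := h2
    have h1 : ((Fintype.card F : ℕ) : F) = 0 := Nat.cast_card_eq_zero F
    obtain ⟨p, hp⟩ := CharP.exists F
    have : Fact p.Prime := ⟨CharP.char_is_prime F p⟩
    obtain ⟨n, _, hn⟩ := FiniteField.card F p
    have h3 : 2 ∣ p ^ (n : ℕ) := by rw [← hn]; exact ⟨k, hk⟩
    have h5 := Nat.prime_two.dvd_of_dvd_pow h3
    have h6 := (Nat.prime_dvd_prime_iff_eq Nat.prime_two (Fact.out : p.Prime)).1 h5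
    subst h6
    exact_mod_cast CharP.cast_eq_zero F 2
  ext n
  simp only [Set.mem_range, Set.mem_insert_iff, Set.mem_singleton_iff]
  constructor
  · rintro ⟨g, rfl⟩
    induction g using QuotientGroup.induction_on with
    | H A =>
      by_cases hA : A ∈ Subgroup.center (Matrix.SpecialLinearGroup (Fin 2) F)
      · left; exact index_center hA
      by_cases ht : tr A ^ 2 = 4
      · right; right; left; exact index_unip_two h20 hA ht
      by_cases hr : ∀ x : F, x ^ 2 - tr A * x + 1 ≠ 0
      · right; left; exact index_no_root_ne (Or.inl h20) hr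
      · push Not at hr
        obtain ⟨c, hc⟩ := hr
        right; right; right; exact index_root_ne (Or.inl h20) ht hc
  · rintro (rfl | rfl | rfl | rfl)
    · exact ⟨QuotientGroup.mk 1, index_center (one_mem _)⟩
    · obtain ⟨t, _, hr⟩ := exists_no_root (F := F) h4
      obtain ⟨A, hA, hAt⟩ := exists_tr t
      exact ⟨QuotientGroup.mk A, index_no_root_ne (Or.inl h20) (by rw [hAt]; exact hr)⟩
    · obtain ⟨A, hA, hAt⟩ := exists_tr (2 : F)
      exact ⟨QuotientGroup.mk A, index_unip_two h20 hA (by rw [hAt]; ring)⟩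
    · obtain ⟨t, c, h1, hc, _⟩ := exists_root (F := F) (Or.inr ⟨h20, h4⟩)
      obtain ⟨A, hA, hAt⟩ := exists_tr t
      exact ⟨QuotientGroup.mk A, index_root_ne (Or.inl h20) (by rw [hAt]; exact h1) (c := c) (by rw [hAt]; exact hc)⟩

end Cfsg.Agent.S2507
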