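import Cfsg.Statements.S2508
import Cfsg.Agent.Lib.PSL2ClassSize

set_option autoImplicit false
open Cfsg

namespace Cfsg.Agent.S2508

open Cfsg.Agent.Lib.PSL2ClassSize Cfsg.Agent.Lib.SL2Basic Cfsg.Agent.Lib.SL2Tori

/-- Let F be a finite field with q ≥ 7 elements, q odd. -/
theorem result {F : Type*} [Field F] [Fintype F]
    (hodd : ¬ 2 ∣ Fintype.card F) (h7 : 7 ≤ Fintype.card F) :
    (Fintype.card F % 4 = 1 →
      Set.range (fun g : (Matrix.ProjectiveSpecialLinearGroup (Fin 2) F) => (Subgroup.centralizer ({g} : Set (Matrix.ProjectiveSpecialLinearGroup (Fin 2) F))).index) =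
        {1, (Fintype.card F ^ 2 - 1) / 2, Fintype.card F * (Fintype.card F + 1) / 2,
          Fintype.card F * (Fintype.card F - 1), Fintype.card F * (Fintype.card F + 1)}) ∧
    (Fintype.card F % 4 = 3 →
      Set.range (fun g : (Matrix.ProjectiveSpecialLinearGroup (Fin 2) F) => (Subgroup.centralizer ({g} : Set (Matrix.ProjectiveSpecialLinearGroup (Fin 2) F))).index) =
        {1, (Fintype.card F ^ 2 - 1) / 2, Fintype.card F * (Fintype.card F - 1) / 2,
          Fintype.card F * (Fintype.card F + 1), Fintype.card F * (Fintype.card F - 1)}) := by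
  have h20 : (2 : F) ≠ 0 := by
    intro h
    apply hodd
    obtain ⟨p, hp⟩ := CharP.exists F
    have : Fact p.Prime := ⟨CharP.char_is_prime F p⟩
    have h1 : ((2 : ℕ) : F) = 0 := by exact_mod_cast h
    have h2 := (CharP.cast_eq_zero_iff F p 2).1 h1
    have h6 := (Nat.prime_dvd_prime_iff_eq (Fact.out : p.Prime) Nat.prime_two).1 h2
    subst h6
    obtain ⟨n, _, hn⟩ := FiniteField.card F 2
    rw [hn]
    exact dvd_pow_self _ n.ne_zero
  constructor
  · intro hq
    have hsq : IsSquare (-1 : F) := FiniteField.isSquare_neg_one_iff.2 (by omega)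
    obtain ⟨i, hi⟩ := hsq
    ext n
    simp only [Set.mem_range, Set.mem_insert_iff, Set.mem_singleton_iff]
    constructor
    · rintro ⟨g, rfl⟩
      induction g using QuotientGroup.induction_on with
      | H A =>
        by_cases hA : A ∈ Subgroup.center (Matrix.SpecialLinearGroup (Fin 2) F)
        · left; exact index_center hA
        by_cases ht : tr A ^ 2 = 4
        · right; left; exact index_unip_odd h20 hA ht
        by_cases h0 : tr A = 0
        · right; right; left
          exact index_root_zero h20 h0 (c := i) (by rw [h0]; linear_combination -hi)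
        by_cases hr : ∀ x : F, x ^ 2 - tr A * x + 1 ≠ 0
        · right; right; right; left; exact index_no_root_ne (Or.inr h0) hr
        · push Not at hr
          obtain ⟨c, hc⟩ := hr
          right; right; right; right; exact index_root_ne (Or.inr h0) ht hc
    · rintro (rfl | rfl | rfl | rfl | rfl)
      · exact ⟨QuotientGroup.mk 1, index_center (one_mem _)⟩
      · obtain ⟨A, hA, hAt⟩ := exists_tr (2 : F)
        exact ⟨QuotientGroup.mk A, index_unip_odd h20 hA (by rw [hAt]; ring)⟩
      · obtain ⟨A, hA, hAt⟩ := exists_tr (0 : F)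
        exact ⟨QuotientGroup.mk A, index_root_zero h20 hAt (c := i) (by rw [hAt]; linear_combination -hi)⟩
      · obtain ⟨t, h0, hr⟩ := exists_no_root (F := F) (by omega)
        obtain ⟨A, hA, hAt⟩ := exists_tr t
        exact ⟨QuotientGroup.mk A, index_no_root_ne (Or.inr (by rw [hAt]; exact h0)) (by rw [hAt]; exact hr)⟩
      · obtain ⟨t, c, h1, hc, h0⟩ := exists_root (F := F) (Or.inl h7)
        obtain ⟨A, hA, hAt⟩ := exists_tr t
        exact ⟨QuotientGroup.mk A, index_root_ne (Or.inr (by rw [hAt]; exact h0)) (by rw [hAt]; exact h1) (c := c)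
          (by rw [hAt]; exact hc)⟩
  · intro hq
    have hsq : ¬ IsSquare (-1 : F) := fun h => FiniteField.isSquare_neg_one_iff.1 h hq
    have hno : ∀ x : F, x ^ 2 - 0 * x + 1 ≠ 0 := by
      intro x hx
      exact hsq ⟨x, by linear_combination -hx⟩
    ext n
    simp only [Set.mem_range, Set.mem_insert_iff, Set.mem_singleton_iff]
    constructor
    · rintro ⟨g, rfl⟩
      induction g using QuotientGroup.induction_on with
      | H A =>
        by_cases hA : A ∈ Subgroup.center (Matrix.SpecialLinearGroup (Fin 2) F)
        · left; exact index_center hA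
        by_cases ht : tr A ^ 2 = 4
        · right; left; exact index_unip_odd h20 hA ht
        by_cases h0 : tr A = 0
        · right; right; left
          exact index_no_root_zero h20 h0 (by rw [h0]; exact hno)
        by_cases hr : ∀ x : F, x ^ 2 - tr A * x + 1 ≠ 0
        · right; right; right; right; exact index_no_root_ne (Or.inr h0) hr
        · push Not at hr
          obtain ⟨c, hc⟩ := hr
          right; right; right; left; exact index_root_ne (Or.inr h0) ht hc
    · rintro (rfl | rfl | rfl | rfl | rfl)
      · exact ⟨QuotientGroup.mk 1, index_center (one_mem _)⟩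
      · obtain ⟨A, hA, hAt⟩ := exists_tr (2 : F)
        exact ⟨QuotientGroup.mk A, index_unip_odd h20 hA (by rw [hAt]; ring)⟩
      · obtain ⟨A, hA, hAt⟩ := exists_tr (0 : F)
        exact ⟨QuotientGroup.mk A, index_no_root_zero h20 hAt (by rw [hAt]; exact hno)⟩
      · obtain ⟨t, c, h1, hc, h0⟩ := exists_root (F := F) (Or.inl h7)
        obtain ⟨A, hA, hAt⟩ := exists_tr t
        exact ⟨QuotientGroup.mk A, index_root_ne (Or.inr (by rw [hAt]; exact h0)) (by rw [hAt]; exact h1) (c := c)
          (by rw [hAt]; exact hc)⟩
      · obtain ⟨t, h0, hr⟩ := exists_no_root (F := F) (by omega)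
        obtain ⟨A, hA, hAt⟩ := exists_tr t
        exact ⟨QuotientGroup.mk A, index_no_root_ne (Or.inr (by rw [hAt]; exact h0)) (by rw [hAt]; exact hr)⟩

end Cfsg.Agent.S2508
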