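import Cfsg.Statements.S2034
import Cfsg.Agent.Lib.MElevenInv
import Cfsg.Agent.Lib.SchurSylow

set_option autoImplicit false
open Cfsg

namespace Cfsg.Agent.S2034

open Cfsg.Agent.Lib.MElevenInv Cfsg.Agent.Lib.Golay Cfsg.Agent.Lib.SchurSylow

/-- code of the identity -/
def idc : ℕ := pack (fun i => i) 24

/-- powers of a code -/
def powC (c n : ℕ) : ℕ := Nat.rec (motive := fun _ => ℕ) idc (fun _ ih => mulC c ih) n

theorem valid_idc : valid idc = true := by decide +kernel

theorem toPerm_idc : toPerm idc = 1 := by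
  symm
  apply perm_eq_toPerm valid_idc
  intro p
  have : img idc (ix p) = ix p := by
    have h1 : allLt 24 (fun i => Nat.beq (img idc i) i) = true := by decide +kernel
    exact Nat.eq_of_beq_eq_true ((allLt_iff.1 h1) _ (ix_lt p))
  rw [this, pt_ix]
  rfl

theorem valid_powC {c : ℕ} (h : valid c = true) (n : ℕ) : valid (powC c n) = true := by
  induction n with
  | zero => exact valid_idc
  | succ n ih => exact valid_mulC h ih

theorem pow_val {c : ℕ} (h : inW c = true) (n : ℕ) : ((el c h) ^ n).1 = toPerm (powC c n) := by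
  induction n with
  | zero =>
    rw [pow_zero]
    exact toPerm_idc.symm
  | succ n ih =>
    rw [pow_succ']
    have h1 : (el c h * el c h ^ n).1 = toPerm c * (el c h ^ n).1 := rfl
    rw [h1, ih, ← toPerm_mulC (valid_W h) (valid_powC (valid_W h) n)]
    rfl

/-- elements are determined by codes -/
theorem pow_eq_pow {c d : ℕ} (hc : inW c = true) (hd : inW d = true) (m n : ℕ) (h : powC c m = powC d n) :
    el c hc ^ m = el d hd ^ n := by
  apply Subtype.ext
  rw [pow_val, pow_val, h]

theorem pow_ne_pow {c d : ℕ} (hc : inW c = true) (hd : inW d = true) (m n : ℕ)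
    (h : dif1 (powC c m) (powC d n) 24 = true) : el c hc ^ m ≠ el d hd ^ n := by
  intro h1
  obtain ⟨i, hi, h2⟩ := dif1_spec h
  have h3 := congrArg Subtype.val h1
  rw [pow_val, pow_val] at h3
  exact h2 (toPerm_injOn (valid_powC (valid_W hc) m) (valid_powC (valid_W hd) n) h3 i hi)

theorem pow_eq_one {c : ℕ} (hc : inW c = true) (n : ℕ) (h : powC c n = idc) : el c hc ^ n = 1 := by
  apply Subtype.ext
  rw [pow_val, h, toPerm_idc]
  rfl

theorem pow_ne_one {c : ℕ} (hc : inW c = true) (n : ℕ) (h : dif1 (powC c n) idc 24 = true) : el c hc ^ n ≠ 1 := by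
  intro h1
  obtain ⟨i, hi, h2⟩ := dif1_spec h
  have h3 := congrArg Subtype.val h1
  rw [pow_val] at h3
  have h4 : toPerm (powC c n) = toPerm idc := h3.trans toPerm_idc.symm
  exact h2 (toPerm_injOn (valid_powC (valid_W hc) n) valid_idc h4 i hi)

/-- `s r = r^k s` from codes -/
theorem conj_eq_pow {r s : ℕ} (hr : inW r = true) (hs : inW s = true) (k : ℕ)
    (h : mulC s r = mulC (powC r k) s) : el s hs * el r hr * (el s hs)⁻¹ = el r hr ^ k := by
  rw [mul_inv_eq_iff_eq_mul]
  apply Subtype.ext
  have h1 : (el s hs * el r hr).1 = toPerm s * toPerm r := rfl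
  have h2 : (el r hr ^ k * el s hs).1 = (el r hr ^ k).1 * toPerm s := rfl
  rw [h1, h2, pow_val, ← toPerm_mulC (valid_W hs) (valid_W hr), ← toPerm_mulC (valid_powC (valid_W hr) k) (valid_W hs), h]

/-- a group containing `r` and `s` with `s` normalizing `⟨r⟩`, `s^q ∈ ⟨r⟩`, `s ∉ ⟨r⟩` -/
theorem mul_dvd {G : Type*} [Group G] [Finite G] (H : Subgroup G) (r s : G) (hr : r ∈ H) (hs : s ∈ H) (q : ℕ)
    [Fact q.Prime] (k : ℕ) (hk : s * r * s⁻¹ = r ^ k) (hq : s ^ q = 1) (hns : s ∉ Subgroup.zpowers r) :
    q * orderOf r ∣ Nat.card H := by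
  let R : Subgroup G := Subgroup.zpowers r
  have hR : R ≤ H := by rw [Subgroup.zpowers_le]; exact hr
  have hsN : s ∈ Subgroup.normalizer (R : Set G) := by
    have h1 : R.map (MulAut.conj s).toMonoidHom ≤ R := by
      rw [MonoidHom.map_zpowers, Subgroup.zpowers_le]
      show s * r * s⁻¹ ∈ R
      rw [hk]
      exact Subgroup.pow_mem _ (Subgroup.mem_zpowers r) k
    have h2 : R.map (MulAut.conj s).toMonoidHom = R := by
      apply SetLike.coe_injective
      apply Set.eq_of_subset_of_ncard_le h1
      have : Nat.card (R.map (MulAut.conj s).toMonoidHom) = Nat.card R :=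
        (Nat.card_congr (R.equivMapOfInjective _ (MulAut.conj s).injective).toEquiv).symm
      rw [← Nat.card_coe_set_eq, ← Nat.card_coe_set_eq]
      exact this.symm.le
    rw [Subgroup.mem_normalizer_iff]
    intro x
    constructor
    · intro hx
      rw [← h2]
      exact ⟨x, hx, rfl⟩
    · intro hx
      rw [← h2] at hx
      obtain ⟨y, hy, hxy⟩ := hx
      have : y = x := (MulAut.conj s).injective hxy
      rwa [← this]
  let K : Subgroup G := H ⊓ Subgroup.normalizer (R : Set G)
  have hRK : R ≤ K := le_inf hR Subgroup.le_normalizer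
  let R' : Subgroup K := R.subgroupOf K
  have hN : R'.Normal := by
    refine ⟨fun n hn g => ?_⟩
    have hg : (g : G) ∈ Subgroup.normalizer (R : Set G) := g.2.2
    rw [Subgroup.mem_subgroupOf] at hn ⊢
    exact (Subgroup.mem_normalizer_iff.1 hg _).1 hn
  let s' : K := ⟨s, hs, hsN⟩
  have h3 : orderOf (QuotientGroup.mk s' : K ⧸ R') = q := by
    apply orderOf_eq_prime
    · rw [← QuotientGroup.mk_pow, QuotientGroup.eq_one_iff]
      have : s' ^ q = 1 := Subtype.ext hq
      rw [this]
      exact one_mem _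
    · rw [Ne, QuotientGroup.eq_one_iff, Subgroup.mem_subgroupOf]
      exact hns
  have h4 : q ∣ Nat.card (K ⧸ R') := h3 ▸ orderOf_dvd_natCard _
  have h5 := Subgroup.card_eq_card_quotient_mul_card_subgroup R'
  have h6 : Nat.card R' = orderOf r := by
    rw [Nat.card_congr (Subgroup.subgroupOfEquivOfLe hRK).toEquiv, Nat.card_zpowers]
  have h7 : q * orderOf r ∣ Nat.card K := by
    rw [h5, h6]
    exact Nat.mul_dvd_mul_right h4 _
  exact h7.trans (Subgroup.card_dvd_of_le inf_le_left)

/-- code of an involution inverting-ish the element of order eight -/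
def cs : ℕ := 944576703234065857180591671912828960

def cr3 : ℕ := 487607080158395075740321133224921120

def cs6 : ℕ := 796313199992319099645021490572887104

def cx5 : ℕ := 969222178033170032997141459473927200

def cx11 : ℕ := 217659858509939740509415197420686400

theorem cs_ok : inW cs = true := by decide +kernel

theorem cr3_ok : inW cr3 = true := by decide +kernel

theorem cs6_ok : inW cs6 = true := by decide +kernel

theorem cx5_ok : inW cx5 = true := by decide +kernel

theorem cx11_ok : inW cx11 = true := by decide +kernel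

theorem index_not_dvd {p : ℕ} (H : Subgroup W) (a b : ℕ) (hab : a * b = 7920) (ha : a ∣ Nat.card H) (hb : ¬ p ∣ b) :
    ¬ p ∣ H.index := by
  have h1 := H.card_mul_index
  rw [card_W] at h1
  intro h2
  obtain ⟨c, hc⟩ := ha
  have h3 : H.index ∣ b := by
    refine ⟨c, ?_⟩
    have h4 : a * (H.index * c) = a * b := by
      rw [hab, ← h1, hc]; ring
    have ha0 : 0 < a := Nat.pos_of_ne_zero (by rintro rfl; omega)
    exact (Nat.eq_of_mul_eq_mul_left ha0 h4).symm
  exact hb (h2.trans h3)

theorem top_of_closure {G : Type*} [Group G] (r s : G) :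
    Subgroup.closure {(⟨r, Subgroup.subset_closure (by simp)⟩ : Subgroup.closure ({r, s} : Set G)),
      ⟨s, Subgroup.subset_closure (by simp)⟩} = ⊤ := by
  have h := Subgroup.closure_closure_coe_preimage (k := ({r, s} : Set G))
  have h2 : ((Subtype.val : Subgroup.closure ({r, s} : Set G) → G) ⁻¹' ({r, s} : Set G)) =
      {(⟨r, Subgroup.subset_closure (by simp)⟩ : Subgroup.closure ({r, s} : Set G)),
      ⟨s, Subgroup.subset_closure (by simp)⟩} := by
    ext x
    simp only [Set.mem_preimage, Set.mem_insert_iff, Set.mem_singleton_iff, Subtype.ext_iff]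
  rw [← h2]
  exact h

theorem pstem_two : PStemDvd 2 W 1 := by
  have : Fact (Nat.Prime 2) := ⟨Nat.prime_two⟩
  let s := el cs cs_ok
  have hk : s * pe * s⁻¹ = pe ^ 3 := conj_eq_pow ga_ok cs_ok 3 (by decide +kernel)
  have hs2 : s ^ 2 = 1 := pow_eq_one cs_ok 2 (by decide +kernel)
  have hs1 : s ≠ 1 := by
    have := pow_ne_one cs_ok 1 (by decide +kernel)
    rwa [pow_one] at this
  have hns : s ∉ Subgroup.zpowers pe := by
    intro h
    rw [mem_zpowers_iff_mem_range_orderOf, order_pe] at h
    obtain ⟨k, hk1, hk2⟩ := Finset.mem_image.1 h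
    rw [Finset.mem_range] at hk1
    have h1 : ∀ k < 8, el ga ga_ok ^ k ≠ el cs cs_ok ^ 1 := by
      intro k hk
      apply pow_ne_pow
      have : allLt 8 (fun k => dif1 (powC ga k) (powC cs 1) 24) = true := by decide +kernel
      exact (allLt_iff.1 this) k hk
    apply h1 k hk1
    rw [pow_one]
    exact hk2
  let H := Subgroup.closure ({pe, s} : Set W)
  have hpe : pe ∈ H := Subgroup.subset_closure (by simp)
  have hsH : s ∈ H := Subgroup.subset_closure (by simp)
  have h16 := mul_dvd H pe s hpe hsH 2 3 hk hs2 hns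
  rw [order_pe] at h16
  have hidx : ¬ 2 ∣ H.index := index_not_dvd H 16 495 (by norm_num) h16 (by norm_num)
  apply PStemDvd.of_index (H := H) hidx
  apply StemDvd.pStemDvd
  let r' : H := ⟨pe, hpe⟩
  let s' : H := ⟨s, hsH⟩
  have hgen : Subgroup.closure ({r', s'} : Set H) = ⊤ := top_of_closure pe s
  have hk' : s' * r' * s'⁻¹ = r' ^ 3 := Subtype.ext hk
  have hord : orderOf r' = 8 := by rw [← order_pe]; exact (Subgroup.orderOf_coe r').symm
  have h1 := stemDvd_metacyclic' r' s' hgen 3 hk' 2 (by
    have : s' ^ 2 = 1 := Subtype.ext hs2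
    rw [this]; exact one_mem _)
  have h2 : orderOf (r' ^ (((3 : ℕ) : ℤ) - 1)) = 4 := by
    have : r' ^ (((3 : ℕ) : ℤ) - 1) = r' ^ 2 := by
      rw [show (((3 : ℕ) : ℤ) - 1) = ((2 : ℕ) : ℤ) by norm_num, zpow_natCast]
    rw [this, orderOf_pow' r' two_ne_zero, hord]
    rfl
  rw [h2] at h1
  exact h1

theorem pstem_three : PStemDvd 3 W 1 := by
  have : Fact (Nat.Prime 3) := ⟨Nat.prime_three⟩
  let r := el cr3 cr3_ok
  let s := el cs6 cs6_ok
  have hk : s * r * s⁻¹ = r ^ 2 := conj_eq_pow cr3_ok cs6_ok 2 (by decide +kernel)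
  have hr3 : r ^ 3 = 1 := pow_eq_one cr3_ok 3 (by decide +kernel)
  have hr1 : r ≠ 1 := by
    have := pow_ne_one cr3_ok 1 (by decide +kernel)
    rwa [pow_one] at this
  have hor : orderOf r = 3 := orderOf_eq_prime hr3 hr1
  have hs6 : s ^ 6 = 1 := pow_eq_one cs6_ok 6 (by decide +kernel)
  have hns : s ^ 2 ∉ Subgroup.zpowers r := by
    intro h
    rw [mem_zpowers_iff_mem_range_orderOf, hor] at h
    obtain ⟨k, hk1, hk2⟩ := Finset.mem_image.1 h
    rw [Finset.mem_range] at hk1
    have h1 : ∀ k < 3, el cr3 cr3_ok ^ k ≠ el cs6 cs6_ok ^ 2 := by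
      intro k hk
      apply pow_ne_pow
      have : allLt 3 (fun k => dif1 (powC cr3 k) (powC cs6 2) 24) = true := by decide +kernel
      exact (allLt_iff.1 this) k hk
    exact h1 k hk1 hk2
  have hk2 : s ^ 2 * r * (s ^ 2)⁻¹ = r ^ 1 := by
    have h1 : s ^ 2 * r * (s ^ 2)⁻¹ = s * (s * r * s⁻¹) * s⁻¹ := by rw [pow_two]; group
    have h2 : s * r ^ 2 * s⁻¹ = (s * r * s⁻¹) ^ 2 := conj_pow.symm
    rw [h1, hk, h2, hk, ← pow_mul, show 2 * 2 = 3 + 1 by norm_num, pow_add, hr3, one_mul]
  let H := Subgroup.closure ({r, s} : Set W)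
  have hrH : r ∈ H := Subgroup.subset_closure (by simp)
  have hsH : s ∈ H := Subgroup.subset_closure (by simp)
  have h9 := mul_dvd H r (s ^ 2) hrH (Subgroup.pow_mem _ hsH 2) 3 1 hk2 (by rw [← pow_mul]; exact hs6) hns
  rw [hor] at h9
  have hidx : ¬ 3 ∣ H.index := index_not_dvd H 9 880 (by norm_num) h9 (by norm_num)
  apply PStemDvd.of_index (H := H) hidx
  apply StemDvd.pStemDvd
  let r' : H := ⟨r, hrH⟩
  let s' : H := ⟨s, hsH⟩
  have hgen : Subgroup.closure ({r', s'} : Set H) = ⊤ := top_of_closure r s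
  have hk' : s' * r' * s'⁻¹ = r'⁻¹ := by
    apply Subtype.ext
    show s * r * s⁻¹ = r⁻¹
    rw [hk, eq_inv_iff_mul_eq_one, ← pow_succ]
    exact hr3
  have hord : orderOf r' = 3 := by rw [← hor]; exact (Subgroup.orderOf_coe r').symm
  have h1 := stemDvd_dihedral_like r' s' hgen hk' 3 (by
    have : r' ^ 3 = 1 := Subtype.ext hr3
    rw [this]; exact one_mem _)
  have h2 : orderOf (r' ^ 2) = 3 := by
    rw [orderOf_pow' r' two_ne_zero, hord]
    rfl
  rw [h2] at h1
  exact h1

theorem pstem_cyclic (p : ℕ) (hp : p.Prime) (b : ℕ) (hb : p * b = 7920) (hnb : ¬ p ∣ b) (c : ℕ) (hc : inW c = true)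
    (h1 : powC c p = idc) (h2 : dif1 (powC c 1) idc 24 = true) : PStemDvd p W 1 := by
  have : Fact p.Prime := ⟨hp⟩
  have h3 : orderOf (el c hc) = p := by
    apply orderOf_eq_prime (pow_eq_one hc p h1)
    have := pow_ne_one hc 1 h2
    rwa [pow_one] at this
  apply PStemDvd.of_index (H := Subgroup.zpowers (el c hc))
  · apply index_not_dvd _ p b hb _ hnb
    rw [Nat.card_zpowers, h3]
  · exact stemDvd_of_isCyclic.pStemDvd p

/-- The Schur multiplier of the Mathieu group M₁₁ (the stabiliser of a dodecad and one of its points in the automorphism group of the length-24 binary code) is trivial; here the Schur multiplier is described through stem extensions, as in the definitions: surjective homomorphisms onto the group from a finite group, whose kernel is central in that finite group and contained in that finite group's commutator subgroup. -/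
theorem result : Cfsg.HasCyclicSchurMultiplier ↥Cfsg.Spor.M11 1 := by
  apply hasTrivial_of_stemDvd (G := W)
  apply StemDvd.of_forall
  intro p hp
  by_cases hd : p ∣ 7920
  · have h1 : p ∣ 2 * 2 * 2 * 2 * 3 * 3 * 5 * 11 := hd
    have h2 : p = 2 ∨ p = 3 ∨ p = 5 ∨ p = 11 := by
      rcases hp.dvd_mul.1 h1 with h1 | h1
      · rcases hp.dvd_mul.1 h1 with h1 | h1
        · rcases hp.dvd_mul.1 h1 with h1 | h1
          · rcases hp.dvd_mul.1 h1 with h1 | h1
            · have : p ∣ 2 ^ 4 := h1
              exact Or.inl ((Nat.prime_dvd_prime_iff_eq hp Nat.prime_two).1 (hp.dvd_of_dvd_pow this))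
            · exact Or.inr (Or.inl ((Nat.prime_dvd_prime_iff_eq hp Nat.prime_three).1 h1))
          · exact Or.inr (Or.inl ((Nat.prime_dvd_prime_iff_eq hp Nat.prime_three).1 h1))
        · exact Or.inr (Or.inr (Or.inl ((Nat.prime_dvd_prime_iff_eq hp (by norm_num)).1 h1)))
      · exact Or.inr (Or.inr (Or.inr ((Nat.prime_dvd_prime_iff_eq hp (by norm_num)).1 h1)))
    rcases h2 with rfl | rfl | rfl | rfl
    · exact pstem_two
    · exact pstem_three
    · exact pstem_cyclic 5 (by norm_num) 1584 (by norm_num) (by norm_num) cx5 cx5_ok (by decide +kernel) (by decide +kernel)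
    · exact pstem_cyclic 11 (by norm_num) 720 (by norm_num) (by norm_num) cx11 cx11_ok (by decide +kernel) (by decide +kernel)
  · have : Fact p.Prime := ⟨hp⟩
    apply pStemDvd_of_not_dvd
    rwa [card_W]

end Cfsg.Agent.S2034
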