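import Cfsg.Statements.S2060
import Cfsg.Agent.Lib.OutBound
import Cfsg.Agent.Lib.MElevenInv

set_option autoImplicit false
open Cfsg

namespace Cfsg.Agent.S2060

open Cfsg.Agent.Lib.OutBound Cfsg.Agent.Lib.MElevenInv Cfsg.Agent.Lib.MElevenGraph

/-- The outer automorphism group of the Mathieu group M₁₁ (the stabiliser of a dodecad and one of its points in the automorphism group of the length-24 binary code) is trivial: every automorphism is inner. -/
theorem result : Nat.card (Cfsg.Out ↥Cfsg.Spor.M11) = 1 := by
  have hs := simple_W
  have hZ : Subgroup.center W = ⊥ := by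
    rw [eq_bot_iff]
    intro g hg
    rw [Subgroup.mem_bot]
    apply eq_one_of_comm
    intro x
    exact (Subgroup.mem_center_iff.1 hg (tau x)).symm
  have h1 := card_out_mul W hZ
  have hch : ∀ (a : MulAut W) (x : Fin 165), ∃ y, tau y = a (tau x) := by
    intro a x
    have h2 : a (tau x) ∈ Set.range tau := by
      rw [range_tau, Set.mem_ofPred_eq, card_cent_map]
      have : tau x ∈ Set.range tau := ⟨x, rfl⟩
      rw [range_tau] at this
      exact this
    exact h2
  have h2 := card_mulAut_le tau tau_inj hch (fun g hg => eq_one_of_comm hg) AR (by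
    intro s hs x y
    rw [← tau_comm, ← tau_comm]
    exact hs x y)
  have h3 := card_AR
  have h4 : Nat.card W = 7920 := card_W
  rw [← h1, h4] at h2
  have h5 : Nat.card (Cfsg.Out W) ≠ 0 := by
    intro h6
    rw [h6, zero_mul] at h1
    have : Finite (MulAut W) := inferInstance
    exact (Nat.card_pos (α := MulAut W)).ne h1
  show Nat.card (Cfsg.Out W) = 1
  omega

end Cfsg.Agent.S2060
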