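import Cfsg.Statements.S0904
import Cfsg.Agent.Lib.SimplePQR

set_option autoImplicit false
open Cfsg

namespace Cfsg.Agent.S0904

/-- Let G be a finite simple group of order p ^ a * q ^ b * r with p, q, r distinct primes. Then every Sylow r-subgroup S of G satisfies C_G(S) = S. -/
theorem result {G : Type*} [Group G] [Finite G] [IsSimpleGroup G] (p q r a b : ℕ) (hp : p.Prime) (hq : q.Prime) [Fact r.Prime] (hpq : p ≠ q) (hpr : p ≠ r) (hqr : q ≠ r) (hcard : Nat.card G = p ^ a * q ^ b * r) (S : Sylow r G) : Subgroup.centralizer (S : Set G) = (S : Subgroup G) := by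
  have hr : r.Prime := Fact.out
  have hrG : r ∣ Nat.card G := by rw [hcard]; exact dvd_mul_left _ _
  have hcop : ¬ r ∣ p ^ a * q ^ b := by
    intro h1
    rcases (Nat.Prime.dvd_mul hr).mp h1 with h2 | h2
    · exact hpr.symm ((Nat.prime_dvd_prime_iff_eq hr hp).mp (hr.dvd_of_dvd_pow h2))
    · exact hqr.symm ((Nat.prime_dvd_prime_iff_eq hr hq).mp (hr.dvd_of_dvd_pow h2))
  have hcS : Nat.card S = r := by
    have h1 := S.card_eq_multiplicity
    have h2 : (Nat.card G).factorization r = 1 := by
      have h0 : p ^ a * q ^ b ≠ 0 := by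
        intro h; exact hcop (h ▸ dvd_zero r)
      rw [hcard, Nat.factorization_mul h0 hr.ne_zero, Finsupp.add_apply,
        Nat.factorization_eq_zero_of_not_dvd hcop, zero_add, hr.factorization_self]
    rw [h1, h2, pow_one]
  by_cases hZ : Subgroup.center G = ⊥
  · have hcyc : IsCyclic S := isCyclic_of_prime_card hcS
    obtain ⟨s, hs⟩ := hcyc.exists_generator
    have hsr : orderOf (s : G) = r := by
      rw [Subgroup.orderOf_coe, orderOf_eq_card_of_forall_mem_zpowers hs, hcS]
    have hle : (S : Subgroup G) ≤ Subgroup.centralizer (S : Set G) := by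
      intro x hx
      rw [Subgroup.mem_centralizer_iff]
      intro y hy
      obtain ⟨i, hi⟩ := hs ⟨x, hx⟩
      obtain ⟨j, hj⟩ := hs ⟨y, hy⟩
      have h1 : (s : G) ^ i = x := congrArg Subtype.val hi
      have h2 : (s : G) ^ j = y := congrArg Subtype.val hj
      rw [← h1, ← h2, ← zpow_add, ← zpow_add, add_comm]
    by_contra hne
    have hrel : (S : Subgroup G).relIndex (Subgroup.centralizer (S : Set G)) ≠ 1 := by
      intro h
      rw [Subgroup.relIndex_eq_one] at h
      exact hne (le_antisymm h hle)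
    obtain ⟨l, hl, hdvd⟩ := Nat.exists_prime_and_dvd hrel
    have hidx : (S : Subgroup G).index = p ^ a * q ^ b := by
      have h1 := Subgroup.card_mul_index (S : Subgroup G)
      rw [hcard] at h1
      have h2 : Nat.card (S : Subgroup G) = r := hcS
      rw [h2] at h1
      exact Nat.eq_of_mul_eq_mul_left hr.pos (by rw [h1]; ring)
    have hl2 : l ∣ p ^ a * q ^ b := by
      rw [← hidx, ← Subgroup.relIndex_mul_index hle]
      exact Dvd.dvd.mul_right hdvd _
    have hlC : l ∣ Nat.card (Subgroup.centralizer (S : Set G)) :=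
      hdvd.trans (Subgroup.relIndex_dvd_card _ _)
    have : Fact l.Prime := ⟨hl⟩
    obtain ⟨x, hx⟩ := exists_prime_orderOf_dvd_card' l hlC
    have hxo : orderOf (x : G) = l := by rw [Subgroup.orderOf_coe, hx]
    have hcomm : Commute (x : G) (s : G) :=
      (Subgroup.mem_centralizer_iff.mp x.2 s s.2).symm
    rcases (Nat.Prime.dvd_mul hl).mp hl2 with h2 | h2
    · have h3 := (Nat.prime_dvd_prime_iff_eq hl hp).mp (hl.dvd_of_dvd_pow h2)
      subst h3
      exact Cfsg.Agent.Lib.SimplePQR.no_element hZ l q r a b hp hq hr hpr hqr hcard x s hxo hsr hcomm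
    · have h3 := (Nat.prime_dvd_prime_iff_eq hl hq).mp (hl.dvd_of_dvd_pow h2)
      subst h3
      exact Cfsg.Agent.Lib.SimplePQR.no_element hZ l p r b a hq hp hr hqr hpr
        (by rw [hcard]; ring) x s hxo hsr hcomm
  · have hprime := Cfsg.Agent.Lib.Burnside.prime_card_of_center_ne_bot hZ
    have hGr : Nat.card G = r := ((Nat.prime_dvd_prime_iff_eq hr hprime).mp hrG).symm
    have hS : (S : Subgroup G) = ⊤ := Subgroup.eq_top_of_card_eq _ (by rw [hGr]; exact hcS)
    have hZt : Subgroup.center G = ⊤ :=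
      (IsSimpleGroup.eq_bot_or_eq_top_of_normal (Subgroup.center G) inferInstance).resolve_left hZ
    rw [hS, eq_top_iff]
    intro x _
    rw [Subgroup.mem_centralizer_iff]
    intro y _
    have h1 : x ∈ Subgroup.center G := by rw [hZt]; trivial
    exact Subgroup.mem_center_iff.mp h1 y

end Cfsg.Agent.S0904
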