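import Cfsg.Statements.S1001
import Cfsg.Agent.S0904
import Cfsg.Agent.S0144

set_option autoImplicit false
open Cfsg

namespace Cfsg.Agent.S1001

/-- In a finite simple group whose order has the form p * 3^a * 2^b with p prime, the centralizer of any element of order p is the cyclic group it generates. -/
theorem result {G : Type*} [Group G] [Finite G] [IsSimpleGroup G] (p a b : ℕ) (hp : p.Prime) (hG : Nat.card G = p * 3 ^ a * 2 ^ b) (x : G) (hx : orderOf x = p) : Subgroup.centralizer ({x} : Set G) = Subgroup.zpowers x := by
  classical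
  by_cases hp2 : p = 2 ∨ p = 3
  · -- solvable case
    obtain ⟨a', b', hab⟩ : ∃ a' b' : ℕ, Nat.card G = 2 ^ a' * 3 ^ b' := by
      rcases hp2 with rfl | rfl
      · exact ⟨b + 1, a, by rw [hG, pow_succ]; ring⟩
      · exact ⟨b, a + 1, by rw [hG, pow_succ]; ring⟩
    have hsol : IsSolvable G := Cfsg.Agent.S0144.result 2 3 a' b' Nat.prime_two Nat.prime_three hab
    have hcomm : ∀ u v : G, u * v = v * u := IsSimpleGroup.comm_iff_isSolvable.2 hsol
    letI : CommGroup G := { (inferInstance : Group G) with mul_comm := hcomm }
    have hprime : (Nat.card G).Prime := IsSimpleGroup.prime_card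
    have h1 : p = Nat.card G := by
      have h2 : p ∣ Nat.card G := by rw [← hx]; exact orderOf_dvd_natCard x
      exact (Nat.prime_dvd_prime_iff_eq hp hprime).1 h2
    have h3 : Subgroup.zpowers x = ⊤ := by
      apply Subgroup.eq_top_of_card_eq
      rw [Nat.card_zpowers, hx, h1]
    rw [h3, eq_top_iff]
    intro g _
    rw [Subgroup.mem_centralizer_singleton_iff]
    exact hcomm g x
  · push Not at hp2
    haveI : Fact p.Prime := ⟨hp⟩
    have hp2' : (2 : ℕ) ≠ p := fun h => hp2.1 h.symm
    have hp3' : (3 : ℕ) ≠ p := fun h => hp2.2 h.symm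
    have hpg : IsPGroup p (Subgroup.zpowers x) := by
      apply IsPGroup.of_card (n := 1)
      rw [Nat.card_zpowers, hx, pow_one]
    obtain ⟨S, hS⟩ := hpg.exists_le_sylow
    have hcS : Nat.card S = p := by
      have h1 := S.card_eq_multiplicity
      have h2 : (Nat.card G).factorization p = 1 := by
        rw [hG, Nat.factorization_mul (mul_ne_zero hp.ne_zero (pow_ne_zero _ (by norm_num))) (pow_ne_zero _ (by norm_num)), Nat.factorization_mul hp.ne_zero (pow_ne_zero _ (by norm_num)),
          Finsupp.add_apply, Finsupp.add_apply, Nat.factorization_pow, Nat.factorization_pow, hp.factorization_self,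
          Finsupp.smul_apply, Finsupp.smul_apply, Nat.factorization_eq_zero_of_not_dvd, Nat.factorization_eq_zero_of_not_dvd]
        · simp
        · intro h
          exact hp2' ((Nat.prime_dvd_prime_iff_eq hp Nat.prime_two).1 h).symm
        · intro h
          exact hp3' ((Nat.prime_dvd_prime_iff_eq hp Nat.prime_three).1 h).symm
      rw [h1, h2, pow_one]
    have hSx : Subgroup.zpowers x = (S : Subgroup G) := by
      apply Subgroup.eq_of_le_of_card_ge hS
      rw [Nat.card_zpowers, hx]
      exact hcS.le
    have h1 := Cfsg.Agent.S0904.result 3 2 p a b Nat.prime_three Nat.prime_two (by norm_num) hp3' hp2' (by rw [hG]; ring) S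
    rw [← hSx] at h1
    rw [← h1]
    ext g
    rw [Subgroup.mem_centralizer_singleton_iff, Subgroup.mem_centralizer_iff]
    constructor
    · intro h y hy
      have hy' : y ∈ Subgroup.zpowers x := by rw [hSx]; exact hy
      obtain ⟨n, rfl⟩ := Subgroup.mem_zpowers_iff.1 hy'
      have h2 : Commute g x := h
      exact (h2.zpow_right n).eq.symm
    · intro h
      have hx' : x ∈ (S : Subgroup G) := by rw [← hSx]; exact Subgroup.mem_zpowers x
      exact (h x hx').symm

end Cfsg.Agent.S1001
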