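import Cfsg.Statements.S0727
import Cfsg.Agent.Lib.Sharp3Pgl

set_option autoImplicit false
open Cfsg

namespace Cfsg.Agent.S0727



/-- A sharply triply transitive permutation group of degree `2^f + 1` is isomorphic to the projective general linear group of degree 2 over the field with `2^f` elements. -/
theorem result {α : Type*} [Fintype α] [DecidableEq α] {f : ℕ} (hf : 1 ≤ f) (hα : Fintype.card α = 2 ^ f + 1) (G : Subgroup (Equiv.Perm α)) (h3 : MulAction.IsMultiplyPretransitive G α 3) (hsharp : ∀ x : Fin 3 ↪ α, MulAction.stabilizer G x = ⊥) : ∃ (F : Type) (_ : Field F) (_ : Fintype F), Fintype.card F = 2 ^ f ∧ Nonempty (G ≃* Matrix.ProjGenLinGroup (Fin 2) F) := by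
  classical
  have hcardG : Nat.card G = (2 ^ f + 1).descFactorial 3 := by
    have h4 : 2 ≤ 2 ^ f := by
      calc 2 = 2 ^ 1 := by norm_num
        _ ≤ 2 ^ f := Nat.pow_le_pow_right (by norm_num) hf
    have h1 := Cfsg.Agent.Lib.SharpMult.card_of_sharp h3
      (by rw [Nat.card_eq_fintype_card]; omega) hsharp
    rw [h1, Nat.card_eq_fintype_card, hα]
  obtain rfl | hf2 : f = 1 ∨ 2 ≤ f := by omega
  · refine ⟨ZMod 2, inferInstance, inferInstance, by rw [ZMod.card]; rfl, ?_⟩
    obtain ⟨e⟩ := Cfsg.Agent.Lib.Sharp3Pgl.perm3_equiv_pgl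
    obtain ⟨e2⟩ := Cfsg.Agent.Lib.ClSmall.equiv_perm_of_injective (G := G) (α := α) 3 hα G.subtype
      G.subtype_injective (by rw [hcardG]; rfl)
    exact ⟨e2.trans e⟩
  · exact Cfsg.Agent.Lib.Sharp3Pgl.main_case hf2 hα h3 hsharp

end Cfsg.Agent.S0727
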