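import Cfsg.Statements.S0730
import Cfsg.Agent.Lib.Sharp3PGL

set_option autoImplicit false
open Cfsg

namespace Cfsg.Agent.S0730

open Cfsg.Agent.Lib

/-- A sharply triply transitive group of degree `p^f + 1`, `p` an odd prime and `f` odd, is isomorphic to the projective general linear group of degree 2 over the field with `p^f` elements (for even `f` there is a second, twisted, group). -/
theorem result {α : Type*} [Fintype α] [DecidableEq α] {p f : ℕ} (hp : p.Prime) (hp2 : p ≠ 2) (hfo : Odd f) (hα : Fintype.card α = p ^ f + 1) (G : Subgroup (Equiv.Perm α)) (h3 : MulAction.IsMultiplyPretransitive G α 3) (hsharp : ∀ x : Fin 3 ↪ α, MulAction.stabilizer G x = ⊥) : ∃ (F : Type) (_ : Field F) (_ : Fintype F), Fintype.card F = p ^ f ∧ Nonempty (G ≃* Matrix.ProjGenLinGroup (Fin 2) F) := by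
  classical
  have hfix : ZassBasic.Fix3 G α := Sharp3.fix3_of_stabilizer hsharp
  have hmv : Sharp3.Move3 G α := Sharp3.move3_of_pretransitive h3
  have hp3 : 3 ≤ p := by
    have := hp.two_le
    omega
  have hf1 : f ≠ 0 := by
    rintro rfl
    exact absurd hfo (by decide)
  have hpf : 3 ≤ p ^ f := by
    calc 3 ≤ p := hp3
      _ = p ^ 1 := (pow_one p).symm
      _ ≤ p ^ f := Nat.pow_le_pow_right hp.pos (Nat.one_le_iff_ne_zero.2 hf1)
  have h4 : 4 ≤ Fintype.card α := by omega
  have hodd : Odd (p ^ f) := (hp.odd_of_ne_two hp2).pow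
  have heven : Even (Fintype.card α) := by
    rw [hα]; exact hodd.add_one
  have h2 : MulAction.IsMultiplyPretransitive G α 2 := by
    have h4 : ((3 : ℕ) : ℕ∞) ≤ ENat.card α := by
      rw [ENat.card_eq_coe_fintype_card]
      exact_mod_cast (by omega : 3 ≤ Fintype.card α)
    exact MulAction.isMultiplyPretransitive_of_le' (n := 3) (by norm_num) h4
  obtain ⟨a, b, c, hab, hac, hbc⟩ : ∃ a b c : α, a ≠ b ∧ a ≠ c ∧ b ≠ c :=
    Fintype.two_lt_card_iff.1 (by omega)
  obtain ⟨s, hsa, hsb, hsc⟩ := hmv a b c b a c hab hac hbc hab.symm hbc hac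
  have hcardH : Nat.card ↥(MulAction.stabilizer G a ⊓ MulAction.stabilizer G b) + 2 = Nat.card α :=
    Sharp3.card_H_aux hmv hfix hab hac hbc
  rw [Nat.card_eq_fintype_card (α := α)] at hcardH
  have hev : Even (Nat.card ↥(MulAction.stabilizer G a ⊓ MulAction.stabilizer G b)) := by
    obtain ⟨k, hk⟩ := heven
    exact ⟨k - 1, by omega⟩
  obtain ⟨z, u, K, C⟩ := Sharp3.exists_config h2 hfix hmv hab hac hbc hsa hsb hsc hev
  have hcK := C.card_K
  rw [Nat.card_eq_fintype_card (α := α), hα] at hcK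
  exact C.pgl_of_odd hp hfo (by omega)

end Cfsg.Agent.S0730
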