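import Cfsg.Statements.S0732
import Cfsg.Agent.Lib.PrimeDeg1b
import Cfsg.Agent.Lib.ZassMain
import Cfsg.Agent.Lib.ClSeven
import Cfsg.Agent.Lib.Sharply2
import Cfsg.Agent.S0727
import Cfsg.Agent.S0730
import Cfsg.Agent.S0731

set_option autoImplicit false
open Cfsg

namespace Cfsg.Agent.S0732

open Cfsg.Agent.Lib MulAction

theorem pgl_congr {F K : Type*} [Field F] [Field K] (e : F ≃+* K) :
    Nonempty (Matrix.ProjGenLinGroup (Fin 2) F ≃* Matrix.ProjGenLinGroup (Fin 2) K) := by
  have φ : GL (Fin 2) F ≃* GL (Fin 2) K := Units.mapEquiv (e.mapMatrix (m := Fin 2)).toMulEquiv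
  exact ⟨QuotientGroup.congr _ _ φ (ClSeven.center_map φ)⟩

theorem stab_bot {G Ω : Type*} [Group G] [MulAction G Ω] (h3 : ZassBasic.Fix3 G Ω)
    (t : Fin 3 ↪ Ω) : MulAction.stabilizer G t = ⊥ := by
  rw [Subgroup.eq_bot_iff_forall]
  intro g hg
  have hg' : ∀ i, g • t i = t i := fun i => DFunLike.congr_fun (mem_stabilizer_iff.1 hg) i
  have inj : ∀ (i j : Fin 3), i ≠ j → t i ≠ t j := fun i j hij h => hij (t.injective h)
  exact h3 g (t 0) (t 1) (t 2) (inj _ _ (by decide)) (inj _ _ (by decide)) (inj _ _ (by decide))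
    (hg' 0) (hg' 1) (hg' 2)

/-- A transitive permutation group on `p + 1` points (`p` prime) of order `(p+1) p d` with `d < p` is isomorphic to `PGL(2,p)` with `d = p - 1`, or to `PSL(2,p)` with `2d = p - 1`, or else `p + 1 = 2^q` for a prime `q`, `d = 1` or `d = q`, and the group is permutation-isomorphic to a group of semi-affine maps `x ↦ a φ(x) + b` of the field with `2^q` elements. -/
theorem result {α : Type*} [Fintype α] [DecidableEq α] {p d : ℕ} (hp : p.Prime) (hα : Fintype.card α = p + 1) (G : Subgroup (Equiv.Perm α)) [MulAction.IsPretransitive G α] (hG : Nat.card G = (p + 1) * p * d) (hd : d < p) : (d = p - 1 ∧ Nonempty (G ≃* Matrix.ProjGenLinGroup (Fin 2) (ZMod p))) ∨ (2 * d = p - 1 ∧ Nonempty (G ≃* Matrix.ProjectiveSpecialLinearGroup (Fin 2) (ZMod p))) ∨ (∃ q : ℕ, q.Prime ∧ p + 1 = 2 ^ q ∧ (d = 1 ∨ d = q) ∧ ∃ e : α ≃ GaloisField 2 q, ∀ g : G, (e.symm.trans (((g : Equiv.Perm α)).trans e)) ∈ Cfsg.semiaffineGroup (GaloisField 2 q)) := by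
  classical
  have := Fact.mk hp
  have hΩ : Nat.card α = p + 1 := by rw [Nat.card_eq_fintype_card, hα]
  obtain ⟨a, b, P, C⟩ := PrimeDeg1.exists_conf (G := G) (Ω := α) hp hΩ hG hd
  have hd0 : 0 < d := by
    rcases Nat.eq_zero_or_pos d with h | h
    · rw [h, mul_zero] at hG
      exact absurd hG Nat.card_pos.ne'
    · exact h
  have hp2 := hp.two_le
  obtain ⟨c, hac, hbc⟩ : ∃ c : α, a ≠ c ∧ b ≠ c := by
    by_contra hcon
    push Not at hcon
    have h1 : (Finset.univ : Finset α) ⊆ {a, b} := by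
      intro x _
      rw [Finset.mem_insert, Finset.mem_singleton]
      by_cases h : a = x
      · exact Or.inl h.symm
      · exact Or.inr (hcon x h).symm
    have h2 := Finset.card_le_card h1
    rw [Finset.card_univ, hα, Finset.card_pair C.hab] at h2
    omega
  -- the sharply triply transitive case
  have sharp : Sharp3.Move3 G α → (d = p - 1 ∧ Nonempty (G ≃* Matrix.ProjGenLinGroup (Fin 2) (ZMod p))) := by
    intro mv
    have h1 : Nat.card ↥(MulAction.stabilizer G a ⊓ MulAction.stabilizer G b) + 2 = Nat.card α :=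
      Sharp3.card_H_aux mv C.h3 C.hab hac hbc
    rw [C.hH, hΩ] at h1
    refine ⟨by omega, ?_⟩
    have h3t := S0731.pretransitive_of_move3 mv
    obtain ⟨F, i1, i2, hF, ⟨e⟩⟩ : ∃ (F : Type) (_ : Field F) (_ : Fintype F), Fintype.card F = p ∧
        Nonempty (G ≃* Matrix.ProjGenLinGroup (Fin 2) F) := by
      by_cases h2 : p = 2
      · subst h2
        obtain ⟨F, i1, i2, hF, he⟩ := S0727.result (f := 1) le_rfl (by rw [hα]; rfl) G h3t
          (stab_bot C.h3)
        exact ⟨F, i1, i2, by rw [hF]; rfl, he⟩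
      · obtain ⟨F, i1, i2, hF, he⟩ := S0730.result (f := 1) hp h2 odd_one (by rw [hα, pow_one]) G h3t
          (stab_bot C.h3)
        exact ⟨F, i1, i2, by rw [hF, pow_one], he⟩
    have hFc : Fintype.card F = Fintype.card (ZMod p) := by rw [hF, ZMod.card]
    obtain ⟨k⟩ := pgl_congr (FiniteField.ringEquivOfCardEq hFc)
    exact ⟨e.trans k⟩
  by_cases hp2' : p = 2
  · left
    apply sharp
    refine Sharp3.move3_of_big C.h2 C.h3 C.hab hac hbc ?_
    rw [C.hH, hΩ]
    omega
  by_cases hreg : ∃ R : Subgroup G, R.Normal ∧ (∀ x y : α, ∃ r ∈ R, r • x = y) ∧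
      ∀ r ∈ R, ∀ x : α, r • x = x → r = 1
  · obtain ⟨R, hR, hRt, hRr⟩ := hreg
    obtain ⟨q, hq, hpq, hdq, e, he⟩ := PrimeDeg1.semiaffine C hp hp2' hΩ R hRt hRr
    right; right
    refine ⟨q, hq, hpq, hdq, e, fun g => ?_⟩
    obtain ⟨u, v, φ, h⟩ := he g
    refine ⟨u, v, φ, fun x => ?_⟩
    have h1 := h (e.symm x)
    rw [Equiv.apply_symm_apply] at h1
    exact h1
  · have hd1 : d ≠ 1 := by
      rintro rfl
      apply hreg
      have hs : ∀ g : G, ∀ x y : α, x ≠ y → g • x = x → g • y = y → g = 1 := by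
        intro g x y hxy hgx hgy
        obtain ⟨k, hk1, hk2⟩ := ZassBasic.exists_move C.h2 hxy C.hab
        have h1 : k * g * k⁻¹ ∈ MulAction.stabilizer G a ⊓ MulAction.stabilizer G b := by
          constructor
          · change (k * g * k⁻¹) • a = a
            rw [mul_smul, mul_smul, ← hk1, inv_smul_smul, hgx]
          · change (k * g * k⁻¹) • b = b
            rw [mul_smul, mul_smul, ← hk2, inv_smul_smul, hgy]
        have h2 := Nat.card_eq_one_iff_unique.1 C.hH
        have := h2.1
        have h3 : (⟨k * g * k⁻¹, h1⟩ : ↥(MulAction.stabilizer G a ⊓ MulAction.stabilizer G b)) = 1 :=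
          Subsingleton.elim _ _
        have h4 : k * g * k⁻¹ = 1 := congrArg Subtype.val h3
        have h5 : g = k⁻¹ * (k * g * k⁻¹) * k := by group
        rw [h5, h4]; group
      obtain ⟨ℓ, -, N, hN, hmem, hNc, -, -⟩ := Sharply2.main C.h2 hs (by omega)
      refine ⟨N, hN, ?_, ?_⟩
      · intro x y
        have hbij : Function.Bijective (fun r : N => (r : G) • x) := by
          rw [Nat.bijective_iff_injective_and_card]
          refine ⟨?_, hNc⟩
          intro r s hrs
          have hrs' : (r : G) • x = (s : G) • x := hrs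
          rcases (hmem _).1 (mul_mem (inv_mem s.2) r.2) with h | h
          · exact Subtype.ext (inv_mul_eq_one.1 h).symm
          · exact absurd (by rw [mul_smul, hrs', inv_smul_smul]) (h x)
        obtain ⟨r, hr⟩ := hbij.2 y
        exact ⟨r, r.2, hr⟩
      · intro r hr x hx
        rcases (hmem r).1 hr with h | h
        · exact h
        · exact absurd hx (h x)
    have hZ : Cfsg.IsZassenhausGroup G α := by
      refine ⟨inferInstance, C.h2, C.h3, ?_, ?_⟩
      · have h1 : 1 < Nat.card ↥(MulAction.stabilizer G a ⊓ MulAction.stabilizer G b) := by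
          rw [C.hH]; omega
        rw [Finite.one_lt_card_iff_nontrivial] at h1
        obtain ⟨g, hg⟩ := exists_ne (1 : ↥(MulAction.stabilizer G a ⊓ MulAction.stabilizer G b))
        exact ⟨g, fun h => hg (Subtype.ext h), a, b, C.hab, g.2.1, g.2.2⟩
      · intro N hN hNt
        by_contra hcon
        push Not at hcon
        apply hreg
        refine ⟨N, hN, ?_, ?_⟩
        · intro x y
          obtain ⟨g, hg⟩ := exists_smul_eq N x y
          exact ⟨g, g.2, hg⟩
        · intro r hr x hx
          have h1 : (⟨r, hr⟩ : N) ∈ MulAction.stabilizer N x := hx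
          rw [hcon x, Subgroup.mem_bot] at h1
          exact congrArg Subtype.val h1
    have hin : ∀ u ∈ P, ZassBasic.InK a u := fun u hu =>
      ⟨C.hPa u hu, fun hu1 y hy huy => hu1 (C.hP1 u hu y hy huy)⟩
    have hK : ∀ u, u ∈ P ↔ ZassBasic.InK a u := by
      intro u
      refine ⟨hin u, fun hu => ?_⟩
      let φ : P → {u : G // ZassBasic.InK a u} := fun u => ⟨u, hin u u.2⟩
      have hφ : Function.Injective φ := by
        intro u v huv
        have h4 : (φ u : G) = (φ v : G) := congrArg Subtype.val huv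
        exact Subtype.ext h4
      have hb : Function.Bijective φ := by
        rw [Nat.bijective_iff_injective_and_card]
        refine ⟨hφ, ?_⟩
        rw [ZassBasic.card_InK C.h2 C.h3 C.hab]
        have h5 := ZassMain.card_ne a
        rw [C.hPc]
        omega
      obtain ⟨v, hv⟩ := hb.2 ⟨u, hu⟩
      have h4 : (v : G) = u := congrArg Subtype.val hv
      rw [← h4]
      exact v.2
    have hPcomm : ∀ x ∈ P, ∀ y ∈ P, x * y = y * x := by
      have hcyc : IsCyclic P := isCyclic_of_prime_card C.hPc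
      intro x hx y hy
      have := IsCyclic.isMulCommutative (α := P)
      exact setLike_mul_comm (s := P) hx hy
    rcases ZassMain.main hZ C.hab P hK hPcomm with h | ⟨E, i1, i2, -, h5, h6, ⟨e⟩⟩
    · left
      exact sharp h
    · right; left
      rw [C.hH] at h6
      refine ⟨by omega, ?_⟩
      have hEc : Fintype.card E = Fintype.card (ZMod p) := by
        rw [ZMod.card]; omega
      exact ⟨e.trans (ClSeven.pslCongr 2 (FiniteField.ringEquivOfCardEq hEc))⟩

end Cfsg.Agent.S0732
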