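import Cfsg.Statements.S0496
import Cfsg.Agent.Lib.H53Ord720
import Cfsg.Agent.Lib.MobCard
import Cfsg.Agent.Lib.BrauerFowler
import Cfsg.Agent.Lib.SmallSimple3
import Cfsg.Agent.S0997
import Cfsg.Agent.S0998
import Cfsg.Agent.S0999
import Cfsg.Agent.S1010
import Cfsg.Agent.S0144
import Cfsg.Agent.S0988

set_option autoImplicit false
open Cfsg

namespace Cfsg.Agent.S0496

open Cfsg.Agent.Lib.SmallSimple

/-- the finite check -/
theorem enum : ∀ a ∈ Finset.range 11, ∀ b ∈ Finset.range 7, ∀ c ∈ Finset.range 5, ∀ d ∈ Finset.range 4,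
    2 ^ a * 3 ^ b * 5 ^ c * 7 ^ d ≤ 1092 → a ≠ 1 → (c = 0 ∨ 125 ≤ 2 ^ a * 3 ^ b * 5 ^ c * 7 ^ d) →
    (d = 0 ∨ 343 ≤ 2 ^ a * 3 ^ b * 5 ^ c * 7 ^ d) → ¬ (c = 0 ∧ d = 0) → ¬ (b = 0 ∧ d = 0) → ¬ (b = 0 ∧ c = 0) →
    ¬ (a = 0 ∧ d = 0) → ¬ (a = 0 ∧ c = 0) → ¬ (a = 0 ∧ b = 0) →
    2 ^ a * 3 ^ b * 5 ^ c * 7 ^ d ∈ ([180, 240, 300, 360, 420, 480, 504, 540, 560, 588, 600, 672, 700, 720, 756,
      840, 900, 960, 980, 1008, 1080, 525, 735, 945] : List ℕ) := by
  decide +kernel

theorem smooth {n : ℕ} (hn : n ≠ 0) (h : ∀ p : ℕ, p.Prime → p ∣ n → p < 11) :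
    ∃ a b c d : ℕ, n = 2 ^ a * 3 ^ b * 5 ^ c * 7 ^ d := by
  refine ⟨n.factorization 2, n.factorization 3, n.factorization 5, n.factorization 7, ?_⟩
  conv_lhs => rw [← Nat.prod_factorization_pow_eq_self hn]
  have hsub : n.factorization.support ⊆ ({2, 3, 5, 7} : Finset ℕ) := by
    intro p hp
    rw [Nat.support_factorization, Nat.mem_primeFactors] at hp
    have h1 := h p hp.1 hp.2.1
    have h2 := hp.1
    interval_cases p <;> first | (simp; done) | (exact absurd h2 (by norm_num))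
  rw [Finsupp.prod_of_support_subset _ hsub _ (by intros; exact pow_zero _)]
  rw [Finset.prod_insert (by decide), Finset.prod_insert (by decide), Finset.prod_insert (by decide),
    Finset.prod_singleton]
  ring

/-- A non-abelian finite simple group of order at most 1092 has order 60, 168, 360, 504, 660 or 1092. -/
theorem result {G : Type*} [Group G] [Finite G] [IsSimpleGroup G]
    (hG : ¬ IsMulCommutative G) (h : Nat.card G ≤ 1092) :
    Nat.card G = 60 ∨ Nat.card G = 168 ∨ Nat.card G = 360 ∨ Nat.card G = 504 ∨ Nat.card G = 660 ∨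
      Nat.card G = 1092 := by
  classical
  have hcyc : ¬ IsCyclic G := by
    intro h
    apply hG
    let _ := h.commGroup
    exact ⟨⟨fun a b => mul_comm a b⟩⟩
  have hperf := Cfsg.Agent.Lib.BTThm.perf_of_simple hcyc
  have hns : ¬ Group.IsSolvable G := by
    intro hs
    exact hG ⟨⟨fun a b => (IsSimpleGroup.comm_iff_isSolvable.mpr hs) a b⟩⟩
  have hn0 : Nat.card G ≠ 0 := Nat.card_pos.ne'
  -- the theorem of Brauer and Reynolds
  have hS : ∀ p : ℕ, p.Prime → p ∣ Nat.card G → Nat.card G < p ^ 3 →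
      (3 < p ∧ 2 * Nat.card G = p * (p ^ 2 - 1)) ∨ (∃ m : ℕ, p = 2 ^ m + 1 ∧ 3 < p ∧ Nat.card G = 2 ^ m * ((2 ^ m) ^ 2 - 1)) := by
    intro p hp hpd hlt
    rcases Cfsg.Agent.S0999.result hcyc p hp hpd hlt with ⟨F, _, _, hF, h3, ⟨e⟩⟩ | ⟨m, F, _, _, hF, hpm, h3, ⟨e⟩⟩
    · left
      refine ⟨h3, ?_⟩
      rw [Nat.card_congr e.toEquiv, ← Cfsg.Agent.Lib.MobCount.card_P2 hF]
      have hodd : p % 2 = 1 := by
        rcases hp.eq_two_or_odd with h | h
        · omega
        · exact h
      have hg : Nat.gcd 2 (p - 1) = 2 := Nat.gcd_eq_left (by omega)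
      rw [hg]
    · right
      refine ⟨m, hpm, h3, ?_⟩
      rw [Nat.card_congr e.toEquiv, ← Cfsg.Agent.Lib.MobCount.card_P2 hF]
      have hm : m ≠ 0 := by rintro rfl; omega
      have hev : 2 ∣ 2 ^ m := dvd_pow_self 2 hm
      have hpos : 0 < 2 ^ m := by positivity
      have hg : Nat.gcd 2 (2 ^ m - 1) = 1 := by
        have h1 : Nat.Coprime 2 (2 ^ m - 1) := by
          rw [Nat.Prime.coprime_iff_not_dvd Nat.prime_two]
          omega
        exact h1
      rw [hg, one_mul]
  have hbig : ∀ p : ℕ, p.Prime → p ∣ Nat.card G → 11 ≤ p → Nat.card G = 660 ∨ Nat.card G = 1092 := by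
    intro p hp hpd h11
    have hlt : Nat.card G < p ^ 3 := by
      have : 11 ^ 3 ≤ p ^ 3 := Nat.pow_le_pow_left h11 3
      omega
    rcases hS p hp hpd hlt with ⟨-, h1⟩ | ⟨m, hm, -, h1⟩
    · have hp13 : p ≤ 13 := by
        by_contra hcon
        push Not at hcon
        have h2 : 14 * (14 ^ 2 - 1) ≤ p * (p ^ 2 - 1) :=
          Nat.mul_le_mul hcon (Nat.sub_le_sub_right (Nat.pow_le_pow_left hcon 2) 1)
        omega
      interval_cases p
      · left; omega
      · exact absurd hp (by norm_num)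
      · right; omega
    · exfalso
      have h4 : 4 ≤ m := by
        by_contra hcon
        have : m ≤ 3 := by omega
        interval_cases m <;> omega
      have h16 : 16 ≤ 2 ^ m := by
        calc 16 = 2 ^ 4 := by norm_num
          _ ≤ 2 ^ m := Nat.pow_le_pow_right (by norm_num) h4
      have h2 : 16 * (16 ^ 2 - 1) ≤ 2 ^ m * ((2 ^ m) ^ 2 - 1) :=
        Nat.mul_le_mul h16 (Nat.sub_le_sub_right (Nat.pow_le_pow_left h16 2) 1)
      omega
  by_cases hex : ∃ p : ℕ, p.Prime ∧ p ∣ Nat.card G ∧ 11 ≤ p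
  · obtain ⟨p, hp, hpd, h11⟩ := hex
    rcases hbig p hp hpd h11 with h1 | h1 <;> omega
  push Not at hex
  obtain ⟨a, b, c, d, hn⟩ := smooth hn0 hex
  by_cases h60 : Nat.card G = 60
  · exact Or.inl h60
  by_cases h168 : Nat.card G = 168
  · exact Or.inr (Or.inl h168)
  by_cases h360 : Nat.card G = 360
  · exact Or.inr (Or.inr (Or.inl h360))
  by_cases h504 : Nat.card G = 504
  · exact Or.inr (Or.inr (Or.inr (Or.inl h504)))
  exfalso
  have hc5 : c = 0 ∨ 125 ≤ Nat.card G := by
    by_contra hcon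
    push Not at hcon
    obtain ⟨hc0, hlt⟩ := hcon
    have h5 : 5 ∣ Nat.card G := by
      rw [hn]
      exact Dvd.dvd.mul_right (Dvd.dvd.mul_left (dvd_pow_self 5 hc0) _) _
    rcases hS 5 Nat.prime_five h5 (by omega) with ⟨-, h1⟩ | ⟨m, hm, -, h1⟩
    · omega
    · have h4 : 2 ^ m = 4 := by omega
      rw [h4] at h1
      omega
  have hd7 : d = 0 ∨ 343 ≤ Nat.card G := by
    by_contra hcon
    push Not at hcon
    obtain ⟨hc0, hlt⟩ := hcon
    have h7 : 7 ∣ Nat.card G := by
      rw [hn]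
      exact Dvd.dvd.mul_left (dvd_pow_self 7 hc0) _
    rcases hS 7 (by norm_num) h7 (by omega) with ⟨-, h1⟩ | ⟨m, hm, -, h1⟩
    · omega
    · have h4 : 2 ^ m = 6 := by omega
      have h5 : m ≤ 2 := by
        by_contra hcon
        have : 2 ^ 3 ≤ 2 ^ m := Nat.pow_le_pow_right (by norm_num) (by omega)
        omega
      interval_cases m <;> omega
  have h2p : ∀ p q e f : ℕ, p.Prime → q.Prime → Nat.card G ≠ p ^ e * q ^ f :=
    fun p q e f hp hq h => hns (Cfsg.Agent.S0144.result p q e f hp hq h)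
  have h998 : ∀ p q r e : ℕ, p.Prime → q.Prime → r.Prime → p ≠ q → p ≠ r → q ≠ r → Nat.card G ≠ p * r * q ^ e := by
    intro p q r e hp hq hr hpq hpr hqr h
    rcases Cfsg.Agent.S0998.result hcyc p q r e hp hq hr hpq hpr hqr h with ⟨F, _, _, hF, ⟨e⟩⟩ | ⟨F, _, _, hF, ⟨e⟩⟩
    · have h1 := Cfsg.Agent.Lib.MobCount.card_P2 hF
      rw [← Nat.card_congr e.toEquiv] at h1
      norm_num at h1
      omega
    · have h1 := Cfsg.Agent.Lib.MobCount.card_P2 hF
      rw [← Nat.card_congr e.toEquiv] at h1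
      norm_num at h1
      omega
  have h988 : ∀ p q r : ℕ, p.Prime → q.Prime → r.Prime → Nat.card G ≠ p ^ 2 * q * r := by
    intro p q r hp hq hr h
    exact h60 (Cfsg.Agent.S0988.result p q r hp hq hr h)
  have ha : a < 11 := by
    by_contra hcon
    push Not at hcon
    have h1 : 2 ^ 11 ≤ 2 ^ a := Nat.pow_le_pow_right (by norm_num) hcon
    have h3 : 2 ^ a ∣ Nat.card G := by rw [hn, mul_assoc, mul_assoc]; exact Dvd.intro _ rfl
    have := Nat.le_of_dvd (Nat.pos_of_ne_zero hn0) h3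
    omega
  have hb : b < 7 := by
    by_contra hcon
    push Not at hcon
    have h1 : 3 ^ 7 ≤ 3 ^ b := Nat.pow_le_pow_right (by norm_num) hcon
    have h3 : 3 ^ b ∣ Nat.card G := by
      rw [hn]; exact Dvd.dvd.mul_right (Dvd.dvd.mul_right (Dvd.intro_left _ rfl) _) _
    have := Nat.le_of_dvd (Nat.pos_of_ne_zero hn0) h3
    omega
  have hc : c < 5 := by
    by_contra hcon
    push Not at hcon
    have h1 : 5 ^ 5 ≤ 5 ^ c := Nat.pow_le_pow_right (by norm_num) hcon
    have h3 : 5 ^ c ∣ Nat.card G := by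
      rw [hn]; exact Dvd.dvd.mul_right (Dvd.intro_left _ rfl) _
    have := Nat.le_of_dvd (Nat.pos_of_ne_zero hn0) h3
    omega
  have hd : d < 4 := by
    by_contra hcon
    push Not at hcon
    have h1 : 7 ^ 4 ≤ 7 ^ d := Nat.pow_le_pow_right (by norm_num) hcon
    have h3 : 7 ^ d ∣ Nat.card G := by
      rw [hn]; exact Dvd.intro_left _ rfl
    have := Nat.le_of_dvd (Nat.pos_of_ne_zero hn0) h3
    omega
  have ha1 : a ≠ 1 := by
    intro ha1
    have h4 : Nat.card G % 4 = 2 := by
      have hodd : (3 ^ b * 5 ^ c * 7 ^ d) % 2 = 1 := by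
        have : Odd (3 ^ b * 5 ^ c * 7 ^ d) :=
          ((Odd.pow (by decide)).mul (Odd.pow (by decide))).mul (Odd.pow (by decide))
        exact Nat.odd_iff.mp this
      rw [hn, ha1, show 2 ^ 1 * 3 ^ b * 5 ^ c * 7 ^ d = 2 * (3 ^ b * 5 ^ c * 7 ^ d) by ring]
      omega
    obtain ⟨K, hK⟩ := Cfsg.Agent.Lib.BrauerFowler.exists_index_two_of_two_mod_four h4
    have hKn : K.Normal := Subgroup.normal_of_index_eq_two hK
    rcases IsSimpleGroup.eq_bot_or_eq_top_of_normal K hKn with h1 | h1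
    · rw [h1, Subgroup.index_bot] at hK
      exact h2p 2 3 1 0 (by norm_num) (by norm_num) (by rw [hK]; norm_num)
    · rw [h1, Subgroup.index_top] at hK
      omega
  have hmem := enum a (Finset.mem_range.mpr ha) b (Finset.mem_range.mpr hb) c (Finset.mem_range.mpr hc) d
    (Finset.mem_range.mpr hd) (by rw [← hn]; exact h) ha1 (by rw [← hn]; exact hc5) (by rw [← hn]; exact hd7)
    (by rintro ⟨rfl, rfl⟩; exact h2p 2 3 a b (by norm_num) (by norm_num) (by rw [hn]; ring))
    (by rintro ⟨rfl, rfl⟩; exact h2p 2 5 a c (by norm_num) (by norm_num) (by rw [hn]; ring))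
    (by rintro ⟨rfl, rfl⟩; exact h2p 2 7 a d (by norm_num) (by norm_num) (by rw [hn]; ring))
    (by rintro ⟨rfl, rfl⟩; exact h2p 3 5 b c (by norm_num) (by norm_num) (by rw [hn]; ring))
    (by rintro ⟨rfl, rfl⟩; exact h2p 3 7 b d (by norm_num) (by norm_num) (by rw [hn]; ring))
    (by rintro ⟨rfl, rfl⟩; exact h2p 5 7 c d (by norm_num) (by norm_num) (by rw [hn]; ring))
  rw [← hn] at hmem
  have i5 : Fact (Nat.Prime 5) := ⟨by norm_num⟩
  have i7 : Fact (Nat.Prime 7) := ⟨by norm_num⟩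
  -- number of Sylow subgroups
  have hsyl : ∀ (p k m : ℕ) [Fact p.Prime], Nat.card G = p ^ k * m → ¬ p ∣ m → p ∣ Nat.card G →
      Nat.card (Sylow p G) ∈ (m.divisors.filter (fun d => d % p = 1)).filter (fun s => s ≠ 1 ∧ 2 * Nat.card G ∣ s.factorial) := by
    intro p k m _ h1 h2 h3
    rw [Finset.mem_filter]
    exact ⟨nsyl_mem h1 h2, nsyl_ne_one hG h3, two_mul_card_dvd_factorial_nsyl hG h3⟩
  -- elements of prime order `p` in groups of order `p 3^a 2^b`
  have hp32 : ∀ (p e f : ℕ) [Fact p.Prime], Nat.card G = p * 3 ^ e * 2 ^ f →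
      ∃ n t : ℕ, t ∣ p - 1 ∧ Nat.card (Sylow p G) = 1 + n * p ∧ Nat.card G * t = (p - 1) * p * (1 + n * p) := by
    intro p e f hp h1
    obtain ⟨z, hz⟩ := exists_prime_orderOf_dvd_card' (G := G) p (by rw [h1, mul_assoc]; exact Dvd.intro _ rfl)
    have hC := Cfsg.Agent.S1001.result (G := G) p e f hp.out h1 z hz
    obtain ⟨n, t, -, htd, h2, h3⟩ := Cfsg.Agent.S0995.result hperf p z hz hC
    exact ⟨n, t, htd, h2, h3⟩
  have h997 : ∀ q e g : ℕ, q.Prime → 7 ≠ q → Nat.card G = 7 * q ^ e * g → g < 6 → 343 ≤ Nat.card G → False := by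
    intro q e g hq hpq h1 h2 h343
    rcases Cfsg.Agent.S0997.result hcyc 7 q e g (by norm_num) hq hpq h1 h2 with ⟨m, F, _, _, hF, -, ⟨e⟩⟩ | ⟨m, F, _, _, hF, h4, -, ⟨e⟩⟩
    · have h5 := Cfsg.Agent.Lib.MobCount.card_P2 hF
      rw [← Nat.card_congr e.toEquiv] at h5
      norm_num at h5
      omega
    · have h4' : 2 ^ m = 6 := by omega
      have h5 : m ≤ 2 := by
        by_contra hcon
        have : 2 ^ 3 ≤ 2 ^ m := Nat.pow_le_pow_right (by norm_num) (by omega)
        omega
      interval_cases m <;> omega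
  have hnc : ∀ s : ℕ, 5 * s = Nat.card G → ¬ 5 ∣ s → Nat.card (Sylow 5 G) ≠ s := by
    intro s hs hs5 hcs
    obtain ⟨P⟩ : Nonempty (Sylow 5 G) := inferInstance
    have hP : Nat.card P = 5 := by
      have := sylow_card_of (p := 5) (k := 1) (m := s) (by rw [← hs, pow_one]) hs5 P
      rw [this, pow_one]
    obtain ⟨e, c, h1, -, h3, h4⟩ := nc_data hG P hP
    have h5 := card_normalizer_mul_nsyl P
    rw [hcs, ← hs] at h5
    have hs0 : 0 < s := by
      rcases Nat.eq_zero_or_pos s with h | h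
      · rw [h] at hs5; exact absurd (dvd_zero 5) hs5
      · exact h
    have h6 : Nat.card (Subgroup.normalizer ((P : Subgroup G) : Set G)) = 5 := Nat.eq_of_mul_eq_mul_right hs0 h5
    rw [h6] at h1
    have h7 : e ∣ 5 := ⟨5 * c, h1⟩
    have h8 : e ≤ 4 := Nat.le_of_dvd (by norm_num) h3
    have h9 := (Nat.dvd_prime Nat.prime_five).mp h7
    omega
  simp only [List.mem_cons, List.not_mem_nil, or_false] at hmem
  rcases hmem with hh | hh | hh | hh | hh | hh | hh | hh | hh | hh | hh | hh | hh | hh | hh | hh | hh | hh | hh | hh |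
    hh | hh | hh | hh
  · obtain ⟨n, t, htd, h1, h3⟩ := hp32 5 2 2 (by rw [hh]; norm_num) -- 180
    have htle : t ≤ 4 := Nat.le_of_dvd (by norm_num) htd
    rw [hh] at h3
    interval_cases t
    · omega
    · omega
    · omega
    · omega
    · have hn7 : n = 7 := by omega
      exact hnc 36 (by rw [hh]) (by norm_num) (by rw [h1, hn7])
  · exact h998 3 2 5 4 (by norm_num) (by norm_num) (by norm_num) (by norm_num) (by norm_num) (by norm_num) (by rw [hh]; norm_num) -- 240
  · have h1 := hsyl 5 2 12 (by rw [hh]; norm_num) (by norm_num) (by rw [hh]; norm_num) -- 300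
    rw [hh] at h1
    exact absurd h1 (by
      rw [show ((Nat.divisors 12).filter (fun d => d % 5 = 1)).filter (fun s => s ≠ 1 ∧ 2 * 300 ∣ s.factorial) = ∅ by decide +kernel]
      exact Finset.notMem_empty _)
  · exact h360 hh
  · have h1 := hsyl 5 1 84 (by rw [hh]; norm_num) (by norm_num) (by rw [hh]; norm_num) -- 420
    rw [hh, show ((Nat.divisors 84).filter (fun d => d % 5 = 1)).filter (fun s => s ≠ 1 ∧ 2 * 420 ∣ s.factorial) = {21} by decide +kernel,
      Finset.mem_singleton] at h1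
    exact Cfsg.Agent.S1010.result h1
  · exact h998 3 2 5 5 (by norm_num) (by norm_num) (by norm_num) (by norm_num) (by norm_num) (by norm_num) (by rw [hh]; norm_num) -- 480
  · exact h504 hh
  · obtain ⟨n, t, htd, h1, h3⟩ := hp32 5 3 2 (by rw [hh]; norm_num) -- 540
    have htle : t ≤ 4 := Nat.le_of_dvd (by norm_num) htd
    rw [hh] at h3
    interval_cases t <;> omega
  · exact h998 5 2 7 4 (by norm_num) (by norm_num) (by norm_num) (by norm_num) (by norm_num) (by norm_num) (by rw [hh]; norm_num) -- 560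
  · have h1 := hsyl 7 2 12 (by rw [hh]; norm_num) (by norm_num) (by rw [hh]; norm_num) -- 588
    rw [hh] at h1
    exact absurd h1 (by
      rw [show ((Nat.divisors 12).filter (fun d => d % 7 = 1)).filter (fun s => s ≠ 1 ∧ 2 * 588 ∣ s.factorial) = ∅ by decide +kernel]
      exact Finset.notMem_empty _)
  · have h1 := hsyl 5 2 24 (by rw [hh]; norm_num) (by norm_num) (by rw [hh]; norm_num) -- 600
    rw [hh] at h1
    exact absurd h1 (by
      rw [show ((Nat.divisors 24).filter (fun d => d % 5 = 1)).filter (fun s => s ≠ 1 ∧ 2 * 600 ∣ s.factorial) = ∅ by decide +kernel]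
      exact Finset.notMem_empty _)
  · exact h998 3 2 7 5 (by norm_num) (by norm_num) (by norm_num) (by norm_num) (by norm_num) (by norm_num) (by rw [hh]; norm_num) -- 672
  · exact h997 5 2 4 (by norm_num) (by norm_num) (by rw [hh]; norm_num) (by norm_num) (by omega) -- 700
  · exact Cfsg.Agent.Lib.H53Ord720.no720 hG hh -- 720
  · exact h997 3 3 4 (by norm_num) (by norm_num) (by rw [hh]; norm_num) (by norm_num) (by omega) -- 756
  · have h1 := hsyl 5 1 168 (by rw [hh]; norm_num) (by norm_num) (by rw [hh]; norm_num) -- 840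
    rw [hh, show ((Nat.divisors 168).filter (fun d => d % 5 = 1)).filter (fun s => s ≠ 1 ∧ 2 * 840 ∣ s.factorial) = {21, 56} by decide +kernel,
      Finset.mem_insert, Finset.mem_singleton] at h1
    rcases h1 with h1 | h1
    · exact Cfsg.Agent.S1010.result h1
    · obtain ⟨P⟩ : Nonempty (Sylow 5 G) := inferInstance
      have hP : Nat.card P = 5 := by
        have := sylow_card_of (p := 5) (k := 1) (m := 168) (by rw [hh]; norm_num) (by norm_num) P
        rw [this, pow_one]
      obtain ⟨e, c, h2, -, h3, h4⟩ := nc_data hG P hP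
      have h5 := card_normalizer_mul_nsyl P
      rw [h1, hh] at h5
      have h6 : Nat.card (Subgroup.normalizer ((P : Subgroup G) : Set G)) = 15 := by omega
      rw [h6] at h2
      have h8 : e ≤ 4 := Nat.le_of_dvd (by norm_num) h3
      interval_cases e <;> omega
  · have h1 := hsyl 5 2 36 (by rw [hh]; norm_num) (by norm_num) (by rw [hh]; norm_num) -- 900
    rw [hh, show ((Nat.divisors 36).filter (fun d => d % 5 = 1)).filter (fun s => s ≠ 1 ∧ 2 * 900 ∣ s.factorial) = {36} by decide +kernel,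
      Finset.mem_singleton] at h1
    obtain ⟨P⟩ : Nonempty (Sylow 5 G) := inferInstance
    have hP : Nat.card P = 5 ^ 2 := sylow_card_of (p := 5) (k := 2) (m := 36) (by rw [hh]; norm_num) (by norm_num) P
    have hPc : Nat.card (P : Subgroup G) = 5 ^ 2 := hP
    have h5 := card_normalizer_mul_nsyl P
    rw [h1, hh] at h5
    have h6 : Nat.card (Subgroup.normalizer ((P : Subgroup G) : Set G)) = 25 := by omega
    have h7 : (P : Subgroup G) = Subgroup.normalizer ((P : Subgroup G) : Set G) := by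
      apply Subgroup.eq_of_le_of_card_ge Subgroup.le_normalizer
      rw [h6, hPc]; norm_num
    have hcomm : IsMulCommutative (P : Subgroup G) := IsPGroup.isMulCommutative_of_card_eq_prime_sq hPc
    have hle : Subgroup.normalizer ((P : Subgroup G) : Set G) ≤ Subgroup.centralizer ((P : Subgroup G) : Set G) := by
      rw [← h7]
      exact le_centralizer_of_comm hcomm
    obtain ⟨M, hM, hMc, hM5⟩ := exists_characteristic_complement P hle
    have hMn : M.Normal := inferInstance
    have hMcard := hMc.card_mul_card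
    rw [hPc, hh] at hMcard
    rcases IsSimpleGroup.eq_bot_or_eq_top_of_normal M hMn with h8 | h8
    · rw [h8, Subgroup.card_bot] at hMcard; omega
    · rw [h8, Subgroup.card_top, hh] at hMcard; omega
  · exact h998 3 2 5 6 (by norm_num) (by norm_num) (by norm_num) (by norm_num) (by norm_num) (by norm_num) (by rw [hh]; norm_num) -- 960
  · have h1 := hsyl 7 2 20 (by rw [hh]; norm_num) (by norm_num) (by rw [hh]; norm_num) -- 980
    rw [hh] at h1
    exact absurd h1 (by
      rw [show ((Nat.divisors 20).filter (fun d => d % 7 = 1)).filter (fun s => s ≠ 1 ∧ 2 * 980 ∣ s.factorial) = ∅ by decide +kernel]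
      exact Finset.notMem_empty _)
  · obtain ⟨n, t, htd, h1, h3⟩ := hp32 7 2 4 (by rw [hh]; norm_num) -- 1008
    have htle : t ≤ 6 := Nat.le_of_dvd (by norm_num) htd
    rw [hh] at h3
    interval_cases t <;> omega
  · obtain ⟨n, t, htd, h1, h3⟩ := hp32 5 3 3 (by rw [hh]; norm_num) -- 1080
    have htle : t ≤ 4 := Nat.le_of_dvd (by norm_num) htd
    rw [hh] at h3
    interval_cases t
    · omega
    · omega
    · omega
    · omega
    · have hn7 : n = 43 := by omega
      exact hnc 216 (by rw [hh]) (by norm_num) (by rw [h1, hn7])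
  · exact h988 5 3 7 (by norm_num) (by norm_num) (by norm_num) (by rw [hh]; norm_num) -- 525
  · exact h988 7 3 5 (by norm_num) (by norm_num) (by norm_num) (by rw [hh]; norm_num) -- 735
  · exact h998 5 3 7 3 (by norm_num) (by norm_num) (by norm_num) (by norm_num) (by norm_num) (by norm_num) (by rw [hh]; norm_num) -- 945

end Cfsg.Agent.S0496
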