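import Cfsg.Statements.S0976
import Cfsg.Agent.Lib.PBKill

set_option autoImplicit false
open Cfsg

namespace Cfsg.Agent.S0976

open Cfsg.Agent.Lib.PBKill Cfsg.Agent.Lib.PBNum

theorem base {G : Type*} [Group G] [Fintype G] [IsSimpleGroup G] (h : Nat.card G = 4032) : False := by
  haveI : Fact (Nat.Prime 7) := ⟨by norm_num⟩
  have hG : ¬ IsMulCommutative G := not_comm (by rw [h]; norm_num)
  refine kill (p := 7) (by norm_num) hG (N := 4032) (M := 576) 63 64 72 [64, 192, 448, 576, 1344, 4032] h (by norm_num)
    (by norm_num) (by norm_num) (by norm_num) ?_ (by norm_num) (by norm_num) (by decide +kernel) (by decide +kernel)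
    (by decide +kernel)
  intro T
  have h1 := T.card_eq_multiplicity
  rw [h] at h1
  have h2 : (4032 : ℕ).factorization 2 = 6 := by
    rw [show (4032 : ℕ) = 2 ^ 6 * 63 by norm_num, Nat.factorization_mul (by norm_num) (by norm_num),
      Nat.Prime.factorization_pow (by norm_num)]
    simp [Nat.factorization_eq_zero_of_not_dvd]
  rw [h2] at h1
  exact h1

/-- No finite simple group has order 4032 = 2^6 * 3^2 * 7. -/
theorem result {G : Type*} [Group G] [Finite G] [IsSimpleGroup G] : Nat.card G ≠ 4032 := by
  intro h
  letI := Fintype.ofFinite G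
  exact base h

end Cfsg.Agent.S0976
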