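import Cfsg.Statements.S0980
import Cfsg.Agent.Lib.PBKill

set_option autoImplicit false
open Cfsg

namespace Cfsg.Agent.S0980

open Cfsg.Agent.Lib.PBKill Cfsg.Agent.Lib.PBNum

theorem base {G : Type*} [Group G] [Fintype G] [IsSimpleGroup G] (h : Nat.card G = 5760) : False := by
  haveI : Fact (Nat.Prime 5) := ⟨by norm_num⟩
  have hG : ¬ IsMulCommutative G := not_comm (by rw [h]; norm_num)
  refine kill (p := 5) (by norm_num) hG (N := 5760) (M := 1152) 75 128 72 [128, 384, 640, 1152, 1920, 5760] h (by norm_num)
    (by norm_num) (by norm_num) (by norm_num) ?_ (by norm_num) (by norm_num) (by decide +kernel) (by decide +kernel)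
    (by decide +kernel)
  intro T
  have h1 := T.card_eq_multiplicity
  rw [h] at h1
  have h2 : (5760 : ℕ).factorization 2 = 7 := by
    rw [show (5760 : ℕ) = 2 ^ 7 * 45 by norm_num, Nat.factorization_mul (by norm_num) (by norm_num),
      Nat.Prime.factorization_pow (by norm_num)]
    simp [Nat.factorization_eq_zero_of_not_dvd]
  rw [h2] at h1
  exact h1

/-- No finite simple group has order 5760 = 2^7 * 3^2 * 5. -/
theorem result {G : Type*} [Group G] [Finite G] [IsSimpleGroup G] : Nat.card G ≠ 5760 := by
  intro h
  letI := Fintype.ofFinite G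
  exact base h

end Cfsg.Agent.S0980
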