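import Cfsg.Statements.S0983
import Cfsg.Agent.Lib.Sieve6232
import Cfsg.Agent.Lib.Ord6232
import Cfsg.Agent.Lib.Ord5400
import Cfsg.Agent.S0976
import Cfsg.Agent.S0977
import Cfsg.Agent.S0979
import Cfsg.Agent.S0980

set_option autoImplicit false
open Cfsg

namespace Cfsg.Agent.S0983

open Cfsg.Agent.Lib.Ord6232

/-- A non-abelian finite simple group of order greater than 3640 and at most 6232 has order 4080, 5616, 6048 or 6072. -/
theorem result {G : Type*} [Group G] [Finite G] [IsSimpleGroup G] (hG : ¬ IsMulCommutative G) (h1 : 3640 < Nat.card G) (h2 : Nat.card G ≤ 6232) : Nat.card G = 4080 ∨ Nat.card G = 5616 ∨ Nat.card G = 6048 ∨ Nat.card G = 6072 := by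
  have h := Lib.Sieve6232.mem_survivors hG h1 h2
  simp only [Lib.Sieve6232.survivors, List.mem_cons, List.not_mem_nil, or_false] at h
  rcases h with h | h | h | h | h | h | h | h | h | h | h | h | h | h | h | h | h | h | h | h | h | h | h | h | h | h | h |
    h | h | h | h | h | h | h | h | h | h | h | h
  · exact absurd h (ne_3648 hG)
  · exact absurd h (ne_3696 hG)
  · exact absurd h (ne_3744 hG)
  · exact absurd h (ne_3780 hG)
  · exact absurd h (ne_3960 hG)
  · exact absurd h Cfsg.Agent.S0976.result
  · exact Or.inl h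
  · exact absurd h (ne_4160 hG)
  · exact absurd h (ne_4200 hG)
  · exact absurd h (ne_4212 hG)
  · exact absurd h Cfsg.Agent.S0977.result
  · exact absurd h (ne_4400 hG)
  · exact absurd h (ne_4536 hG)
  · exact absurd h (ne_4620 hG)
  · exact absurd h (ne_4680 hG)
  · exact absurd h (ne_4760 hG)
  · exact absurd h (ne_4800 hG)
  · exact absurd h (ne_4928 hG)
  · exact absurd h (ne_4960 hG)
  · exact absurd h (ne_5040 hG)
  · exact absurd h (ne_5104 hG)
  · exact absurd h (ne_5148 hG)
  · exact (Lib.SmallSieve.not_two_three hG 6 4 (by rw [h]; norm_num)).elim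
  · exact absurd h (ne_5200 hG)
  · exact absurd h (ne_5236 hG)
  · exact absurd h (ne_5376 hG)
  · exact (Lib.Ord5400.main hG h).elim
  · exact absurd h (ne_5460 hG)
  · exact absurd h Cfsg.Agent.S0979.result
  · exact absurd h (ne_5600 hG)
  · exact Or.inr (Or.inl h)
  · exact absurd h (ne_5724 hG)
  · exact absurd h Cfsg.Agent.S0980.result
  · exact absurd h (ne_5852 hG)
  · exact absurd h (ne_5880 hG)
  · exact absurd h (ne_5940 hG)
  · exact Or.inr (Or.inr (Or.inl h))
  · exact Or.inr (Or.inr (Or.inr h))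
  · exact absurd h (ne_6160 hG)

end Cfsg.Agent.S0983
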