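import Cfsg.Statements.S0984
import Cfsg.Agent.Lib.A7Fix

set_option autoImplicit false
open Cfsg

namespace Cfsg.Agent.S0984

open Subgroup in
theorem index_eq {G : Type*} [Group G] [Finite G] [IsSimpleGroup G] (hG : ¬ IsMulCommutative G)
    (h : Nat.card G = 2520) : ∃ X : Subgroup G, X ≠ ⊤ ∧ X.index = 7 := by
  classical
  letI := Fintype.ofFinite G
  haveI : Fact (Nat.Prime 3) := ⟨by norm_num⟩
  obtain ⟨S, X, hX, hNX, h8, hS9, hN36⟩ := Lib.A7Fix.exists_sub hG h
  refine ⟨X, hX, ?_⟩
  have h36 : 36 ∣ Nat.card X := by rw [← hN36]; exact Subgroup.card_dvd_of_le hNX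
  have h72 : 72 ∣ Nat.card X := by
    exact Nat.lcm_dvd h8 h36
  have hidx := X.card_mul_index
  rw [h] at hidx
  obtain ⟨k, hk⟩ := h72
  have h35 : X.index ∣ 35 := by
    refine ⟨k, ?_⟩
    have : 72 * (X.index * k) = 72 * 35 := by
      rw [show 72 * 35 = 2520 by norm_num, ← hidx, hk]; ring
    omega
  have h1 : X.index ≠ 1 := fun h1 => hX (Subgroup.index_eq_one.1 h1)
  have hle : X.index ≤ 35 := Nat.le_of_dvd (by norm_num) h35
  have h4 : X.index = 5 ∨ X.index = 7 ∨ X.index = 35 := by
    interval_cases X.index <;> revert h35 h1 <;> norm_num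
  rcases h4 with h5 | h7 | h35
  · exfalso
    obtain ⟨f, hf⟩ := Cfsg.Agent.S0991.result hG X hX
    have h6 := Nat.card_le_card_of_injective f hf
    rw [h5, h] at h6
    have h7 : Nat.card (alternatingGroup (Fin 5)) ≤ 60 := by
      rw [Nat.card_eq_fintype_card]
      have := two_mul_card_alternatingGroup (α := Fin 5)
      rw [Fintype.card_perm, Fintype.card_fin] at this
      have h8 : Nat.factorial 5 = 120 := by decide
      omega
    omega
  · exact h7
  · exfalso
    have hX72 : Nat.card X = 72 := by rw [h35] at hidx; omega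
    have hSX : (S : Subgroup G) ≤ X := le_trans Subgroup.le_normalizer hNX
    have h6 := card_sylow_modEq_one 3 X
    rw [(S.subtype hSX).card_eq_index_normalizer] at h6
    have h7 : normalizer (((S.subtype hSX : Sylow 3 X) : Subgroup X) : Set X) = (normalizer ((S : Subgroup G) : Set G)).subgroupOf X := by
      rw [Sylow.coe_subtype]
      exact (Subgroup.subgroupOf_normalizer_eq hSX).symm
    have h8 : Nat.card (normalizer (((S.subtype hSX : Sylow 3 X) : Subgroup X) : Set X)) = 36 := by
      rw [h7, ← hN36]
      exact Nat.card_congr (Subgroup.subgroupOfEquivOfLe hNX).toEquiv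
    have h9 := Subgroup.card_mul_index (normalizer (((S.subtype hSX : Sylow 3 X) : Subgroup X) : Set X))
    rw [h8, hX72] at h9
    have h10 : (normalizer (((S.subtype hSX : Sylow 3 X) : Subgroup X) : Set X)).index = 2 := by omega
    have h11 : (2 : ℕ) ≡ 1 [MOD 3] := by
      rw [← h10]; exact h6
    revert h11
    decide

/-- A simple group of order 2520 is isomorphic to the alternating group of degree 7. -/
theorem result {G : Type*} [Group G] [Finite G] [IsSimpleGroup G] (h : Nat.card G = 2520) : Nonempty (G ≃* alternatingGroup (Fin 7)) := by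
  classical
  have hG : ¬ IsMulCommutative G := by
    intro hc
    letI : CommGroup G := { (inferInstance : Group G) with mul_comm := hc.is_comm.comm }
    have h1 := IsSimpleGroup.prime_card (α := G)
    rw [h] at h1
    norm_num at h1
  obtain ⟨X, hX, hidx⟩ := index_eq hG h
  have key : ∃ f : G →* alternatingGroup (Fin 7), Function.Injective f := by
    have h1 := Cfsg.Agent.S0991.result hG X hX
    rw [hidx] at h1
    exact h1
  obtain ⟨f, hf⟩ := key
  have h7 : Nat.card (alternatingGroup (Fin 7)) = 2520 := by
    rw [Nat.card_eq_fintype_card]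
    have := two_mul_card_alternatingGroup (α := Fin 7)
    rw [Fintype.card_perm, Fintype.card_fin] at this
    have h8 : Nat.factorial 7 = 5040 := by decide
    omega
  have hbij : Function.Bijective f := by
    rw [Nat.bijective_iff_injective_and_card]
    exact ⟨hf, by rw [h, h7]⟩
  exact ⟨MulEquiv.ofBijective f hbij⟩

end Cfsg.Agent.S0984
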