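import Cfsg.Statements.S1011
import Cfsg.Agent.Lib.Ord504
import Cfsg.Agent.Lib.ElemCent3
import Cfsg.Agent.Lib.ClSeven

set_option autoImplicit false
open Cfsg

namespace Cfsg.Agent.S1011

open Subgroup in
theorem base {G : Type*} [Group G] [Finite G] [IsSimpleGroup G] (h : Nat.card G = 504) :
    (∀ w : G, orderOf w = 2 → Nat.card (centralizer ({w} : Set G)) = 8) ∧ ∀ f : G, orderOf f ≠ 4 := by
  classical
  letI := Fintype.ofFinite G
  have hG : ¬ IsMulCommutative G := by
    intro hc
    letI : CommGroup G := { (inferInstance : Group G) with mul_comm := hc.is_comm.comm }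
    have h1 := IsSimpleGroup.prime_card (α := G)
    rw [h] at h1
    norm_num at h1
  haveI : Fact (Nat.Prime 7) := ⟨by norm_num⟩
  obtain ⟨Q⟩ : Nonempty (Sylow 7 G) := inferInstance
  have hQ : Nat.card Q = 7 := (Cfsg.Agent.Lib.SylEven.data hG (p := 7) (M := 72) (by rw [h]) (by norm_num) Q).1
  obtain ⟨D, i, ⟨B⟩⟩ := Lib.PBExt.exists_PBE Q hQ
  exact Lib.Ord504.invol hG h B

/-- A simple group of order 504 is isomorphic to the projective special linear group of dimension 2 over the field with 8 elements. -/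
theorem result {G : Type*} [Group G] [Finite G] [IsSimpleGroup G] (h : Nat.card G = 504) {F : Type*} [Field F] [Fintype F] (hF : Fintype.card F = 8) : Nonempty (G ≃* Matrix.ProjectiveSpecialLinearGroup (Fin 2) F) := by
  classical
  obtain ⟨h8, h4⟩ := base h
  obtain ⟨T⟩ : Nonempty (Sylow 2 G) := inferInstance
  have hT8 : Nat.card (T : Subgroup G) = 8 := by
    have h1 := T.card_eq_multiplicity
    rw [h] at h1
    have h2 : (504 : ℕ).factorization 2 = 3 := by
      rw [show (504 : ℕ) = 2 ^ 3 * 63 by norm_num, Nat.factorization_mul (by norm_num) (by norm_num),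
        Nat.Prime.factorization_pow (by norm_num)]
      simp [Nat.factorization_eq_zero_of_not_dvd]
    rw [h2] at h1
    exact h1
  have hsq : ∀ (H : Subgroup G), Nat.card H = 8 → ∀ c ∈ H, c ^ 2 = 1 := by
    intro H hH c hc
    have h1 : orderOf c ∣ 2 ^ 3 := by rw [show (2 : ℕ) ^ 3 = 8 by norm_num, ← hH]; exact Subgroup.orderOf_dvd_natCard _ hc
    obtain ⟨k, hk, hk'⟩ := (Nat.dvd_prime_pow (by norm_num)).1 h1
    interval_cases k
    · have h2 : c = 1 := orderOf_eq_one_iff.1 (by simpa using hk')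
      rw [h2, one_pow]
    · exact orderOf_dvd_iff_pow_eq_one.1 (by rw [hk']; norm_num)
    · exact absurd (by simpa using hk') (h4 c)
    · exfalso
      apply h4 (c ^ 2)
      rw [orderOf_pow' c (by norm_num), hk']; norm_num
  have hnc : ¬ IsCyclic (T : Subgroup G) := by
    intro hc
    obtain ⟨g, hg⟩ := hc.exists_generator
    have h1 : orderOf g = 8 := by rw [orderOf_eq_card_of_forall_mem_zpowers hg]; exact hT8
    have h2 := hsq T hT8 g g.2
    have h3 : g ^ 2 = 1 := Subtype.ext h2
    have h4 := orderOf_dvd_of_pow_eq_one h3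
    rw [h1] at h4
    norm_num at h4
  have hnn : ¬ (T : Subgroup G).Normal := by
    intro hn
    rcases IsSimpleGroup.eq_bot_or_eq_top_of_normal _ hn with h1 | h1
    · rw [h1, Subgroup.card_bot] at hT8; norm_num at hT8
    · rw [h1, Subgroup.card_top, h] at hT8; norm_num at hT8
  obtain ⟨F', i1, i2, hF', ⟨E⟩⟩ := Lib.ElemCent.psl_two T hnc hnn (by
    intro t ht
    have h1 := hsq _ (h8 t ht)
    refine ⟨⟨⟨fun a b => Subtype.ext ?_⟩⟩, h1⟩
    have ha := h1 a a.2
    have hb := h1 b b.2
    have hab := h1 (a * b) (mul_mem a.2 b.2)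
    change (a : G) * b = b * a
    have ha' : (a : G)⁻¹ = a := inv_eq_of_mul_eq_one_left (by rw [← pow_two]; exact ha)
    have hb' : (b : G)⁻¹ = b := inv_eq_of_mul_eq_one_left (by rw [← pow_two]; exact hb)
    have hab' : ((a : G) * b)⁻¹ = a * b := inv_eq_of_mul_eq_one_left (by rw [← pow_two]; exact hab)
    rw [← hab', mul_inv_rev, ha', hb'])
  rw [hT8] at hF'
  exact ⟨E.trans (Lib.ClSeven.pslCongr 2 (FiniteField.ringEquivOfCardEq (hF'.trans hF.symm)))⟩

end Cfsg.Agent.S1011
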