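import Cfsg.Statements.S1098
import Cfsg.Agent.Lib.TwSpec

set_option autoImplicit false
open Cfsg

namespace Cfsg.Agent.S1098

/-- Graph automorphisms in characteristic 2 (K perfect): for B₂ (a short, b long) `x_a(t) ↦ x_b(t²)`, `x_b(t) ↦ x_a(t)`, and for F₄ (p₁, p₂ short, p₃, p₄ long) `x_{p₁}(t) ↦ x_{p₄}(t²)`, `x_{p₂}(t) ↦ x_{p₃}(t²)`, `x_{p₃}(t) ↦ x_{p₂}(t)`, `x_{p₄}(t) ↦ x_{p₁}(t)`, likewise on the negatives, extend to an automorphism of the group. -/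
theorem result {K : Type*} [Field K] [CharP K 2] (hperf : ∀ x : K, ∃ y : K, y ^ 2 = x)
    (p : Cfsg.Lie.ChevalleyDatum × List (ℕ × ℕ))
    (hp : p ∈ [(Cfsg.Lie.chevB2, [(1, 2), (0, 1)]), (Cfsg.Lie.chevF4, [(3, 2), (2, 2), (1, 1), (0, 1)])]) :
    ∃ α : ↥(p.1.group K) ≃* ↥(p.1.group K), ∀ (g : ↥(p.1.group K)) (i : ℕ) (t : K), i < p.1.rank →
      (((g : GL p.1.Idx K) : Matrix p.1.Idx p.1.Idx K) = p.1.x K (p.1.simple i) t →
        ((α g : GL p.1.Idx K) : Matrix p.1.Idx p.1.Idx K) = p.1.x K (p.1.simple (p.2.getD i (0, 1)).1) (t ^ (p.2.getD i (0, 1)).2)) ∧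
      (((g : GL p.1.Idx K) : Matrix p.1.Idx p.1.Idx K) = p.1.x K (p.1.neg (p.1.simple i)) t →
        ((α g : GL p.1.Idx K) : Matrix p.1.Idx p.1.Idx K) = p.1.x K (p.1.neg (p.1.simple (p.2.getD i (0, 1)).1)) (t ^ (p.2.getD i (0, 1)).2)) := by
  have key : ∀ (D : Cfsg.Lie.ChevalleyDatum) (G : Cfsg.Agent.Lib.ChevGood.Good D) (Q : Cfsg.Agent.Lib.TwSpec.SP)
      (α : ↥(D.group K) ≃* ↥(D.group K)) (_ : ∀ s < D.nroots, ∀ t : K, α (Cfsg.Agent.Lib.TwSpec.XG G K s t) =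
        Cfsg.Agent.Lib.TwSpec.XG G K (Q.r s) (t ^ Q.l s)) (s : ℕ) (_ : s < D.nroots) (g : ↥(D.group K)) (t : K),
      ((g : GL D.Idx K) : Matrix D.Idx D.Idx K) = D.x K s t →
      ((α g : GL D.Idx K) : Matrix D.Idx D.Idx K) = D.x K (Q.r s) (t ^ Q.l s) := by
    intro D G Q α hα s hs g t h
    have hg : g = Cfsg.Agent.Lib.TwSpec.XG G K s t := by
      apply Subtype.ext
      apply Units.ext
      exact h.trans (Cfsg.Agent.Lib.ChevRel.coe_xg G s t).symm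
    rw [hg, hα s hs t]
    exact Cfsg.Agent.Lib.ChevRel.coe_xg G _ _
  have key2 : ∀ (D : Cfsg.Lie.ChevalleyDatum) (G : Cfsg.Agent.Lib.ChevGood.Good D) (Q : Cfsg.Agent.Lib.TwSpec.SP)
      (L : List (ℕ × ℕ)) (_ : ∀ i < D.rank, (Q.r (D.simple i) = D.simple (L.getD i (0, 1)).1 ∧
        Q.l (D.simple i) = (L.getD i (0, 1)).2) ∧ Q.r (D.neg (D.simple i)) = D.neg (D.simple (L.getD i (0, 1)).1) ∧
        Q.l (D.neg (D.simple i)) = (L.getD i (0, 1)).2)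
      (α : ↥(D.group K) ≃* ↥(D.group K)) (_ : ∀ s < D.nroots, ∀ t : K, α (Cfsg.Agent.Lib.TwSpec.XG G K s t) =
        Cfsg.Agent.Lib.TwSpec.XG G K (Q.r s) (t ^ Q.l s)),
      ∀ (g : ↥(D.group K)) (i : ℕ) (t : K), i < D.rank →
      (((g : GL D.Idx K) : Matrix D.Idx D.Idx K) = D.x K (D.simple i) t →
        ((α g : GL D.Idx K) : Matrix D.Idx D.Idx K) = D.x K (D.simple (L.getD i (0, 1)).1) (t ^ (L.getD i (0, 1)).2)) ∧
      (((g : GL D.Idx K) : Matrix D.Idx D.Idx K) = D.x K (D.neg (D.simple i)) t →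
        ((α g : GL D.Idx K) : Matrix D.Idx D.Idx K) = D.x K (D.neg (D.simple (L.getD i (0, 1)).1)) (t ^ (L.getD i (0, 1)).2)) := by
    intro D G Q L hL α hα g i t hi
    obtain ⟨⟨a, b⟩, c, d⟩ := hL i hi
    constructor
    · intro h
      have := key D G Q α hα _ (G.simple_lt i hi) g t h
      rwa [a, b] at this
    · intro h
      have := key D G Q α hα _ (Cfsg.Agent.Lib.ChevU.neg_lt G (G.simple_lt i hi)) g t h
      rwa [c, d] at this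
  simp only [List.mem_cons, List.not_mem_nil, or_false] at hp
  rcases hp with rfl | rfl
  · obtain ⟨α, hα⟩ := Cfsg.Agent.Lib.TwSpec.exists_special (K := K) Cfsg.Agent.Lib.ChevOkB2.good
      (Q := Cfsg.Agent.Lib.TwSpec.spB2) Cfsg.Agent.Lib.TwSpec.chkB2 Nat.prime_two (by simp)
      Cfsg.Agent.Lib.TwSpec.ker_B2 hperf
    exact ⟨α, key2 _ Cfsg.Agent.Lib.ChevOkB2.good _ _ (by decide +kernel) α hα⟩
  · obtain ⟨α, hα⟩ := Cfsg.Agent.Lib.TwSpec.exists_special (K := K) Cfsg.Agent.Lib.ChevOkF4.good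
      (Q := Cfsg.Agent.Lib.TwSpec.spF4) Cfsg.Agent.Lib.TwSpec.chkF4 Nat.prime_two (by simp)
      Cfsg.Agent.Lib.TwSpec.ker_F4 hperf
    exact ⟨α, key2 _ Cfsg.Agent.Lib.ChevOkF4.good _ _ (by decide +kernel) α hα⟩

end Cfsg.Agent.S1098
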