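import Cfsg.Statements.S3992
import Cfsg.Agent.Lib.EPPO3

set_option autoImplicit false
open Cfsg

namespace Cfsg.Agent.S3992

open Cfsg.Agent.Lib

/-- Let G be a finite non-solvable group in which every element has prime-power order, and let R be its largest solvable normal subgroup. Then R is a p-group for some prime p; G/R has a non-abelian simple normal subgroup contained in every nontrivial normal subgroup of G/R (its unique minimal normal subgroup); and the order of every solvable subgroup of G has at most two prime divisors. -/
theorem result {G : Type*} [Group G] [Finite G] (hns : ¬ Group.IsSolvable G) (hpp : ∀ g : G, g ≠ 1 → IsPrimePow (orderOf g))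
    (R : Subgroup G) [R.Normal] (hRs : Group.IsSolvable ↥R) (hRmax : ∀ N : Subgroup G, N.Normal → Group.IsSolvable ↥N → N ≤ R) :
    (∃ p : ℕ, p.Prime ∧ IsPGroup p ↥R) ∧
      (∃ M : Subgroup (G ⧸ R), M.Normal ∧ IsSimpleGroup ↥M ∧ ¬ IsMulCommutative ↥M ∧
        ∀ N : Subgroup (G ⧸ R), N.Normal → N ≠ ⊥ → M ≤ N) ∧
      ∀ H : Subgroup G, Group.IsSolvable ↥H → (Nat.card ↥H).primeFactors.card ≤ 2 := by
  have hE : EPPO.IsEPPO G := hpp
  refine ⟨EPPO.radical_isPGroup hE hns R hRs, ?_, fun H hH => ?_⟩
  · refine EPPO.exists_simple_socle (hE.quotient R) ?_ ?_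
    · by_contra h
      rw [not_nontrivial_iff_subsingleton] at h
      have h1 : R = ⊤ := (QuotientGroup.subsingleton_iff (N := R)).1 h
      apply hns
      rw [h1] at hRs
      exact Group.isSolvable_of_isSolvable_injective (f := (Subgroup.topEquiv.symm : G ≃* (⊤ : Subgroup G)).toMonoidHom) (Subgroup.topEquiv.symm : G ≃* (⊤ : Subgroup G)).injective
    · intro N hN hNs
      have h1 : (N.comap (QuotientGroup.mk' R)).Normal := hN.comap _
      have h2 : Group.IsSolvable (N.comap (QuotientGroup.mk' R)) := by
        let f : N.comap (QuotientGroup.mk' R) →* N :=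
          ((QuotientGroup.mk' R).comp (N.comap (QuotientGroup.mk' R)).subtype).codRestrict N (fun x => x.2)
        have hk : Group.IsSolvable f.ker := by
          let g : f.ker →* R := ((N.comap (QuotientGroup.mk' R)).subtype.comp f.ker.subtype).codRestrict R (by
            intro x
            have h3 : f x = 1 := x.2
            have h4 : (QuotientGroup.mk' R) ((x : N.comap (QuotientGroup.mk' R)) : G) = 1 :=
              congrArg Subtype.val h3
            exact (QuotientGroup.eq_one_iff _).1 h4)
          refine Group.isSolvable_of_isSolvable_injective (f := g) ?_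
          intro a b hab
          have h5 : ((a : N.comap (QuotientGroup.mk' R)) : G) = ((b : N.comap (QuotientGroup.mk' R)) : G) :=
            congrArg (fun z : R => (z : G)) hab
          exact Subtype.ext (Subtype.ext h5)
        exact Group.isSolvable_of_ker_le_range f.ker.subtype f (by simp)
      have h3 := hRmax _ h1 h2
      rw [eq_bot_iff]
      intro x hx
      obtain ⟨g, rfl⟩ := QuotientGroup.mk_surjective x
      have h4 : g ∈ R := h3 hx
      exact Subgroup.mem_bot.2 ((QuotientGroup.eq_one_iff _).2 h4)
  · exact EPPO.card_primeFactors_le (hE.subgroup H)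

end Cfsg.Agent.S3992
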