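import Cfsg.Statements.S3021
import Mathlib

set_option autoImplicit false
open Cfsg

namespace Cfsg.Agent.S3021

/-- Let G be a finite group, p a prime and H a p-subgroup of G that is extremely closed (for every g, the subgroup generated by H and g H g⁻¹ meets N_G(H) exactly in H). Then every p-subgroup Q of G containing H has N_G(Q) ≤ N_G(H); in particular every Sylow p-subgroup P of G containing H normalizes H, and H is strongly closed in P with respect to G. -/
theorem result {G : Type*} [Group G] [Finite G] {p : ℕ} [Fact p.Prime] (H : Subgroup G) (hHp : IsPGroup p H) (hcl : Cfsg.IsExtremelyClosed H) : (∀ Q : Subgroup G, IsPGroup p Q → H ≤ Q → Subgroup.normalizer (Q : Set G) ≤ Subgroup.normalizer (H : Set G)) ∧ ∀ P : Sylow p G, H ≤ (P : Subgroup G) → (P : Subgroup G) ≤ Subgroup.normalizer (H : Set G) ∧ Cfsg.IsStronglyClosed H (P : Subgroup G) := by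
  have key : ∀ Q : Subgroup G, IsPGroup p Q → H ≤ Q → Subgroup.normalizer (Q : Set G) ≤ Subgroup.normalizer (H : Set G) := by
    intro Q hQ hHQ g hg
    set T : Subgroup G := H ⊔ H.map (MulAut.conj g).toMonoidHom with hT
    have hHgQ : H.map (MulAut.conj g).toMonoidHom ≤ Q := by
      rintro _ ⟨x, hx, rfl⟩
      exact ((Subgroup.mem_normalizer_iff.1 hg) x).1 (hHQ hx)
    have hTQ : T ≤ Q := sup_le hHQ hHgQ
    have hTp : IsPGroup p T := hQ.to_le hTQ
    have hHT : H ≤ T := le_sup_left
    have hcl' : T ⊓ Subgroup.normalizer (H : Set G) = H := hcl g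
    have hTH : T = H := by
      by_contra hne
      haveI : Group.IsNilpotent T := hTp.isNilpotent
      have hlt : H.subgroupOf T < ⊤ := by
        rw [lt_top_iff_ne_top]
        intro h
        exact hne (le_antisymm (Subgroup.subgroupOf_eq_top.1 h) hHT)
      have := (Group.normalizerCondition_of_isNilpotent (G := T)) _ hlt
      apply this.not_ge
      intro y hy
      have : (y : G) ∈ T ⊓ Subgroup.normalizer (H : Set G) := by
        refine Subgroup.mem_inf.2 ⟨y.2, ?_⟩
        rw [Subgroup.mem_normalizer_iff]
        rw [Subgroup.mem_normalizer_iff] at hy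
        intro h
        constructor
        · intro hh
          have := (hy ⟨h, hHT hh⟩).1 (Subgroup.mem_subgroupOf.2 hh)
          exact Subgroup.mem_subgroupOf.1 this
        · intro hh
          have hhT : (y : G) * h * (y : G)⁻¹ ∈ T := hHT hh
          have hhT' : h ∈ T := by
            have := T.mul_mem (T.mul_mem (T.inv_mem y.2) hhT) y.2
            simpa [mul_assoc] using this
          have := (hy ⟨h, hhT'⟩).2 (Subgroup.mem_subgroupOf.2 hh)
          exact Subgroup.mem_subgroupOf.1 this
      rw [hcl'] at this
      exact Subgroup.mem_subgroupOf.2 this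
    have hHg : H.map (MulAut.conj g).toMonoidHom ≤ H := by
      calc H.map (MulAut.conj g).toMonoidHom ≤ T := le_sup_right
        _ = H := hTH
    have hcard : H.map (MulAut.conj g).toMonoidHom = H := by
      apply Subgroup.eq_of_le_of_card_ge hHg
      rw [Subgroup.card_map_of_injective (MulAut.conj g).injective]
    rw [Subgroup.mem_normalizer_iff]
    intro h
    constructor
    · intro hh
      apply hHg
      exact ⟨h, hh, rfl⟩
    · intro hh
      have : g * h * g⁻¹ ∈ H.map (MulAut.conj g).toMonoidHom := by rw [hcard]; exact hh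
      obtain ⟨y, hy, hyy⟩ := this
      have : y = h := (MulAut.conj g).injective hyy
      rwa [← this]
  refine ⟨key, ?_⟩
  intro P hHP
  have hPN : (P : Subgroup G) ≤ Subgroup.normalizer (H : Set G) :=
    le_trans Subgroup.le_normalizer (key P P.isPGroup' hHP)
  refine ⟨hPN, hHP, ?_⟩
  intro x hx g hg
  have h1 : g * x * g⁻¹ ∈ (H ⊔ H.map (MulAut.conj g).toMonoidHom) ⊓ Subgroup.normalizer (H : Set G) := by
    refine ⟨Subgroup.mem_sup_right ⟨x, hx, rfl⟩, hPN hg⟩
  rwa [hcl g] at h1


end Cfsg.Agent.S3021
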