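import Cfsg.Statements.S1631
import Cfsg.Agent.Lib.ClThreeTransU
import Cfsg.Agent.S0780
import Cfsg.Agent.S0283

set_option autoImplicit false
open scoped MatrixGroups
open Cfsg

namespace Cfsg.Agent.S1631

open Cfsg.Agent.Lib Cfsg.Agent.Lib.ClThreeTransU Cfsg.Agent.Lib.HermMat Matrix

/-- The unitary transvections of SU(n, 2), n ≥ 4, form a generating conjugacy class of 3-transpositions. -/
theorem result (F : Type) [Field F] [Fintype F] [DecidableEq F] (hF : Fintype.card F = 4) (n : ℕ) (hn : 4 ≤ n) : Cfsg.IsThreeTranspositionClass {g : ↥(Cfsg.SU n F 2) | (((g : Matrix.SpecialLinearGroup (Fin n) F) : Matrix (Fin n) (Fin n) F) - 1).rank = 1} := by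
  have hF2 := ClThreeTransU.hF' hF
  have hch := char2 hF
  have hmem : ∀ A : ↥(Cfsg.SU n F 2), (ClThreeTransU.mt A - 1).rank = 1 ↔
      ∃ v, v ≠ 0 ∧ Cfsg.hermForm n F 2 v v = 0 ∧ TR A v := by
    intro A
    exact ⟨exists_TR hF A, fun ⟨v, hv, _, hA⟩ => rank_TR hF A hv hA⟩
  have hgen := Cfsg.Agent.S0780.result hF2 n (by omega) (by omega)
  have hone : ∀ A : ↥(Cfsg.SU n F 2), (∃ (v : Fin n → F) (c : F), Cfsg.hermForm n F 2 v v = 0 ∧
      ((A : Matrix.SpecialLinearGroup (Fin n) F) : Matrix (Fin n) (Fin n) F) = Cfsg.unitaryTransvection n 2 v c) →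
      A ≠ 1 → (ClThreeTransU.mt A - 1).rank = 1 := by
    rintro A ⟨v, c, hvv, hA⟩ h1
    have hA' : ∀ x, ∃ d : F, (ClThreeTransU.mt A - 1) *ᵥ x = d • v := by
      intro x
      refine ⟨c * ((fun j => (v j) ^ 2) ⬝ᵥ x), ?_⟩
      change (((A : Matrix.SpecialLinearGroup (Fin n) F) : Matrix (Fin n) (Fin n) F) - 1) *ᵥ x = _
      rw [hA, Cfsg.unitaryTransvection, add_sub_cancel_left, smul_mulVec, vecMulVec_mulVec, mul_smul]
      simp
    have hv0 : v ≠ 0 := by
      rintro rfl
      apply h1
      apply SU_ext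
      intro x
      obtain ⟨d, hd⟩ := hA' x
      rw [smul_zero, sub_mulVec, sub_eq_zero] at hd
      exact hd
    have hle : LinearMap.range (ClThreeTransU.mt A - 1).mulVecLin ≤ Submodule.span F {v} := by
      rintro _ ⟨x, rfl⟩
      obtain ⟨d, hd⟩ := hA' x
      rw [mulVecLin_apply, hd]
      exact Submodule.smul_mem _ _ (Submodule.mem_span_singleton_self v)
    have h2 : (ClThreeTransU.mt A - 1).rank ≤ 1 := by
      have := Submodule.finrank_mono hle
      rw [finrank_span_singleton hv0] at this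
      exact this
    have h3 : (ClThreeTransU.mt A - 1).rank ≠ 0 := by
      intro h0
      rw [Matrix.rank, Submodule.finrank_eq_zero] at h0
      apply h1
      apply SU_ext
      intro x
      have h3 : (ClThreeTransU.mt A - 1).mulVecLin x ∈ LinearMap.range (ClThreeTransU.mt A - 1).mulVecLin := ⟨x, rfl⟩
      rw [h0, Submodule.mem_bot, mulVecLin_apply, sub_mulVec, sub_eq_zero] at h3
      exact h3
    omega
  refine ⟨⟨?_, ?_⟩, ?_, ?_⟩
  · intro A hA
    obtain ⟨v, hv, hvv, hT⟩ := (hmem A).1 hA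
    exact orderOf_eq_prime (by rw [sq]; exact hT.sq hF hvv) (hT.ne_one hF hv)
  · intro A hA B hB
    obtain ⟨v, hv, hvv, hT⟩ := (hmem A).1 hA
    obtain ⟨w, hw, hww, hS⟩ := (hmem B).1 hB
    exact hT.three hF hvv hS hww
  · -- existence
    have hex : ∃ A : ↥(Cfsg.SU n F 2), (ClThreeTransU.mt A - 1).rank = 1 := by
      by_contra hcon
      push Not at hcon
      have htop : (⊤ : Subgroup ↥(Cfsg.SU n F 2)) ≤ ⊥ := by
        rw [← hgen, Subgroup.closure_le]
        rintro A hA
        by_contra h1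
        exact hcon A (hone A hA h1)
      have hs := Cfsg.Agent.S0283.result hF2 n (by omega) (by omega)
      obtain ⟨x, y, hxy⟩ := hs.toNontrivial
      apply hxy
      induction x using QuotientGroup.induction_on with
      | H a =>
        induction y using QuotientGroup.induction_on with
        | H b =>
          rw [Subgroup.mem_bot.1 (htop (Subgroup.mem_top a)), Subgroup.mem_bot.1 (htop (Subgroup.mem_top b))]
    obtain ⟨A, hA⟩ := hex
    refine ⟨A, hA, ?_⟩
    ext B
    change (ClThreeTransU.mt B - 1).rank = 1 ↔ IsConj A B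
    constructor
    · intro hB
      exact UniTrans.isConj_transvections hF2 (by omega) A B (isTransvection_of_rank _ hA A.1.2) (isTransvection_of_rank _ hB B.1.2)
    · intro h
      obtain ⟨g, rfl⟩ := isConj_iff.1 h
      obtain ⟨v, hv, hvv, hT⟩ := (hmem A).1 hA
      rw [hmem]
      refine ⟨ClThreeTransU.mt g *ᵥ v, ?_, ?_, hT.conj hF⟩
      · intro h0
        apply hv
        have : ClThreeTransU.mt g⁻¹ *ᵥ (ClThreeTransU.mt g *ᵥ v) = v := by
          rw [mulVec_mulVec, ← mt_mul, inv_mul_cancel, mt_one, one_mulVec]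
        rw [← this, h0, mulVec_zero]
      · rw [← hvv]
        exact g.2 v v
  · rw [eq_top_iff, ← hgen, Subgroup.closure_le]
    rintro A hA
    by_cases h1 : A = 1
    · rw [h1]; exact one_mem _
    exact Subgroup.subset_closure (hone A hA h1)

end Cfsg.Agent.S1631
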