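import Cfsg.Statements.S5136
import Cfsg.Agent.Lib.FusionMini

set_option autoImplicit false
open Cfsg
open Cfsg.Agent.Lib.FusionMini

namespace Cfsg.Agent.S5136

/-- Let F₁ and F₂ be fusion systems over finite p-groups S₁ and S₂ (inside ambient groups Ω₁ and Ω₂). Then their direct product exists: there is a fusion system over S₁ × S₂ inside Ω₁ × Ω₂ whose maps with source P ≤ S₁ × S₂ are exactly the restrictions to P of the homomorphisms (x₁, x₂) ↦ (φ₁ x₁, φ₂ x₂) with φ₁ a map of F₁ on the first projection of P and φ₂ a map of F₂ on the second projection. -/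
theorem result {Ω₁ Ω₂ : Type*} [Group Ω₁] [Group Ω₂] {S₁ : Subgroup Ω₁} {S₂ : Subgroup Ω₂} [Finite S₁] [Finite S₂] (p : ℕ) [Fact p.Prime] (h₁ : IsPGroup p S₁) (h₂ : IsPGroup p S₂) (F₁ : Cfsg.FusionSystem S₁) (F₂ : Cfsg.FusionSystem S₂) : ∃ E : Cfsg.FusionSystem (S₁.prod S₂), Cfsg.FusionSystem.IsProductSystem F₁ F₂ E := by
  classical
  refine ⟨⟨fun P => {φ | P ≤ S₁.prod S₂ ∧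
      ∃ φ₁ ∈ F₁.Hom (P.map (MonoidHom.fst Ω₁ Ω₂)), ∃ φ₂ ∈ F₂.Hom (P.map (MonoidHom.snd Ω₁ Ω₂)),
        ∀ (x : P) (h₁ : (x : Ω₁ × Ω₂).1 ∈ P.map (MonoidHom.fst Ω₁ Ω₂))
          (h₂ : (x : Ω₁ × Ω₂).2 ∈ P.map (MonoidHom.snd Ω₁ Ω₂)),
          φ x = (φ₁ ⟨(x : Ω₁ × Ω₂).1, h₁⟩, φ₂ ⟨(x : Ω₁ × Ω₂).2, h₂⟩)}, ?_, ?_, ?_, ?_, ?_⟩, fun P φ => Iff.rfl⟩
  · rintro P φ ⟨hP, φ₁, hφ₁, φ₂, hφ₂, h⟩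
    refine ⟨hP, fun x => ?_⟩
    rw [h x ⟨x, x.2, rfl⟩ ⟨x, x.2, rfl⟩]
    exact ⟨val_mem F₁ hφ₁ _, val_mem F₂ hφ₂ _⟩
  · rintro P φ ⟨hP, φ₁, hφ₁, φ₂, hφ₂, h⟩ x y hxy
    rw [h x ⟨x, x.2, rfl⟩ ⟨x, x.2, rfl⟩, h y ⟨y, y.2, rfl⟩ ⟨y, y.2, rfl⟩, Prod.mk.injEq] at hxy
    have h1 := congrArg Subtype.val (F₁.injective_of_mem hφ₁ hxy.1)
    have h2 := congrArg Subtype.val (F₂.injective_of_mem hφ₂ hxy.2)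
    exact Subtype.ext (Prod.ext h1 h2)
  · intro P g hP hg
    have hP₁ : P.map (MonoidHom.fst Ω₁ Ω₂) ≤ S₁ := by
      rintro _ ⟨x, hx, rfl⟩
      exact (hP hx).1
    have hP₂ : P.map (MonoidHom.snd Ω₁ Ω₂) ≤ S₂ := by
      rintro _ ⟨x, hx, rfl⟩
      exact (hP hx).2
    exact ⟨hP, conjHom _ g.1, F₁.conj_mem hP₁ hg.1, conjHom _ g.2, F₂.conj_mem hP₂ hg.2, fun x h₁ h₂ => rfl⟩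
  · rintro P Q φ ψ ⟨hP, φ₁, hφ₁, φ₂, hφ₂, hφ⟩ ⟨hQ, ψ₁, hψ₁, ψ₂, hψ₂, hψ⟩ h
    have hv₁ : ∀ x, φ₁ x ∈ Q.map (MonoidHom.fst Ω₁ Ω₂) := by
      rintro ⟨_, x, hx, rfl⟩
      refine ⟨φ ⟨x, hx⟩, h _, ?_⟩
      rw [hφ ⟨x, hx⟩ ⟨x, hx, rfl⟩ ⟨x, hx, rfl⟩]
      rfl
    have hv₂ : ∀ x, φ₂ x ∈ Q.map (MonoidHom.snd Ω₁ Ω₂) := by
      rintro ⟨_, x, hx, rfl⟩
      refine ⟨φ ⟨x, hx⟩, h _, ?_⟩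
      rw [hφ ⟨x, hx⟩ ⟨x, hx, rfl⟩ ⟨x, hx, rfl⟩]
      rfl
    refine ⟨hP, _, F₁.comp_mem hφ₁ hψ₁ hv₁, _, F₂.comp_mem hφ₂ hψ₂ hv₂, fun x h₁ h₂ => ?_⟩
    have e1 := hφ x h₁ h₂
    show ψ ⟨φ x, h x⟩ = (ψ₁ ⟨φ₁ ⟨(x : Ω₁ × Ω₂).1, h₁⟩, hv₁ _⟩, ψ₂ ⟨φ₂ ⟨(x : Ω₁ × Ω₂).2, h₂⟩, hv₂ _⟩)
    have e2 := hψ ⟨φ x, h x⟩ ⟨_, h x, rfl⟩ ⟨_, h x, rfl⟩
    rw [e2]
    refine Prod.ext (congrArg ψ₁ (Subtype.ext ?_)) (congrArg ψ₂ (Subtype.ext ?_))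
    · show (φ x).1 = _
      rw [e1]
    · show (φ x).2 = _
      rw [e1]
  · rintro P φ ⟨hP, φ₁, hφ₁, φ₂, hφ₂, hφ⟩
    have hr₁ : φ.range.map (MonoidHom.fst Ω₁ Ω₂) ≤ φ₁.range := by
      rintro _ ⟨_, ⟨x, rfl⟩, rfl⟩
      refine ⟨⟨(x : Ω₁ × Ω₂).1, ⟨x, x.2, rfl⟩⟩, ?_⟩
      rw [hφ x ⟨x, x.2, rfl⟩ ⟨x, x.2, rfl⟩]
      rfl
    have hr₂ : φ.range.map (MonoidHom.snd Ω₁ Ω₂) ≤ φ₂.range := by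
      rintro _ ⟨_, ⟨x, rfl⟩, rfl⟩
      refine ⟨⟨(x : Ω₁ × Ω₂).2, ⟨x, x.2, rfl⟩⟩, ?_⟩
      rw [hφ x ⟨x, x.2, rfl⟩ ⟨x, x.2, rfl⟩]
      rfl
    obtain ⟨ψ₁, hψ₁, hi₁⟩ := exists_inv_on F₁ hφ₁ hr₁
    obtain ⟨ψ₂, hψ₂, hi₂⟩ := exists_inv_on F₂ hφ₂ hr₂
    have key : ∀ (x : P) (h₁ : (φ x).1 ∈ φ.range.map (MonoidHom.fst Ω₁ Ω₂))
        (h₂ : (φ x).2 ∈ φ.range.map (MonoidHom.snd Ω₁ Ω₂)), (ψ₁ ⟨(φ x).1, h₁⟩, ψ₂ ⟨(φ x).2, h₂⟩) = (x : Ω₁ × Ω₂) := by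
      intro x h₁ h₂
      obtain ⟨ha, hb⟩ := hi₁ ⟨(φ x).1, h₁⟩
      obtain ⟨ha', hb'⟩ := hi₂ ⟨(φ x).2, h₂⟩
      have e1 := hφ x ⟨x, x.2, rfl⟩ ⟨x, x.2, rfl⟩
      have e2 : φ₁ ⟨(x : Ω₁ × Ω₂).1, ⟨x, x.2, rfl⟩⟩ = (φ x).1 := by rw [e1]
      have e3 : φ₂ ⟨(x : Ω₁ × Ω₂).2, ⟨x, x.2, rfl⟩⟩ = (φ x).2 := by rw [e1]
      have f1 := congrArg Subtype.val (F₁.injective_of_mem hφ₁ (hb.trans e2.symm))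
      have f2 := congrArg Subtype.val (F₂.injective_of_mem hφ₂ (hb'.trans e3.symm))
      exact Prod.ext f1 f2
    have hinj : Function.Injective φ := by
      intro x y hxy
      have h1 := key x ⟨_, ⟨x, rfl⟩, rfl⟩ ⟨_, ⟨x, rfl⟩, rfl⟩
      have h2 := key y ⟨_, ⟨y, rfl⟩, rfl⟩ ⟨_, ⟨y, rfl⟩, rfl⟩
      apply Subtype.ext
      rw [← h1, ← h2]
      refine Prod.ext (congrArg ψ₁ (Subtype.ext ?_)) (congrArg ψ₂ (Subtype.ext ?_))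
      · show (φ x).1 = (φ y).1
        rw [hxy]
      · show (φ x).2 = (φ y).2
        rw [hxy]
    let e : P ≃* φ.range := MonoidHom.ofInjective hinj
    let ψ : φ.range →* Ω₁ × Ω₂ := P.subtype.comp e.symm.toMonoidHom
    have hψ' : ∀ x : P, ψ ⟨φ x, ⟨x, rfl⟩⟩ = (x : Ω₁ × Ω₂) := by
      intro x
      have h1 : e x = ⟨φ x, ⟨x, rfl⟩⟩ := rfl
      show ((e.symm ⟨φ x, ⟨x, rfl⟩⟩ : P) : Ω₁ × Ω₂) = x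
      rw [← h1, e.symm_apply_apply]
    refine ⟨ψ, ⟨?_, ψ₁, hψ₁, ψ₂, hψ₂, ?_⟩, hψ'⟩
    · rintro _ ⟨x, rfl⟩
      rw [hφ x ⟨x, x.2, rfl⟩ ⟨x, x.2, rfl⟩]
      exact ⟨val_mem F₁ hφ₁ _, val_mem F₂ hφ₂ _⟩
    · rintro ⟨_, x, rfl⟩ h₁ h₂
      rw [hψ']
      exact (key x h₁ h₂).symm

end Cfsg.Agent.S5136
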