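import Cfsg.Statements.S2828
import Cfsg.Agent.Lib.PIrred

set_option autoImplicit false
open Cfsg

namespace Cfsg.Agent.S2828

open Subgroup Cfsg.Agent.Lib.LocBase Cfsg.Agent.Lib.PIrred

theorem pres_le_of_le_sup {H : Type*} [Group H] [Finite H] {p : ℕ} [Fact p.Prime] {D N : Subgroup H} [D.Normal]
    (hN : N.Normal) (hD : IsPGroup p ↥D) (h : Cfsg.pResidual p H ≤ N ⊔ D) : Cfsg.pResidual p H ≤ N := by
  rw [pResidual_eq] at h ⊢
  rw [← pRes_pRes]
  refine (pRes_mono h).trans ?_
  apply pRes_le_of_pow_mem
  intro x hx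
  obtain ⟨n, hn, d, hd, rfl⟩ := exists_mul_of_mem_sup_of_le (by rw [normalizer_eq_top]; exact le_top) hx
  obtain ⟨k, hk⟩ := hD ⟨d, hd⟩
  refine ⟨k, ?_⟩
  have ht' : d ^ p ^ k = 1 := by simpa using congrArg Subtype.val hk
  have h1 := mul_pow_mem_coset (S := N) (r := d) (s := n) hn (by rw [normalizer_eq_top]; exact mem_top d) (p ^ k)
  rwa [ht', inv_one, mul_one] at h1

theorem map_le_map_mk' {H : Type*} [Group H] {D A B : Subgroup H} [D.Normal] (h : A.map (QuotientGroup.mk' D) ≤ B.map (QuotientGroup.mk' D)) :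
    A ≤ B ⊔ D := by
  rw [Subgroup.map_le_map_iff, QuotientGroup.ker_mk'] at h
  exact h

/-- Let H be a finite group, p a prime and D a normal p-subgroup of H. Then H is p-irreducible if and only if H/D is p-irreducible, and H is strongly p-irreducible if and only if H/D is strongly p-irreducible. -/
theorem result {H : Type*} [Group H] [Finite H] {p : ℕ} [Fact p.Prime] (D : Subgroup H) [D.Normal] (hD : IsPGroup p ↥D) : (Cfsg.IsPIrreducible p H ↔ Cfsg.IsPIrreducible p (H ⧸ D)) ∧ (Cfsg.IsStronglyPIrreducible p H ↔ Cfsg.IsStronglyPIrreducible p (H ⧸ D)) := by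
  have hpc : Cfsg.IsPClosed p H ↔ Cfsg.IsPClosed p (H ⧸ D) := by
    rw [← isPClosed_top_iff (G := H), ← isPClosed_top_iff (G := H ⧸ D), ← isPClosed_map_iff hD,
      ← MonoidHom.range_eq_map, QuotientGroup.range_mk']
  have hDc : D ≤ Cfsg.pCore p H := le_pCore inferInstance hD
  constructor
  · constructor
    · rintro ⟨h1, h2⟩
      refine ⟨fun h => h1 (hpc.mpr h), fun N hN hc => ?_⟩
      have hNm : (N.comap (QuotientGroup.mk' D)).map (QuotientGroup.mk' D) = N :=
        Subgroup.map_comap_eq_self_of_surjective (QuotientGroup.mk'_surjective D) N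
      rw [pResidual_quotient, ← hNm]
      apply Subgroup.map_mono
      apply h2 _ (hN.comap _)
      intro h
      apply hc
      rw [← hNm, isPClosed_map_iff hD]
      exact h
    · rintro ⟨h1, h2⟩
      refine ⟨fun h => h1 (hpc.mp h), fun N hN hc => ?_⟩
      apply pres_le_of_le_sup hN hD
      apply map_le_map_mk'
      rw [← pResidual_quotient]
      apply h2 _ (hN.map _ (QuotientGroup.mk'_surjective D))
      rwa [isPClosed_map_iff hD]
  · constructor
    · rintro ⟨h1, h2⟩
      refine ⟨fun h => h1 (hpc.mpr h), fun N hN hc => ?_⟩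
      have hNm : (N.comap (QuotientGroup.mk' D)).map (QuotientGroup.mk' D) = N :=
        Subgroup.map_comap_eq_self_of_surjective (QuotientGroup.mk'_surjective D) N
      rw [pResidual_quotient, ← hNm]
      apply Subgroup.map_mono
      apply h2 _ (hN.comap _)
      intro h
      apply hc
      rw [pCore_quotient hD, ← hNm, ← (QuotientGroup.range_mk' D), MonoidHom.range_eq_map, ← Subgroup.map_commutator]
      exact Subgroup.map_mono h
    · rintro ⟨h1, h2⟩
      refine ⟨fun h => h1 (hpc.mp h), fun N hN hc => ?_⟩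
      apply pres_le_of_le_sup hN hD
      apply map_le_map_mk'
      rw [← pResidual_quotient]
      apply h2 _ (hN.map _ (QuotientGroup.mk'_surjective D))
      intro h
      apply hc
      rw [pCore_quotient hD, ← (QuotientGroup.range_mk' D), MonoidHom.range_eq_map, ← Subgroup.map_commutator] at h
      have := map_le_map_mk' h
      rwa [sup_eq_left.mpr hDc] at this

end Cfsg.Agent.S2828
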