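import Cfsg.Statements.S0493
import Cfsg.Agent.Lib.SmallSieve

set_option autoImplicit false
open Cfsg

namespace Cfsg.Agent.S0493

open Cfsg.Agent.Lib.SmallSieve Cfsg.Agent.Lib.SmallSimple

/-- A finite simple group of order at most 100 that is not cyclic has order 60. -/
theorem result {G : Type*} [Group G] [Finite G] [IsSimpleGroup G]
    (hG : ¬ IsCyclic G) (h : Nat.card G ≤ 100) : Nat.card G = 60 := by
  have hG' : ¬ IsMulCommutative G := by
    intro hc
    apply hG
    let _ : CommGroup G := { (inferInstance : Group G) with mul_comm := hc.is_comm.comm }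
    exact IsSimpleGroup.isCyclic (α := G)
  have h1 := mem_survivors hG' (by omega)
  simp only [survivors, List.mem_cons, List.not_mem_nil, or_false] at h1
  omega

end Cfsg.Agent.S0493
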