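import Cfsg.Statements.S1225
import Cfsg.Agent.Lib.StrongEmbPt

set_option autoImplicit false
open Cfsg

namespace Cfsg.Agent.S1225

/-- Let H be a strongly embedded subgroup of the finite group G, u an involution outside H and D = H ∩ uHu⁻¹. Then any two involutions of H are conjugate by an element of D, and any two involutions of G are conjugate in G. -/
theorem result {G : Type*} [Group G] [Finite G] (H : Subgroup G) (hH : Cfsg.IsStronglyEmbedded H) (u : G) (hu : orderOf u = 2) (huH : u ∉ H) (s t : G) (hs : orderOf s = 2) (hsH : s ∈ H) (ht : orderOf t = 2) (htH : t ∈ H) : (∃ d ∈ (H ⊓ H.map (MulAut.conj u).toMonoidHom), d * s * d⁻¹ = t) ∧ ∀ a b : G, orderOf a = 2 → orderOf b = 2 → IsConj a b := by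
  have hU := Cfsg.Agent.Lib.StrongEmbPt.uniqueFix hH
  have hne : (QuotientGroup.mk 1 : G ⧸ H) ≠ QuotientGroup.mk u := by
    intro h
    rw [QuotientGroup.eq] at h
    apply huH
    simpa using h
  constructor
  · obtain ⟨k, hk1, hk2, hk3⟩ := Cfsg.Agent.Lib.InvAct.exists_conj_fix hU hne (t := s) (s := t)
      ⟨hs, (Cfsg.Agent.Lib.StrongEmbPt.smul_one_eq_iff s).2 hsH⟩
      ⟨ht, (Cfsg.Agent.Lib.StrongEmbPt.smul_one_eq_iff t).2 htH⟩
    refine ⟨k, ⟨(Cfsg.Agent.Lib.StrongEmbPt.smul_one_eq_iff k).1 hk1, ?_⟩, hk3⟩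
    have : k ∈ MulAction.stabilizer G (QuotientGroup.mk u : G ⧸ H) := hk2
    rw [Cfsg.Agent.Lib.StrongEmbPt.stabilizer_mk] at this
    exact this
  · intro a b ha hb
    exact Cfsg.Agent.Lib.InvAct.isConj_involutions hU hne ha hb

end Cfsg.Agent.S1225
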