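import Cfsg.Statements.S3619
-- import your own Cfsg.Agent.* helpers here

set_option autoImplicit false
open Cfsg

namespace Cfsg.Agent.S3619

open scoped Pointwise
open MulAction

/-- In a quasiprimitive group no non-trivial element fixes every translate of a proper non-empty set. -/
theorem false_of_fixes_translates {G Ω : Type*} [Group G] [MulAction G Ω]
    (hqp : ∀ N : Subgroup G, N.Normal → N ≠ ⊥ → MulAction.IsPretransitive ↥N Ω)
    {B : Set Ω} (hBne : B.Nonempty) (hBu : B ≠ Set.univ) {j : G} (hj : j ≠ 1)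
    (hfix : ∀ g : G, j • g • B = g • B) : False := by
  let K : Subgroup G :=
    { carrier := {k | ∀ g : G, k • g • B = g • B}
      mul_mem' := by
        intro a b ha hb g
        rw [mul_smul, hb g, ha g]
      one_mem' := by
        intro g
        rw [one_smul]
      inv_mem' := by
        intro a ha g
        have := ha g
        rw [inv_smul_eq_iff]
        exact this.symm }
  have hKn : K.Normal := by
    refine ⟨fun k hk h => ?_⟩
    intro g
    have := hk (h⁻¹ * g)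
    rw [mul_smul, mul_smul]
    rw [← mul_smul h⁻¹ g B, this, ← mul_smul, ← mul_assoc, mul_inv_cancel, one_mul]
  have hKne : K ≠ ⊥ := by
    intro h
    have : j ∈ K := hfix
    rw [h, Subgroup.mem_bot] at this
    exact hj this
  have hKt := hqp K hKn hKne
  obtain ⟨b, hb⟩ := hBne
  apply hBu
  rw [Set.eq_univ_iff_forall]
  intro x
  obtain ⟨⟨k, hk⟩, hkx⟩ := hKt.exists_smul_eq b x
  have h1 := hk 1
  rw [one_smul] at h1
  rw [← h1]
  refine ⟨b, hb, ?_⟩
  exact hkx

/-- A quasiprimitive action on a set with a moved point is transitive. -/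
theorem isPretransitive_of_qp {G Ω : Type*} [Group G] [MulAction G Ω]
    (hqp : ∀ N : Subgroup G, N.Normal → N ≠ ⊥ → MulAction.IsPretransitive ↥N Ω)
    {j : G} (hj : j ≠ 1) : MulAction.IsPretransitive G Ω := by
  have hne : (⊤ : Subgroup G) ≠ ⊥ := by
    intro h
    have : j ∈ (⊤ : Subgroup G) := Subgroup.mem_top j
    rw [h, Subgroup.mem_bot] at this
    exact hj this
  have := hqp ⊤ inferInstance hne
  refine ⟨fun x y => ?_⟩
  obtain ⟨g, hg⟩ := this.exists_smul_eq x y
  exact ⟨g, hg⟩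

/-- If the pointwise stabilizer of the complement of `Γ` is transitive on `Γ`, then a block of a quasiprimitive
group that meets `Γ` is contained in `Γ`, unless it is everything. -/
theorem block_subset_of_meets {G Ω : Type*} [Group G] [MulAction G Ω]
    (hqp : ∀ N : Subgroup G, N.Normal → N ≠ ⊥ → MulAction.IsPretransitive ↥N Ω)
    {Γ : Set Ω} (hΓ : Γ.Nontrivial)
    (hJ : ∀ x ∈ Γ, ∀ y ∈ Γ, ∃ g ∈ fixingSubgroup G Γᶜ, g • x = y)
    {B : Set Ω} (hB : IsBlock G B) (hBu : B ≠ Set.univ) (hmeet : (B ∩ Γ).Nonempty) : B ⊆ Γ := by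
  by_contra hsub
  rw [Set.not_subset] at hsub
  obtain ⟨b, hbB, hbΓ⟩ := hsub
  obtain ⟨γ, hγB, hγΓ⟩ := hmeet
  -- every element of `J` fixes `B`
  have hfixB : ∀ g ∈ fixingSubgroup G Γᶜ, g • B = B := by
    intro g hg
    rw [mem_fixingSubgroup_iff] at hg
    have hgb : g • b = b := hg b hbΓ
    exact isBlock_iff_smul_eq_of_mem.mp hB hbB (hgb.symm ▸ hbB)
  have hΓB : Γ ⊆ B := by
    intro y hy
    obtain ⟨g, hg, hgy⟩ := hJ γ hγΓ y hy
    rw [← hfixB g hg]
    exact ⟨γ, hγB, hgy⟩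
  obtain ⟨x, hx, y, hy, hxy⟩ := hΓ
  obtain ⟨j, hj, hjxy⟩ := hJ x hx y hy
  have hj1 : j ≠ 1 := by
    rintro rfl
    exact hxy (by simpa using hjxy)
  refine false_of_fixes_translates hqp ⟨b, hbB⟩ hBu hj1 ?_
  intro g
  by_cases hgB : g • B = B
  · rw [hgB]; exact hfixB j hj
  · have hdisj : Disjoint (g • B) B := (isBlock_iff_smul_eq_or_disjoint.mp hB g).resolve_left hgB
    have hdisj' : ∀ z ∈ g • B, z ∉ Γ := fun z hz hzΓ => Set.disjoint_left.mp hdisj hz (hΓB hzΓ)
    rw [mem_fixingSubgroup_iff] at hj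
    ext z
    constructor
    · rintro ⟨w, hw, rfl⟩
      have := hj w (hdisj' w hw)
      show j • w ∈ g • B
      rw [this]; exact hw
    · intro hz
      exact ⟨z, hz, hj z (hdisj' z hz)⟩

/-- The Jordan set is not a block. -/
theorem not_block {G Ω : Type*} [Group G] [MulAction G Ω]
    (hqp : ∀ N : Subgroup G, N.Normal → N ≠ ⊥ → MulAction.IsPretransitive ↥N Ω)
    {Γ : Set Ω} (hΓ : Γ.Nontrivial)
    (hJ : ∀ x ∈ Γ, ∀ y ∈ Γ, ∃ g ∈ fixingSubgroup G Γᶜ, g • x = y)
    (hB : IsBlock G Γ) (hBu : Γ ≠ Set.univ) : False := by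
  obtain ⟨x, hx, y, hy, hxy⟩ := hΓ
  obtain ⟨j, hj, hjxy⟩ := hJ x hx y hy
  have hj1 : j ≠ 1 := by
    rintro rfl
    exact hxy (by simpa using hjxy)
  refine false_of_fixes_translates hqp ⟨x, hx⟩ hBu hj1 ?_
  have hjΓ : j • Γ = Γ := isBlock_iff_smul_eq_of_mem.mp hB hx (hjxy.symm ▸ hy)
  intro g
  by_cases hgB : g • Γ = Γ
  · rw [hgB]; exact hjΓ
  · have hdisj : Disjoint (g • Γ) Γ := (isBlock_iff_smul_eq_or_disjoint.mp hB g).resolve_left hgB
    have hdisj' : ∀ z ∈ g • Γ, z ∉ Γ := fun z hz hzΓ => Set.disjoint_left.mp hdisj hz hzΓ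
    rw [mem_fixingSubgroup_iff] at hj
    ext z
    constructor
    · rintro ⟨w, hw, rfl⟩
      have := hj w (hdisj' w hw)
      show j • w ∈ g • Γ
      rw [this]; exact hw
    · intro hz
      exact ⟨z, hz, hj z (hdisj' z hz)⟩

/-- A quasiprimitive group with a primitive Jordan set is primitive. -/
theorem isPreprimitive_of_jordan {G Ω : Type*} [Group G] [MulAction G Ω]
    (hqp : ∀ N : Subgroup G, N.Normal → N ≠ ⊥ → MulAction.IsPretransitive ↥N Ω)
    (Γ : Set Ω) (hΓ1 : Γ.Nontrivial) (hΓ2 : Γ ≠ Set.univ)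
    (hJ : MulAction.IsPretransitive ↥(fixingSubgroup G Γᶜ) ↥(SubMulAction.ofFixingSubgroup G Γᶜ))
    (hJp : MulAction.IsPreprimitive ↥(fixingSubgroup G Γᶜ) ↥(SubMulAction.ofFixingSubgroup G Γᶜ)) :
    MulAction.IsPreprimitive G Ω := by
  have hJ' : ∀ x ∈ Γ, ∀ y ∈ Γ, ∃ g ∈ fixingSubgroup G Γᶜ, g • x = y := by
    intro x hx y hy
    obtain ⟨g, hg⟩ := hJ.exists_smul_eq ⟨x, fun h => h hx⟩ ⟨y, fun h => h hy⟩
    exact ⟨g, g.2, congrArg Subtype.val hg⟩
  obtain ⟨x, hx, y, hy, hxy⟩ := id hΓ1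
  obtain ⟨j, hj, hjxy⟩ := hJ' x hx y hy
  have hj1 : j ≠ 1 := by
    rintro rfl
    exact hxy (by simpa using hjxy)
  have htrans := isPretransitive_of_qp hqp hj1
  refine { toIsPretransitive := htrans, isTrivialBlock_of_isBlock := ?_ }
  intro B hB
  by_contra hnt
  unfold IsTrivialBlock at hnt
  push Not at hnt
  obtain ⟨hBs, hBu⟩ := hnt
  obtain ⟨b, hb⟩ := hBs.nonempty
  obtain ⟨g, hg⟩ := htrans.exists_smul_eq b x
  -- replace `B` by `g • B`
  have hB' : IsBlock G (g • B) := hB.translate g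
  have hBu' : g • B ≠ Set.univ := by
    intro h
    apply hBu
    rw [← inv_smul_smul g B, h, Set.smul_set_univ]
  have hmeet : ((g • B) ∩ Γ).Nonempty := ⟨x, ⟨b, hb, hg⟩, hx⟩
  have hsub := block_subset_of_meets hqp hΓ1 hJ' hB' hBu' hmeet
  -- as a block of `J`
  have hBJ : IsBlock (fixingSubgroup G Γᶜ) (g • B) := hB'.subgroup
  have hBJ' : IsBlock (fixingSubgroup G Γᶜ)
      (Subtype.val ⁻¹' (g • B) : Set (SubMulAction.ofFixingSubgroup G Γᶜ)) :=
    IsBlock.subtype_val_preimage hBJ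
  rcases hJp.isTrivialBlock_of_isBlock hBJ' with h | h
  · obtain ⟨u, hu, v, hv, huv⟩ := hBs
    have h1 := @h ⟨g • u, fun h => h (hsub ⟨u, hu, rfl⟩)⟩ ⟨u, hu, rfl⟩
      ⟨g • v, fun h => h (hsub ⟨v, hv, rfl⟩)⟩ ⟨v, hv, rfl⟩
    have h2 : g • u = g • v := congrArg Subtype.val h1
    exact huv (smul_left_cancel g h2)
  · have hΓB : Γ = g • B := by
      apply Set.Subset.antisymm _ hsub
      intro z hz
      have : (⟨z, fun h => h hz⟩ : SubMulAction.ofFixingSubgroup G Γᶜ) ∈
          (Subtype.val ⁻¹' (g • B) : Set (SubMulAction.ofFixingSubgroup G Γᶜ)) := by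
        rw [h]; trivial
      exact this
    rw [← hΓB] at hB'
    exact not_block hqp hΓ1 hJ' hB' hΓ2

/-- Let G act faithfully on a finite set in such a way that every non-trivial normal subgroup of G is transitive (G is quasiprimitive). Let Γ be a subset with more than one point and not the whole set, such that the pointwise stabilizer of the complement of Γ acts transitively on Γ (a Jordan set). If that pointwise stabilizer acts primitively on Γ, then G is k-fold transitive where k is one more than the number of points outside Γ (the Jordan set is a trivial one). -/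
theorem result {G Ω : Type*} [Group G] [Finite G] [MulAction G Ω] [FaithfulSMul G Ω] [Finite Ω]
    (hqp : ∀ N : Subgroup G, N.Normal → N ≠ ⊥ → MulAction.IsPretransitive ↥N Ω)
    (Γ : Set Ω) (hΓ1 : 1 < Γ.ncard) (hΓ2 : Γ.ncard < Nat.card Ω)
    (hJ : MulAction.IsPretransitive ↥(fixingSubgroup G Γᶜ) ↥(SubMulAction.ofFixingSubgroup G Γᶜ))
    (hJp : MulAction.IsPreprimitive ↥(fixingSubgroup G Γᶜ) ↥(SubMulAction.ofFixingSubgroup G Γᶜ)) :
    MulAction.IsMultiplyPretransitive G Ω (Nat.card Ω - Γ.ncard + 1) := by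
  have hΓnt : Γ.Nontrivial := by
    rw [← Set.one_lt_ncard_iff_nontrivial]; exact hΓ1
  have hΓu : Γ ≠ Set.univ := by
    rintro rfl
    rw [Set.ncard_univ] at hΓ2
    exact lt_irrefl _ hΓ2
  have hprim := isPreprimitive_of_jordan hqp Γ hΓnt hΓu hJ hJp
  have hsum := Set.ncard_add_ncard_compl Γ
  have hsn : (Γᶜ).ncard = (Nat.card Ω - Γ.ncard - 1) + 1 := by omega
  have hsn' : (Nat.card Ω - Γ.ncard - 1) + 2 < Nat.card Ω := by omega
  have := hprim.isMultiplyPreprimitive hsn hsn' hJp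
  have h2 : Nat.card Ω - Γ.ncard + 1 = Nat.card Ω - Γ.ncard - 1 + 2 := by omega
  rw [h2]
  exact this.isMultiplyPretransitive

end Cfsg.Agent.S3619
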