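import Cfsg.Statements.S3620
import Mathlib
import Cfsg.Agent.Lib.Marggraff
import Cfsg.Agent.S3619

set_option autoImplicit false
open Cfsg

namespace Cfsg.Agent.S3620

open scoped Pointwise
open MulAction Cfsg.Agent.Lib.Marggraff

/-- Let G act faithfully on a finite set in such a way that every non-trivial normal subgroup of G is transitive (G is quasiprimitive). Let Γ be a subset with more than one point and fewer than half of the points, such that the pointwise stabilizer of the complement of Γ acts transitively on Γ. Then G induces every even permutation of the set (G is the alternating or the symmetric group). -/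
theorem result {G Ω : Type*} [Group G] [Finite G] [MulAction G Ω] [FaithfulSMul G Ω] [Fintype Ω] [DecidableEq Ω]
    (hqp : ∀ N : Subgroup G, N.Normal → N ≠ ⊥ → MulAction.IsPretransitive ↥N Ω)
    (Γ : Set Ω) (hΓ1 : 1 < Γ.ncard) (hΓ2 : 2 * Γ.ncard < Fintype.card Ω)
    (hJ : MulAction.IsPretransitive ↥(fixingSubgroup G Γᶜ) ↥(SubMulAction.ofFixingSubgroup G Γᶜ)) :
    ∀ σ : Equiv.Perm Ω, Equiv.Perm.sign σ = 1 → ∃ x : G, (MulAction.toPerm x : Equiv.Perm Ω) = σ := by
  classical
  have hΓnt : Γ.Nontrivial := by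
    rw [← Set.one_lt_ncard_iff_nontrivial]; exact hΓ1
  have hΓu : Γ ≠ Set.univ := by
    rintro rfl
    rw [Set.ncard_univ, Nat.card_eq_fintype_card] at hΓ2
    omega
  have hJ' : ∀ x ∈ Γ, ∀ y ∈ Γ, ∃ g ∈ fixingSubgroup G Γᶜ, g • x = y := by
    intro x hx y hy
    obtain ⟨g, hg⟩ := hJ.exists_smul_eq ⟨x, fun h => h hx⟩ ⟨y, fun h => h hy⟩
    exact ⟨g, g.2, congrArg Subtype.val hg⟩
  obtain ⟨ω₀, hω₀, y, hy, hxy⟩ := id hΓnt
  obtain ⟨j, hj, hjxy⟩ := hJ' ω₀ hω₀ y hy
  have hj1 : j ≠ 1 := by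
    rintro rfl
    exact hxy (by simpa using hjxy)
  have htrans := S3619.isPretransitive_of_qp hqp hj1
  -- a maximal subgroup
  have hst : stabilizer G ω₀ ≠ ⊤ := by
    intro h
    have : j ∈ stabilizer G ω₀ := by rw [h]; exact Subgroup.mem_top j
    rw [mem_stabilizer_iff, hjxy] at this
    exact hxy this.symm
  obtain ⟨M, hM, hMst⟩ : ∃ M : Subgroup G, IsCoatom M ∧ stabilizer G ω₀ ≤ M :=
    (eq_top_or_exists_le_coatom (stabilizer G ω₀)).resolve_left hst
  have : Fintype (G ⧸ M) := Fintype.ofFinite _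
  have hnt : Nontrivial (G ⧸ M) := by
    rw [← not_subsingleton_iff_nontrivial]
    intro h
    apply hM.1
    rw [Subgroup.eq_top_iff']
    intro g
    have := h.elim ((g : G) : G ⧸ M) ((1 : G) : G ⧸ M)
    rw [QuotientGroup.eq, mul_one] at this
    exact M.inv_mem_iff.1 this
  have hprim : IsPreprimitive G (G ⧸ M) := by
    rw [← isCoatom_stabilizer_iff_preprimitive G ((1 : G) : G ⧸ M)]
    rw [MulAction.stabilizer_quotient]
    exact hM
  choose γ hγ using fun ω => htrans.exists_smul_eq ω₀ ω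
  let π : Ω → G ⧸ M := fun ω => ((γ ω : G) : G ⧸ M)
  have hπ : ∀ (g : G) (ω : Ω), π (g • ω) = g • π ω := by
    intro g ω
    show ((γ (g • ω) : G) : G ⧸ M) = ((g * γ ω : G) : G ⧸ M)
    rw [QuotientGroup.eq]
    apply hMst
    rw [mem_stabilizer_iff, mul_smul, mul_smul, hγ ω, inv_smul_eq_iff, hγ (g • ω)]
  have hsurj : Function.Surjective π := by
    intro p
    induction p using QuotientGroup.induction_on with
    | H g =>
      refine ⟨g • ω₀, ?_⟩
      show ((γ (g • ω₀) : G) : G ⧸ M) = ((g : G) : G ⧸ M)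
      rw [QuotientGroup.eq]
      apply hMst
      rw [mem_stabilizer_iff, mul_smul, inv_smul_eq_iff, hγ (g • ω₀)]
  -- fibres
  have hblock : ∀ p : G ⧸ M, IsBlock G {ω | π ω = p} := by
    intro p
    rw [isBlock_iff_smul_eq_of_mem]
    intro g ω hω hgω
    have hp : g • p = p := by
      have h1 : π (g • ω) = p := hgω
      rw [hπ] at h1
      have h2 : π ω = p := hω
      rw [h2] at h1
      exact h1
    ext v
    rw [Set.mem_smul_set_iff_inv_smul_mem]
    show π (g⁻¹ • v) = p ↔ π v = p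
    rw [hπ, inv_smul_eq_iff, hp]
  have hfne : ∀ p : G ⧸ M, {ω | π ω = p} ≠ Set.univ := by
    intro p h
    obtain ⟨q, hq⟩ := exists_ne p
    obtain ⟨ω, hω⟩ := hsurj q
    have : ω ∈ {ω | π ω = p} := by rw [h]; trivial
    exact hq (hω.symm.trans this)
  have hsat : ∀ ω v, π ω = π v → ω ∈ Γ → v ∈ Γ := by
    intro ω v hv hω
    have h1 := S3619.block_subset_of_meets hqp hΓnt hJ' (hblock (π v)) (hfne _) ⟨ω, hv, hω⟩
    exact h1 rfl
  set Γb : Finset (G ⧸ M) := Finset.univ.filter (fun p => ∃ ω ∈ Γ, π ω = p) with hΓb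
  have hmem : ∀ p, p ∈ Γb ↔ ∃ ω ∈ Γ, π ω = p := fun p => by simp [hΓb]
  have hmem' : ∀ ω, π ω ∈ Γb ↔ ω ∈ Γ := by
    intro ω
    rw [hmem]
    constructor
    · rintro ⟨v, hv, hvω⟩
      exact hsat v ω hvω hv
    · intro h; exact ⟨ω, h, rfl⟩
  have hJb : ∀ p ∈ Γb, ∀ q ∈ Γb, ∃ j : G, (∀ ω, π ω ∉ Γb → j • ω = ω) ∧
      (∀ r, r ∉ Γb → j • r = r) ∧ j • p = q := by
    intro p hp q hq
    obtain ⟨ω, hω, rfl⟩ := (hmem p).1 hp
    obtain ⟨v, hv, rfl⟩ := (hmem q).1 hq
    obtain ⟨j, hj, hjv⟩ := hJ' ω hω v hv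
    rw [mem_fixingSubgroup_iff] at hj
    have h1 : ∀ ω, π ω ∉ Γb → j • ω = ω := fun u hu => hj u (fun h => hu ((hmem' u).2 h))
    refine ⟨j, h1, ?_, by rw [← hπ, hjv]⟩
    intro r hr
    obtain ⟨u, rfl⟩ := hsurj r
    rw [← hπ, h1 u hr]
  -- sizes
  have hfib : ∀ p q : G ⧸ M, (Finset.univ.filter (fun ω => π ω = p)).card =
      (Finset.univ.filter (fun ω => π ω = q)).card := by
    have hle : ∀ p q : G ⧸ M, (Finset.univ.filter (fun ω => π ω = p)).card ≤
      (Finset.univ.filter (fun ω => π ω = q)).card := by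
      intro p q
      obtain ⟨g, hg⟩ := hprim.toIsPretransitive.exists_smul_eq p q
      apply Finset.card_le_card_of_injOn (fun ω => g • ω)
      · intro ω hω
        rw [Finset.mem_coe, Finset.mem_filter] at hω ⊢
        exact ⟨Finset.mem_univ _, by rw [hπ, hω.2, hg]⟩
      · intro a _ b _ hab
        exact smul_left_cancel g hab
    exact fun p q => le_antisymm (hle p q) (hle q p)
  set f := (Finset.univ.filter (fun ω => π ω = π ω₀)).card with hf
  have hf0 : 0 < f := Finset.card_pos.2 ⟨ω₀, by simp⟩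
  have hn : Fintype.card Ω = f * Fintype.card (G ⧸ M) := by
    rw [← Finset.card_univ, Finset.card_eq_sum_card_fiberwise (f := π) (t := Finset.univ)
      (fun _ _ => Finset.mem_coe.2 (Finset.mem_univ _)), Finset.sum_congr rfl (fun p _ => hfib p (π ω₀)),
      Finset.sum_const, smul_eq_mul, Finset.card_univ, mul_comm]
  have hΓc : Γ.ncard = f * Γb.card := by
    rw [Set.ncard_eq_toFinset_card', Finset.card_eq_sum_card_fiberwise (f := π) (t := Γb)
      (fun ω hω => Finset.mem_coe.2 ((hmem' ω).2 (Set.mem_toFinset.1 hω)))]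
    rw [Finset.sum_congr rfl (g := fun _ => f), Finset.sum_const, smul_eq_mul, mul_comm]
    intro p hp
    rw [hf, ← hfib p (π ω₀)]
    congr 1
    ext ω
    rw [Finset.mem_filter, Finset.mem_filter, Set.mem_toFinset]
    constructor
    · rintro ⟨_, h⟩; exact ⟨Finset.mem_univ _, h⟩
    · rintro ⟨_, h⟩; exact ⟨(hmem' ω).1 (h ▸ hp), h⟩
  have hb2 : 2 * Γb.card < Fintype.card (G ⧸ M) := by
    rw [hΓc, hn] at hΓ2
    have : f * (2 * Γb.card) < f * Fintype.card (G ⧸ M) := by
      calc f * (2 * Γb.card) = 2 * (f * Γb.card) := by ring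
        _ < _ := hΓ2
    exact lt_of_mul_lt_mul_left this (Nat.zero_le f)
  have hb1 : 1 < Γb.card := by
    by_contra hle
    push Not at hle
    rw [Finset.card_le_one] at hle
    have hΓeq : Γ = {ω | π ω = π ω₀} := by
      ext ω
      constructor
      · intro hω
        exact hle _ ((hmem' ω).2 hω) _ ((hmem' ω₀).2 hω₀)
      · intro hω
        exact hsat ω₀ ω (Eq.symm hω) hω₀
    have h1 : IsBlock G Γ := by rw [hΓeq]; exact hblock _
    exact S3619.not_block hqp hΓnt hJ' h1 hΓu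
  -- faithfulness
  have hfaith : ∀ g : G, (∀ r : G ⧸ M, g • r = r) → g = 1 := by
    intro g hg
    by_contra hg1
    let K : Subgroup G := (toPermHom G (G ⧸ M)).ker
    have hKmem : ∀ k, k ∈ K ↔ ∀ r : G ⧸ M, k • r = r := by
      intro k
      constructor
      · intro hk r
        have := MonoidHom.mem_ker.1 hk
        have h2 := congrArg (fun f : Equiv.Perm (G ⧸ M) => f r) this
        exact h2
      · intro hk
        apply MonoidHom.mem_ker.2
        ext r
        exact hk r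
    have hKne : K ≠ ⊥ := by
      intro h
      have : g ∈ K := (hKmem g).2 hg
      rw [h, Subgroup.mem_bot] at this
      exact hg1 this
    have hKt := hqp K inferInstance hKne
    apply hfne (π ω₀)
    rw [Set.eq_univ_iff_forall]
    intro ω
    obtain ⟨⟨k, hk⟩, hkω⟩ := hKt.exists_smul_eq ω₀ ω
    have hkω' : k • ω₀ = ω := hkω
    show π ω = π ω₀
    rw [← hkω', hπ, (hKmem k).1 hk]
  obtain ⟨hinj, heven⟩ := final π hπ hqp hfaith hprim hb1 hb2 hJb
  -- transport
  let e : Ω ≃ G ⧸ M := Equiv.ofBijective π ⟨hinj, hsurj⟩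
  intro σ hσ
  obtain ⟨x, hx⟩ := heven (e.permCongr σ) (by rw [Equiv.Perm.sign_permCongr]; exact hσ)
  refine ⟨x, ?_⟩
  ext ω
  apply hinj
  have h1 := congrArg (fun f : Equiv.Perm (G ⧸ M) => f (π ω)) hx
  simp only [toPerm_apply] at h1
  rw [toPerm_apply, hπ, h1, Equiv.permCongr_apply]
  have h2 : e.symm (π ω) = ω := e.symm_apply_apply ω
  rw [h2]
  rfl

end Cfsg.Agent.S3620
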