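import Cfsg.Statements.S0191
import Cfsg.Agent.Lib.GaloisMean
import Cfsg.Agent.Lib.CharBasic2
import Cfsg.Agent.Lib.CharCentral

set_option autoImplicit false
open Cfsg

namespace Cfsg.Agent.S0191

/-- An irreducible complex representation of a finite group of degree greater than 1 has a character that vanishes somewhere. -/
theorem result {G : Type*} [Group G] [Finite G] {V : Type*} [AddCommGroup V] [Module ℂ V] [FiniteDimensional ℂ V] (ρ : Representation ℂ G V) [ρ.IsIrreducible] (hdeg : 1 < Module.finrank ℂ V) : ∃ g : G, ρ.character g = 0 := by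
  classical
  let _ := Fintype.ofFinite G
  by_contra hcon
  push Not at hcon
  have hχ : IsCharacter G ρ.character := Cfsg.Agent.Lib.CharBasic.isCharacter_of_rep ρ
  have hψ : IsCharacter G (fun g => ρ.character g * (starRingEnd ℂ) (ρ.character g)) := hχ.mul hχ.conj
  have hsum : ∑ g : G, ρ.character g * (starRingEnd ℂ) (ρ.character g) = Nat.card G :=
    Cfsg.Agent.Lib.CharCentral.sum_character_mul_conj ρ
  have hS : ∀ k : ℕ, k.Coprime (Nat.card G) → ∀ g ∈ Finset.univ.erase (1 : G), g ^ k ∈ Finset.univ.erase (1 : G) := by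
    intro k hk g hg
    rw [Finset.mem_erase] at hg ⊢
    refine ⟨fun h => hg.1 ?_, Finset.mem_univ _⟩
    have h1 := orderOf_dvd_of_pow_eq_one h
    have h2 : orderOf g ∣ Nat.card G := orderOf_dvd_natCard g
    have h3 := Nat.dvd_gcd h1 h2
    rw [hk] at h3
    exact orderOf_eq_one_iff.1 (Nat.dvd_one.1 h3)
  have hr : ∀ g ∈ Finset.univ.erase (1 : G), ρ.character g * (starRingEnd ℂ) (ρ.character g) =
      ((Complex.normSq (ρ.character g) : ℝ) : ℂ) := fun g _ => Complex.mul_conj _
  have h1 := (Cfsg.Agent.Lib.GaloisMean.card_le_sum hψ (fun g => Complex.normSq (ρ.character g)) _ hS hr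
    (fun g _ => Complex.normSq_pos.2 (hcon g))).1
  have h2 : ∑ g : G, Complex.normSq (ρ.character g) = Nat.card G := by
    have h3 : ((∑ g : G, Complex.normSq (ρ.character g) : ℝ) : ℂ) = ((Nat.card G : ℝ) : ℂ) := by
      push_cast
      rw [← hsum]
      exact Finset.sum_congr rfl fun g _ => (Complex.mul_conj _).symm
    exact_mod_cast h3
  rw [← Finset.add_sum_erase Finset.univ _ (Finset.mem_univ (1 : G))] at h2
  have h4 : Complex.normSq (ρ.character 1) = (Module.finrank ℂ V : ℝ) ^ 2 := by
    rw [ρ.char_one, Complex.normSq_natCast, pow_two]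
  rw [h4] at h2
  rw [Finset.card_erase_of_mem (Finset.mem_univ _), Finset.card_univ, ← Nat.card_eq_fintype_card,
    Nat.cast_sub Nat.card_pos] at h1
  have h5 : (1 : ℝ) < (Module.finrank ℂ V : ℝ) := by exact_mod_cast hdeg
  have h6 : (1 : ℝ) < (Module.finrank ℂ V : ℝ) ^ 2 := by nlinarith
  push_cast at h1
  linarith

end Cfsg.Agent.S0191
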