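import Cfsg.Statements.S4558
import Cfsg.Agent.Lib.H76Char
set_option autoImplicit false
open Cfsg
namespace Cfsg.Agent.S4558

open Cfsg.Agent.Lib.H76Char Cfsg.Agent.Lib.BlockRing

theorem result {G : Type*} [Group G] [Finite G] (p : ℕ) [Fact p.Prime] (χ : G → ℂ) (hχ : Cfsg.IsCharacter G χ) (g : G) (hg : ∃ j : ℕ, orderOf g = p ^ j) (h0 : χ g = 0) : p ∣ Cfsg.charDegree χ := by
  obtain ⟨M, hM⟩ := exists_isPModular p
  have := isPrime hM
  obtain ⟨j, hj⟩ := hg
  have h1 := idl_sub_one hM hχ hj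
  rw [h0, zero_sub, idl_neg_iff, ← charDegree_eq hχ, idl_natCast_iff hM] at h1
  exact h1

end Cfsg.Agent.S4558
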