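import Cfsg.Statements.S4018
import Cfsg.Agent.Lib.DihTI
import Cfsg.Agent.Lib.KleinFuse

set_option autoImplicit false
open Cfsg

namespace Cfsg.Agent.S4018

open Cfsg.Agent.Lib.DihTI Cfsg.Agent.Lib.KleinFuse Cfsg.Agent.Lib.H32Basic

/-- Let G be a finite group with an abelian Sylow 3-subgroup P such that the normalizer of P has order 4·#P, the centralizer C of P has order 2·#P, C meets each of its conjugates by elements outside its normalizer trivially, and every proper subgroup of G of even order has order dividing 4·#P. Then G is not simple. -/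
theorem result {G : Type*} [Group G] [Finite G]
    (P : Sylow 3 G) (hab : IsMulCommutative P)
    (hN : Nat.card (Subgroup.normalizer ((P : Subgroup G) : Set G)) = 4 * Nat.card P)
    (hC : Nat.card (Subgroup.centralizer (P : Set G)) = 2 * Nat.card P)
    (hTI : Cfsg.IsTISubset (Subgroup.centralizer (P : Set G) : Set G))
    (heven : ∀ H : Subgroup G, H ≠ ⊤ → 2 ∣ Nat.card H → Nat.card H ∣ 4 * Nat.card P) :
    ¬ IsSimpleGroup G := by
  classical
  intro hsimple
  have hf2 : Fact (Nat.Prime 2) := ⟨Nat.prime_two⟩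
  have hf3 : Fact (Nat.Prime 3) := ⟨Nat.prime_three⟩
  set M := Subgroup.normalizer ((P : Subgroup G) : Set G) with hMdef
  set C := Subgroup.centralizer (P : Set G) with hCdef
  have hPpos : 0 < Nat.card P := Nat.card_pos
  have hPM : (P : Subgroup G) ≤ M := Subgroup.le_normalizer
  have hcommP : ∀ a ∈ (P : Subgroup G), ∀ b ∈ (P : Subgroup G), a * b = b * a := by
    intro a ha b hb
    exact congrArg Subtype.val (hab.is_comm.comm (⟨a, ha⟩ : P) ⟨b, hb⟩)
  have hPC : (P : Subgroup G) ≤ C := by
    intro a ha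
    rw [hCdef, Subgroup.mem_centralizer_iff]
    intro b hb
    exact hcommP b hb a ha
  have hCM : C ≤ M := by
    intro g hg
    rw [hMdef, Subgroup.mem_normalizer_iff]
    rw [hCdef, Subgroup.mem_centralizer_iff] at hg
    intro x
    constructor
    · intro hx
      have : g * x * g⁻¹ = x := by rw [← hg x hx]; group
      rw [this]; exact hx
    · intro hx
      have h1 := hg _ hx
      have : x = g⁻¹ * (g * x * g⁻¹) * g := by group
      rw [this, mul_assoc, h1]
      have : g⁻¹ * (g * (g * x * g⁻¹)) = g * x * g⁻¹ := by group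
      rw [this]; exact hx
  -- the group is not abelian
  have hnoncomm : ¬ ∀ a b : G, a * b = b * a := by
    intro hcomm
    have h1 : C = ⊤ := by
      rw [eq_top_iff]
      intro g _
      rw [hCdef, Subgroup.mem_centralizer_iff]
      intro b _
      exact hcomm b g
    have h2 : M = ⊤ := by
      rw [eq_top_iff, ← h1]; exact hCM
    rw [h1, Subgroup.card_top] at hC
    rw [h2, Subgroup.card_top] at hN
    omega
  have hcenter : Subgroup.center G = ⊥ := by
    rcases Subgroup.Normal.eq_bot_or_eq_top (H := Subgroup.center G) inferInstance with h | h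
    · exact h
    · exfalso
      apply hnoncomm
      intro a b
      have : b ∈ Subgroup.center G := h ▸ Subgroup.mem_top b
      exact (Subgroup.mem_center_iff.1 this a)
  -- the order of P is odd
  obtain ⟨k, hk⟩ := IsPGroup.iff_card.1 P.isPGroup'
  have hPodd : Odd (Nat.card P) := by rw [hk]; exact Odd.pow (by decide)
  -- the involution of C
  have hex : ∃ t ∈ C, t ≠ 1 ∧ t * t = 1 := by
    obtain ⟨w, hw⟩ := exists_prime_orderOf_dvd_card' (G := C) 2 (by rw [hC]; exact Dvd.intro _ rfl)
    refine ⟨w, w.2, ?_, ?_⟩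
    · intro h
      have : w = 1 := Subtype.ext h
      rw [this, orderOf_one] at hw
      norm_num at hw
    · have := pow_orderOf_eq_one w
      rw [hw, pow_two] at this
      exact congrArg Subtype.val this
  obtain ⟨t, htC, ht1, htt⟩ := hex
  have hpodd : ∀ x ∈ (P : Subgroup G), x * x = 1 → x = 1 := by
    intro x hx hxx
    have h1 : (⟨x, hx⟩ : P) ^ Nat.card P = 1 := pow_card_eq_one'
    have h2 : x ^ Nat.card P = 1 := congrArg Subtype.val h1
    obtain ⟨j, hj⟩ := hPodd
    rw [hj, pow_add, pow_mul, pow_two, hxx, one_pow, one_mul, pow_one] at h2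
    exact h2
  have htP : t ∉ (P : Subgroup G) := fun h => ht1 (hpodd t h htt)
  have hidx : ((P : Subgroup G).subgroupOf C).index = 2 := by
    have h1 := ((P : Subgroup G).subgroupOf C).card_mul_index
    rw [Nat.card_congr (Subgroup.subgroupOfEquivOfLe hPC).toEquiv, hC] at h1
    apply Nat.eq_of_mul_eq_mul_left hPpos
    rw [h1]; ring
  have hdecomp : ∀ c ∈ C, c ∈ (P : Subgroup G) ∨ t * c ∈ (P : Subgroup G) := by
    intro c hc
    by_cases h : c ∈ (P : Subgroup G)
    · exact Or.inl h
    · right
      have h1 := Subgroup.mul_mem_iff_of_index_two hidx (a := ⟨t, htC⟩) (b := ⟨c, hc⟩)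
      simp only [Subgroup.mem_subgroupOf, Subgroup.coe_mul] at h1
      exact h1.2 ⟨fun h2 => absurd h2 htP, fun h2 => absurd h2 h⟩
  have hcentP : ∀ c ∈ C, ∀ x ∈ (P : Subgroup G), x * c = c * x := by
    intro c hc x hx
    exact (Subgroup.mem_centralizer_iff.1 hc) x hx
  have htinv : t⁻¹ = t := inv_eq_of_mul_eq_one_right htt
  have hdec' : ∀ c ∈ C, c ∉ (P : Subgroup G) → ∃ x ∈ (P : Subgroup G), c = t * x := by
    intro c hc hcP
    refine ⟨t * c, (hdecomp c hc).resolve_left hcP, ?_⟩
    rw [← mul_assoc, htt, one_mul]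
  have hcommC : ∀ a ∈ C, ∀ b ∈ C, a * b = b * a := by
    intro a ha b hb
    by_cases haP : a ∈ (P : Subgroup G)
    · exact hcentP b hb a haP
    · by_cases hbP : b ∈ (P : Subgroup G)
      · exact (hcentP a ha b hbP).symm
      · obtain ⟨x, hx, rfl⟩ := hdec' a ha haP
        obtain ⟨y, hy, rfl⟩ := hdec' b hb hbP
        have h1 := hcentP t htC x hx
        have h2 := hcentP t htC y hy
        have h3 := hcommP x hx y hy
        calc t * x * (t * y) = t * (x * t) * y := by group
          _ = t * (t * x) * y := by rw [h1]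
          _ = t * t * (x * y) := by group
          _ = t * t * (y * x) := by rw [h3]
          _ = t * (t * y) * x := by group
          _ = t * (y * t) * x := by rw [h2]
          _ = t * y * (t * x) := by group
  have huniq : ∀ a ∈ C, a * a = 1 → a = 1 ∨ a = t := by
    intro a ha haa
    rcases hdecomp a ha with h | h
    · exact Or.inl (hpodd a h haa)
    · right
      have h1 : (t * a) * (t * a) = 1 := by
        rw [show t * a * (t * a) = t * (a * t) * a by group, hcommC a ha t htC,
          show t * (t * a) * a = (t * t) * (a * a) by group, htt, haa, one_mul]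
      have h2 := hpodd _ h h1
      rw [← htinv]
      exact (inv_eq_of_mul_eq_one_right h2).symm
  -- M normalizes C
  have hMC : ∀ m ∈ M, ∀ c ∈ C, m * c * m⁻¹ ∈ C := by
    intro m hm c hc
    rw [hCdef, Subgroup.mem_centralizer_iff]
    intro x hx
    have h1 : m⁻¹ * x * m ∈ (P : Subgroup G) := by
      have := (Subgroup.mem_normalizer_iff.1 (inv_mem hm) x).1 hx
      rwa [inv_inv] at this
    have h2 := hcentP c hc _ h1
    calc x * (m * c * m⁻¹) = m * ((m⁻¹ * x * m) * c) * m⁻¹ := by group
      _ = m * (c * (m⁻¹ * x * m)) * m⁻¹ := by rw [h2]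
      _ = m * c * m⁻¹ * x := by group
  have hMt : ∀ m ∈ M, m * t * m⁻¹ = t := by
    intro m hm
    refine (huniq _ (hMC m hm t htC) ?_).resolve_left ?_
    · rw [show m * t * m⁻¹ * (m * t * m⁻¹) = m * (t * t) * m⁻¹ by group, htt]; group
    · intro h
      apply ht1
      have : t = m⁻¹ * (m * t * m⁻¹) * m := by group
      rw [this, h]; group
  -- the centralizer of t
  have hcent : ∀ g, g * t * g⁻¹ = t ↔ g ∈ M := by
    set Z := Subgroup.centralizer ({t} : Set G) with hZ
    have hZmem : ∀ g, g ∈ Z ↔ g * t * g⁻¹ = t := fun g => Cfsg.Agent.Lib.CycNorm.mem_centralizer_singleton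
    have hMZ : M ≤ Z := fun m hm => (hZmem m).2 (hMt m hm)
    have hZtop : Z ≠ ⊤ := by
      intro h
      have h1 : t ∈ Subgroup.center G := by
        rw [Subgroup.mem_center_iff]
        intro g
        have h2 : g ∈ Z := h ▸ Subgroup.mem_top g
        rw [hZmem] at h2
        exact mul_inv_eq_iff_eq_mul.1 h2
      rw [hcenter, Subgroup.mem_bot] at h1
      exact ht1 h1
    have h2Z : 2 ∣ Nat.card Z := by
      have h1 : Nat.card M ∣ Nat.card Z := Subgroup.card_dvd_of_le hMZ
      rw [hN] at h1
      exact (Dvd.intro (2 * Nat.card P) (by ring)).trans h1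
    have h3 := heven Z hZtop h2Z
    rw [← hN] at h3
    have h4 : M = Z := Subgroup.eq_of_le_of_card_ge hMZ (Nat.le_of_dvd Nat.card_pos h3)
    intro g
    rw [← hZmem, ← h4]
  -- Sylow 2-subgroups have order 4
  obtain ⟨S⟩ : Nonempty (Sylow 2 G) := inferInstance
  have h4G : 4 ∣ Nat.card G := by
    have h1 := Subgroup.card_subgroup_dvd_card M
    rw [hN] at h1
    exact (Dvd.intro _ rfl).trans h1
  have hScard : Nat.card S = 4 := by
    obtain ⟨j, hj⟩ := IsPGroup.iff_card.1 S.isPGroup'
    have h4S : 4 ∣ Nat.card S := by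
      have h1 := S.card_eq_multiplicity
      rw [h1]
      have : (2 : ℕ) ^ 2 ∣ 2 ^ (Nat.card G).factorization 2 := by
        apply pow_dvd_pow
        exact (Nat.Prime.pow_dvd_iff_le_factorization Nat.prime_two Nat.card_pos.ne').1 (by norm_num; exact h4G)
      norm_num at this
      exact this
    have hStop : (S : Subgroup G) ≠ ⊤ := by
      intro h
      have h1 : IsPGroup 2 G := by
        have := S.isPGroup'
        rw [h] at this
        exact this.of_equiv Subgroup.topEquiv
      have h2 : Subgroup.center G ≠ ⊥ := by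
        have : Nontrivial (Subgroup.center G) := h1.center_nontrivial
        exact (Subgroup.nontrivial_iff_ne_bot _).1 this
      exact h2 hcenter
    have h1 := heven S hStop ((by norm_num : 2 ∣ 4).trans h4S)
    have h2 : Nat.card S ∣ 4 := by
      apply Nat.Coprime.dvd_of_dvd_mul_right _ h1
      rw [hj]
      exact Nat.Coprime.pow_left j (Nat.coprime_two_left.2 hPodd)
    exact Nat.dvd_antisymm h2 h4S
  obtain ⟨hfuse, hSsq⟩ := fuse S hScard (by
    intro K hK hcompl
    rcases hK.eq_bot_or_eq_top with h | h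
    · rw [h] at hcompl
      have h1 := hcompl.card_mul
      rw [Subgroup.card_bot, one_mul] at h1
      have h2 : (S : Subgroup G) = ⊤ := Subgroup.eq_top_of_card_eq _ h1
      have h3 : IsPGroup 2 G := by
        have := S.isPGroup'
        rw [h2] at this
        exact this.of_equiv Subgroup.topEquiv
      have h4 : Subgroup.center G ≠ ⊥ := by
        have : Nontrivial (Subgroup.center G) := h3.center_nontrivial
        exact (Subgroup.nontrivial_iff_ne_bot _).1 this
      exact h4 hcenter
    · rw [h] at hcompl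
      have h1 := hcompl.card_mul
      rw [Subgroup.card_top] at h1
      have h2 : 0 < Nat.card G := Nat.card_pos
      have h3 : Nat.card (S : Subgroup G) = 1 := by
        apply Nat.eq_of_mul_eq_mul_left h2
        rw [h1, mul_one]
      have h4 : Nat.card (S : Subgroup G) = 4 := hScard
      omega)
  -- elements of order a power of 2 are involutions
  have h2elt : ∀ (T : Subgroup G), Nat.card T = 4 → ∀ x ∈ T, x * x = 1 := by
    intro T hT x hx
    have h1 : IsPGroup 2 T := IsPGroup.of_card (n := 2) (by rw [hT]; norm_num)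
    obtain ⟨i, hi⟩ := h1 ⟨x, hx⟩
    obtain ⟨z, hz⟩ := exists_conj_mem_sylow S x ⟨i, congrArg Subtype.val hi⟩
    have h2 := hSsq _ hz
    have : x * x = z⁻¹ * (z * x * z⁻¹ * (z * x * z⁻¹)) * z := by group
    rw [this, h2]; group
  -- an involution s in M outside C
  have hs : ∃ s ∈ M, s ∉ C ∧ s * s = 1 := by
    obtain ⟨T, hT⟩ := Sylow.exists_subgroup_card_pow_prime (G := M) 2 (n := 2)
      (by rw [hN]; exact Dvd.intro (Nat.card P) (by norm_num))
    by_contra hcon
    push Not at hcon
    have h1 : T.map M.subtype ≤ C := by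
      rintro _ ⟨x, hx, rfl⟩
      by_contra hxC
      apply hcon x x.2 hxC
      apply h2elt (T.map M.subtype)
      · rw [Nat.card_congr (T.equivMapOfInjective M.subtype M.subtype_injective).toEquiv.symm, hT]; norm_num
      · exact ⟨x, hx, rfl⟩
    have h2 := Subgroup.card_dvd_of_le h1
    rw [Nat.card_congr (T.equivMapOfInjective M.subtype M.subtype_injective).toEquiv.symm, hT, hC] at h2
    have h3 : 2 ∣ Nat.card P := by
      have : 2 * 2 ∣ 2 * Nat.card P := by norm_num at h2 ⊢; exact h2
      exact Nat.dvd_of_mul_dvd_mul_left (by norm_num) this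
    exact (Nat.not_even_iff_odd.2 hPodd) (even_iff_two_dvd.2 h3)
  obtain ⟨s, hsM, hsC, hss⟩ := hs
  have hs1 : s ≠ 1 := fun h => hsC (h ▸ C.one_mem)
  have hsinv : s⁻¹ = s := inv_eq_of_mul_eq_one_right hss
  -- trivial intersection
  have hti : ∀ g, g ∉ M → ∀ x ∈ C, g * x * g⁻¹ ∈ C → x = 1 := by
    intro g hg x hx hgx
    refine hTI g ?_ x hx hgx
    intro hgC
    apply hg
    rw [hMdef]
    apply Subgroup.mem_normalizer_fintype
    intro y hy
    have h1 : g * y * g⁻¹ ∈ C := (Subgroup.mem_normalizer_iff.1 hgC y).1 (hPC hy)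
    apply mem_sylow_of_normalizer P (hCM h1)
    obtain ⟨i, hi⟩ := P.isPGroup' ⟨y, hy⟩
    refine ⟨i, ?_⟩
    rw [conj_pow]
    have : y ^ 3 ^ i = 1 := congrArg Subtype.val hi
    rw [this]; group
  -- s inverts P
  have hsfix : ∀ x ∈ (P : Subgroup G), s * x * s⁻¹ = x → x = 1 := by
    intro x hx hsx
    obtain ⟨y, hy⟩ := hfuse t s ht1 htt hs1 hss
    have h1 : y⁻¹ * x * y ∈ M := by
      rw [← hcent]
      have : y⁻¹ * x * y * t * (y⁻¹ * x * y)⁻¹ = y⁻¹ * (x * (y * t * y⁻¹) * x⁻¹) * y := by group
      rw [this, hy]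
      have h2 : x * s * x⁻¹ = s := by
        rw [mul_inv_eq_iff_eq_mul]
        exact (mul_inv_eq_iff_eq_mul.1 hsx).symm
      rw [h2, ← hy]; group
    have h2 : y⁻¹ * x * y ∈ (P : Subgroup G) := by
      apply mem_sylow_of_normalizer P h1
      obtain ⟨i, hi⟩ := P.isPGroup' ⟨x, hx⟩
      refine ⟨i, ?_⟩
      have h3 : x ^ 3 ^ i = 1 := congrArg Subtype.val hi
      have h4 := conj_pow (i := 3 ^ i) (a := y⁻¹) (b := x)
      rw [inv_inv] at h4
      rw [h4, h3]; group
    by_cases hyM : y ∈ M
    · exfalso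
      rw [← hcent, hy] at hyM
      exact hsC (hyM ▸ htC)
    · have h3 := hti y hyM _ (hPC h2) (by
        rw [show y * (y⁻¹ * x * y) * y⁻¹ = x by group]
        exact hPC hx)
      have : x = y * (y⁻¹ * x * y) * y⁻¹ := by group
      rw [this, h3]; group
  have hsP : ∀ x ∈ (P : Subgroup G), s * x * s⁻¹ ∈ (P : Subgroup G) := fun x hx =>
    (Subgroup.mem_normalizer_iff.1 hsM x).1 hx
  have hsinvP : ∀ x ∈ (P : Subgroup G), s * x * s⁻¹ = x⁻¹ := by
    intro x hx
    have h1 := hsP x hx
    have h2 : x * (s * x * s⁻¹) = 1 := by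
      apply hsfix _ (mul_mem hx h1)
      calc s * (x * (s * x * s⁻¹)) * s⁻¹ = (s * x * s⁻¹) * ((s * s) * x * (s * s)⁻¹) := by group
        _ = (s * x * s⁻¹) * x := by rw [hss]; group
        _ = x * (s * x * s⁻¹) := hcommP _ h1 _ hx
    exact (inv_eq_of_mul_eq_one_right h2).symm
  have hsinvC : ∀ c ∈ C, s * c * s⁻¹ = c⁻¹ := by
    intro c hc
    by_cases hcP : c ∈ (P : Subgroup G)
    · exact hsinvP c hcP
    · obtain ⟨x, hx, rfl⟩ := hdec' c hc hcP
      rw [show s * (t * x) * s⁻¹ = (s * t * s⁻¹) * (s * x * s⁻¹) by group, hMt s hsM, hsinvP x hx,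
        mul_inv_rev, htinv]
      exact hcommC _ htC _ (hPC (inv_mem hx))
  have hidx2 : (C.subgroupOf M).index = 2 := by
    have h1 := (C.subgroupOf M).card_mul_index
    rw [Nat.card_congr (Subgroup.subgroupOfEquivOfLe hCM).toEquiv, hN, hC] at h1
    apply Nat.eq_of_mul_eq_mul_left (show 0 < 2 * Nat.card P by omega)
    rw [h1]; ring
  have hMdec : ∀ m ∈ M, m ∉ C → ∃ c ∈ C, m = s * c := by
    intro m hm hmC
    refine ⟨s * m, ?_, ?_⟩
    · have h1 := Subgroup.mul_mem_iff_of_index_two hidx2 (a := ⟨s, hsM⟩) (b := ⟨m, hm⟩)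
      simp only [Subgroup.mem_subgroupOf, Subgroup.coe_mul] at h1
      exact h1.2 ⟨fun h2 => absurd h2 hsC, fun h2 => absurd h2 hmC⟩
    · rw [← mul_assoc, hss, one_mul]
  have hsq : ∀ m ∈ M, m ∉ C → m * m = 1 := by
    intro m hm hmC
    obtain ⟨c, hc, rfl⟩ := hMdec m hm hmC
    have h1 := hsinvC c hc
    calc s * c * (s * c) = (s * c * s⁻¹) * (s * s) * c := by group
      _ = 1 := by rw [h1, hss]; group
  have hinvC : ∀ m ∈ M, m ∉ C → ∀ h ∈ C, m * h * m⁻¹ = h⁻¹ := by
    intro m hm hmC h hh
    obtain ⟨c, hc, rfl⟩ := hMdec m hm hmC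
    have h1 : c * h * c⁻¹ = h := by rw [hcommC c hc h hh]; group
    calc s * c * h * (s * c)⁻¹ = s * (c * h * c⁻¹) * s⁻¹ := by group
      _ = h⁻¹ := by rw [h1, hsinvC h hh]
  have hfuse' : ∀ u, u ≠ 1 → u * u = 1 → ∃ y, y * t * y⁻¹ = u := fun u hu huu => hfuse t u ht1 htt hu huu
  -- the covering property
  have hcover : ∀ u v, u * u = 1 → u ≠ 1 → v * v = 1 → v ≠ 1 → u * v ≠ 1 → ∃ y, y⁻¹ * (u * v) * y ∈ C := by
    intro u v huu hu1 hvv hv1 huv
    set g := u * v with hg
    have huinv : u⁻¹ = u := inv_eq_of_mul_eq_one_right huu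
    have hvinv : v⁻¹ = v := inv_eq_of_mul_eq_one_right hvv
    have hug : u * g * u⁻¹ = g⁻¹ := by
      rw [hg, mul_inv_rev, huinv, hvinv, ← mul_assoc, huu, one_mul]
    have hord : orderOf g ≠ 1 := fun h => huv (orderOf_eq_one_iff.1 h)
    obtain ⟨r, hr, hrd⟩ := Nat.exists_prime_and_dvd hord
    obtain ⟨j, hj⟩ := hrd
    have hgpos : 0 < orderOf g := orderOf_pos g
    have hjpos : 0 < j := by
      rcases Nat.eq_zero_or_pos j with h | h
      · rw [h, mul_zero] at hj; omega
      · exact h
    have hhord : orderOf (g ^ j) = r := by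
      rw [orderOf_pow_of_dvd hjpos.ne' (Dvd.intro_left r hj.symm), hj]
      exact Nat.mul_div_cancel _ hjpos
    -- g^j is conjugate into C
    have hconj : ∃ y, y⁻¹ * g ^ j * y ∈ C := by
      by_cases hr2 : r = 2
      · obtain ⟨y, hy⟩ := hfuse' (g ^ j) (by
          intro h
          rw [h, orderOf_one] at hhord
          exact hr.one_lt.ne hhord) (by
          rw [← pow_two, ← hr2, ← hhord]; exact pow_orderOf_eq_one _)
        refine ⟨y, ?_⟩
        rw [← hy, show y⁻¹ * (y * t * y⁻¹) * y = t by group]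
        exact htC
      · have hr3 : r = 3 := by
          set H := Subgroup.normalizer ((Subgroup.zpowers (g ^ j) : Subgroup G) : Set G) with hH
          have huH : u ∈ H := by
            rw [hH, Cfsg.Agent.Lib.CycNorm.mem_normalizer_zpowers_iff, ← conj_pow, hug, inv_pow]
            exact inv_mem (Subgroup.mem_zpowers _)
          have hgH : g ^ j ∈ H := Subgroup.le_normalizer (Subgroup.mem_zpowers _)
          have hHtop : H ≠ ⊤ := by
            intro h
            have h1 : (Subgroup.zpowers (g ^ j)).Normal := Subgroup.normalizer_eq_top_iff.1 h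
            rcases h1.eq_bot_or_eq_top with h2 | h2
            · rw [Subgroup.zpowers_eq_bot] at h2
              rw [h2, orderOf_one] at hhord
              exact hr.one_lt.ne hhord
            · apply hnoncomm
              intro a b
              have ha : a ∈ Subgroup.zpowers (g ^ j) := h2 ▸ Subgroup.mem_top a
              have hb : b ∈ Subgroup.zpowers (g ^ j) := h2 ▸ Subgroup.mem_top b
              obtain ⟨m, rfl⟩ := Subgroup.mem_zpowers_iff.1 ha
              obtain ⟨n, rfl⟩ := Subgroup.mem_zpowers_iff.1 hb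
              exact ((Commute.refl (g ^ j)).zpow_zpow m n)
          have h2H : 2 ∣ Nat.card H := by
            have h1 : orderOf u = 2 := orderOf_eq_prime (by rw [pow_two, huu]) hu1
            have h2 := Subgroup.orderOf_dvd_natCard H huH
            rwa [h1] at h2
          have h3 := heven H hHtop h2H
          have h4 : r ∣ 4 * Nat.card P := by
            have := Subgroup.orderOf_dvd_natCard H hgH
            rw [hhord] at this
            exact this.trans h3
          rw [hk, show 4 = 2 ^ 2 by norm_num] at h4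
          rcases (Nat.Prime.dvd_mul hr).1 h4 with h5 | h5
          · exact absurd ((Nat.prime_dvd_prime_iff_eq hr Nat.prime_two).1 (hr.dvd_of_dvd_pow h5)) hr2
          · exact (Nat.prime_dvd_prime_iff_eq hr Nat.prime_three).1 (hr.dvd_of_dvd_pow h5)
        obtain ⟨z, hz⟩ := exists_conj_mem_sylow P (g ^ j) ⟨1, by
          rw [pow_one, ← hr3, ← hhord]; exact pow_orderOf_eq_one _⟩
        refine ⟨z⁻¹, ?_⟩
        rw [inv_inv]
        exact hPC hz
    obtain ⟨y, hy⟩ := hconj
    set w := y⁻¹ * g * y with hw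
    have hwj : w ^ j = y⁻¹ * g ^ j * y := by
      have h4 := conj_pow (i := j) (a := y⁻¹) (b := g)
      rwa [inv_inv] at h4
    have hwj1 : w ^ j ≠ 1 := by
      intro h
      rw [hwj] at h
      have h1 : g ^ j = 1 := by
        have : g ^ j = y * (y⁻¹ * g ^ j * y) * y⁻¹ := by group
        rw [this, h]; group
      rw [h1, orderOf_one] at hhord
      exact hr.one_lt.ne hhord
    have hwM : w ∈ M := by
      by_contra hwM
      apply hwj1
      apply hti w hwM _ (hwj ▸ hy)
      have : w * w ^ j * w⁻¹ = w ^ j := by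
        rw [← pow_succ', pow_succ]; group
      rw [this, hwj]
      exact hy
    by_cases hwC : w ∈ C
    · exact ⟨y, hwC⟩
    · have h1 := hsq w hwM hwC
      obtain ⟨z, hz⟩ := hfuse' w (fun h => hwC (h ▸ C.one_mem)) h1
      refine ⟨y * z, ?_⟩
      rw [show (y * z)⁻¹ * g * (y * z) = z⁻¹ * (y⁻¹ * g * y) * z by group, ← hw, ← hz,
        show z⁻¹ * (z * t * z⁻¹) * z = t by group]
      exact htC
  have hconfig : Config C M t :=
    { le := hCM
      tC := htC
      t1 := ht1
      tt := htt
      cent := hcent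
      comm := hcommC
      uniq := huniq
      sq := hsq
      inv := hinvC
      ti := hti
      card := by rw [hN, hC]; ring
      odd := ⟨Nat.card P, hPodd, hC⟩
      fuse := hfuse'
      cover := hcover }
  have hfin := Fintype.ofFinite G
  apply config_false hconfig
  intro χ hχ
  obtain ⟨f, hf⟩ := χ.2.isCharacter.exists_hom hχ
  rcases (inferInstance : f.ker.Normal).eq_bot_or_eq_top with h | h
  · exfalso
    apply hnoncomm
    intro a b
    have hinj : Function.Injective f := (MonoidHom.ker_eq_bot_iff f).1 h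
    apply hinj
    rw [map_mul, map_mul, mul_comm]
  · funext g
    have : g ∈ f.ker := h ▸ Subgroup.mem_top g
    rw [hf, (MonoidHom.mem_ker).1 this]
    simp

end Cfsg.Agent.S4018
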