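import Cfsg.Statements.S3276
import Cfsg.Agent.Lib.H55Invol

set_option autoImplicit false
open Cfsg

namespace Cfsg.Agent.S3276

open Cfsg.Agent.Lib.H55Invol in
/-- Let x and y be commuting, non-conjugate involutions of a finite group G, and suppose that for every involution u commuting with x, each conjugate of y that commutes with u also commutes with y. Then the normal closure of y is a proper, normal, elementary abelian 2-subgroup of G; and if y is the only involution of that normal closure commuting with x, it has order at most 4. -/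
theorem result {G : Type*} [Group G] [Finite G] (x y : G) (hx : orderOf x = 2) (hy : orderOf y = 2)
    (hxy : Commute x y) (hnc : ¬ IsConj x y)
    (hstar : ∀ u : G, orderOf u = 2 → Commute u x → ∀ g : G, Commute (g * y * g⁻¹) u → Commute (g * y * g⁻¹) y) :
    Subgroup.normalClosure ({y} : Set G) ≠ ⊤ ∧ Cfsg.IsElementaryAbelian 2 (Subgroup.normalClosure ({y} : Set G)) ∧
      ((∀ u ∈ Subgroup.normalClosure ({y} : Set G), orderOf u = 2 → Commute u x → u = y) →
        Nat.card ↥(Subgroup.normalClosure ({y} : Set G)) ≤ 4) := by
  have hcomm : ∀ g : G, Commute (g * y * g⁻¹) y := by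
    intro g
    have hg : orderOf (g * y * g⁻¹) = 2 := by rw [orderOf_conj, hy]
    have hn : ¬ IsConj x (g * y * g⁻¹) := by
      intro h
      apply hnc
      exact h.trans (isConj_iff.2 ⟨g⁻¹, by group⟩)
    obtain ⟨u, hu, hux, huy, -⟩ := exists_commuting_involution hx hg hn
    exact hstar u hu hux g huy.symm
  have hc := normalClosure_comm hcomm
  have hs := normalClosure_sq (mul_self hy) hcomm
  refine ⟨?_, ⟨?_, ?_⟩, ?_⟩
  · intro htop
    apply hnc
    have hxm : x ∈ Subgroup.normalClosure ({y} : Set G) := by rw [htop]; trivial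
    -- G is commutative so normal closure of y is zpowers y
    have hcG : ∀ a b : G, a * b = b * a := fun a b =>
      hc a (by rw [htop]; trivial) b (by rw [htop]; trivial)
    have hn : (Subgroup.zpowers y).Normal := by
      refine ⟨fun n hn g => ?_⟩
      rw [hcG g n, mul_assoc, mul_inv_cancel, mul_one]; exact hn
    have hle : Subgroup.normalClosure ({y} : Set G) ≤ Subgroup.zpowers y :=
      Subgroup.normalClosure_le_normal (by simp)
    have hxz := hle hxm
    obtain ⟨k, hk⟩ := Subgroup.mem_zpowers_iff.1 hxz
    have hy2 : y ^ (2 : ℤ) = 1 := by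
      have := pow_orderOf_eq_one y
      rw [hy] at this; exact_mod_cast this
    rcases Int.even_or_odd' k with ⟨m, hm | hm⟩
    · exfalso
      apply ne_one hx
      rw [← hk, hm, zpow_mul, hy2, one_zpow]
    · rw [← hk, hm, zpow_add, zpow_mul, hy2, one_zpow, one_mul, zpow_one]
  · rw [isMulCommutative_iff]
    rintro ⟨a, ha⟩ ⟨b, hb⟩
    exact Subtype.ext (hc a ha b hb)
  · intro a ha
    rw [pow_two]; exact hs a ha
  · intro honly
    set N := Subgroup.normalClosure ({y} : Set G) with hN
    have h4 := card_le_sq_of_involution_action N hc hs (mul_self hx) (by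
      intro a ha
      exact (Subgroup.normalClosure_normal (s := ({y} : Set G))).conj_mem a ha x)
    have hle2 : Nat.card ↥(N ⊓ Subgroup.centralizer ({x} : Set G)) ≤ 2 := by
      have hsub : ((N ⊓ Subgroup.centralizer ({x} : Set G) : Subgroup G) : Set G) ⊆ {1, y} := by
        intro a ha
        rw [SetLike.mem_coe, Subgroup.mem_inf, Subgroup.mem_centralizer_singleton_iff] at ha
        by_cases h1 : a = 1
        · left; exact h1
        · right
          exact honly a ha.1 (orderOf_two_iff.2 ⟨h1, hs a ha.1⟩) ha.2
      calc Nat.card ↥(N ⊓ Subgroup.centralizer ({x} : Set G))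
          ≤ Nat.card ↥({1, y} : Set G) := Nat.card_mono (Set.toFinite _) hsub
        _ ≤ 2 := by
            rw [Nat.card_coe_set_eq]
            exact (Set.ncard_insert_le _ _).trans (by simp)
    calc Nat.card ↥N ≤ _ := h4
      _ ≤ 2 ^ 2 := Nat.pow_le_pow_left hle2 2
      _ = 4 := by norm_num

end Cfsg.Agent.S3276
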