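import Cfsg.Statements.S3278
import Cfsg.Agent.Lib.H55KleinFinal
import Cfsg.Agent.S3276

set_option autoImplicit false
open Cfsg

namespace Cfsg.Agent.S3278

open Cfsg.Agent.Lib Cfsg.Agent.Lib.H55Invol Cfsg.Agent.Lib.H55Klein Cfsg.Agent.Lib.H55KleinSetup in
/-- Let G be a finite simple group with an involution x such that a Sylow 2-subgroup of C_G(x) is a Klein four-group which is normal in C_G(x). Then G is isomorphic to the alternating group of degree 5 (that is, to PSL(2, 5)). -/
theorem result {G : Type*} [Group G] [Finite G] [IsSimpleGroup G] (x : G) (hx : orderOf x = 2)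
    (S₀ : Subgroup G) (hle : S₀ ≤ Subgroup.centralizer ({x} : Set G)) (hK : IsKleinFour ↥S₀)
    (hodd : ¬ 2 ∣ S₀.relIndex (Subgroup.centralizer ({x} : Set G))) (hn : (S₀.subgroupOf (Subgroup.centralizer ({x} : Set G))).Normal) :
    Nonempty (G ≃* ↥(alternatingGroup (Fin 5))) := by
  set C := Subgroup.centralizer ({x} : Set G) with hC
  have hSp := klein_isPGroup hK
  have hxS : x ∈ S₀ := by
    apply le_of_normal_sylow hle hSp hodd hn (zpowers_isPGroup hx) _ (Subgroup.mem_zpowers x)
    rw [Subgroup.zpowers_le, hC, Subgroup.mem_centralizer_singleton_iff]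
  rcases H55Klein.main x hx S₀ hle hK hodd hn with ⟨P, hP⟩ | ⟨z, hzC, hz, hxz, hnconj, hstar⟩
  · have hKP : IsKleinFour ↥(P : Subgroup G) := by rw [hP]; exact hK
    -- complement
    have hcop : Nat.Coprime (Nat.card ↥(S₀.subgroupOf C)) (S₀.subgroupOf C).index := by
      have h1 : Nat.card ↥(S₀.subgroupOf C) = 4 := by
        rw [Nat.card_congr (Subgroup.subgroupOfEquivOfLe hle).toEquiv, hK.card_four]
      rw [h1, show 4 = 2 ^ 2 by norm_num]
      apply Nat.Coprime.pow_left
      rw [Nat.Prime.coprime_iff_not_dvd Nat.prime_two]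
      exact hodd
    obtain ⟨K₀, hK₀⟩ := Subgroup.exists_right_complement'_of_coprime hcop
    set K : Subgroup G := K₀.map C.subtype with hKdef
    have hKC : K ≤ C := Subgroup.map_subtype_le _
    have hKodd : Odd (Nat.card ↥K) := by
      have h1 : Nat.card ↥K = Nat.card ↥K₀ := Subgroup.card_map_of_injective C.subtype_injective
      have h2 : (S₀.subgroupOf C).index = Nat.card ↥K₀ := hK₀.symm.index_eq_card
      rw [h1, ← h2, ← Nat.not_even_iff_odd, even_iff_two_dvd]
      exact hodd
    have hdec : ∀ g, g * x = x * g → ∃ s ∈ S₀, ∃ k ∈ K, g = s * k := by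
      intro g hg
      have hgC : g ∈ C := by rw [hC, Subgroup.mem_centralizer_singleton_iff]; exact hg
      obtain ⟨⟨s, k⟩, hsk⟩ := hK₀.2 ⟨g, hgC⟩
      refine ⟨((s : ↥C) : G), Subgroup.mem_subgroupOf.1 s.2, ((k : ↥C) : G), ⟨k, k.2, rfl⟩, ?_⟩
      exact (congrArg Subtype.val hsk).symm
    have hcomm : ∀ s ∈ S₀, ∀ k ∈ K, s * k = k * s := by
      intro s hs k hk
      have hkC := hKC hk
      rw [hC, Subgroup.mem_centralizer_singleton_iff] at hkC
      have hnorm : ∀ y ∈ S₀, k * y * k⁻¹ ∈ S₀ := by
        intro y hy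
        have h1 := hn.conj_mem ⟨y, hle hy⟩ (by rw [Subgroup.mem_subgroupOf]; exact hy) ⟨k, hKC hk⟩
        rw [Subgroup.mem_subgroupOf] at h1
        exact h1
      have hkx : k * x * k⁻¹ = x := by rw [hkC]; group
      have hx1 := ne_one hx
      -- k² commutes with s
      have hk2 : k * (k * s * k⁻¹) * k⁻¹ = s := by
        by_cases hs1 : s = 1
        · rw [hs1]; group
        by_cases hsx : s = x
        · rw [hsx, hkx, hkx]
        have hne1 : ∀ y, y ≠ 1 → k * y * k⁻¹ ≠ 1 := by
          intro y hy h1
          apply hy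
          calc y = k⁻¹ * (k * y * k⁻¹) * k := by group
            _ = 1 := by rw [h1]; group
        have hnex : ∀ y, y ≠ x → k * y * k⁻¹ ≠ x := by
          intro y hy h1
          apply hy
          rw [← hkx] at h1
          exact mul_left_cancel (mul_right_cancel h1)
        by_cases hfix : k * s * k⁻¹ = s
        · rw [hfix, hfix]
        · have h1 : k * s * k⁻¹ = x * s :=
            klein_eq_mul hK hxS hs (hnorm s hs) hx1 hs1 (Ne.symm hsx) (hne1 s hs1) (hnex s hsx) hfix
          rw [h1]
          calc k * (x * s) * k⁻¹ = (k * x * k⁻¹) * (k * s * k⁻¹) := by group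
            _ = x * (x * s) := by rw [hkx, h1]
            _ = s := by rw [← mul_assoc, mul_self hx, one_mul]
      have hc2 : Commute (k ^ 2) s := by
        show k ^ 2 * s = s * k ^ 2
        calc k ^ 2 * s = k * (k * s * k⁻¹) * k⁻¹ * (k ^ 2) := by rw [pow_two]; group
          _ = s * k ^ 2 := by rw [hk2]
      obtain ⟨j, hj⟩ := hKodd
      have hkpow : k ^ Nat.card ↥K = 1 := Setup.pow_card k hk
      have h3 : k = ((k ^ 2) ^ j)⁻¹ := by
        rw [hj, pow_succ, pow_mul] at hkpow
        exact eq_inv_of_mul_eq_one_right hkpow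
      have h4 : Commute k s := by
        rw [h3]
        exact (hc2.pow_left j).inv_left
      exact h4.eq.symm
    rcases SmallFusion.klein_dichotomy P hKP with h | h
    · apply H55KleinFinal.equiv (t := x) (S := S₀) (K := K)
      refine ⟨hx, hK, hxS, ?_, hKodd, hdec, hcomm, h⟩
      rw [← hP]; exact P.not_dvd_index
    · exfalso
      have hcompl : Cfsg.HasNormalPComplement 2 G := by
        apply Transfer.hasNormalPComplement_of_ownFusion P
        rintro a ha b hb ⟨g, hg⟩
        have hab : a = b := h a ha b hb (isConj_iff.2 ⟨g, hg⟩)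
        exact ⟨1, one_mem _, by rw [← hab]; group⟩
      have h2 : 2 ∣ Nat.card G := by
        rw [← hx]; exact orderOf_dvd_natCard x
      have hcomm' := TransferApps2.simple_comm_of_hasNormalPComplement h2 hcompl
      have hn2 : (Subgroup.zpowers x).Normal := by
        refine ⟨fun n hn g => ?_⟩
        rw [hcomm' g n, mul_assoc, mul_inv_cancel, mul_one]; exact hn
      have hSn : S₀.Normal := by
        refine ⟨fun n hn g => ?_⟩
        rw [hcomm' g n, mul_assoc, mul_inv_cancel, mul_one]; exact hn
      have h4 := hK.card_four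
      have ht2 : Nat.card ↥(Subgroup.zpowers x) = 2 := by rw [Nat.card_zpowers, hx]
      rcases hSn.eq_bot_or_eq_top with h1 | h1
      · rw [h1, Subgroup.card_bot] at h4; omega
      · rw [h1, Subgroup.card_top] at h4
        rcases hn2.eq_bot_or_eq_top with h2 | h2
        · rw [h2, Subgroup.card_bot] at ht2; omega
        · rw [h2, Subgroup.card_top] at ht2; omega
  · exfalso
    obtain ⟨hne, -, -⟩ := Cfsg.Agent.S3276.result x z hx hz hxz hnconj hstar
    have hbot := (IsSimpleGroup.eq_bot_or_eq_top_of_normal _ (Subgroup.normalClosure_normal (s := ({z} : Set G)))).resolve_right hne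
    have hzN : z ∈ Subgroup.normalClosure ({z} : Set G) := Subgroup.subset_normalClosure (Set.mem_singleton z)
    rw [hbot, Subgroup.mem_bot] at hzN
    exact ne_one hz hzN

end Cfsg.Agent.S3278
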