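import Cfsg.Statements.S1222
import Cfsg.Agent.Lib.SUSFinal
import Cfsg.Agent.Lib.SUZcor


set_option autoImplicit false
open Cfsg

namespace Cfsg.Agent.S1222

/-- Let G be a finite simple group with a strongly embedded subgroup H such that H permutes transitively the cosets gH with g ∉ H, and H has a normal subgroup Q acting regularly on those cosets (transitively, with only the identity fixing any of them). Then G is isomorphic to PSL(2,F) with F of characteristic 2 and at least 4 elements, or is simple with the order of a Suzuki group, or is isomorphic to PSU(3) over a field with q² elements, q ≥ 4 a power of 2. -/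
theorem result {G : Type*} [Group G] [Finite G] [IsSimpleGroup G] (H : Subgroup G) (hH : Cfsg.IsStronglyEmbedded H) (Q : Subgroup G) (hQH : Q ≤ H) (hQn : (Q.subgroupOf H).Normal) (htrans : ∀ g₁ g₂ : G, g₁ ∉ H → g₂ ∉ H → ∃ u ∈ Q, g₂⁻¹ * (u * g₁) ∈ H) (hreg : ∀ g : G, g ∉ H → ∀ u ∈ Q, g⁻¹ * (u * g) ∈ H → u = 1) : (∃ (F : Type) (_ : Field F) (_ : Fintype F), CharP F 2 ∧ 4 ≤ Fintype.card F ∧ Nonempty (G ≃* Matrix.ProjectiveSpecialLinearGroup (Fin 2) F)) ∨ Cfsg.IsSuzuki G ∨ (∃ (F : Type) (_ : Field F) (_ : Fintype F) (q : ℕ), Fintype.card F = q ^ 2 ∧ Even q ∧ 4 ≤ q ∧ Nonempty (G ≃* Cfsg.PSU 3 F q)) := by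
  have h1 := Cfsg.Agent.Lib.SUZcor.main (H := H) (Q := Q) hH.1 hH.2.1 (fun t _ ht => hH.2.2 t ht) hQH
    (fun h hh x hx => by
      have := hQn.conj_mem ⟨x, hQH hx⟩ (Subgroup.mem_subgroupOf.2 hx) ⟨h, hh⟩
      exact Subgroup.mem_subgroupOf.1 this)
    (fun t g ht hg => by
      obtain ⟨u, hu, h⟩ := htrans t g ht hg
      refine ⟨u, hu, ?_⟩
      have h2 := H.inv_mem h
      have h3 : (g⁻¹ * (u * t))⁻¹ = (u * t)⁻¹ * g := by group
      rwa [h3] at h2)
    (fun t ht x hx h => hreg t ht x hx (by rwa [← mul_assoc]))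
    (fun a t hf hS h2 => Cfsg.Agent.Lib.SUSFinal.main hS h2)
  rcases h1 with ⟨F, i1, i2, ⟨n, hn, hF⟩, h⟩ | h | ⟨F, i1, i2, n, hn, hF, h⟩
  · left
    refine ⟨F, i1, i2, Cfsg.Agent.Lib.SuzukiFin.charTwo hF, ?_, h⟩
    rw [hF]
    calc 4 = 2 ^ 2 := by norm_num
      _ ≤ 2 ^ n := Nat.pow_le_pow_right (by norm_num) hn
  · exact Or.inr (Or.inl h)
  · right; right
    refine ⟨F, i1, i2, 2 ^ n, hF, ?_, ?_, h⟩
    · exact (Nat.even_pow.2 ⟨even_two, by omega⟩)
    · calc 4 = 2 ^ 2 := by norm_num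
        _ ≤ 2 ^ n := Nat.pow_le_pow_right (by norm_num) hn

end Cfsg.Agent.S1222
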