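import Cfsg.Statements.S0971
import Cfsg.Agent.Lib.BlockHom

set_option autoImplicit false
open Cfsg

namespace Cfsg.Agent.S0971

open Cfsg Cfsg.Agent.Lib.BlockRing Cfsg.Agent.Lib.BlockGA Cfsg.Agent.Lib.BlockIdem Cfsg.Agent.Lib.BlockHom
open Cfsg.Agent.Lib.BlockRes (resH coeff_resH brH)
open Cfsg.Agent.Lib.CharBasic Cfsg.Agent.Lib.BlockCover

/-- Let Q be a normal p-subgroup of the finite group G, let N = Q ⊔ C_G(Q) (a normal subgroup) and let b be a block of N relative to a maximal ideal M of the algebraic integers containing p. Then b induces some block of G, and every block B of G containing a character whose restriction to N has a constituent in b is induced by b. -/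
theorem result {G : Type*} [Group G] [Fintype G] (p : ℕ) [Fact p.Prime] (M : Ideal Cfsg.AlgInt) (hM : Cfsg.IsPModular p M) (Q : Subgroup G) [Q.Normal] (hQ : IsPGroup p Q) [Fintype ↥(Q ⊔ Subgroup.centralizer (Q : Set G))] (b : Set (Cfsg.IrrCharacter ↥(Q ⊔ Subgroup.centralizer (Q : Set G)))) (hb : Cfsg.IsPBlock M b) : Cfsg.InducedBlockDefined M (Q ⊔ Subgroup.centralizer (Q : Set G)) b ∧ ∀ B : Set (Cfsg.IrrCharacter G), Cfsg.IsPBlock M B → (∃ χ ∈ B, ∃ θ ∈ b, Cfsg.classInner (fun n : ↥(Q ⊔ Subgroup.centralizer (Q : Set G)) => (χ : G → ℂ) n) (θ : ↥(Q ⊔ Subgroup.centralizer (Q : Set G)) → ℂ) ≠ 0) → Cfsg.IsInducedBlock M (Q ⊔ Subgroup.centralizer (Q : Set G)) b B := by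
  haveI := isPrime hM
  constructor
  · exact inducedBlockDefined hM hQ le_sup_left le_sup_right
      (fun x _ => by rw [Subgroup.normalizer_eq_top]; exact Subgroup.mem_top x) hb
  · intro B hB hcov
    refine ⟨hb, hB, fun ξ hξ χ hχ g => ?_⟩
    by_cases hg : g ∈ Q ⊔ Subgroup.centralizer (Q : Set G)
    · exact idl_sub_symm (passman_mp hB hb hcov hχ hξ ⟨g, hg⟩)
    · have h1 : inducedCentralChar (Q ⊔ Subgroup.centralizer (Q : Set G))
          (ξ : ↥(Q ⊔ Subgroup.centralizer (Q : Set G)) → ℂ) g = 0 := by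
        rw [inducedCentralChar]
        apply finsum_mem_eq_zero_of_forall_eq_zero
        intro h hh
        exfalso
        apply hg
        obtain ⟨c, hc⟩ := isConj_iff.1 (hh : IsConj g (h : G))
        have hn : (Q ⊔ Subgroup.centralizer (Q : Set G)).Normal := inferInstance
        have h2 := hn.conj_mem (h : G) h.2 c⁻¹
        rw [← hc] at h2
        simpa [mul_assoc] using h2
      rw [h1, zero_sub]
      apply idl_neg
      exact Cfsg.Agent.Lib.BlockNormP.idl_centralChar_of_not_mem hM hQ χ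
        (fun h => hg (Subgroup.mem_sup_right h))

end Cfsg.Agent.S0971
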