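import Cfsg.Statements.S0969
import Cfsg.Agent.Lib.BlockCentral
import Cfsg.Agent.Lib.BlockNormP
import Cfsg.Agent.Lib.BlockFirst

set_option autoImplicit false
open Cfsg

namespace Cfsg.Agent.S0969

open Cfsg Cfsg.Agent.Lib.BlockRing Cfsg.Agent.Lib.BlockGA Cfsg.Agent.Lib.BlockDefect Cfsg.Agent.Lib.BlockDeg
  Cfsg.Agent.Lib.PPart Cfsg.Agent.Lib.IndFun Cfsg.Agent.Lib.BlockPair Cfsg.Agent.Lib.BlockCentral
open scoped ComplexConjugate

universe u
variable {G : Type u} [Group G] [Finite G] {p : ℕ} {M : Ideal AlgInt}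

theorem value_central (hp : p.Prime) {D : Subgroup G} (hDZ : D ≤ Subgroup.center G) :
    D ⊔ Subgroup.centralizer (D : Set G) = ⊤ := by
  rw [Subgroup.centralizer_eq_top_iff_subset.2 hDZ, sup_top_eq]

/-- the vanishing statement -/
theorem vanish (hM : IsPModular p M) {D : Subgroup G} (hD : IsPGroup p D)
    (hDZ : D ≤ Subgroup.center G) (χ : IrrCharacter G)
    (hdeg : (charDegree (χ : G → ℂ)).factorization p = D.index.factorization p) {e f : ℕ} (he : IsRegExp p G e f)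
    {g : G} (hg : g ^ f ∉ D) : (χ : G → ℂ) g = 0 := by
  classical
  haveI := isPrime hM
  haveI : Fact p.Prime := ⟨hM.1⟩
  haveI := Fintype.ofFinite G
  have hG := value_central hM.1 hDZ
  haveI hDn := normal_of_sup hG
  have hreg : ∀ g : G, ¬ p ∣ orderOf g → g ∈ Subgroup.centralizer (D : Set G) := fun g hg =>
    mem_centralizer_of_regular hM.1 hD hG hg
  have hcent : ∀ g : G, g ∈ Subgroup.centralizer (D : Set G) := fun g => by
    rw [Subgroup.centralizer_eq_top_iff_subset.2 hDZ]; exact Subgroup.mem_top g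
  have h10 : (χ : G → ℂ) 1 ≠ 0 := χ.2.one_ne_zero
  let lam : D →* ℂ :=
    { toFun := fun d => (χ : G → ℂ) d / (χ : G → ℂ) 1
      map_one' := by simp [h10]
      map_mul' := fun a b => by
        simp only [Subgroup.coe_mul]
        rw [mul_value hG χ.2 a.2 (hcent b)]
        field_simp }
  have hgen := isGeneralized_ext hM hD hreg χ hdeg.ge (Cfsg.Agent.Lib.CharBasic.isCharacter_of_hom lam)
    (classFunction_inv hG (Cfsg.Agent.Lib.CharBasic.isCharacter_of_hom lam).isClassFunction hDn) he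
  have hφ : (fun g => extendByZero D (fun g => lam g) (g ^ f) * (χ : G → ℂ) (g ^ e)) =
      fun g => if g ^ f ∈ D then (χ : G → ℂ) g else 0 := by
    funext g
    by_cases h : g ^ f ∈ D
    · rw [if_pos h, extendByZero_mem _ _ h]
      have h1 := mul_value hG χ.2 h (hcent (g ^ e))
      rw [← pow_add, add_comm, he.pow_add] at h1
      rw [h1]
      change (χ : G → ℂ) (g ^ f) / (χ : G → ℂ) 1 * _ = _
      ring
    · rw [if_neg h, extendByZero_not_mem _ _ h, zero_mul]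
  rw [hφ] at hgen
  obtain ⟨n, hn⟩ := hgen.classInner_int χ.2.isGeneralized
  have h1 : classInner (fun g => if g ^ f ∈ D then (χ : G → ℂ) g else 0) (χ : G → ℂ) =
      (((Nat.card G : ℝ)⁻¹ * ∑ g : G, (if g ^ f ∈ D then ‖(χ : G → ℂ) g‖ ^ 2 else 0) : ℝ) : ℂ) := by
    rw [Cfsg.Agent.Lib.CharBasic.classInner_def]
    push_cast
    congr 1
    refine Finset.sum_congr rfl fun g _ => ?_
    split_ifs
    · rw [Complex.mul_conj, Complex.normSq_eq_norm_sq]
    · simp
  have h2 : (((Nat.card G : ℝ)⁻¹ * ∑ g : G, ‖(χ : G → ℂ) g‖ ^ 2 : ℝ) : ℂ) = 1 := by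
    rw [← Cfsg.Agent.Lib.CharBasic.classInner_self]
    exact χ.2.classInner_self
  have h2' : (Nat.card G : ℝ)⁻¹ * ∑ g : G, ‖(χ : G → ℂ) g‖ ^ 2 = 1 := by exact_mod_cast h2
  have hcard : (0 : ℝ) < (Nat.card G : ℝ)⁻¹ := inv_pos.2 (by exact_mod_cast Nat.card_pos)
  rw [h1] at hn
  have hn' : (Nat.card G : ℝ)⁻¹ * ∑ g : G, (if g ^ f ∈ D then ‖(χ : G → ℂ) g‖ ^ 2 else 0) = (n : ℝ) := by
    exact_mod_cast hn
  have hpos : 0 < n := by
    have h3 : (0 : ℝ) < (n : ℝ) := by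
      rw [← hn']
      refine mul_pos hcard ?_
      refine Finset.sum_pos' (fun g _ => ?_) ⟨1, Finset.mem_univ _, ?_⟩
      · split_ifs <;> positivity
      · rw [one_pow, if_pos D.one_mem]
        have : (0 : ℝ) < ‖(χ : G → ℂ) 1‖ := norm_pos_iff.2 h10
        positivity
    exact_mod_cast h3
  have hle : (1 : ℝ) ≤ (n : ℝ) := by exact_mod_cast hpos
  have h3 : ∑ g : G, ‖(χ : G → ℂ) g‖ ^ 2 ≤ ∑ g : G, (if g ^ f ∈ D then ‖(χ : G → ℂ) g‖ ^ 2 else 0) := by
    rw [← h2', ← hn'] at hle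
    exact le_of_mul_le_mul_left hle hcard
  have h4 : ∑ g : G, (‖(χ : G → ℂ) g‖ ^ 2 - (if g ^ f ∈ D then ‖(χ : G → ℂ) g‖ ^ 2 else 0)) ≤ 0 := by
    rw [Finset.sum_sub_distrib]; linarith
  have h5 : ∀ g ∈ (Finset.univ : Finset G),
      0 ≤ ‖(χ : G → ℂ) g‖ ^ 2 - (if g ^ f ∈ D then ‖(χ : G → ℂ) g‖ ^ 2 else 0) := by
    intro g _
    split_ifs
    · simp
    · rw [sub_zero]; positivity
  have h6 := (Finset.sum_eq_zero_iff_of_nonneg h5).1 (le_antisymm h4 (Finset.sum_nonneg h5)) g (Finset.mem_univ g)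
  rw [if_neg hg, sub_zero] at h6
  exact norm_eq_zero.1 (pow_eq_zero_iff (by norm_num) |>.1 h6)

theorem card_eq_pair (hM : IsPModular p M) {D : Subgroup G} (hD : IsPGroup p D)
    (hDZ : D ≤ Subgroup.center G) (χ : IrrCharacter G)
    (hdeg : (charDegree (χ : G → ℂ)).factorization p = D.index.factorization p) :
    (Nat.card G : ℂ) = (Nat.card D : ℂ) * pair p (χ : G → ℂ) (χ : G → ℂ) := by
  classical
  haveI := isPrime hM
  haveI : Fact p.Prime := ⟨hM.1⟩
  haveI := Fintype.ofFinite G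
  haveI := Fintype.ofFinite D
  obtain ⟨e, f, he⟩ := exists_isRegExp p hM.1 G
  have hG := value_central hM.1 hDZ
  have hcent : ∀ g : G, g ∈ Subgroup.centralizer (D : Set G) := fun g => by
    rw [Subgroup.centralizer_eq_top_iff_subset.2 hDZ]; exact Subgroup.mem_top g
  have h10 : (χ : G → ℂ) 1 ≠ 0 := χ.2.one_ne_zero
  have h1 : (Nat.card G : ℂ) = ∑ g : G, (χ : G → ℂ) g * (χ : G → ℂ) g⁻¹ := by
    have h2 := χ.2.classInner_self
    rw [Cfsg.Agent.Lib.CharBasic.classInner_def, inv_mul_eq_one₀ (by exact_mod_cast Nat.card_pos.ne')] at h2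
    rw [h2]
    exact Finset.sum_congr rfl fun g _ => by rw [χ.2.inv]
  have h2 : ∑ g : G, (χ : G → ℂ) g * (χ : G → ℂ) g⁻¹ =
      ∑ g : G, if g ^ f ∈ D then (χ : G → ℂ) g * (χ : G → ℂ) g⁻¹ else 0 := by
    refine Finset.sum_congr rfl fun g _ => ?_
    split_ifs with h
    · rfl
    · rw [vanish hM hD hDZ χ hdeg he h, zero_mul]
  rw [h1, h2, sum_section hD (fun g _ => hcent g) he, pair_def, Finset.mul_sum]
  have h3 : ∀ x : D, ∑ y : G, (if p ∣ orderOf y then (0 : ℂ) else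
      (χ : G → ℂ) (x * y) * (χ : G → ℂ) (x * y)⁻¹) =
      ∑ y : G, (if p ∣ orderOf y then (0 : ℂ) else (χ : G → ℂ) y * (χ : G → ℂ) y⁻¹) := by
    intro x
    refine Finset.sum_congr rfl fun y _ => ?_
    split_ifs
    · rfl
    · have hx' : (x : G)⁻¹ ∈ D := D.inv_mem x.2
      have h4 : ((x : G) * y)⁻¹ = (x : G)⁻¹ * y⁻¹ := by
        rw [mul_inv_rev]
        exact (Subgroup.mem_centralizer_iff.1 (hcent y⁻¹) _ hx').symm
      have h5 := mul_value hG χ.2 x.2 (hcent (x : G)⁻¹)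
      rw [mul_inv_cancel] at h5
      rw [h4, mul_value hG χ.2 x.2 (hcent y), mul_value hG χ.2 hx' (hcent y⁻¹)]
      have h6 : (χ : G → ℂ) x * (χ : G → ℂ) (x : G)⁻¹ = (χ : G → ℂ) 1 * (χ : G → ℂ) 1 := by
        exact ((eq_div_iff h10).1 h5).symm
      have h7 : (χ : G → ℂ) x * (χ : G → ℂ) y / (χ : G → ℂ) 1 *
          ((χ : G → ℂ) (x : G)⁻¹ * (χ : G → ℂ) y⁻¹ / (χ : G → ℂ) 1) =
          ((χ : G → ℂ) x * (χ : G → ℂ) (x : G)⁻¹) * ((χ : G → ℂ) y * (χ : G → ℂ) y⁻¹) /
            ((χ : G → ℂ) 1 * (χ : G → ℂ) 1) := by ring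
      rw [h7, h6]
      field_simp
  rw [Finset.sum_congr rfl fun x _ => h3 x, Finset.sum_const, Finset.card_univ, nsmul_eq_mul,
    ← Nat.card_eq_fintype_card, Finset.mul_sum]

theorem main (hM : IsPModular p M) {D : Subgroup G} (hD : IsPGroup p D)
    (hDZ : D ≤ Subgroup.center G) (χ : IrrCharacter G)
    (hdeg : (charDegree (χ : G → ℂ)).factorization p = D.index.factorization p) :
    IsDefectGroup p M (blockOf M (χ : G → ℂ)) D := by
  classical
  haveI := isPrime hM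
  haveI : Fact p.Prime := ⟨hM.1⟩
  have hB : IsPBlock M (blockOf M (χ : G → ℂ)) := ⟨χ, rfl⟩
  have hχ : χ ∈ blockOf M (χ : G → ℂ) := Cfsg.Agent.Lib.BlockIdem.mem_blockOf_self χ
  have h1 := card_eq_pair hM hD hDZ χ hdeg
  have hd := charDegree_spec χ.2
  have hDi : D.index ≠ 0 := Subgroup.index_ne_zero_of_finite
  have h2 : omega (χ : G → ℂ) (pel p (χ : G → ℂ)) = ((D.index : ℕ) : ℂ) / ((charDegree (χ : G → ℂ) : ℕ) : ℂ) := by
    rw [omega_pel, hd.1]
    congr 1
    have h3 : ((Nat.card D : ℕ) : ℂ) ≠ 0 := by exact_mod_cast Nat.card_pos.ne'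
    have h4 : (Nat.card D : ℂ) * (D.index : ℂ) = (Nat.card G : ℂ) := by exact_mod_cast D.card_mul_index
    rw [h1] at h4
    exact (mul_left_cancel₀ h3 h4).symm
  have h0 : blockHeight p (blockOf M (χ : G → ℂ)) (χ : G → ℂ) = 0 := by
    apply height_zero_of_not_idl hM hB hχ hχ
    rw [h2, idl_div_natCast_iff hM hDi hd.2, hdeg]
    exact lt_irrefl _
  have h3 := blockDefect_add hχ h0 (p := p)
  obtain ⟨E, hE⟩ := exists_defectGroup hM hB
  have hEc := defectGroup_card hM hB hE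
  haveI := normal_of_sup (value_central hM.1 hDZ)
  have hle : D ≤ E := Cfsg.Agent.Lib.BlockNormP.le_defectGroup hM hD hB hE
  have h4 : Nat.card D = Nat.card E := by
    obtain ⟨k, hk⟩ := IsPGroup.iff_card.1 hD
    rw [hEc, hk]
    congr 1
    have h5 := congrArg (fun n => n.factorization p) D.card_mul_index
    rw [Nat.factorization_mul Nat.card_pos.ne' hDi, Finsupp.add_apply, hk, hM.1.factorization_pow,
      Finsupp.single_eq_same] at h5
    rw [← hdeg] at h5
    rw [nuDeg] at h3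
    omega
  have h5 : D = E := Subgroup.eq_of_le_of_card_ge hle h4.ge
  rw [h5]
  exact hE

/-- Let D be a central p-subgroup of the finite group G and χ an irreducible character with the exponent of p in χ(1) equal to the exponent of p in the index of D; fix a maximal ideal M of the algebraic integers containing p. Then D is a defect group of the block of χ, and χ g = 0 whenever the p-part of g does not lie in D. -/
theorem result {G : Type*} [Group G] [Finite G] (p : ℕ) [Fact p.Prime] (M : Ideal Cfsg.AlgInt) (hM : Cfsg.IsPModular p M) (D : Subgroup G) (hD : IsPGroup p D) (hDZ : D ≤ Subgroup.center G) (χ : Cfsg.IrrCharacter G) (hdeg : (Cfsg.charDegree (χ : G → ℂ)).factorization p = D.index.factorization p) : Cfsg.IsDefectGroup p M (Cfsg.blockOf M (χ : G → ℂ)) D ∧ ∀ g x : G, Cfsg.IsPPart p g x → x ∉ D → (χ : G → ℂ) g = 0 := by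
  refine ⟨main hM hD hDZ χ hdeg, fun g x hx hxD => ?_⟩
  obtain ⟨e, f, he⟩ := Cfsg.Agent.Lib.PPart.exists_isRegExp p hM.1 G
  apply vanish hM hD hDZ χ hdeg he
  obtain ⟨y, hxy, hc, hpx, hpy⟩ := hx
  have h1 := he.eq_of_mul (g := g) (s := y) (u := x) (by rw [← hxy]; exact hc) hc.symm hpy hpx
  rw [h1.2]
  exact hxD

end Cfsg.Agent.S0969
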