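import Cfsg.Statements.S3761
import Cfsg.Agent.Lib.CycSelf2

set_option autoImplicit false
open Cfsg

namespace Cfsg.Agent.S3761

open Cfsg.Agent.Lib Subgroup

/-- Let G be a finite non-abelian p-group with a cyclic normal subgroup U of order p^n such that C_G(U) = U. Then either p = 2 and G is dihedral, generalized quaternion or semidihedral of order 2^(n+1); or, writing U₁ for the subgroup generated by the p-th powers of elements of U and M = C_G(U₁), the subgroup U has index p in M and the subgroup Ω₁(M) generated by the elements of M of order dividing p is elementary abelian of order p² and characteristic in G. -/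
theorem result {G : Type*} [Group G] [Finite G] {p : ℕ} [Fact p.Prime] (hG : IsPGroup p G) (hna : ¬ IsMulCommutative G) (U : Subgroup G) [U.Normal] (hU : IsCyclic U) (n : ℕ) (hUn : Nat.card U = p ^ n) (hC : Subgroup.centralizer (U : Set G) = U) : (p = 2 ∧ Nat.card G = 2 ^ (n + 1) ∧ ((∃ m : ℕ, Nonempty (G ≃* DihedralGroup m)) ∨ (∃ m : ℕ, Nonempty (G ≃* QuaternionGroup m)) ∨ Cfsg.IsQuasiDihedral G)) ∨ (U.relIndex (Subgroup.centralizer (Cfsg.powerClosure p 1 U : Set G)) = p ∧ Cfsg.IsElementaryAbelian p (Cfsg.omegaOne p (Subgroup.centralizer (Cfsg.powerClosure p 1 U : Set G))) ∧ Nat.card ↥(Cfsg.omegaOne p (Subgroup.centralizer (Cfsg.powerClosure p 1 U : Set G))) = p ^ 2 ∧ (Cfsg.omegaOne p (Subgroup.centralizer (Cfsg.powerClosure p 1 U : Set G))).Characteristic) := by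
  have hnab : ∃ a b : G, a * b ≠ b * a := by
    by_contra h
    push Not at h
    apply hna
    rw [isMulCommutative_iff]
    exact h
  obtain ⟨⟨u, hu⟩, hgen⟩ := hU.exists_generator
  have hUu : U = zpowers u := by
    apply le_antisymm
    · intro x hx
      obtain ⟨k, hk⟩ := mem_zpowers_iff.mp (hgen ⟨x, hx⟩)
      rw [mem_zpowers_iff]
      exact ⟨k, congrArg Subtype.val hk⟩
    · rwa [zpowers_le]
  have hn0 : n ≠ 0 := by
    rintro rfl
    rw [pow_zero, Subgroup.card_eq_one] at hUn
    rw [hUn] at hC
    have h1 : (⊤ : Subgroup G) ≤ ⊥ := by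
      rw [← hC]
      intro x _
      rw [mem_centralizer_iff]
      intro y hy
      rw [SetLike.mem_coe, mem_bot] at hy
      rw [hy, one_mul, mul_one]
    obtain ⟨a, b, hab⟩ := hnab
    apply hab
    rw [mem_bot.mp (h1 (mem_top a)), one_mul, mul_one]
  obtain ⟨m, rfl⟩ := Nat.exists_eq_succ_of_ne_zero hn0
  have hctx : CycSelf.Ctx p m u :=
    { isP := hG
      ord := by rw [← Nat.card_zpowers, ← hUu, hUn]
      nor := hUu ▸ inferInstance
      cen := by rw [← hUu]; exact hC
      na := hnab }
  subst hUu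
  rw [CycSelf.powerClosure_eq]
  by_cases hp2 : p = 2
  · subst hp2
    rcases CycSelf.two_case hctx with h1 | h1
    · exact Or.inl ⟨rfl, h1⟩
    · exact Or.inr h1
  · exact Or.inr (hctx.odd_case hp2)

end Cfsg.Agent.S3761
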