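import Cfsg.Statements.S3224
import Cfsg.Agent.Lib.DihedralHom
import Mathlib.GroupTheory.PGroup
import Mathlib.GroupTheory.Index
import Mathlib.GroupTheory.IndexNormal
import Mathlib.Tactic

set_option autoImplicit false
open Cfsg

namespace Cfsg.Agent.S3224

universe u

/-- centralizers do not grow in quotients -/
lemma card_centralizer_quotient {G : Type u} [Group G] [Finite G] (N : Subgroup G) [N.Normal] (x : G) :
    Nat.card (Subgroup.centralizer ({(QuotientGroup.mk x : G ⧸ N)} : Set (G ⧸ N))) ≤
      Nat.card (Subgroup.centralizer ({x} : Set G)) := by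
  classical
  -- `K` = preimage
  set K : Subgroup G := (Subgroup.centralizer ({(QuotientGroup.mk x : G ⧸ N)} : Set (G ⧸ N))).comap (QuotientGroup.mk' N) with hK
  have hKmem : ∀ g : G, g ∈ K → x⁻¹ * (g * x * g⁻¹) ∈ N := by
    intro g hg
    rw [hK, Subgroup.mem_comap, Subgroup.mem_centralizer_singleton_iff] at hg
    simp only [QuotientGroup.mk'_apply] at hg
    rw [← QuotientGroup.mk_mul, ← QuotientGroup.mk_mul, eq_comm, QuotientGroup.eq] at hg
    have := Subgroup.Normal.conj_mem ‹N.Normal› _ hg g
    have h2 : g * ((x * g)⁻¹ * (g * x)) * g⁻¹ = x⁻¹ * (g * x * g⁻¹) := by group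
    rwa [h2] at this
  have hcardK : Nat.card K = Nat.card N * Nat.card (Subgroup.centralizer ({(QuotientGroup.mk x : G ⧸ N)} : Set (G ⧸ N))) := by
    have h1 : K.index = (Subgroup.centralizer ({(QuotientGroup.mk x : G ⧸ N)} : Set (G ⧸ N))).index :=
      Subgroup.index_comap_of_surjective _ (QuotientGroup.mk'_surjective N)
    have h2 := K.card_mul_index
    have h3 := (Subgroup.centralizer ({(QuotientGroup.mk x : G ⧸ N)} : Set (G ⧸ N))).card_mul_index
    have h4 := N.card_mul_index
    rw [Subgroup.index_eq_card N] at h4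
    rw [h1] at h2
    have h5 : 0 < (Subgroup.centralizer ({(QuotientGroup.mk x : G ⧸ N)} : Set (G ⧸ N))).index :=
      Nat.pos_of_ne_zero Subgroup.index_ne_zero_of_finite
    apply Nat.eq_of_mul_eq_mul_right h5
    rw [h2, mul_assoc, h3, h4]
  have hle : Nat.card K ≤ Nat.card (Subgroup.centralizer ({x} : Set G) × N) := by
    have hrep : ∀ n : N, ∃ r : G, (∃ g ∈ K, x⁻¹ * (g * x * g⁻¹) = n) → (r ∈ K ∧ x⁻¹ * (r * x * r⁻¹) = n) := by
      intro n
      by_cases h : ∃ g ∈ K, x⁻¹ * (g * x * g⁻¹) = n
      · obtain ⟨g, hg, hgn⟩ := h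
        exact ⟨g, fun _ => ⟨hg, hgn⟩⟩
      · exact ⟨1, fun h' => absurd h' h⟩
    choose r hr using hrep
    have hr' : ∀ (g : G) (hg : g ∈ K), x⁻¹ * (r ⟨_, hKmem g hg⟩ * x * (r ⟨_, hKmem g hg⟩)⁻¹) = x⁻¹ * (g * x * g⁻¹) :=
      fun g hg => (hr ⟨_, hKmem g hg⟩ ⟨g, hg, rfl⟩).2
    let f : K → Subgroup.centralizer ({x} : Set G) × N := fun g =>
      (⟨(r ⟨_, hKmem g.1 g.2⟩)⁻¹ * g.1, by
        rw [Subgroup.mem_centralizer_singleton_iff]
        have h1 := mul_left_cancel (hr' g.1 g.2)
        set a := r ⟨_, hKmem g.1 g.2⟩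
        have h2 : x = a⁻¹ * (g.1 * x * (g.1)⁻¹) * a := by rw [← h1]; group
        calc a⁻¹ * g.1 * x = (a⁻¹ * (g.1 * x * (g.1)⁻¹) * a) * (a⁻¹ * g.1) := by group
          _ = x * (a⁻¹ * g.1) := by rw [← h2]⟩, ⟨_, hKmem g.1 g.2⟩)
    apply Nat.card_le_card_of_injective f
    intro g h hgh
    have e2 : (⟨_, hKmem g.1 g.2⟩ : N) = ⟨_, hKmem h.1 h.2⟩ := congrArg Prod.snd hgh
    have e1 : (r ⟨_, hKmem g.1 g.2⟩)⁻¹ * g.1 = (r ⟨_, hKmem h.1 h.2⟩)⁻¹ * h.1 :=
      congrArg Subtype.val (congrArg Prod.fst hgh)
    rw [e2] at e1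
    exact Subtype.ext (mul_left_cancel e1)
  rw [Nat.card_prod, hcardK, mul_comm] at hle
  exact Nat.le_of_mul_le_mul_right hle Nat.card_pos

/-- if all squares are trivial the centralizer is everything -/
lemma comm_of_sq {G : Type u} [Group G] (h : ∀ g : G, g * g = 1) (a b : G) : a * b = b * a := by
  have h1 : ∀ g : G, g⁻¹ = g := fun g => inv_eq_of_mul_eq_one_left (h g)
  calc a * b = (a * b)⁻¹ := (h1 _).symm
    _ = b⁻¹ * a⁻¹ := mul_inv_rev _ _
    _ = b * a := by rw [h1, h1]

lemma centralizer_list {S : Type u} [Group S] [Finite S] {x z : S} (hx : orderOf x = 2) (hz : orderOf z = 2)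
    (hxz : x ≠ z) (hzc : ∀ s : S, s * z = z * s)
    (hC : Nat.card (Subgroup.centralizer ({x} : Set S)) ≤ 4) {s : S} (hs : s * x = x * s) :
    s = 1 ∨ s = x ∨ s = z ∨ s = x * z := by
  classical
  haveI := Fintype.ofFinite S
  have hx1 : x ≠ 1 := by rintro rfl; simp at hx
  have hz1 : z ≠ 1 := by rintro rfl; simp at hz
  have hxx : x * x = 1 := by rw [← pow_two, ← hx, pow_orderOf_eq_one]
  have hzz : z * z = 1 := by rw [← pow_two, ← hz, pow_orderOf_eq_one]
  have hne : x * z ≠ 1 := by
    intro h
    apply hxz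
    calc x = x * (z * z) := by rw [hzz, mul_one]
      _ = z := by rw [← mul_assoc, h, one_mul]
  by_contra hcon
  push Not at hcon
  obtain ⟨h1, h2, h3, h4⟩ := hcon
  have hsub : ({1, x, z, x * z, s} : Finset S) ⊆ Finset.univ.filter (fun t => t ∈ Subgroup.centralizer ({x} : Set S)) := by
    intro t ht
    simp only [Finset.mem_insert, Finset.mem_singleton] at ht
    simp only [Finset.mem_filter, Finset.mem_univ, true_and, Subgroup.mem_centralizer_singleton_iff]
    rcases ht with rfl | rfl | rfl | rfl | rfl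
    · simp
    · rfl
    · exact (hzc _).symm
    · rw [mul_assoc, ← hzc x]
    · exact hs
  have hcard : ({1, x, z, x * z, s} : Finset S).card = 5 := by
    have e1 : (1 : S) ∉ ({x, z, x * z, s} : Finset S) := by
      simp only [Finset.mem_insert, Finset.mem_singleton, not_or]
      exact ⟨hx1.symm, hz1.symm, hne.symm, fun h => h1 h.symm⟩
    have e2 : x ∉ ({z, x * z, s} : Finset S) := by
      simp only [Finset.mem_insert, Finset.mem_singleton, not_or]
      exact ⟨hxz, fun h => hz1 (by simpa using h.symm), fun h => h2 h.symm⟩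
    have e3 : z ∉ ({x * z, s} : Finset S) := by
      simp only [Finset.mem_insert, Finset.mem_singleton, not_or]
      exact ⟨fun h => hx1 (by simpa using h.symm), fun h => h3 h.symm⟩
    have e4 : x * z ∉ ({s} : Finset S) := by
      simp only [Finset.mem_singleton]
      exact fun h => h4 h.symm
    rw [Finset.card_insert_of_notMem e1, Finset.card_insert_of_notMem e2, Finset.card_insert_of_notMem e3,
      Finset.card_insert_of_notMem e4, Finset.card_singleton]
  have h5 := Finset.card_le_card hsub
  rw [hcard] at h5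
  have h6 : Nat.card (Subgroup.centralizer ({x} : Set S)) =
      (Finset.univ.filter (fun t => t ∈ Subgroup.centralizer ({x} : Set S))).card := by
    rw [Nat.card_eq_fintype_card, Fintype.card_subtype]
  omega

lemma exists_central {S : Type u} [Group S] [Finite S] (hS : IsPGroup 2 S) (h4 : 4 < Nat.card S)
    {x : S} (hx : orderOf x = 2) (hC : Nat.card (Subgroup.centralizer ({x} : Set S)) ≤ 4) :
    ∃ z : S, orderOf z = 2 ∧ (∀ s : S, s * z = z * s) ∧ x ≠ z := by
  haveI : Fact (Nat.Prime 2) := ⟨Nat.prime_two⟩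
  haveI : Nontrivial S := Finite.one_lt_card_iff_nontrivial.1 (by omega)
  haveI := hS.center_nontrivial
  have h2 : 2 ∣ Nat.card (Subgroup.center S) := by
    have h3 : IsPGroup 2 (Subgroup.center S) := hS.to_subgroup _
    obtain ⟨n, hn⟩ := IsPGroup.iff_card.1 h3
    have h4 : 1 < Nat.card (Subgroup.center S) := Finite.one_lt_card
    rcases Nat.eq_zero_or_pos n with h0 | h0
    · subst h0; rw [hn] at h4; simp at h4
    · rw [hn]; exact dvd_pow_self 2 (by omega)
  obtain ⟨⟨z, hz⟩, hzo⟩ := exists_prime_orderOf_dvd_card' 2 h2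
  have hzo' : orderOf z = 2 := by
    rw [← hzo]; exact (Subgroup.orderOf_coe (⟨z, hz⟩ : Subgroup.center S))
  have hzc : ∀ s : S, s * z = z * s := fun s => (Subgroup.mem_center_iff.1 hz s)
  refine ⟨z, hzo', hzc, ?_⟩
  rintro rfl
  have : Subgroup.centralizer ({x} : Set S) = ⊤ := by
    rw [eq_top_iff]
    intro s _
    rw [Subgroup.mem_centralizer_singleton_iff]
    exact hzc s
  rw [this, Subgroup.card_top] at hC
  omega

/-- a 2-group with an involution whose centralizer has order at most 4 has a cyclic subgroup of index 2 -/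
lemma exists_cyclic : ∀ (n : ℕ) (S : Type u) [Group S] [Finite S], IsPGroup 2 S → Nat.card S = n → 4 ≤ n →
    ∀ x : S, orderOf x = 2 → Nat.card (Subgroup.centralizer ({x} : Set S)) ≤ 4 →
      ∃ y : S, 2 * orderOf y = Nat.card S := by
  intro n
  induction n using Nat.strong_induction_on with
  | _ n ih =>
  intro S _ _ hS hn hn4 x hx hC
  classical
  haveI : Fact (Nat.Prime 2) := ⟨Nat.prime_two⟩
  rcases Nat.lt_or_ge 4 n with h4 | h4
  swap
  · exact ⟨x, by omega⟩
  obtain ⟨z, hz, hzc, hxz⟩ := exists_central hS (by omega) hx hC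
  have hxx : x * x = 1 := by rw [← pow_two, ← hx, pow_orderOf_eq_one]
  have hzz : z * z = 1 := by rw [← pow_two, ← hz, pow_orderOf_eq_one]
  have hx1 : x ≠ 1 := by rintro rfl; simp at hx
  have hz1 : z ≠ 1 := by rintro rfl; simp at hz
  have hmemz : ∀ t : S, t ∈ Subgroup.zpowers z ↔ t = 1 ∨ t = z := by
    intro t
    constructor
    · intro ht
      have := (mem_zpowers_iff_mem_range_orderOf).1 ht
      rw [hz] at this
      simp only [Finset.mem_image, Finset.mem_range] at this
      obtain ⟨i, hi, rfl⟩ := this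
      interval_cases i
      · left; simp
      · right; simp
    · rintro (rfl | rfl)
      · exact one_mem _
      · exact Subgroup.mem_zpowers _
  haveI hZn : (Subgroup.zpowers z).Normal := by
    constructor
    intro t ht g
    rcases (hmemz t).1 ht with rfl | rfl
    · simp
    · rw [hzc g, mul_inv_cancel_right]; exact ht
  obtain ⟨m, hm⟩ := IsPGroup.iff_card.1 hS
  -- all of `S` commuting is impossible
  have hnotcomm : ¬ ∀ s : S, s * x = x * s := by
    intro h
    have : Subgroup.centralizer ({x} : Set S) = ⊤ := by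
      rw [eq_top_iff]
      intro s _
      rw [Subgroup.mem_centralizer_singleton_iff]
      exact h s
    rw [this, Subgroup.card_top] at hC
    omega
  -- quotient
  have hq : Nat.card (S ⧸ Subgroup.zpowers z) * 2 = Nat.card S := by
    have h1 := (Subgroup.zpowers z).card_mul_index
    rw [Nat.card_zpowers, hz, Subgroup.index_eq_card] at h1
    omega
  have hpow : ∀ y : S, ∃ j : ℕ, orderOf y = 2 ^ j := by
    intro y
    exact (IsPGroup.iff_orderOf.1 hS) y
  rcases Nat.lt_or_ge n 9 with h9 | h9
  · -- order 8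
    have h8 : Nat.card S = 8 := by
      rw [hm] at hn ⊢
      have : m = 3 := by
        have h1 : 2 ^ 2 < 2 ^ m := by omega
        have h2 : 2 ^ m < 2 ^ 4 := by omega
        have h3 := (Nat.pow_lt_pow_iff_right (by norm_num : 1 < 2)).1 h1
        have h4 := (Nat.pow_lt_pow_iff_right (by norm_num : 1 < 2)).1 h2
        omega
      subst this; norm_num
    have : ¬ ∀ g : S, g * g = 1 := fun h => hnotcomm (fun s => comm_of_sq h s x)
    push Not at this
    obtain ⟨y, hy⟩ := this
    refine ⟨y, ?_⟩
    obtain ⟨j, hj⟩ := hpow y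
    have hdvd : orderOf y ∣ 8 := by rw [← h8]; exact orderOf_dvd_natCard y
    have hne8 : orderOf y ≠ 8 := by
      intro h8'
      apply hnotcomm
      have hcyc : ∀ t : S, t ∈ Subgroup.zpowers y := by
        intro t
        have : Subgroup.zpowers y = ⊤ := by
          apply Subgroup.eq_top_of_card_eq
          rw [Nat.card_zpowers, h8', h8]
        rw [this]; trivial
      intro s
      obtain ⟨a, rfl⟩ := hcyc s
      obtain ⟨b, hb⟩ := hcyc x
      simp only at hb
      rw [← hb]
      simp only [← zpow_add, add_comm]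
    have hj3 : j ≤ 3 := by
      have : 2 ^ j ∣ 2 ^ 3 := by rw [← hj]; exact hdvd
      exact (Nat.pow_dvd_pow_iff_le_right (by norm_num)).1 this
    have hj2 : ¬ j ≤ 1 := by
      intro h
      apply hy
      have h1 : orderOf y ∣ 2 := by
        rw [hj]
        calc 2 ^ j ∣ 2 ^ 1 := pow_dvd_pow 2 h
          _ = 2 := by norm_num
      rw [← pow_two]
      exact orderOf_dvd_iff_pow_eq_one.1 h1
    have hj3' : j ≠ 3 := by
      rintro rfl
      apply hne8
      rw [hj]; norm_num
    have : j = 2 := by omega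
    subst this
    rw [hj, h8]; norm_num
  · -- order at least 16
    have hSq : IsPGroup 2 (S ⧸ Subgroup.zpowers z) := hS.to_quotient _
    have hxq : orderOf (QuotientGroup.mk x : S ⧸ Subgroup.zpowers z) = 2 := by
      apply orderOf_eq_prime
      · rw [← QuotientGroup.mk_pow, pow_two, hxx, QuotientGroup.mk_one]
      · rw [Ne, QuotientGroup.eq_one_iff, hmemz]
        push Not
        exact ⟨hx1, hxz⟩
    obtain ⟨yq, hyq⟩ := ih (Nat.card (S ⧸ Subgroup.zpowers z)) (by omega) (S ⧸ Subgroup.zpowers z) hSq rfl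
      (by omega) _ hxq ((card_centralizer_quotient _ _).trans hC)
    obtain ⟨y, rfl⟩ := QuotientGroup.mk_surjective yq
    set k := orderOf (QuotientGroup.mk y : S ⧸ Subgroup.zpowers z) with hk
    have h16 : 16 ≤ Nat.card S := by
      have h1 : 2 ^ 3 < 2 ^ m := by omega
      have h3 := (Nat.pow_lt_pow_iff_right (by norm_num : 1 < 2)).1 h1
      rw [hm]
      calc 16 = 2 ^ 4 := by norm_num
        _ ≤ 2 ^ m := Nat.pow_le_pow_right (by norm_num) h3
    have hk4 : 4 ≤ k := by omega
    have hcardS : Nat.card S = 4 * k := by omega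
    -- order of `y` is `k` or `2k`
    have hkdvd : k ∣ orderOf y := by
      rw [hk]
      exact orderOf_map_dvd (QuotientGroup.mk' (Subgroup.zpowers z)) y
    have hyk : y ^ k ∈ Subgroup.zpowers z := by
      rw [← QuotientGroup.eq_one_iff, QuotientGroup.mk_pow, hk, pow_orderOf_eq_one]
    rcases (hmemz _).1 hyk with h1 | h1
    · -- order exactly k : contradiction
      exfalso
      have hyo : orderOf y = k := Nat.dvd_antisymm (orderOf_dvd_of_pow_eq_one h1) hkdvd
      obtain ⟨j, hj⟩ := hpow y
      have hj2 : 2 ≤ j := by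
        by_contra hlt
        have : 2 ^ j ≤ 2 ^ 1 := Nat.pow_le_pow_right (by norm_num) (by omega)
        rw [← hj, hyo] at this
        omega
      -- index two
      have hidx : (Subgroup.zpowers (QuotientGroup.mk y : S ⧸ Subgroup.zpowers z)).index = 2 := by
        have h2 := (Subgroup.zpowers (QuotientGroup.mk y : S ⧸ Subgroup.zpowers z)).card_mul_index
        rw [Nat.card_zpowers, ← hk] at h2
        have h3 : k * (Subgroup.zpowers (QuotientGroup.mk y : S ⧸ Subgroup.zpowers z)).index = k * 2 := by omega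
        exact Nat.eq_of_mul_eq_mul_left (by omega) h3
      haveI := Subgroup.normal_of_index_eq_two hidx
      have hconj : (QuotientGroup.mk (x * y * x⁻¹) : S ⧸ Subgroup.zpowers z) ∈
          Subgroup.zpowers (QuotientGroup.mk y : S ⧸ Subgroup.zpowers z) := by
        have := Subgroup.Normal.conj_mem this _ (Subgroup.mem_zpowers (QuotientGroup.mk y : S ⧸ Subgroup.zpowers z))
          (QuotientGroup.mk x)
        exact this
      obtain ⟨i, hi⟩ := hconj
      simp only at hi
      rw [← QuotientGroup.mk_zpow, QuotientGroup.eq] at hi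
      -- x y x⁻¹ = y^i * c, c ∈ {1,z}
      obtain ⟨c, hc, hce⟩ : ∃ c : S, (c = 1 ∨ c = z) ∧ x * y * x⁻¹ = y ^ i * c :=
        ⟨(y ^ i)⁻¹ * (x * y * x⁻¹), (hmemz _).1 hi, by group⟩
      have hcc : ∀ s : S, s * c = c * s := by
        rcases hc with rfl | rfl
        · intro s; simp
        · exact hzc
      have hcomm : y * (x * y * x⁻¹) = (x * y * x⁻¹) * y := by
        rw [hce, ← mul_assoc, mul_assoc (y ^ i) c y, ← hcc y, ← mul_assoc]
        congr 1
        rw [← zpow_one_add, ← zpow_add_one, add_comm]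
      have hxinv : x⁻¹ = x := inv_eq_of_mul_eq_one_left hxx
      have hb : (y * (x * y * x⁻¹)) * x = x * (y * (x * y * x⁻¹)) := by
        calc (y * (x * y * x⁻¹)) * x = (x * y * x⁻¹) * y * x := by rw [hcomm]
          _ = x * (y * (x⁻¹ * y * x)) := by group
          _ = x * (y * (x * y * x⁻¹)) := by rw [hxinv]
      have hynot : ¬ (y * x = x * y) := by
        intro h
        have h2 := centralizer_list hx hz hxz hzc hC h
        have h3 : y * y = 1 := by
          rcases h2 with h2 | h2 | h2 | h2
          · rw [h2, one_mul]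
          · rw [h2, hxx]
          · rw [h2, hzz]
          · rw [h2]
            calc x * z * (x * z) = x * (z * x) * z := by group
              _ = x * (x * z) * z := by rw [hzc x]
              _ = 1 := by rw [← mul_assoc x x z, hxx, one_mul, hzz]
        have h4 : orderOf y ∣ 2 := orderOf_dvd_of_pow_eq_one (by rw [pow_two, h3])
        have := Nat.le_of_dvd (by norm_num) h4
        omega
      -- elements of ⟨y,z⟩ commute with y, so x and xz are not among them
      have hcase : ∀ t : S, t * x = x * t → t * y = y * t → t = 1 ∨ t = z := by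
        intro t ht1 ht2
        rcases centralizer_list hx hz hxz hzc hC ht1 with h2 | h2 | h2 | h2
        · exact Or.inl h2
        · exact absurd (by rw [h2] at ht2; exact ht2.symm) hynot
        · exact Or.inr h2
        · exfalso
          apply hynot
          rw [h2] at ht2
          have h3 : x * y * z = y * x * z := by
            calc x * y * z = x * (y * z) := by group
              _ = x * z * y := by rw [hzc y]; group
              _ = y * (x * z) := ht2
              _ = y * x * z := by group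
          exact (mul_right_cancel h3).symm
      have hb1 := hcase _ hb (by
        rw [mul_assoc, ← hcomm])
      -- so  x y x⁻¹ = y⁻¹ d with d central of order dividing 2
      obtain ⟨d, hd1, hd2, hd3⟩ : ∃ d : S, d * d = 1 ∧ (∀ s : S, s * d = d * s) ∧ x * y * x⁻¹ = y⁻¹ * d := by
        refine ⟨y * (x * y * x⁻¹), ?_, ?_, by group⟩
        · rcases hb1 with h | h
          · rw [h, one_mul]
          · rw [h, hzz]
        · rcases hb1 with h | h
          · rw [h]; intro s; simp
          · rw [h]; exact hzc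
      have hsq : x * (y ^ 2) * x⁻¹ = (y ^ 2)⁻¹ := by
        have e0 : x * (y ^ 2) * x⁻¹ = (x * y * x⁻¹) ^ 2 := by rw [conj_pow]
        have e1 : Commute y⁻¹ d := hd2 _
        rw [e0, hd3, e1.mul_pow, pow_two d, hd1, mul_one, inv_pow]
      have ha1 : x * (y ^ 2) ^ (2 ^ (j - 2)) * x⁻¹ = ((y ^ 2) ^ (2 ^ (j - 2)))⁻¹ := by
        rw [← conj_pow, hsq, inv_pow]
      have hja : 2 * (2 ^ (j - 2)) = 2 ^ (j - 1) := by
        rw [← pow_succ']; congr 1; omega
      rw [← pow_mul, hja] at ha1
      have hja2 : 2 ^ (j - 1) * 2 = 2 ^ j := by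
        rw [← pow_succ]; congr 1; omega
      have ha2 : y ^ 2 ^ (j - 1) * y ^ 2 ^ (j - 1) = 1 := by
        rw [← pow_two, ← pow_mul, hja2, ← hj, pow_orderOf_eq_one]
      have ha3 : (y ^ 2 ^ (j - 1))⁻¹ = y ^ 2 ^ (j - 1) := inv_eq_of_mul_eq_one_left ha2
      rw [ha3] at ha1
      have ha4 : y ^ 2 ^ (j - 1) * x = x * y ^ 2 ^ (j - 1) := by
        conv_lhs => rw [← ha1]
        group
      have hlt : 2 ^ (j - 1) < k := by
        rw [← hyo, hj]
        exact Nat.pow_lt_pow_right (by norm_num) (by omega)
      rcases hcase _ ha4 (by rw [← pow_succ, ← pow_succ']) with h | h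
      · have := Nat.le_of_dvd (by positivity) (orderOf_dvd_of_pow_eq_one h)
        omega
      · have h7 : (QuotientGroup.mk y : S ⧸ Subgroup.zpowers z) ^ 2 ^ (j - 1) = 1 := by
          rw [← QuotientGroup.mk_pow, h, QuotientGroup.eq_one_iff]
          exact Subgroup.mem_zpowers z
        have := Nat.le_of_dvd (by positivity) (orderOf_dvd_of_pow_eq_one h7)
        omega
    · refine ⟨y, ?_⟩
      have h2 : orderOf y ∣ 2 * k := by
        apply orderOf_dvd_of_pow_eq_one
        rw [mul_comm, pow_mul, h1, pow_two, hzz]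
      have h3 : ¬ orderOf y ∣ k := by
        intro h
        rw [orderOf_dvd_iff_pow_eq_one, h1] at h
        exact hz1 h
      obtain ⟨c, hc⟩ := hkdvd
      have hk0 : 0 < k := by omega
      rw [hc, mul_comm 2 k] at h2
      have h4 := Nat.dvd_of_mul_dvd_mul_left hk0 h2
      rcases (Nat.dvd_prime Nat.prime_two).1 h4 with h5 | h5
      · exfalso; apply h3; rw [hc, h5, mul_one]
      · rw [hc, h5]; omega

/-- A finite 2-group containing an involution whose centralizer has order 4 is dihedral, quasi-dihedral (semidihedral), or of order 4. -/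
theorem result {S : Type*} [Group S] [Finite S] (hS : IsPGroup 2 S)
    (x : S) (hx : orderOf x = 2) (hC : Nat.card ↥(Subgroup.centralizer ({x} : Set S)) = 4) :
    (∃ n : ℕ, Nonempty (S ≃* DihedralGroup n)) ∨ Cfsg.IsQuasiDihedral S ∨ Nat.card S = 4 := by
  classical
  haveI : Fact (Nat.Prime 2) := ⟨Nat.prime_two⟩
  by_cases h4 : Nat.card S = 4
  · exact Or.inr (Or.inr h4)
  have hge : 4 ≤ Nat.card S := by
    rw [← hC]
    exact Subgroup.card_le_card_group _
  have h8 : 4 < Nat.card S := by omega
  obtain ⟨m, hm⟩ := IsPGroup.iff_card.1 hS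
  have hm3 : 3 ≤ m := by
    rw [hm] at h8
    have h1 : 2 ^ 2 < 2 ^ m := by omega
    exact (Nat.pow_lt_pow_iff_right (by norm_num : 1 < 2)).1 h1
  obtain ⟨y, hy⟩ := exists_cyclic _ S hS rfl hge x hx hC.le
  have hnotcomm : ¬ ∀ s : S, s * x = x * s := by
    intro h
    have : Subgroup.centralizer ({x} : Set S) = ⊤ := by
      rw [eq_top_iff]
      intro s _
      rw [Subgroup.mem_centralizer_singleton_iff]
      exact h s
    rw [this, Subgroup.card_top] at hC
    omega
  have hxx : x * x = 1 := by rw [← pow_two, ← hx, pow_orderOf_eq_one]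
  have hx1 : x ≠ 1 := by rintro rfl; simp at hx
  have hxinv : x⁻¹ = x := inv_eq_of_mul_eq_one_left hxx
  -- order of y
  have hyo : orderOf y = 2 ^ (m - 1) := by
    have : 2 ^ m = 2 * 2 ^ (m - 1) := by rw [← pow_succ']; congr 1; omega
    omega
  have hidx : (Subgroup.zpowers y).index = 2 := by
    have h2 := (Subgroup.zpowers y).card_mul_index
    rw [Nat.card_zpowers, ← hy, mul_comm 2] at h2
    exact Nat.eq_of_mul_eq_mul_left (orderOf_pos y) h2
  haveI hn := Subgroup.normal_of_index_eq_two hidx
  -- central involution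
  set z := y ^ (2 ^ (m - 2)) with hzdef
  have hm2 : 2 ^ (m - 2) * 2 = 2 ^ (m - 1) := by rw [← pow_succ]; congr 1; omega
  have hz : orderOf z = 2 := by
    apply orderOf_eq_prime
    · rw [hzdef, ← pow_mul, hm2, ← hyo, pow_orderOf_eq_one]
    · intro h
      have := Nat.le_of_dvd (by positivity) (orderOf_dvd_of_pow_eq_one h)
      rw [hyo] at this
      have h3 : 0 < 2 ^ (m - 2) := by positivity
      omega
  have hzz : z * z = 1 := by rw [← pow_two, ← hz, pow_orderOf_eq_one]
  have hz1 : z ≠ 1 := by rintro h; rw [h] at hz; simp at hz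
  -- involutions in ⟨y⟩
  have hinv : ∀ t ∈ Subgroup.zpowers y, t * t = 1 → t = 1 ∨ t = z := by
    intro t ht htt
    rw [mem_zpowers_iff_mem_range_orderOf] at ht
    simp only [Finset.mem_image, Finset.mem_range] at ht
    obtain ⟨i, hi, rfl⟩ := ht
    rw [← pow_add] at htt
    have h1 := orderOf_dvd_of_pow_eq_one htt
    rw [hyo] at h1 hi
    rcases Nat.eq_zero_or_pos i with h0 | h0
    · left; rw [h0, pow_zero]
    · right
      obtain ⟨c, hc⟩ := h1
      have hc1 : c = 1 := by
        have : 0 < c := by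
          rcases Nat.eq_zero_or_pos c with h | h
          · subst h; omega
          · exact h
        have : c < 2 := by
          by_contra hge2
          have : 2 ^ (m - 1) * 2 ≤ 2 ^ (m - 1) * c := Nat.mul_le_mul_left _ (by omega)
          omega
        omega
      subst hc1
      have : i = 2 ^ (m - 2) := by omega
      rw [this]
  have hzc : ∀ s : S, s * z = z * s := by
    intro s
    have h1 : s * z * s⁻¹ ∈ Subgroup.zpowers y := hn.conj_mem z (Subgroup.pow_mem _ (Subgroup.mem_zpowers y) _) s
    have h2 : (s * z * s⁻¹) * (s * z * s⁻¹) = 1 := by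
      calc (s * z * s⁻¹) * (s * z * s⁻¹) = s * (z * z) * s⁻¹ := by group
        _ = 1 := by rw [hzz]; group
    rcases hinv _ h1 h2 with h | h
    · exfalso
      apply hz1
      have : z = s⁻¹ * (s * z * s⁻¹) * s := by group
      rw [this, h]; group
    · calc s * z = (s * z * s⁻¹) * s := by group
        _ = z * s := by rw [h]
  have hxz : x ≠ z := by
    intro h
    apply hnotcomm
    rw [h]; exact hzc
  have hxnot : x ∉ Subgroup.zpowers y := by
    intro h
    rcases hinv x h hxx with h | h
    · exact hx1 h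
    · exact hxz h
  have hxznot : x * z ∉ Subgroup.zpowers y := by
    intro h
    apply hxnot
    have := (Subgroup.zpowers y).mul_mem h (Subgroup.pow_mem _ (Subgroup.mem_zpowers y) (2 ^ (m-2)))
    rw [← hzdef, mul_assoc, hzz, mul_one] at this
    exact this
  -- action of x on y
  have hconj : x * y * x⁻¹ ∈ Subgroup.zpowers y := hn.conj_mem y (Subgroup.mem_zpowers y) x
  have hcomm : y * (x * y * x⁻¹) = (x * y * x⁻¹) * y := by
    obtain ⟨i, hi⟩ := hconj
    simp only at hi
    rw [← hi, ← zpow_one_add, ← zpow_add_one, add_comm]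
  have hb : (y * (x * y * x⁻¹)) * x = x * (y * (x * y * x⁻¹)) := by
    calc (y * (x * y * x⁻¹)) * x = (x * y * x⁻¹) * y * x := by rw [hcomm]
      _ = x * (y * (x⁻¹ * y * x)) := by group
      _ = x * (y * (x * y * x⁻¹)) := by rw [hxinv]
  have hbmem : y * (x * y * x⁻¹) ∈ Subgroup.zpowers y := mul_mem (Subgroup.mem_zpowers y) hconj
  have hb1 : y * (x * y * x⁻¹) = 1 ∨ y * (x * y * x⁻¹) = z := by
    rcases centralizer_list hx hz hxz hzc hC.le hb with h | h | h | h
    · exact Or.inl h
    · exfalso; rw [h] at hbmem; exact hxnot hbmem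
    · exact Or.inr h
    · exfalso; rw [h] at hbmem; exact hxznot hbmem
  -- x and y generate
  have hgen : ∀ H : Subgroup S, y ∈ H → x ∈ H → H = ⊤ := by
    intro H hy' hx'
    have h1 : Subgroup.zpowers y ≤ H := by rw [Subgroup.zpowers_le]; exact hy'
    have h2 : H.index ∣ 2 := by rw [← hidx]; exact Subgroup.index_dvd_of_le h1
    rcases (Nat.dvd_prime Nat.prime_two).1 h2 with h | h
    · exact Subgroup.index_eq_one.1 h
    · exfalso
      have h3 := Subgroup.relIndex_mul_index h1
      rw [h, hidx] at h3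
      have h4 : (Subgroup.zpowers y).relIndex H = 1 := by omega
      rw [Subgroup.relIndex_eq_one] at h4
      exact hxnot (h4 hx')
  rcases hb1 with h | h
  · left
    refine ⟨2 ^ (m - 1), ?_⟩
    apply Cfsg.Agent.Lib.DihedralHom.nonempty_mulEquiv (by positivity) y x hyo hxx ?_ hxnot ?_
    · have : x * y * x = x * y * x⁻¹ := by rw [hxinv]
      rw [this]
      exact eq_inv_of_mul_eq_one_right h
    · apply hgen
      · exact Subgroup.subset_closure (by simp)
      · exact Subgroup.subset_closure (by simp)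
  · have h5 : x * y * x⁻¹ = y⁻¹ * z := by
      rw [← h]; group
    have hm1 : (2 : ℕ) ^ (m - 2) ≥ 1 := Nat.one_le_two_pow
    have h6 : y⁻¹ * z = y ^ (2 ^ (m - 2) - 1) := by
      rw [hzdef]
      have : 2 ^ (m - 2) = (2 ^ (m - 2) - 1) + 1 := by omega
      conv_lhs => rw [this, pow_succ']
      group
    rcases Nat.lt_or_ge m 4 with hm4 | hm4
    · -- order 8: y⁻¹ z = y, abelian
      exfalso
      have : m = 3 := by omega
      subst this
      norm_num at h6
      rw [h6] at h5
      have hxy : x * y = y * x := by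
        calc x * y = (x * y * x⁻¹) * x := by group
          _ = y * x := by rw [h5]
      have : Subgroup.centralizer ({x} : Set S) = ⊤ := by
        apply hgen
        · rw [Subgroup.mem_centralizer_singleton_iff]; exact hxy.symm
        · rw [Subgroup.mem_centralizer_singleton_iff]
      rw [this, Subgroup.card_top] at hC
      omega
    · right; left
      refine ⟨m - 1, by omega, ?_, y, x, hyo, hx, ?_⟩
      · rw [hm]; congr 1; omega
      · rw [h5, h6]
        rfl

end Cfsg.Agent.S3224
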