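import Cfsg.Statements.S5234
import Cfsg.Agent.Lib.FusionMeta
import Cfsg.Agent.Lib.PGroupMeta

set_option autoImplicit false
open Cfsg Cfsg.FusionSystem Cfsg.Agent.Lib Cfsg.Agent.Lib.FusionBasic Cfsg.Agent.Lib.FusionSat

namespace Cfsg.Agent.S5234

/-- Let p be an odd prime, F a saturated fusion system over a finite p-group S and P a metacyclic subgroup of S strongly closed in F. Then P is normal in F. -/
theorem result {Ω : Type*} [Group Ω] {S : Subgroup Ω} [Finite S] (p : ℕ) [Fact p.Prime] (hS : IsPGroup p S) (F : Cfsg.FusionSystem S) (hF : F.IsSaturated p) (P : Subgroup Ω) (hP : F.StronglyClosed P) (hp : p ≠ 2) (hm : Cfsg.IsMetacyclic ↥P) : F.IsNormal P := by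
  have hPS := hP.1
  have hPfin : Finite P := FusionSat.finite_of_le hPS
  obtain ⟨E', hE'el, hE'card, hE'all⟩ := PGroupMeta.exists_omega_of_isMetacyclic hp (hS.to_le hPS) hm
  refine FusionMeta.normal_of_omega_rank_two (E := E'.map P.subtype) hp hS hF hP (fun x => ?_) ?_ ?_
  · constructor
    · rintro ⟨y, hy, rfl⟩
      exact ⟨y.2, congrArg Subtype.val (hE'el.2 y hy)⟩
    · rintro ⟨hx, hxp⟩
      exact ⟨⟨x, hx⟩, hE'all _ (Subtype.ext hxp), rfl⟩
  · rintro _ ⟨x, hx, rfl⟩ _ ⟨y, hy, rfl⟩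
    have h1 := hE'el.1.is_comm.comm ⟨x, hx⟩ ⟨y, hy⟩
    exact congrArg (fun z : P => (z : Ω)) (congrArg Subtype.val h1)
  · rw [Subgroup.card_map_of_injective P.subtype_injective]
    exact hE'card

end Cfsg.Agent.S5234
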