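import Cfsg.Statements.S2969
import Cfsg.Agent.Lib.Isolated

set_option autoImplicit false
open Cfsg

namespace Cfsg.Agent.S2969

open Cfsg.Agent.Lib.Isolated

/-- Let G be a finite group, p a prime and x ∈ G an element of p-power order which is isolated in G. If R is a p-subgroup of G containing x, then N_G(R) ≤ C_G(x); in particular x lies in the centre of R. Moreover, if x lies in a normal subgroup N of a subgroup H of G, then H = N·C_H(x). -/
theorem result {G : Type*} [Group G] [Finite G] {p : ℕ} [Fact p.Prime] (x : G) (hx : ∃ k : ℕ, orderOf x = p ^ k) (hiso : Cfsg.IsIsolated x) : (∀ R : Subgroup G, IsPGroup p ↥R → x ∈ R → Subgroup.normalizer (R : Set G) ≤ Subgroup.centralizer ({x} : Set G)) ∧ (∀ H N : Subgroup G, N ≤ H → H ≤ Subgroup.normalizer (N : Set G) → x ∈ N → N ⊔ (H ⊓ Subgroup.centralizer ({x} : Set G)) = H) := by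
  refine ⟨?_, ?_⟩
  · intro R hR hxR g hg
    rw [Subgroup.mem_centralizer_singleton_iff]
    have h1 : g * x * g⁻¹ ∈ R := (Subgroup.mem_normalizer_iff.mp hg x).mp hxR
    have h2 := hiso g (commute_of_mem_pgroup hiso hR hxR h1)
    calc g * x = g * x * g⁻¹ * g := by group
      _ = x * g := by rw [h2]
  · intro H N hNH hHN hxN
    apply le_antisymm
    · exact sup_le hNH inf_le_left
    · intro h hh
      obtain ⟨n, hn, hnh⟩ := exists_mul_mem_centralizer hiso hx hxN (hHN hh)
      have h1 : n * h ∈ H ⊓ Subgroup.centralizer ({x} : Set G) := by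
        refine ⟨H.mul_mem (hNH hn) hh, ?_⟩
        show n * h ∈ Subgroup.centralizer _
        rw [Subgroup.mem_centralizer_singleton_iff]
        calc n * h * x = n * h * x * (n * h)⁻¹ * (n * h) := by group
          _ = x * (n * h) := by rw [hnh]
      have h2 : h = n⁻¹ * (n * h) := by group
      rw [h2]
      exact Subgroup.mul_mem_sup (N.inv_mem hn) h1


end Cfsg.Agent.S2969
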