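import Cfsg.Statements.S0228
import Cfsg.Agent.Lib.SmallSimple2
import Cfsg.Agent.Lib.Involutions

set_option autoImplicit false
open Cfsg

namespace Cfsg.Agent.S0228

open Cfsg.Agent.Lib.Involutions
open scoped Pointwise

/-- the case of a normal Sylow 3-subgroup -/
theorem central_of_normal {G : Type*} [Group G] [Finite G] (hG : Nat.card G = 12) (P : Sylow 3 G)
    (hP3 : Nat.card P = 3) (hN : (P : Subgroup G).Normal) :
    ∃ z : G, orderOf z = 2 ∧ z ∈ Subgroup.center G := by
  obtain ⟨S⟩ : Nonempty (Sylow 2 G) := inferInstance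
  have hS : Nat.card S = 4 := by
    have h := Lib.SmallSimple.sylow_card_of (G := G) (p := 2) (k := 2) (m := 3) (by rw [hG]; norm_num) (by norm_num) S
    simpa using h
  have : Fact (Nat.Prime 3) := ⟨by norm_num⟩
  have hcyc : IsCyclic (P : Subgroup G) := isCyclic_of_prime_card hP3
  have haut : Nat.card (MulAut (P : Subgroup G)) = 2 := by
    rw [IsCyclic.card_mulAut]
    have : Nat.card (P : Subgroup G) = 3 := hP3
    rw [this]
    decide
  let φ : (S : Subgroup G) →* MulAut (P : Subgroup G) :=
    (MulAut.conjNormal (H := (P : Subgroup G))).comp (S : Subgroup G).subtype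
  have hker : Even (Nat.card φ.ker) := by
    have h1 : Nat.card φ.ker * φ.ker.index = 4 := by
      rw [Subgroup.card_mul_index]; exact hS
    have h2 : φ.ker.index ≤ 2 := by
      rw [Subgroup.index_ker]
      exact (Subgroup.card_le_card_group φ.range).trans haut.le
    have h3 : φ.ker.index ≠ 0 := Subgroup.index_ne_zero_of_finite
    have h4 : φ.ker.index = 1 ∨ φ.ker.index = 2 := by omega
    rcases h4 with h4 | h4 <;> rw [h4] at h1 <;> rw [Nat.even_iff] <;> omega
  obtain ⟨z, hz⟩ := exists_involution hker
  have hz2 : orderOf (z.1 : G) = 2 := by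
    rw [Subgroup.orderOf_coe z.1, Subgroup.orderOf_coe z]
    exact hz
  have hzP : ∀ x ∈ (P : Subgroup G), (z.1 : G) * x = x * z.1 := by
    intro x hx
    have h1 : φ z.1 = 1 := z.2
    have h2 : φ z.1 ⟨x, hx⟩ = ⟨x, hx⟩ := by rw [h1]; rfl
    have h3 : (z.1 : G) * x * (z.1 : G)⁻¹ = x := congrArg Subtype.val h2
    calc (z.1 : G) * x = ((z.1 : G) * x * (z.1 : G)⁻¹) * z.1 := by group
      _ = x * z.1 := by rw [h3]
  have hScomm : ∀ a b : (S : Subgroup G), a * b = b * a := by
    have hp2 : Nat.card (S : Subgroup G) = 2 ^ 2 := by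
      have : Nat.card (S : Subgroup G) = 4 := hS
      rw [this]; norm_num
    have : Fact (Nat.Prime 2) := ⟨Nat.prime_two⟩
    have := IsPGroup.isMulCommutative_of_card_eq_prime_sq hp2
    exact fun a b => this.is_comm.comm a b
  refine ⟨z.1, hz2, ?_⟩
  rw [Subgroup.mem_center_iff]
  intro g
  have htop : (P : Subgroup G) ⊔ (S : Subgroup G) = ⊤ := by
    have h1 : Nat.card (P : Subgroup G) ∣ Nat.card ↥((P : Subgroup G) ⊔ (S : Subgroup G)) :=
      Subgroup.card_dvd_of_le le_sup_left
    have h2 : Nat.card (S : Subgroup G) ∣ Nat.card ↥((P : Subgroup G) ⊔ (S : Subgroup G)) :=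
      Subgroup.card_dvd_of_le le_sup_right
    have h3 : Nat.card (P : Subgroup G) = 3 := hP3
    have h4 : Nat.card (S : Subgroup G) = 4 := hS
    rw [h3] at h1
    rw [h4] at h2
    rw [← Subgroup.card_eq_iff_eq_top, hG]
    have h5 : Nat.card ↥((P : Subgroup G) ⊔ (S : Subgroup G)) ∣ 12 := by
      rw [← hG]; exact Subgroup.card_subgroup_dvd_card _
    have h6 : 12 ∣ Nat.card ↥((P : Subgroup G) ⊔ (S : Subgroup G)) := by omega
    exact Nat.dvd_antisymm h5 h6
  have hg : g ∈ (P : Subgroup G) ⊔ (S : Subgroup G) := by rw [htop]; trivial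
  have hle : (P : Subgroup G) ⊔ (S : Subgroup G) ≤ Subgroup.centralizer ({(z.1 : G)} : Set G) := by
    refine sup_le ?_ ?_
    · intro x hx
      rw [Subgroup.mem_centralizer_singleton_iff]
      exact (hzP x hx).symm
    · intro x hx
      rw [Subgroup.mem_centralizer_singleton_iff]
      exact congrArg Subtype.val (hScomm ⟨x, hx⟩ z.1)
  exact Subgroup.mem_centralizer_singleton_iff.1 (hle hg)

/-- A group of order 12 in which no involution is central is isomorphic to the alternating group on four letters. -/
theorem result {G : Type*} [Group G] [Finite G] (hG : Nat.card G = 12) (hz : ∀ z : G, orderOf z = 2 → z ∉ Subgroup.center G) : Nonempty (G ≃* alternatingGroup (Fin 4)) := by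
  classical
  have f3 : Fact (Nat.Prime 3) := ⟨by norm_num⟩
  obtain ⟨P⟩ : Nonempty (Sylow 3 G) := inferInstance
  have hP3 : ∀ P : Sylow 3 G, Nat.card P = 3 := by
    intro P
    have h := Lib.SmallSimple.sylow_card_of (G := G) (p := 3) (k := 1) (m := 4) (by rw [hG]; norm_num) (by norm_num) P
    simpa using h
  have hn := Lib.SmallSimple.nsyl_dvd (G := G) (p := 3) (k := 1) (m := 4) (by rw [hG]; norm_num) (by norm_num)
  have hmod := Lib.SmallSimple.nsyl_mod 3 G
  have hn14 : Nat.card (Sylow 3 G) = 1 ∨ Nat.card (Sylow 3 G) = 4 := by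
    have h1 : Nat.card (Sylow 3 G) ≤ 4 := Nat.le_of_dvd (by norm_num) hn
    interval_cases h : Nat.card (Sylow 3 G) <;> omega
  rcases hn14 with h1 | h4
  · exfalso
    obtain ⟨z, hz2, hzc⟩ := central_of_normal hG P (hP3 P)
      (Lib.SmallSimple.normal_of_nsyl_eq_one h1 P)
    exact hz z hz2 hzc
  · -- the action on the four Sylow 3-subgroups
    have : Fintype (Sylow 3 G) := Fintype.ofFinite _
    have hNP : ∀ P : Sylow 3 G, Subgroup.normalizer ((P : Subgroup G) : Set G) = P := by
      intro P
      have h5 := Lib.SmallSimple.card_normalizer_mul_nsyl P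
      rw [h4, hG] at h5
      have h6 : (P : Subgroup G) ≤ Subgroup.normalizer ((P : Subgroup G) : Set G) :=
        Subgroup.le_normalizer
      symm
      apply Subgroup.eq_of_le_of_card_ge h6
      have h7 : Nat.card (P : Subgroup G) = 3 := hP3 P
      rw [h7]
      omega
    let φ : G →* Equiv.Perm (Sylow 3 G) := MulAction.toPermHom G (Sylow 3 G)
    have hker : φ.ker = ⊥ := by
      rw [Subgroup.eq_bot_iff_forall]
      intro x hx
      have hx' : ∀ Q : Sylow 3 G, x ∈ (Q : Subgroup G) := by
        intro Q
        have h5 : x • Q = Q := by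
          have : φ x = 1 := hx
          exact congrFun (congrArg DFunLike.coe this) Q
        rw [← hNP Q]
        exact Sylow.smul_eq_iff_mem_normalizer.1 h5
      by_contra hne
      -- all Sylow 3-subgroups contain x, so they are all equal to zpowers x
      have hz : ∀ Q : Sylow 3 G, (Q : Subgroup G) = Subgroup.zpowers x := by
        intro Q
        have h5 : Subgroup.zpowers x ≤ (Q : Subgroup G) := by
          rw [Subgroup.zpowers_le]; exact hx' Q
        have h6 : Nat.card (Subgroup.zpowers x) ∣ 3 := by
          have : Nat.card (Q : Subgroup G) = 3 := hP3 Q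
          rw [← this]
          exact Subgroup.card_dvd_of_le h5
        have h7 : Nat.card (Subgroup.zpowers x) ≠ 1 := by
          rw [Nat.card_zpowers, Ne, orderOf_eq_one_iff]
          exact hne
        have h8 : Nat.card (Subgroup.zpowers x) = 3 := ((Nat.dvd_prime (by norm_num)).1 h6).resolve_left h7
        symm
        apply Subgroup.eq_of_le_of_card_ge h5
        rw [h8]
        exact (hP3 Q).le
      have hsub : Subsingleton (Sylow 3 G) := ⟨fun A B => Sylow.ext ((hz A).trans (hz B).symm)⟩
      have := Nat.card_of_subsingleton P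
      omega
    have hinj : Function.Injective φ := (MonoidHom.ker_eq_bot_iff _).1 hker
    have hcard4 : Fintype.card (Sylow 3 G) = 4 := by rw [← Nat.card_eq_fintype_card, h4]
    have hrange : φ.range = alternatingGroup (Sylow 3 G) := by
      apply Equiv.Perm.eq_alternatingGroup_of_index_eq_two
      have h5 := φ.range.index_mul_card
      rw [Nat.card_perm, h4] at h5
      have h6 : Nat.card φ.range = 12 := by
        rw [← hG]
        exact (Nat.card_congr (MonoidHom.ofInjective hinj).toEquiv).symm
      rw [h6] at h5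
      have h7 : Nat.factorial 4 = 24 := by decide
      omega
    have e1 : G ≃* φ.range := MonoidHom.ofInjective hinj
    have e2 : φ.range ≃* alternatingGroup (Sylow 3 G) := MulEquiv.subgroupCongr hrange
    have e3 : Sylow 3 G ≃ Fin 4 := Fintype.equivFinOfCardEq hcard4
    exact ⟨(e1.trans e2).trans (Equiv.altCongrHom e3)⟩

end Cfsg.Agent.S0228
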