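import Cfsg.Statements.S4025
import Cfsg.Agent.Lib.H1HupSubC
import Cfsg.Agent.Lib.FusionControl
import Cfsg.Agent.Lib.Cores2

set_option autoImplicit false
open Cfsg

namespace Cfsg.Agent.S4025

open Cfsg.Agent.Lib

theorem reduce {G : Type*} [Group G] [Finite G] {p : ℕ} [Fact p.Prime]
    (hC : ∀ H K : Subgroup G, IsPGroup p H → IsPGroup p K → Nat.card H = Nat.card K →
      ∃ g : G, K = H.map (MulAut.conj g).toMonoidHom) (P : Sylow p G) (n : ℕ)
    (hel : Cfsg.IsElementaryAbelian p (P : Subgroup G)) (hcard : Nat.card P = p ^ n)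
    (N : Subgroup G) (hN : N = Subgroup.normalizer ((P : Subgroup G) : Set G))
    (hsolv : Group.IsSolvable (↥N ⧸ Cfsg.pPrimeCore p ↥N)) :
    ∃ Q : Subgroup (↥N ⧸ Cfsg.pPrimeCore p ↥N), Q.Normal ∧ (∀ a b : Q, a * b = b * a) ∧
      (∀ x ∈ Q, x ^ p = 1) ∧ Nat.card Q = p ^ n ∧ Subgroup.centralizer (Q : Set (↥N ⧸ Cfsg.pPrimeCore p ↥N)) ≤ Q ∧
      (Nat.card Q).Coprime Q.index ∧
      ∀ A B : Subgroup (↥N ⧸ Cfsg.pPrimeCore p ↥N), A ≤ Q → B ≤ Q → Nat.card A = Nat.card B →
        ∃ g, B = A.map (MulAut.conj g).toMonoidHom := by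
  classical
  have hpp : p.Prime := Fact.out
  have hPN : (P : Subgroup G) ≤ N := by rw [hN]; exact Subgroup.le_normalizer
  set P' : Sylow p N := P.subtype hPN with hP'
  have hP'c : ((P' : Subgroup N)) = (P : Subgroup G).subgroupOf N := rfl
  have hP'n : (P' : Subgroup N).Normal := by
    rw [hP'c]
    constructor
    intro x hx g
    rw [Subgroup.mem_subgroupOf] at hx ⊢
    have hg : (g : G) ∈ Subgroup.normalizer ((P : Subgroup G) : Set G) := by rw [← hN]; exact g.2
    have := (Subgroup.mem_normalizer_iff.1 hg (x : G)).1 hx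
    simpa using this
  have hcardP' : Nat.card (P' : Subgroup N) = p ^ n := by
    rw [hP'c, ← hcard]
    exact Nat.card_congr (Subgroup.subgroupOfEquivOfLe hPN).toEquiv
  set K := Cfsg.pPrimeCore p ↥N with hK
  have hKcop : (Nat.card K).Coprime p := Cores.coprime_card_pPrimeCore p N
  let π : N →* N ⧸ K := QuotientGroup.mk' K
  have hπs : Function.Surjective π := QuotientGroup.mk'_surjective K
  have hπk : π.ker = K := QuotientGroup.ker_mk' K
  have hdisj : ∀ x ∈ (P' : Subgroup N), x ∈ K → x = 1 := by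
    intro x hx hxK
    have h1 : orderOf x ∣ Nat.card (P' : Subgroup N) := by
      rw [← Subgroup.orderOf_mk x hx]; exact orderOf_dvd_natCard _
    have h2 : orderOf x ∣ Nat.card K := by
      rw [← Subgroup.orderOf_mk x hxK]; exact orderOf_dvd_natCard _
    rw [hcardP'] at h1
    have h3 : orderOf x = 1 := Nat.eq_one_of_dvd_coprimes (Nat.Coprime.pow_left n hKcop.symm) h1 h2
    exact orderOf_eq_one_iff.1 h3
  have hcommP : ∀ a ∈ (P' : Subgroup N), ∀ b ∈ (P' : Subgroup N), a * b = b * a := by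
    intro a ha b hb
    apply Subtype.ext
    have h1 : (⟨(a : G), ha⟩ : (P : Subgroup G)) * ⟨(b : G), hb⟩ = ⟨(b : G), hb⟩ * ⟨(a : G), ha⟩ :=
      hel.1.is_comm.comm _ _
    have h2 : (a : G) * (b : G) = (b : G) * (a : G) := congrArg Subtype.val h1
    exact h2
  have hexpP : ∀ a ∈ (P' : Subgroup N), a ^ p = 1 := by
    intro a ha
    apply Subtype.ext
    rw [Subgroup.coe_pow, Subgroup.coe_one]
    exact hel.2 a ha
  set Q : Subgroup (N ⧸ K) := (P' : Subgroup N).map π with hQ
  have hQn : Q.Normal := hP'n.map π hπs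
  have hinj : ∀ x ∈ (P' : Subgroup N), ∀ y ∈ (P' : Subgroup N), π x = π y → x = y := by
    intro x hx y hy hxy
    have h1 : x * y⁻¹ ∈ K := by
      rw [← hπk, MonoidHom.mem_ker, map_mul, map_inv, hxy, mul_inv_cancel]
    exact mul_inv_eq_one.1 (hdisj _ (mul_mem hx (inv_mem hy)) h1)
  have hcm : ∀ A : Subgroup N, A ≤ (P' : Subgroup N) → Nat.card (A.map π) = Nat.card A := by
    intro A hA
    refine (Nat.card_congr (Equiv.ofBijective (fun a : A => (⟨π a, ⟨a, a.2, rfl⟩⟩ : A.map π)) ⟨?_, ?_⟩)).symm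
    · intro a b hab
      exact Subtype.ext (hinj a (hA a.2) b (hA b.2) (congrArg Subtype.val hab))
    · rintro ⟨_, a, ha, rfl⟩
      exact ⟨⟨a, ha⟩, rfl⟩
  have hQcard : Nat.card Q = p ^ n := by rw [hQ, hcm _ le_rfl, hcardP']
  have hQidx : (Nat.card Q).Coprime Q.index := by
    rw [hQcard]
    have h1 : Q.index ∣ (P' : Subgroup N).index := by
      rw [hQ]; exact Subgroup.index_map_dvd _ hπs
    have h2 : ¬ p ∣ (P' : Subgroup N).index := P'.not_dvd_index
    apply Nat.Coprime.pow_left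
    rw [Nat.Prime.coprime_iff_not_dvd hpp]
    exact fun h => h2 (h.trans h1)
  have hQp : IsPGroup p Q := P'.isPGroup'.map π
  have hQcore : Cfsg.pCore p (N ⧸ K) = Q := by
    apply le_antisymm
    · have hQs : ¬ p ∣ Q.index := by
        intro h
        rw [hQcard] at hQidx
        rcases Nat.eq_zero_or_pos n with h0 | h0
        · -- n = 0: then p does not divide the order of N
          have h1 : Q.index ∣ (P' : Subgroup N).index := by
            rw [hQ]; exact Subgroup.index_map_dvd _ hπs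
          exact P'.not_dvd_index (h.trans h1)
        · have h1 : p ∣ p ^ n := dvd_pow_self p (by omega)
          have := Nat.eq_one_of_dvd_coprimes hQidx h1 h
          exact hpp.one_lt.ne' this
      let S : Sylow p (N ⧸ K) := hQp.toSylow hQs
      have : (S : Subgroup (N ⧸ K)) = Q := rfl
      rw [← this]
      exact Cores.pCore_le_sylow S
    · exact Cores.le_pCore hQn hQp
  refine ⟨Q, hQn, ?_, ?_, hQcard, ?_, hQidx, ?_⟩
  · rintro ⟨_, a, ha, rfl⟩ ⟨_, b, hb, rfl⟩
    apply Subtype.ext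
    show π a * π b = π b * π a
    rw [← map_mul, ← map_mul, hcommP a ha b hb]
  · rintro _ ⟨a, ha, rfl⟩
    rw [← map_pow, hexpP a ha, map_one]
  · have h1 := Cores.centralizer_pCore_le (G := N ⧸ K) (p := p) (Cores.pPrimeCore_quotient_pPrimeCore p N)
    rwa [hQcore] at h1
  · intro A B hA hB hAB
    -- lifts
    have hlift : ∀ A : Subgroup (N ⧸ K), A ≤ Q → ∃ A0 : Subgroup G, A0 ≤ (P : Subgroup G) ∧ Nat.card A0 = Nat.card A ∧
        (A0.subgroupOf N).map π = A := by
      intro A hA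
      let A1 : Subgroup N := (P' : Subgroup N) ⊓ A.comap π
      have h1 : A1.map π = A := by
        apply le_antisymm
        · rw [Subgroup.map_le_iff_le_comap]; exact inf_le_right
        · intro x hx
          obtain ⟨y, hy, rfl⟩ := hA hx
          exact ⟨y, ⟨hy, hx⟩, rfl⟩
      refine ⟨A1.map N.subtype, ?_, ?_, ?_⟩
      · rintro _ ⟨y, hy, rfl⟩
        exact hy.1
      · rw [Subgroup.card_map_of_injective N.subtype_injective, ← hcm A1 inf_le_left, h1]
      · have h2 : (A1.map N.subtype).subgroupOf N = A1 := by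
          rw [Subgroup.subgroupOf, Subgroup.comap_map_eq_self_of_injective N.subtype_injective]
        rw [h2, h1]
    obtain ⟨A0, hA0, hA0c, hA0m⟩ := hlift A hA
    obtain ⟨B0, hB0, hB0c, hB0m⟩ := hlift B hB
    obtain ⟨g, hg⟩ := hC A0 B0 (P.isPGroup'.to_le hA0) (P.isPGroup'.to_le hB0) (by rw [hA0c, hB0c, hAB])
    have hinv : ∀ X : Subgroup G, X ≤ (P : Subgroup G) → ∀ x ∈ P, (fun y => x * y * x⁻¹) '' (X : Set G) = X := by
      intro X hX x hx
      ext y
      constructor
      · rintro ⟨z, hz, rfl⟩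
        have h1 : x * z = z * x := congrArg Subtype.val (hel.1.is_comm.comm ⟨x, hx⟩ ⟨z, hX hz⟩)
        show x * z * x⁻¹ ∈ X
        rw [h1, mul_inv_cancel_right]; exact hz
      · intro hy
        refine ⟨y, hy, ?_⟩
        have h1 : x * y = y * x := congrArg Subtype.val (hel.1.is_comm.comm ⟨x, hx⟩ ⟨y, hX hy⟩)
        show x * y * x⁻¹ = y
        rw [h1, mul_inv_cancel_right]
    obtain ⟨m, hm, -, -, -, hmAB⟩ := FusionControl.burnside_fusion_sets P (A0 : Set G) (B0 : Set G)
      (hinv A0 hA0) (hinv B0 hB0) g (by rw [hg]; rfl)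
    have hmN : m ∈ N := by rw [hN]; exact hm
    refine ⟨π ⟨m, hmN⟩, ?_⟩
    rw [← hA0m, ← hB0m]
    ext x
    constructor
    · rintro ⟨y, hy, rfl⟩
      have hy' : (y : G) ∈ (B0 : Set G) := hy
      rw [← hmAB] at hy'
      obtain ⟨z, hz, hz'⟩ := hy'
      have hzN : z ∈ N := hPN (hA0 hz)
      refine ⟨π ⟨z, hzN⟩, ⟨⟨z, hzN⟩, hz, rfl⟩, ?_⟩
      show π ⟨m, hmN⟩ * π ⟨z, hzN⟩ * (π ⟨m, hmN⟩)⁻¹ = π y
      rw [← map_inv, ← map_mul, ← map_mul]
      congr 1
      exact Subtype.ext hz'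
    · rintro ⟨_, ⟨z, hz, rfl⟩, rfl⟩
      refine ⟨⟨m, hmN⟩ * z * ⟨m, hmN⟩⁻¹, ?_, ?_⟩
      · show m * (z : G) * m⁻¹ ∈ (B0 : Set G)
        rw [← hmAB]
        exact ⟨z, hz, rfl⟩
      · show π _ = π ⟨m, hmN⟩ * π z * (π ⟨m, hmN⟩)⁻¹
        rw [map_mul, map_mul, map_inv]

/-- Let p be a prime and G a finite group in which any two p-subgroups of the same order are conjugate, and suppose a Sylow p-subgroup P of G is elementary abelian of order pⁿ with n ≥ 3. Let N be the normalizer of P and K the largest normal subgroup of N of order prime to p, and assume N/K is solvable. Then either n = 3 and N/K embeds in the one-dimensional semi-affine group over the field with p³ elements (and for p = 2 it is isomorphic to the affine or the semi-affine group over the field with 8 elements), or n = 5, p = 2 and N/K is isomorphic to the one-dimensional semi-affine group over the field with 32 elements. -/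
theorem result {G : Type*} [Group G] [Finite G]
    {p : ℕ} [Fact p.Prime] (hC : ∀ H K : Subgroup G, IsPGroup p H → IsPGroup p K → Nat.card H = Nat.card K →
      ∃ g : G, K = H.map (MulAut.conj g).toMonoidHom) (P : Sylow p G) (n : ℕ) (hn : 3 ≤ n)
    (hel : Cfsg.IsElementaryAbelian p (P : Subgroup G)) (hcard : Nat.card P = p ^ n)
    (N : Subgroup G) (hN : N = Subgroup.normalizer ((P : Subgroup G) : Set G))
    (hsolv : Group.IsSolvable (↥N ⧸ Cfsg.pPrimeCore p ↥N)) :
    (n = 3 ∧ (∃ f : ↥N ⧸ Cfsg.pPrimeCore p ↥N →* ↥(Cfsg.semiaffineGroup (GaloisField p 3)), Function.Injective f) ∧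
      (p = 2 → Nonempty (↥N ⧸ Cfsg.pPrimeCore p ↥N ≃* Cfsg.semiaffineGroup (GaloisField 2 3)) ∨
               Nonempty (↥N ⧸ Cfsg.pPrimeCore p ↥N ≃* Cfsg.affineGroup (GaloisField 2 3)))) ∨
    (n = 5 ∧ p = 2 ∧ Nonempty (↥N ⧸ Cfsg.pPrimeCore p ↥N ≃* Cfsg.semiaffineGroup (GaloisField 2 5))) := by
  obtain ⟨Q, hQn, h1, h2, h3, h4, h5, h6⟩ := reduce hC P n hel hcard N hN hsolv
  rcases H1HupSub.group_main (p := p) hsolv hn Q h1 h2 h3 h4 h5 h6 with h | h
  · exact Or.inl h
  · exact Or.inr h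

end Cfsg.Agent.S4025
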