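import Cfsg.Statements.S4023
import Cfsg.Agent.Lib.SameOrder

set_option autoImplicit false
open Cfsg

namespace Cfsg.Agent.S4023

open Cfsg.Agent.Lib Cfsg.Agent.Lib.SameOrder

theorem same_sylow {G : Type*} [Group G] [Finite G]
    {p : ℕ} [Fact p.Prime] (hC : ∀ H K : Subgroup G, IsPGroup p H → IsPGroup p K → Nat.card H = Nat.card K →
      ∃ g : G, K = H.map (MulAut.conj g).toMonoidHom) (P : Sylow p G) : Same P := by
  intro H K hHK
  have hH : IsPGroup p (H.map (P : Subgroup G).subtype) := (P.isPGroup'.to_subgroup H).map _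
  have hK : IsPGroup p (K.map (P : Subgroup G).subtype) := (P.isPGroup'.to_subgroup K).map _
  have e1 : H ≃* H.map (P : Subgroup G).subtype := H.equivMapOfInjective _ (Subgroup.subtype_injective _)
  have e2 : K ≃* K.map (P : Subgroup G).subtype := K.equivMapOfInjective _ (Subgroup.subtype_injective _)
  obtain ⟨g, hg⟩ := hC _ _ hH hK (by rw [← Nat.card_congr e1.toEquiv, ← Nat.card_congr e2.toEquiv, hHK])
  have e3 : H.map (P : Subgroup G).subtype ≃* (H.map (P : Subgroup G).subtype).map (MulAut.conj g).toMonoidHom :=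
    (H.map (P : Subgroup G).subtype).equivMapOfInjective _ (MulAut.conj g).injective
  rw [← hg] at e3
  exact ⟨(e1.trans e3).trans e2.symm⟩

/-- Let p be a prime and G a finite group in which any two p-subgroups of the same order are conjugate, with Sylow p-subgroup P. Then P is cyclic, or elementary abelian, or p = 2 and P is a quaternion group of order 8, or p is odd and P is non-abelian of order p³ and exponent p. -/
theorem result {G : Type*} [Group G] [Finite G]
    {p : ℕ} [Fact p.Prime] (hC : ∀ H K : Subgroup G, IsPGroup p H → IsPGroup p K → Nat.card H = Nat.card K →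
      ∃ g : G, K = H.map (MulAut.conj g).toMonoidHom) (P : Sylow p G) :
    IsCyclic P ∨ Cfsg.IsElementaryAbelian p (P : Subgroup G) ∨
      (p = 2 ∧ Nonempty ((P : Subgroup G) ≃* QuaternionGroup 2)) ∨
      (p ≠ 2 ∧ ¬ IsMulCommutative P ∧ Nat.card P = p ^ 3 ∧ Monoid.exponent P = p) := by
  classical
  have hp : p.Prime := Fact.out
  have hS := same_sylow hC P
  have hPp : IsPGroup p P := P.isPGroup'
  by_cases hu : ∀ x y : P, orderOf x = p → orderOf y = p → y ∈ Subgroup.zpowers x
  · rcases UniqueInvolution.isCyclic_or_quaternion hPp hu with h | ⟨hp2, m, hm, ⟨e⟩⟩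
    · exact Or.inl h
    · right; right; left
      refine ⟨hp2, ?_⟩
      have h1 := quat_order e hS
      have : m = 1 := by omega
      subst this
      exact ⟨e⟩
  · push Not at hu
    obtain ⟨x, y, hx, hy, hxy⟩ := hu
    have hexp := exponent_of_two hPp hS hx hy hxy
    by_cases hcomm : ∀ a b : P, a * b = b * a
    · right; left
      refine ⟨⟨⟨hcomm⟩⟩, ?_⟩
      intro a ha
      exact congrArg Subtype.val (hexp ⟨a, ha⟩)
    · right; right; right
      obtain ⟨h1, h2⟩ := card_of_nonabelian hPp hS hexp hcomm
      refine ⟨h1, fun h => hcomm h.is_comm.comm, h2, ?_⟩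
      have h3 : Monoid.exponent P ∣ p := Monoid.exponent_dvd_of_forall_pow_eq_one hexp
      rcases (Nat.dvd_prime hp).1 h3 with h4 | h4
      · exfalso
        have h5 : x ^ 1 = 1 := by rw [← h4]; exact Monoid.pow_exponent_eq_one x
        rw [pow_one] at h5
        rw [h5, orderOf_one] at hx
        exact hp.one_lt.ne hx
      · exact h4

end Cfsg.Agent.S4023
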