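import Cfsg.Statements.S4024
import Cfsg.Agent.S4023
import Cfsg.Agent.Lib.PLengthOne
import Cfsg.Agent.Lib.H32PSolv
import Cfsg.Agent.Lib.H32Basic
import Cfsg.Agent.Lib.Cores

set_option autoImplicit false
open Cfsg

namespace Cfsg.Agent.S4024

open Cfsg.Agent.Lib Cfsg.Agent.Lib.SameOrder

/-- Let p be an odd prime and G a finite group in which any two p-subgroups of the same order are conjugate, with Sylow p-subgroup P. If H is a normal p-solvable subgroup of G whose order is divisible by p, then P is abelian, and either P ≤ H or P is cyclic. -/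
theorem result {G : Type*} [Group G] [Finite G]
    {p : ℕ} [Fact p.Prime] (hp : p ≠ 2) (hC : ∀ H K : Subgroup G, IsPGroup p H → IsPGroup p K → Nat.card H = Nat.card K →
      ∃ g : G, K = H.map (MulAut.conj g).toMonoidHom) (P : Sylow p G)
    (H : Subgroup G) [H.Normal] (hsolv : Cfsg.IsPSolvable p H) (hdiv : p ∣ Nat.card H) :
    IsMulCommutative P ∧ ((P : Subgroup G) ≤ H ∨ IsCyclic P) := by
  classical
  have hpp : p.Prime := Fact.out
  -- a normal subgroup of order divisible by p contains P, if P has exponent p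
  have hkey : (∀ x ∈ (P : Subgroup G), x ^ p = 1) → ∀ W : Subgroup G, W.Normal → p ∣ Nat.card W →
      (P : Subgroup G) ≤ W := by
    intro hexp W hW hpW x hx
    obtain ⟨w, hw⟩ := exists_prime_orderOf_dvd_card' (G := W) p hpW
    by_cases hx1 : x = 1
    · rw [hx1]; exact one_mem _
    · have hxo : orderOf x = p := orderOf_eq_prime (hexp x hx) hx1
      have hwo : orderOf (w : G) = p := by rw [Subgroup.orderOf_coe]; exact hw
      obtain ⟨g, hg⟩ := hC (Subgroup.zpowers (w : G)) (Subgroup.zpowers x)
        (IsPGroup.of_card (n := 1) (by rw [Nat.card_zpowers, hwo, pow_one]))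
        (IsPGroup.of_card (n := 1) (by rw [Nat.card_zpowers, hxo, pow_one]))
        (by rw [Nat.card_zpowers, Nat.card_zpowers, hwo, hxo])
      have h1 : Subgroup.zpowers x ≤ W := by
        rw [hg, Subgroup.map_le_iff_le_comap, Subgroup.zpowers_le, Subgroup.mem_comap]
        exact hW.conj_mem _ w.2 g
      exact h1 (Subgroup.mem_zpowers x)
  rcases Cfsg.Agent.S4023.result hC P with h | h | h | ⟨-, hnc, hcard, hexp⟩
  · refine ⟨?_, Or.inr h⟩
    constructor
    constructor
    intro a b
    obtain ⟨g, hg⟩ := h.exists_generator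
    obtain ⟨i, rfl⟩ := Subgroup.mem_zpowers_iff.1 (hg a)
    obtain ⟨j, rfl⟩ := Subgroup.mem_zpowers_iff.1 (hg b)
    exact (Commute.refl g).zpow_zpow i j
  · exact ⟨h.1, Or.inl (hkey h.2 H inferInstance hdiv)⟩
  · exact absurd h.1 hp
  · -- nonabelian case: impossible
    exfalso
    have hexp' : ∀ x ∈ (P : Subgroup G), x ^ p = 1 := by
      intro x hx
      have h1 := Monoid.pow_exponent_eq_one (⟨x, hx⟩ : (P : Subgroup G))
      rw [hexp] at h1
      exact congrArg Subtype.val h1
    -- N = O_{p'}(H)
    set N : Subgroup G := (pPrimeCore p H).map H.subtype with hN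
    have hNn : N.Normal := inferInstance
    have hNc : (Nat.card N).Coprime p := by
      rw [hN, Cores.card_map_subtype]; exact Cores.coprime_card_pPrimeCore p H
    set V : Subgroup G := (pPrimePCore p H).map H.subtype with hV
    have hchar : (pPrimePCore p H).Characteristic := PLengthOne.characteristic_pPrimePCore
    have hVn : V.Normal := inferInstance
    have hNV : N ≤ V := Subgroup.map_mono (Cores.pPrimeCore_le_pPrimePCore p H)
    have hQ : pCore p (H ⧸ pPrimeCore p H) ≠ ⊥ := by
      intro h0
      have h1 := H32PSolv.centralizer_pCore_le (H32PSolv.isPSolvable_quotient hsolv (pPrimeCore p H))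
        (Cores.pPrimeCore_quotient_pPrimeCore p H)
      rw [h0] at h1
      have h2 : Subgroup.centralizer ((⊥ : Subgroup (H ⧸ pPrimeCore p H)) : Set (H ⧸ pPrimeCore p H)) = ⊤ := by
        rw [eq_top_iff]
        intro g _
        rw [Subgroup.mem_centralizer_iff]
        intro x hx
        rw [Subgroup.coe_bot, Set.mem_singleton_iff] at hx
        rw [hx, one_mul, mul_one]
      rw [h2, top_le_iff] at h1
      have h3 : pPrimeCore p H = ⊤ := by
        rw [← QuotientGroup.ker_mk' (pPrimeCore p H)]
        rw [eq_top_iff]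
        intro x _
        rw [MonoidHom.mem_ker]
        have : (QuotientGroup.mk' (pPrimeCore p H)) x ∈ (⊥ : Subgroup (H ⧸ pPrimeCore p H)) := h1 ▸ Subgroup.mem_top _
        exact Subgroup.mem_bot.1 this
      have h4 := Cores.coprime_card_pPrimeCore p H
      rw [h3, Subgroup.card_top] at h4
      have := Nat.Coprime.eq_one_of_dvd h4.symm hdiv
      exact hpp.one_lt.ne' this
    -- index of N in V
    have hVcard : Nat.card V = Nat.card N * Nat.card (pCore p (H ⧸ pPrimeCore p H)) := by
      rw [hV, hN, Cores.card_map_subtype, Cores.card_map_subtype]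
      exact Cores.card_comap_mk _ _
    obtain ⟨j, hj⟩ := IsPGroup.iff_card.1 (Cores.isPGroup_pCore p (H ⧸ pPrimeCore p H))
    have hj0 : j ≠ 0 := by
      rintro rfl
      apply hQ
      rw [pow_zero] at hj
      exact Subgroup.card_eq_one.1 hj
    have hpV : p ∣ Nat.card V := by
      rw [hVcard, hj]
      exact Dvd.dvd.mul_left (dvd_pow_self p hj0) _
    have hPV := hkey hexp' V hVn hpV
    -- V = N P
    have hVNP : V = N ⊔ (P : Subgroup G) := by
      apply le_antisymm _ (sup_le hNV hPV)
      have h1 : Nat.card ↥(N ⊔ (P : Subgroup G)) = Nat.card N * Nat.card P :=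
        SubgroupTools.card_sup_of_coprime Subgroup.le_normalizer_of_normal (by
          obtain ⟨i, hi⟩ := IsPGroup.iff_card.1 P.isPGroup'
          rw [hi]; exact Nat.Coprime.pow_right i hNc)
      have h2 : Nat.card (pCore p (H ⧸ pPrimeCore p H)) ∣ Nat.card P := by
        rw [hj, P.card_eq_multiplicity]
        apply pow_dvd_pow
        apply (Nat.Prime.pow_dvd_iff_le_factorization hpp Nat.card_pos.ne').1
        have h3 := Subgroup.card_subgroup_dvd_card V
        rw [hVcard, hj] at h3
        exact (Dvd.intro_left _ rfl).trans h3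
      have h4 : N ⊔ (P : Subgroup G) = V := by
        apply Subgroup.eq_of_le_of_card_ge (sup_le hNV hPV)
        rw [h1, hVcard]
        exact Nat.mul_le_mul_left _ (Nat.le_of_dvd Nat.card_pos h2)
      exact h4.ge
    -- Frattini
    have hfrat : Subgroup.normalizer ((P : Subgroup G) : Set G) ⊔ V = ⊤ := Sylow.normalizer_sup_eq_top' P hPV
    have hfrat2 : N ⊔ Subgroup.normalizer ((P : Subgroup G) : Set G) = ⊤ := by
      rw [eq_top_iff, ← hfrat, hVNP]
      exact sup_le le_sup_right (sup_le le_sup_left (Subgroup.le_normalizer.trans le_sup_right))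
    set Z : Subgroup G := (Subgroup.center P).map (P : Subgroup G).subtype with hZ
    have hZP : Z ≤ (P : Subgroup G) := Subgroup.map_subtype_le _
    have hZnorm : Subgroup.normalizer ((P : Subgroup G) : Set G) ≤ Subgroup.normalizer (Z : Set G) := by
      intro g hg
      apply Subgroup.mem_normalizer_fintype
      rintro _ ⟨z, hz, rfl⟩
      have h1 : g * (z : G) * g⁻¹ ∈ (P : Subgroup G) := (Subgroup.mem_normalizer_iff.1 hg z).1 z.2
      refine ⟨⟨_, h1⟩, ?_, rfl⟩
      show (⟨g * (z : G) * g⁻¹, h1⟩ : (P : Subgroup G)) ∈ Subgroup.center (P : Subgroup G)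
      rw [Subgroup.mem_center_iff]
      intro x
      apply Subtype.ext
      have h2 : g⁻¹ * (x : G) * g ∈ (P : Subgroup G) := by
        have := (Subgroup.mem_normalizer_iff.1 (inv_mem hg) x).1 x.2
        rwa [inv_inv] at this
      have h3 : (g⁻¹ * (x : G) * g) * z = z * (g⁻¹ * (x : G) * g) :=
        congrArg Subtype.val (Subgroup.mem_center_iff.1 hz ⟨_, h2⟩)
      show (x : G) * (g * z * g⁻¹) = g * z * g⁻¹ * x
      calc (x : G) * (g * z * g⁻¹) = g * ((g⁻¹ * (x : G) * g) * z) * g⁻¹ := by group
        _ = g * (z * (g⁻¹ * (x : G) * g)) * g⁻¹ := by rw [h3]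
        _ = g * z * g⁻¹ * x := by group
    have hWn : (N ⊔ Z).Normal := by
      rw [← Subgroup.normalizer_eq_top_iff, eq_top_iff, ← hfrat2]
      apply sup_le
      · exact le_sup_left.trans Subgroup.le_normalizer
      · intro g hg
        rw [SubgroupTools.mem_normalizer_iff_conj_smul, SubgroupTools.conj_smul_sup,
          SubgroupTools.conj_smul_normal, SubgroupTools.conj_smul_of_mem_normalizer (hZnorm hg)]
    have hZcard : Nat.card Z = Nat.card (Subgroup.center P) := Cores.card_map_subtype _
    obtain ⟨k, hk⟩ := IsPGroup.iff_card.1 (P.isPGroup'.to_subgroup (Subgroup.center P))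
    have hPnt : Nontrivial P := by
      rw [← Finite.one_lt_card_iff_nontrivial, hcard]
      exact Nat.one_lt_pow (by norm_num) hpp.one_lt
    have hk0 : k ≠ 0 := by
      rintro rfl
      have := Finite.one_lt_card_iff_nontrivial.2 (P.isPGroup'.center_nontrivial)
      rw [hk, pow_zero] at this
      exact lt_irrefl _ this
    have hWcard : Nat.card ↥(N ⊔ Z) = Nat.card N * Nat.card Z :=
      SubgroupTools.card_sup_of_coprime Subgroup.le_normalizer_of_normal (by
        rw [hZcard, hk]; exact Nat.Coprime.pow_right k hNc)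
    have hpW : p ∣ Nat.card ↥(N ⊔ Z) := by
      rw [hWcard, hZcard, hk]
      exact Dvd.dvd.mul_left (dvd_pow_self p hk0) _
    have hPW := hkey hexp' _ hWn hpW
    have h1 : Nat.card (P : Subgroup G) ∣ Nat.card N * Nat.card Z := by
      rw [← hWcard]; exact Subgroup.card_dvd_of_le hPW
    have h2 : Nat.card (P : Subgroup G) ∣ Nat.card Z := by
      apply Nat.Coprime.dvd_of_dvd_mul_left _ h1
      obtain ⟨i, hi⟩ := IsPGroup.iff_card.1 P.isPGroup'
      rw [hi]; exact Nat.Coprime.pow_left i hNc.symm
    have h3 : Z = (P : Subgroup G) := by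
      apply Subgroup.eq_of_le_of_card_ge hZP
      exact Nat.le_of_dvd Nat.card_pos h2
    -- P is abelian
    have hPc : Nat.card (Subgroup.center P) = Nat.card P := by
      rw [← hZcard, h3]
    have hPtop : Subgroup.center (P : Subgroup G) = ⊤ := Subgroup.eq_top_of_card_eq _ hPc
    apply hnc
    constructor
    constructor
    intro a b
    have h4 : b ∈ Subgroup.center (P : Subgroup G) := hPtop ▸ Subgroup.mem_top b
    exact Subgroup.mem_center_iff.1 h4 a

end Cfsg.Agent.S4024
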