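import Cfsg.Statements.S4020
import Cfsg.Agent.S4023
import Cfsg.Agent.S4024
import Cfsg.Agent.S0205
import Cfsg.Agent.Lib.H1Cube
import Cfsg.Agent.Lib.ZStarU
import Cfsg.Agent.Lib.PLength
import Cfsg.Agent.Lib.QDFusion3

set_option autoImplicit false
open Cfsg

namespace Cfsg.Agent.S4020

open Cfsg.Agent.Lib Subgroup

theorem exists_inverter {G : Type*} [Group G] [Finite G] {p : ℕ} [hp : Fact p.Prime]
    (hC : ∀ H K : Subgroup G, IsPGroup p H → IsPGroup p K → Nat.card H = Nat.card K →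
      ∃ g : G, K = H.map (MulAut.conj g).toMonoidHom) (P : Sylow p G)
    (hnc : ¬ IsMulCommutative P) (hcard : Nat.card P = p ^ 3) (hexp : Monoid.exponent P = p) :
    ∃ z w : G, orderOf z = p ∧ (w * w) * z * (w * w)⁻¹ = z⁻¹ ∧ w * w * (w * w) * z = z * (w * w * (w * w)) := by
  classical
  have hpp : p.Prime := hp.out
  -- noncentral x in P and a in P
  obtain ⟨a, x, hax⟩ : ∃ a x : P, a * x ≠ x * a := by
    by_contra hcon
    push Not at hcon
    exact hnc ⟨⟨hcon⟩⟩
  have hxnc : x ∉ center P := fun h => hax ((mem_center_iff.1 h) a)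
  have hzc := H1Cube.comm_mem hcard hnc a x
  have hz1 : a * x * a⁻¹ * x⁻¹ ≠ 1 := fun h => hax (mul_inv_eq_iff_eq_mul.1 (mul_inv_eq_one.1 h))
  have hax2 : a * x * a⁻¹ = (a * x * a⁻¹ * x⁻¹) * x := by group
  generalize a * x * a⁻¹ * x⁻¹ = z at hzc hz1 hax2
  have hord : ∀ y : P, y ≠ 1 → orderOf y = p := fun y hy =>
    orderOf_eq_prime (by
      have h : y ^ Monoid.exponent (P : Subgroup G) = 1 := Monoid.pow_exponent_eq_one y
      rwa [hexp] at h) hy
  have hx1 : x ≠ 1 := fun h => hxnc (by rw [h]; exact one_mem _)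
  have hzo : orderOf (z : G) = p := by rw [Subgroup.orderOf_coe]; exact hord z hz1
  have hxo : orderOf (x : G) = p := by rw [Subgroup.orderOf_coe]; exact hord x hx1
  -- conjugate <z> to <x>
  obtain ⟨g, hg⟩ := hC (zpowers (z : G)) (zpowers (x : G))
    (IsPGroup.of_card (n := 1) (by rw [Nat.card_zpowers, hzo, pow_one]))
    (IsPGroup.of_card (n := 1) (by rw [Nat.card_zpowers, hxo, pow_one]))
    (by rw [Nat.card_zpowers, Nat.card_zpowers, hzo, hxo])
  have hzcent : ∀ y ∈ (P : Subgroup G), y * z = z * y := fun y hy =>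
    congrArg Subtype.val ((mem_center_iff.1 hzc) ⟨y, hy⟩)
  -- P1 = g P g⁻¹ centralizes x
  have hxmem : (x : G) ∈ (zpowers (z : G)).map (MulAut.conj g).toMonoidHom := by
    rw [← hg]; exact mem_zpowers _
  rw [SylowTools.mem_map_conj_iff] at hxmem
  have hgx : g⁻¹ * x * g ∈ zpowers (z : G) := hxmem
  set P1 : Subgroup G := (P : Subgroup G).map (MulAut.conj g).toMonoidHom with hP1
  have hP1cent : P1 ≤ centralizer {(x : G)} := by
    rintro _ ⟨y, hy, rfl⟩
    rw [mem_centralizer_singleton_iff]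
    obtain ⟨n, hn⟩ := mem_zpowers_iff.1 hgx
    have h1 : Commute y ((z : G) ^ n) := (show Commute y z from hzcent y hy).zpow_right n
    rw [hn] at h1
    show g * y * g⁻¹ * x = x * (g * y * g⁻¹)
    have h2 : y * (g⁻¹ * x * g) = (g⁻¹ * x * g) * y := h1
    calc g * y * g⁻¹ * x = g * (y * (g⁻¹ * x * g)) * g⁻¹ := by group
      _ = g * ((g⁻¹ * x * g) * y) * g⁻¹ := by rw [h2]
      _ = x * (g * y * g⁻¹) := by group
  have hP1p : IsPGroup p P1 := P.isPGroup'.map _
  have hP1idx : ¬ p ∣ P1.index := by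
    have h1 : P1.index = (P : Subgroup G).index := by
      rw [hP1]
      exact Subgroup.index_map_of_bijective (MulAut.conj g).bijective _
    rw [h1]; exact P.not_dvd_index
  have hP1rel : ¬ p ∣ P1.relIndex (centralizer {(x : G)}) := fun h =>
    hP1idx (h.trans (Subgroup.relIndex_dvd_index_of_le hP1cent))
  have hzx : (z : G) ∈ centralizer {(x : G)} := by
    rw [mem_centralizer_singleton_iff]
    exact (hzcent x x.2).symm
  obtain ⟨k, hkC, hkz⟩ := SylowTools.conj_elem_into_of_subgroup hP1cent hP1p hP1rel hzx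
    ⟨1, by rw [hzo, pow_one]⟩
  -- m = k⁻¹ g conjugates P onto a Sylow subgroup containing z with x in its centre
  set m : G := k⁻¹ * g with hm
  have hmz : m⁻¹ * z * m ∈ (P : Subgroup G) := by
    rw [hP1, SylowTools.mem_map_conj_iff] at hkz
    have : m⁻¹ * z * m = g⁻¹ * (k * z * k⁻¹) * g := by rw [hm]; group
    rw [this]; exact hkz
  have hkx : k * x * k⁻¹ = x := by
    have := mem_centralizer_singleton_iff.1 hkC
    rw [this]; group
  have hmx : m⁻¹ * x * m ∈ zpowers (z : G) := by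
    have : m⁻¹ * x * m = g⁻¹ * (k * x * k⁻¹) * g := by rw [hm]; group
    rw [this, hkx]; exact hgx
  have hmxP : m⁻¹ * x * m ∈ (P : Subgroup G) := (zpowers_le.2 z.2) hmx
  have hmxc : (⟨_, hmxP⟩ : P) ∈ center P := by
    obtain ⟨n, hn⟩ := mem_zpowers_iff.1 hmx
    have : (⟨_, hmxP⟩ : P) = z ^ n := Subtype.ext (by
      show m⁻¹ * (x : G) * m = ((z ^ n : P) : G)
      rw [Subgroup.coe_zpow]; exact hn.symm)
    rw [this]; exact zpow_mem hzc n
  have hmx1 : (⟨_, hmxP⟩ : P) ≠ 1 := by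
    intro h
    have h1 := congrArg Subtype.val h
    simp only [Subgroup.coe_one] at h1
    have h2 : (x : G) = 1 := by
      calc (x : G) = m * (m⁻¹ * x * m) * m⁻¹ := by group
        _ = 1 := by rw [h1]; group
    exact hx1 (Subtype.ext h2)
  have hmznc : (⟨_, hmz⟩ : P) ∉ center P := by
    intro h
    -- then z ∈ <x>, so x ∈ <z> ≤ Z(P)
    obtain ⟨n, hn⟩ := mem_zpowers_iff.1 (H1Cube.mem_zpowers hcard hnc hmxc hmx1 h)
    have h1 : (m⁻¹ * x * m) ^ n = m⁻¹ * z * m := by simpa using congrArg Subtype.val hn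
    have h2 : (x : G) ^ n = z := by
      have h3 : (m⁻¹ * (x : G) * m) ^ n = m⁻¹ * (x : G) ^ n * m := by
        have := conj_zpow (i := n) (a := m⁻¹) (b := (x : G))
        simpa using this
      rw [h3] at h1
      calc (x : G) ^ n = m * (m⁻¹ * (x : G) ^ n * m) * m⁻¹ := by group
        _ = z := by rw [h1]; group
    have h3 : zpowers (z : G) = zpowers (x : G) := by
      apply Subgroup.eq_of_le_of_card_ge
      · rw [zpowers_le]; exact mem_zpowers_iff.2 ⟨n, h2⟩
      · rw [Nat.card_zpowers, Nat.card_zpowers, hzo, hxo]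
    obtain ⟨j, hj⟩ := mem_zpowers_iff.1 (by rw [h3]; exact mem_zpowers _ : (x : G) ∈ zpowers (z : G))
    apply hxnc
    have : x = z ^ j := Subtype.ext (by rw [← hj]; simp)
    rw [this]; exact zpow_mem hzc j
  obtain ⟨b', hb'⟩ := H1Cube.exists_shift hcard hnc hmxc hmznc
  have hb'' : (b' : G) * (m⁻¹ * z * m) * (b' : G)⁻¹ = (m⁻¹ * x * m)⁻¹ * (m⁻¹ * z * m) := by
    simpa using congrArg Subtype.val hb'
  have hbx' : (b' : G) * (m⁻¹ * x * m) * (b' : G)⁻¹ = m⁻¹ * x * m := by
    have h1 := (mem_center_iff.1 hmxc) b'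
    have h2 : (b' : G) * (m⁻¹ * x * m) = (m⁻¹ * x * m) * b' := by simpa using congrArg Subtype.val h1
    rw [h2]; group
  set b : G := m * b' * m⁻¹ with hb
  have hbz : b * z * b⁻¹ = (x : G)⁻¹ * z := by
    calc b * z * b⁻¹ = m * ((b' : G) * (m⁻¹ * z * m) * (b' : G)⁻¹) * m⁻¹ := by rw [hb]; group
      _ = m * ((m⁻¹ * x * m)⁻¹ * (m⁻¹ * z * m)) * m⁻¹ := by rw [hb'']
      _ = (x : G)⁻¹ * z := by group
  have hbx : b * x * b⁻¹ = x := by
    calc b * x * b⁻¹ = m * ((b' : G) * (m⁻¹ * x * m) * (b' : G)⁻¹) * m⁻¹ := by rw [hb]; group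
      _ = m * (m⁻¹ * x * m) * m⁻¹ := by rw [hbx']
      _ = x := by group
  have haz : (a : G) * z * (a : G)⁻¹ = z := by rw [hzcent a a.2]; group
  have hax' : (a : G) * x * (a : G)⁻¹ = z * x := by simpa using congrArg Subtype.val hax2
  have hxz : (x : G) * z = z * x := hzcent x x.2
  have hxiz : (x : G)⁻¹ * z = z * (x : G)⁻¹ := ((show Commute (x : G) z from hxz).inv_left).eq
  set w : G := a * b * a with hw
  have hwz : w * z * w⁻¹ = (x : G)⁻¹ := by
    calc w * z * w⁻¹ = a * (b * (a * z * (a : G)⁻¹) * b⁻¹) * (a : G)⁻¹ := by rw [hw]; group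
      _ = a * ((x : G)⁻¹ * z) * (a : G)⁻¹ := by rw [haz, hbz]
      _ = (a * x * (a : G)⁻¹)⁻¹ * (a * z * (a : G)⁻¹) := by group
      _ = (z * x : G)⁻¹ * z := by rw [hax', haz]
      _ = (x : G)⁻¹ := by group
  have hwx : w * x * w⁻¹ = z := by
    calc w * x * w⁻¹ = a * (b * (a * x * (a : G)⁻¹) * b⁻¹) * (a : G)⁻¹ := by rw [hw]; group
      _ = a * (b * (z * x) * b⁻¹) * (a : G)⁻¹ := by rw [hax']
      _ = a * ((b * z * b⁻¹) * (b * x * b⁻¹)) * (a : G)⁻¹ := by group
      _ = a * ((x : G)⁻¹ * z * x) * (a : G)⁻¹ := by rw [hbz, hbx]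
      _ = a * z * (a : G)⁻¹ := by rw [hxiz]; group
      _ = z := haz
  have hw2 : (w * w) * z * (w * w)⁻¹ = (z : G)⁻¹ := by
    calc (w * w) * z * (w * w)⁻¹ = w * (w * z * w⁻¹) * w⁻¹ := by group
      _ = (w * x * w⁻¹)⁻¹ := by rw [hwz]; group
      _ = (z : G)⁻¹ := by rw [hwx]
  clear_value w
  refine ⟨z, w, hzo, hw2, ?_⟩
  have h4 : (w * w * (w * w)) * z * (w * w * (w * w))⁻¹ = z := by
    calc (w * w * (w * w)) * z * (w * w * (w * w))⁻¹ = (w * w) * ((w * w) * z * (w * w)⁻¹) * (w * w)⁻¹ := by group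
      _ = (w * w) * (z : G)⁻¹ * (w * w)⁻¹ := by rw [hw2]
      _ = ((w * w) * z * (w * w)⁻¹)⁻¹ := by simp only [mul_inv_rev, inv_inv, mul_assoc]
      _ = z := by rw [hw2, inv_inv]
  exact mul_inv_eq_iff_eq_mul.1 h4

/-- pass to the 2-part -/
theorem exists_two_element {G : Type*} [Group G] [Finite G] {z w : G}
    (h2 : (w * w) * z * (w * w)⁻¹ = z⁻¹) (h4 : w * w * (w * w) * z = z * (w * w * (w * w))) :
    ∃ t : G, (∃ k : ℕ, orderOf t = 2 ^ k) ∧ (t * t) * z * (t * t)⁻¹ = z⁻¹ := by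
  have hpos : orderOf w ≠ 0 := (orderOf_pos w).ne'
  obtain ⟨k, m, hm, ho⟩ := Nat.exists_eq_two_pow_mul_odd hpos
  obtain ⟨j, hj⟩ := hm
  refine ⟨w ^ m, ⟨k, ?_⟩, ?_⟩
  · rw [orderOf_pow' _ (by omega), ho, Nat.gcd_eq_right (Dvd.intro_left _ rfl)]
    exact Nat.mul_div_cancel _ (by omega)
  · have h1 : w ^ m * w ^ m = (w * w * (w * w)) ^ j * (w * w) := by
      have e2 : w * w = w ^ 2 := (pow_two w).symm
      have e1 : w ^ 2 * w ^ 2 = w ^ 4 := by rw [← pow_add]
      rw [e2, e1, ← pow_mul, ← pow_add, ← pow_add]; congr 1; omega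
    rw [h1]
    have h5 : Commute ((w * w * (w * w)) ^ j) z⁻¹ := ((show Commute (w * w * (w * w)) z from h4).pow_left j).inv_right
    calc (w * w * (w * w)) ^ j * (w * w) * z * ((w * w * (w * w)) ^ j * (w * w))⁻¹
        = (w * w * (w * w)) ^ j * ((w * w) * z * (w * w)⁻¹) * ((w * w * (w * w)) ^ j)⁻¹ := by group
      _ = (w * w * (w * w)) ^ j * z⁻¹ * ((w * w * (w * w)) ^ j)⁻¹ := by rw [h2]
      _ = z⁻¹ := by rw [h5.eq]; group

/-- Let G be a finite group in which, for every prime p, any two p-subgroups of the same order are conjugate. Then every Sylow subgroup of G is cyclic, elementary abelian, or a quaternion group of order 8. -/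
theorem result {G : Type*} [Group G] [Finite G]
    (hD : ∀ p : ℕ, p.Prime → ∀ H K : Subgroup G, IsPGroup p H → IsPGroup p K → Nat.card H = Nat.card K →
      ∃ g : G, K = H.map (MulAut.conj g).toMonoidHom) {p : ℕ} [Fact p.Prime] (P : Sylow p G) :
    IsCyclic P ∨ Cfsg.IsElementaryAbelian p (P : Subgroup G) ∨ Nonempty ((P : Subgroup G) ≃* QuaternionGroup 2) := by
  classical
  have hpp : p.Prime := Fact.out
  have : Fact (Nat.Prime 2) := ⟨Nat.prime_two⟩
  have hC := hD p hpp
  rcases Cfsg.Agent.S4023.result hC P with h | h | ⟨-, h⟩ | ⟨hp2, hnc, hcard, hexp⟩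
  · exact Or.inl h
  · exact Or.inr (Or.inl h)
  · exact Or.inr (Or.inr h)
  exfalso
  have hodd : Odd p := hpp.odd_of_ne_two hp2
  obtain ⟨z, w, hz, h2, h4⟩ := exists_inverter hC P hnc hcard hexp
  obtain ⟨t, ht, htz⟩ := exists_two_element h2 h4
  have hz1 : z ≠ 1 := by
    intro h; rw [h, orderOf_one] at hz; exact hpp.one_lt.ne hz
  have hzz : z⁻¹ ≠ z := by
    intro h
    have h1 : z ^ 2 = 1 := by rw [pow_two]; nth_rewrite 1 [← h]; exact inv_mul_cancel z
    have h3 := orderOf_dvd_of_pow_eq_one h1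
    rw [hz, Nat.prime_dvd_prime_iff_eq hpp Nat.prime_two] at h3
    exact hp2 h3
  -- a normal p-solvable subgroup of order divisible by p is impossible
  have hfin : ∀ N : Subgroup G, N.Normal → Group.IsSolvable N → ¬ p ∣ Nat.card N := by
    intro N hN hs hd
    have := hs
    exact hnc (Cfsg.Agent.S4024.result hp2 hC P N PLength.isPSolvable_of_isSolvable hd).1
  have hpG : p ∣ Nat.card G := by
    rw [← hz]; exact orderOf_dvd_natCard z
  have htt : t * t ≠ 1 := by
    intro h; rw [h] at htz; apply hzz; rw [← htz]; group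
  let S : Sylow 2 G := default
  obtain ⟨c, hc⟩ := SylowTools.conj_into_sylow S (H := zpowers t) (by
    obtain ⟨k, hk⟩ := ht
    exact IsPGroup.of_card (n := k) (by rw [Nat.card_zpowers, hk]))
  have hct := hc t (mem_zpowers t)
  rcases Cfsg.Agent.S4023.result (hD 2 Nat.prime_two) S with h | h | ⟨-, ⟨e⟩⟩ | ⟨h, -⟩
  · -- cyclic Sylow 2-subgroups
    obtain ⟨K, hK, hK2, k, hk⟩ := PNilp.hasNormalPComplement_iff.mp (QDFusion.npc_of_cyclic S h)
    have hKodd : Odd (Nat.card K) := by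
      rw [← Nat.not_even_iff_odd, even_iff_two_dvd]; exact hK2
    have : Group.IsSolvable K := Cfsg.Agent.S0205.result hKodd
    have : Group.IsSolvable (G ⧸ K) := by
      have : Group.IsNilpotent (G ⧸ K) := (IsPGroup.of_card (p := 2) (n := k) (by rw [← hk]; rfl)).isNilpotent
      infer_instance
    have : Group.IsSolvable G := Group.isSolvable_of_ker_le_range K.subtype (QuotientGroup.mk' K) (by simp)
    refine hfin ⊤ inferInstance inferInstance ?_
    rw [Subgroup.card_top]; exact hpG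
  · -- elementary abelian
    apply htt
    have h1 := h.2 _ hct
    rw [pow_two] at h1
    have h3 : c * (t * t) * c⁻¹ = 1 := by rw [← h1]; group
    have h5 : t * t = c⁻¹ * (c * (t * t) * c⁻¹) * c := by group
    rw [h5, h3]; group
  · -- quaternion
    set u : G := t * t with hu
    have q1 : ∀ g : QuaternionGroup 2, g = 1 ∨ g = QuaternionGroup.a 2 ∨ g * g = QuaternionGroup.a 2 := by decide
    have q2 : (QuaternionGroup.a 2 : QuaternionGroup 2) * QuaternionGroup.a 2 = 1 := by decide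
    have hu1 : c * u * c⁻¹ ≠ 1 := by
      intro h
      apply htt
      calc t * t = c⁻¹ * (c * u * c⁻¹) * c := by rw [hu]; group
        _ = 1 := by rw [h]; group
    have huS : c * u * c⁻¹ ∈ (S : Subgroup G) := by
      have : c * u * c⁻¹ = (c * t * c⁻¹) * (c * t * c⁻¹) := by rw [hu]; group
      rw [this]; exact mul_mem hct hct
    -- every involution of S is the preimage of a 2
    have hQ : ∀ y : (S : Subgroup G), y ≠ 1 → y * y = 1 → e y = QuaternionGroup.a 2 := by
      intro y hy hyy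
      rcases q1 (e y) with h | h | h
      · exact absurd (by simpa using h) hy
      · exact h
      · exfalso
        rw [← map_mul, hyy, map_one] at h
        exact absurd h (by decide)
    have huu : (c * u * c⁻¹) * (c * u * c⁻¹) = 1 := by
      have h1 : (⟨_, huS⟩ : (S : Subgroup G)) = ⟨_, hct⟩ * ⟨_, hct⟩ :=
        Subtype.ext (by show c * u * c⁻¹ = (c * t * c⁻¹) * (c * t * c⁻¹); rw [hu]; group)
      have h2 : e ⟨_, huS⟩ = QuaternionGroup.a 2 := by
        rw [h1, map_mul]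
        rcases q1 (e ⟨_, hct⟩) with h | h | h
        · exfalso
          have h3 : e (⟨_, huS⟩ : (S : Subgroup G)) = 1 := by rw [h1, map_mul, h, one_mul]
          have h4 : (⟨_, huS⟩ : (S : Subgroup G)) = 1 := by simpa using h3
          exact hu1 (congrArg Subtype.val h4)
        · exfalso
          have h3 : e (⟨_, huS⟩ : (S : Subgroup G)) = 1 := by rw [h1, map_mul, h, q2]
          have h4 : (⟨_, huS⟩ : (S : Subgroup G)) = 1 := by simpa using h3
          exact hu1 (congrArg Subtype.val h4)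
        · exact h
      have h3 : e (⟨_, huS⟩ * ⟨_, huS⟩ : (S : Subgroup G)) = 1 := by rw [map_mul, h2, q2]
      have h4 : (⟨_, huS⟩ * ⟨_, huS⟩ : (S : Subgroup G)) = 1 := by simpa using h3
      exact congrArg Subtype.val h4
    have hinv : InZStar 2 (c * u * c⁻¹) := by
      refine ZStarU.inZStar_of_sylow S huS ?_
      intro g hg
      have h1 : (⟨_, hg⟩ : (S : Subgroup G)) ≠ 1 := by
        intro h
        have h2 := congrArg Subtype.val h
        simp only [Subgroup.coe_one] at h2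
        apply hu1
        calc c * u * c⁻¹ = g⁻¹ * (g * (c * u * c⁻¹) * g⁻¹) * g := by group
          _ = 1 := by rw [h2]; group
      have h2 : (⟨_, hg⟩ : (S : Subgroup G)) * ⟨_, hg⟩ = 1 := by
        apply Subtype.ext
        show g * (c * u * c⁻¹) * g⁻¹ * (g * (c * u * c⁻¹) * g⁻¹) = 1
        calc g * (c * u * c⁻¹) * g⁻¹ * (g * (c * u * c⁻¹) * g⁻¹) = g * ((c * u * c⁻¹) * (c * u * c⁻¹)) * g⁻¹ := by group
          _ = 1 := by rw [huu]; group
      have h3 := hQ _ h1 h2
      have h4 := hQ ⟨_, huS⟩ (fun h => hu1 (congrArg Subtype.val h)) (Subtype.ext huu)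
      have h5 : (⟨_, hg⟩ : (S : Subgroup G)) = ⟨_, huS⟩ := e.injective (by rw [h3, h4])
      exact congrArg Subtype.val h5
    have hcore : (pPrimeCore 2 G).Normal := inferInstance
    have h1 : z * z ∈ pPrimeCore 2 G := by
      have h2 := hinv (c * z * c⁻¹)
      have h3 : c * z * c⁻¹ * (c * u * c⁻¹) * (c * z * c⁻¹)⁻¹ * (c * u * c⁻¹)⁻¹ =
          c * (z * (u * z * u⁻¹)⁻¹) * c⁻¹ := by group
      rw [h3, htz, inv_inv] at h2
      have h4 := hcore.conj_mem _ h2 c⁻¹
      have h5 : c⁻¹ * (c * (z * z) * c⁻¹) * c⁻¹⁻¹ = z * z := by group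
      rwa [h5] at h4
    have h2 : z ∈ pPrimeCore 2 G := by
      obtain ⟨k, hk⟩ := hodd
      have h3 : z = (z * z) ^ (k + 1) := by
        have h4 : z ^ (2 * k + 1) = 1 := by rw [← hk, ← hz]; exact pow_orderOf_eq_one z
        calc z = z ^ (2 * k + 1) * z := by rw [h4, one_mul]
          _ = (z * z) ^ (k + 1) := by rw [← pow_two, ← pow_mul, ← pow_succ]; congr 1
      rw [h3]; exact pow_mem h1 _
    have hodd2 : Odd (Nat.card (pPrimeCore 2 G)) := by
      have h3 := Cores.coprime_card_pPrimeCore 2 G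
      exact (Nat.coprime_two_right).1 h3
    refine hfin (pPrimeCore 2 G) inferInstance (Cfsg.Agent.S0205.result hodd2) ?_
    rw [← hz, ← Subgroup.orderOf_mk z h2]
    exact orderOf_dvd_natCard _
  · exact h rfl

end Cfsg.Agent.S4020
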