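import Cfsg.Statements.S0925
import Cfsg.Agent.Lib.BlockOrth

set_option autoImplicit false
open Cfsg

namespace Cfsg.Agent.S0925

/-- (i) Let ϑ be a class function on the finite group G and x a p-element, and suppose ϑ vanishes at every element whose p-part is conjugate to x. Then for every block B (relative to a maximal ideal M of the algebraic integers containing p) the B-part of ϑ — the sum over χ ∈ B of the inner product of ϑ with χ, times χ — also vanishes at every such element. (ii) Block orthogonality, its corollary: if the p-parts of g and h are not conjugate, then the sum over χ ∈ B of χ g * χ h⁻¹ is zero for every block B. -/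
theorem result {G : Type*} [Group G] [Finite G] (p : ℕ) [Fact p.Prime] (M : Ideal Cfsg.AlgInt) (hM : Cfsg.IsPModular p M) : (∀ (ϑ : G → ℂ), Cfsg.IsClassFunction G ϑ → ∀ x : G, (∃ k : ℕ, orderOf x = p ^ k) → (∀ u z : G, Cfsg.IsPPart p u z → IsConj x z → ϑ u = 0) → ∀ B : Set (Cfsg.IrrCharacter G), Cfsg.IsPBlock M B → ∀ u z : G, Cfsg.IsPPart p u z → IsConj x z → Cfsg.blockPart B ϑ u = 0) ∧ (∀ g h x y : G, Cfsg.IsPPart p g x → Cfsg.IsPPart p h y → ¬ IsConj x y → ∀ B : Set (Cfsg.IrrCharacter G), Cfsg.IsPBlock M B → ∑ᶠ χ ∈ B, (χ : G → ℂ) g * (χ : G → ℂ) h⁻¹ = 0) := by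
  classical
  have := Fintype.ofFinite G
  constructor
  · intro ϑ hϑ x _ h0 B hB u z hz hxz
    have key : ∀ a : G, ϑ a * ∑ χ ∈ (Set.toFinite B).toFinset,
        (starRingEnd ℂ ((χ : G → ℂ) a) * (χ : G → ℂ) u) = 0 := by
      intro a
      obtain ⟨y, hy⟩ := Lib.BlockSecond.exists_isPPart (p := p) Fact.out a
      by_cases hxy : IsConj x y
      · rw [h0 a y hy hxy, zero_mul]
      · have h1 := Lib.BlockOrth.block_orthogonality hM hB hz hy
          (fun h2 => hxy (hxz.trans h2))
        rw [finsum_mem_eq_finite_toFinset_sum _ (Set.toFinite B)] at h1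
        have h2 : ∑ χ ∈ (Set.toFinite B).toFinset,
            (starRingEnd ℂ ((χ : G → ℂ) a) * (χ : G → ℂ) u) = 0 := by
          refine Eq.trans ?_ h1
          refine Finset.sum_congr rfl fun χ _ => ?_
          rw [χ.2.inv, mul_comm]
        rw [h2, mul_zero]
    have h0' : (Fintype.ofFinite G) = ‹Fintype G› := Subsingleton.elim _ _
    rw [blockPart]
    show ∑ᶠ χ ∈ B, @classInner G _ (Fintype.ofFinite G) ϑ (χ : G → ℂ) * (χ : G → ℂ) u = 0
    rw [h0', finsum_mem_eq_finite_toFinset_sum _ (Set.toFinite B)]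
    have h1 : ∑ χ ∈ (Set.toFinite B).toFinset, classInner ϑ (χ : G → ℂ) * (χ : G → ℂ) u =
        (Nat.card G : ℂ)⁻¹ * ∑ a : G, ϑ a * ∑ χ ∈ (Set.toFinite B).toFinset,
        (starRingEnd ℂ ((χ : G → ℂ) a) * (χ : G → ℂ) u) := by
      simp only [Lib.CharBasic.classInner_def, Finset.mul_sum, Finset.sum_mul]
      rw [Finset.sum_comm]
      refine Finset.sum_congr rfl fun a _ => Finset.sum_congr rfl fun χ _ => ?_
      ring
    rw [h1, Finset.sum_eq_zero fun a _ => key a, mul_zero]
  · intro g h x y hx hy hxy B hB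
    exact Lib.BlockOrth.block_orthogonality hM hB hx hy hxy

end Cfsg.Agent.S0925
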