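import Cfsg.Statements.S3331
import Cfsg.Agent.Lib.C3XMain

set_option autoImplicit false
open Cfsg

namespace Cfsg.Agent.S3331

/-- Let G be a finite group containing a subgroup X of order 3 with C_G(X) = X. Then one of the following holds: G has a nilpotent normal subgroup N of order prime to 3 with G/N of order 3 or isomorphic to Sym(3); or G has an elementary abelian normal 2-subgroup N with G/N isomorphic to the alternating group of degree 5; or G is isomorphic to PSL(2,7). -/
theorem result {G : Type*} [Group G] [Finite G]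
    (X : Subgroup G) (hX : Nat.card X = 3) (hC : Subgroup.centralizer (X : Set G) = X) :
    (∃ (N : Subgroup G) (hN : N.Normal), Group.IsNilpotent N ∧ (Nat.card N).Coprime 3 ∧
        (Nat.card (G ⧸ N) = 3 ∨ Nonempty (G ⧸ N ≃* Equiv.Perm (Fin 3)))) ∨
    (∃ (N : Subgroup G) (hN : N.Normal), IsMulCommutative N ∧ (∀ n ∈ N, n ^ 2 = 1) ∧
        Nonempty (G ⧸ N ≃* alternatingGroup (Fin 5))) ∨
    Nonempty (G ≃* Matrix.ProjectiveSpecialLinearGroup (Fin 2) (ZMod 7)) := by
  have hne : Nontrivial X := Finite.one_lt_card_iff_nontrivial.1 (by rw [hX]; norm_num)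
  obtain ⟨x, hx1⟩ := exists_ne (1 : X)
  have : Fact (Nat.Prime 3) := ⟨Nat.prime_three⟩
  have ho : orderOf (x : G) = 3 := by
    rw [Subgroup.orderOf_coe]
    have h1 : orderOf x ∣ 3 := by rw [← hX]; exact orderOf_dvd_natCard x
    rcases (Nat.dvd_prime Nat.prime_three).1 h1 with h2 | h2
    · exact absurd (orderOf_eq_one_iff.1 h2) hx1
    · exact h2
  have hz : Subgroup.zpowers (x : G) = X := by
    apply Subgroup.eq_of_le_of_card_ge (Subgroup.zpowers_le.2 x.2)
    rw [hX, Nat.card_zpowers, ho]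
  have hs : Cfsg.Agent.Lib.C3X.SC (x : G) := by
    refine ⟨ho, fun g hg => ?_⟩
    rw [hz, ← hC, Subgroup.mem_centralizer_iff]
    intro y hy
    have hy' : y ∈ Subgroup.zpowers (x : G) := by rw [hz]; exact hy
    obtain ⟨k, rfl⟩ := hy'
    have h1 : Commute g (x : G) := hg
    exact (h1.zpow_right k).symm.eq
  rcases Cfsg.Agent.Lib.C3X.feit_thompson hs with ⟨N, hN, h1⟩ | ⟨N, hN, h1⟩ | h1
  · exact Or.inl ⟨N, hN, h1⟩
  · exact Or.inr (Or.inl ⟨N, hN, h1⟩)
  · exact Or.inr (Or.inr h1)

end Cfsg.Agent.S3331
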