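import Cfsg.Statements.S3341
import Cfsg.Agent.Lib.H25Nine2
import Cfsg.Agent.Lib.SmallSimple3
import Cfsg.Agent.S0497
-- import your own Cfsg.Agent.* helpers here

set_option autoImplicit false
open Cfsg

namespace Cfsg.Agent.S3341

open Cfsg.Agent.Lib

open Cfsg.Agent.Lib.H25Nine


/-- Let G be a finite simple group whose Sylow 3-subgroup S is elementary abelian of order 9, such that G has more than one conjugacy class of elements of order 3 and C_G(s) = S for every non-identity s in S. Then G is isomorphic to the alternating group of degree 6. -/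
theorem result {G : Type*} [Group G] [Finite G] [IsSimpleGroup G]
    (P : Sylow 3 G) (S : Subgroup G) (hSP : S = P) (hcomm : IsMulCommutative S) (hexp : ∀ a ∈ S, a ^ 3 = 1)
    (hcard : Nat.card S = 9)
    (hclasses : ∃ a b : G, orderOf a = 3 ∧ orderOf b = 3 ∧ ∀ g : G, g * a * g⁻¹ ≠ b)
    (hcent : ∀ s ∈ S, s ≠ 1 → Subgroup.centralizer ({s} : Set G) = S) :
    Nonempty (G ≃* alternatingGroup (Fin 6)) := by
  have hf3 : Fact (Nat.Prime 3) := ⟨Nat.prime_three⟩
  have hf19 : Fact (Nat.Prime 19) := ⟨by norm_num⟩
  have hN : Nine S :=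
    { sylow := ⟨P, hSP.symm⟩
      exp := hexp
      comm := fun s hs t ht => congrArg Subtype.val (hcomm.is_comm.comm (⟨s, hs⟩ : S) ⟨t, ht⟩)
      cent := fun s hs hs1 => by rw [hcent s hs hs1]; exact Subgroup.le_normalizer
      card := hcard
      cent' := hcent }
  have hS3 : 9 ∣ Nat.card G := by rw [← hcard]; exact Subgroup.card_subgroup_dvd_card S
  have h3 : 3 ∣ Nat.card G := Dvd.dvd.trans (by norm_num) hS3
  have hG : ¬ IsMulCommutative G := by
    apply SmallSimple.not_isMulCommutative_of_card rfl
    intro hp
    have h1 := (Nat.prime_dvd_prime_iff_eq Nat.prime_three hp).mp h3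
    rw [← h1] at hS3
    norm_num at hS3
  have hnn : ¬ S.Normal := by
    intro hn
    apply SmallSimple.nsyl_ne_one hG h3
    have h1 : Nat.card (Sylow 3 G) = (Subgroup.normalizer ((P : Subgroup G) : Set G)).index :=
      P.card_eq_index_normalizer
    rw [h1, ← hSP, Subgroup.normalizer_eq_top_iff.mpr hn, Subgroup.index_top]
  obtain ⟨a, b, hao, hbo, hab⟩ := hclasses
  obtain ⟨g, hg⟩ := hN.exists_conj_mem hao
  obtain ⟨g', hg'⟩ := hN.exists_conj_mem hbo
  set a' := g * a * g⁻¹ with ha'
  set b' := g' * b * g'⁻¹ with hb'
  have ca : IsConj a a' := isConj_iff.mpr ⟨g, rfl⟩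
  have cb : IsConj b b' := isConj_iff.mpr ⟨g', rfl⟩
  have nab : ¬ IsConj a' b' := by
    intro h
    obtain ⟨x, hx⟩ := isConj_iff.mp ((ca.trans h).trans cb.symm)
    exact hab x hx
  have ha1 : a' ≠ 1 := by
    intro h
    rw [h, isConj_one_left] at ca
    rw [ca] at hao
    simp at hao
  have hb1 : b' ≠ 1 := by
    intro h
    rw [h, isConj_one_left] at cb
    rw [cb] at hbo
    simp at hbo
  have oa := hN.card_orbit hg ha1
  have ob := hN.card_orbit hg' hb1
  have hidx := hN.index_mod
  rw [hcard] at hidx
  have hcm := (Subgroup.normalizer (S : Set G)).index_mul_card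
  -- two disjoint orbits in `S \ {1}`
  have hle : Nat.card {u : S // IsConj a' (u : G)} + Nat.card {u : S // IsConj b' (u : G)} ≤ 8 := by
    classical
    have := Fintype.ofFinite S
    rw [Nat.card_eq_fintype_card, Nat.card_eq_fintype_card, Fintype.card_subtype, Fintype.card_subtype,
      ← Finset.card_union_of_disjoint]
    · have h1 : (Finset.univ.filter fun u : S => IsConj a' (u : G)) ∪
          (Finset.univ.filter fun u : S => IsConj b' (u : G)) ⊆ Finset.univ.erase (1 : S) := by
        intro u hu
        rw [Finset.mem_erase]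
        refine ⟨?_, Finset.mem_univ _⟩
        rintro rfl
        rcases Finset.mem_union.mp hu with h | h
        · have h2 := (Finset.mem_filter.mp h).2
          rw [OneMemClass.coe_one, isConj_one_left] at h2
          exact ha1 h2
        · have h2 := (Finset.mem_filter.mp h).2
          rw [OneMemClass.coe_one, isConj_one_left] at h2
          exact hb1 h2
      refine (Finset.card_le_card h1).trans ?_
      rw [Finset.card_erase_of_mem (Finset.mem_univ _), Finset.card_univ, ← Nat.card_eq_fintype_card, hcard]
    · rw [Finset.disjoint_left]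
      intro u hu hu'
      exact nab ((Finset.mem_filter.mp hu).2.trans (Finset.mem_filter.mp hu').2.symm)
  have heq : Nat.card {u : S // IsConj a' (u : G)} = Nat.card {u : S // IsConj b' (u : G)} := by omega
  have hpos : 0 < Nat.card {u : S // IsConj a' (u : G)} := by
    have : Nonempty {u : S // IsConj a' (u : G)} := ⟨⟨⟨a', hg⟩, IsConj.refl _⟩⟩
    exact Nat.card_pos
  -- the index of `S` in its normalizer is not 3
  have hS9 : ¬ 27 ∣ Nat.card G := by
    intro h27
    have h1 : 3 ^ 3 ∣ Nat.card (P : Subgroup G) := by
      have := P.pow_dvd_card_of_pow_dvd_card (n := 3) (by norm_num; exact h27)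
      exact this
    rw [← hSP, hcard] at h1
    norm_num at h1
  generalize hE : Nat.card {u : S // IsConj a' (u : G)} = e at *
  have he4 : e ≤ 4 := by omega
  have hn1 : (Subgroup.normalizer (S : Set G)).index ≠ 1 := fun h => hnn (hN.normal_of_index h)
  interval_cases e
  · -- e = 1 : Burnside
    exfalso
    apply SmallSimple.not_normalizer_le_centralizer hG h3 P
    rw [← hSP]
    have h1 : Subgroup.normalizer (S : Set G) = S := by
      symm
      apply Subgroup.eq_of_le_of_card_ge Subgroup.le_normalizer
      rw [hcard]; omega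
    rw [h1]
    intro s hs
    rw [Subgroup.mem_centralizer_iff]
    intro t ht
    exact hN.comm t ht s hs
  · exact absurd (hN.two (by omega)) hnn
  · exfalso
    apply hS9
    rw [← hcm]
    exact Dvd.dvd.mul_left (by rw [← oa]) _
  · have h4 : Nat.card (Subgroup.normalizer (S : Set G)) = 36 := by omega
    have h5 := hN.four h4
    rw [h4] at hcm
    obtain ⟨k, hk⟩ := hidx
    have h6 : Nat.card G = 360 ∨ Nat.card G = 684 := by omega
    rcases h6 with h6 | h6
    · exact Cfsg.Agent.S0497.result h6
    · exfalso
      have h7 := SmallSimple.nsyl_dvd (p := 19) (k := 1) (m := 36) (G := G) (by rw [h6]; norm_num) (by norm_num)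
      have h8 := SmallSimple.nsyl_mod 19 G
      have h9 := SmallSimple.nsyl_ne_one hG (p := 19) (by rw [h6]; norm_num)
      have h10 : Nat.card (Sylow 19 G) ≤ 36 := Nat.le_of_dvd (by norm_num) h7
      generalize Nat.card (Sylow 19 G) = n at *
      have h11 : n = 20 := by omega
      rw [h11] at h7
      norm_num at h7

end Cfsg.Agent.S3341
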