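import Cfsg.Statements.S3206
import Cfsg.Agent.Lib.H53Ree4
import Cfsg.Agent.Lib.ClSLn
import Mathlib

set_option autoImplicit false
open Cfsg

namespace Cfsg.Agent.S3206

open Cfsg.Agent.Lib.H53Ree Cfsg.Agent.Lib.H53PSL2

theorem isSimple_psl {F : Type*} [Field F] [Fintype F] (hF3 : 3 < Fintype.card F) :
    IsSimpleGroup (Matrix.ProjectiveSpecialLinearGroup (Fin 2) F) := by
  classical
  apply Lib.ClSLn.isSimpleGroup_PSL le_rfl
  intro _
  by_contra hcon
  push Not at hcon
  have h1 : (Finset.univ : Finset F) ⊆ {0, 1, -1} := by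
    intro a _
    by_cases ha : a = 0
    · simp [ha]
    · have h2 : (a - 1) * (a + 1) = 0 := by linear_combination hcon a ha
      rcases mul_eq_zero.1 h2 with h3 | h3
      · simp [sub_eq_zero.1 h3]
      · simp [eq_neg_of_add_eq_zero_left h3]
  have h2 := Finset.card_le_card h1
  rw [Finset.card_univ] at h2
  have h3 : ({0, 1, -1} : Finset F).card ≤ 3 := Finset.card_le_three
  omega

theorem two_ne {F : Type*} [Field F] [Fintype F] (hFo : Odd (Fintype.card F)) : (2 : F) ≠ 0 := by
  intro h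
  have hc : CharP F 2 := CharTwo.of_one_ne_zero_of_two_eq_zero one_ne_zero h
  have h1 : ringChar F = 2 := ringChar.eq F 2 ▸ rfl
  have h2 := FiniteField.even_card_of_char_two h1
  rw [Nat.odd_iff] at hFo
  omega

theorem conf {G : Type*} [Group G] [Finite G]
    (hab : ∀ S : Sylow 2 G, IsMulCommutative ↥(S : Subgroup G))
    (t : G) (ht : orderOf t = 2)
    (E : Subgroup G) (hE : Cfsg.IsInternalDirectProduct (Subgroup.zpowers t) E (Subgroup.centralizer ({t} : Set G)))
    {F : Type*} [Field F] [Fintype F] (hFo : Odd (Fintype.card F))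
    (N : Subgroup ↥E) [hNn : N.Normal] (e : ↥N ≃* Matrix.ProjectiveSpecialLinearGroup (Fin 2) F)
    (hNc : Subgroup.centralizer (N : Set ↥E) = ⊥) :
    Conf t ((E.subtype.comp N.subtype).comp e.symm.toMonoidHom) := by
  obtain ⟨h1, h2, h3, h4, h5⟩ := hE
  have hιE : ∀ y, ((E.subtype.comp N.subtype).comp e.symm.toMonoidHom) y = ((e.symm y : E) : G) := fun y => rfl
  have hmem : ∀ y, ((e.symm y : E) : G) ∈ E := fun y => (e.symm y : E).2
  have htz : t ∈ Subgroup.zpowers t := Subgroup.mem_zpowers t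
  have htt : t * t = 1 := by rw [← pow_two, ← ht]; exact pow_orderOf_eq_one t
  have ht1 : t ≠ 1 := by rintro rfl; simp at ht
  have hz2 : ∀ m : ℤ, t ^ m = 1 ∨ t ^ m = t := by
    intro m
    rcases Int.even_or_odd m with ⟨k, hk⟩ | ⟨k, hk⟩
    · left; rw [hk, ← two_mul, zpow_mul]
      have : t ^ (2 : ℤ) = 1 := by rw [zpow_ofNat, pow_two, htt]
      rw [this, one_zpow]
    · right; rw [hk, zpow_add, zpow_mul]
      have : t ^ (2 : ℤ) = 1 := by rw [zpow_ofNat, pow_two, htt]
      rw [this, one_zpow, one_mul, zpow_one]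
  -- decomposition of the centralizer
  have hdec : ∀ c, c * t = t * c → ∃ u : G, ∃ x : E, (u = 1 ∨ u = t) ∧ c = u * x := by
    intro c hc
    have hc' : c ∈ Subgroup.zpowers t ⊔ E := by rw [h5]; exact Subgroup.mem_centralizer_singleton_iff.2 hc
    obtain ⟨u, hu, x, hx, hux⟩ := (Lib.SubgroupTools.mem_sup_of_le_normalizer (N := Subgroup.zpowers t) (H := E) (by
      intro x hx
      apply Subgroup.centralizer_le_normalizer
      rw [Subgroup.mem_centralizer_iff]
      intro y hy
      exact h3 y hy x hx)).1 hc'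
    obtain ⟨m, rfl⟩ := hu
    exact ⟨t ^ m, ⟨x, hx⟩, hz2 m, hux.symm⟩
  have hucomm : ∀ u : G, (u = 1 ∨ u = t) → ∀ x : E, u * (x : G) = x * u := by
    rintro u (rfl | rfl) x
    · simp
    · exact h3 _ htz x x.2
  refine
    { ab := ?_
      tt := htt
      t1 := ht1
      inj := ?_
      comm := ?_
      norm := ?_
      cent := ?_
      nt := ?_
      h2 := two_ne hFo }
  · intro S x hx y hy
    exact congrArg Subtype.val ((hab S).is_comm.comm (⟨x, hx⟩ : (S : Subgroup G)) ⟨y, hy⟩)
  · intro x y hxy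
    apply e.symm.injective
    exact Subtype.ext (Subtype.ext hxy)
  · intro y
    exact h3 t htz _ (hmem y)
  · intro c hc y
    obtain ⟨u, x, hu, rfl⟩ := hdec c hc
    have hn := hNn.conj_mem (e.symm y : E) (e.symm y).2 x
    refine ⟨e ⟨_, hn⟩, ?_⟩
    rw [hιE, hιE, e.symm_apply_apply]
    show u * x * ((e.symm y : E) : G) * (u * x)⁻¹ = (x : G) * ((e.symm y : E) : G) * (x : G)⁻¹
    have h6 := hucomm u hu (x * (e.symm y : E) * x⁻¹)
    calc u * x * ((e.symm y : E) : G) * (u * x)⁻¹ = (u * ((x * (e.symm y : E) * x⁻¹ : E) : G)) * u⁻¹ := by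
          push_cast; group
      _ = ((x * (e.symm y : E) * x⁻¹ : E) : G) := by rw [h6]; group
      _ = _ := by push_cast; rfl
  · intro c hc hcy
    obtain ⟨u, x, hu, rfl⟩ := hdec c hc
    have hx : x ∈ Subgroup.centralizer (N : Set ↥E) := by
      rw [Subgroup.mem_centralizer_iff]
      intro n hn
      have h6 := hcy (e ⟨n, hn⟩)
      rw [hιE, e.symm_apply_apply] at h6
      apply Subtype.ext
      show (n : G) * x = x * n
      have h7 := hucomm u hu n
      have h8 : u * (x : G) * n = n * (u * x) := h6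
      have h9 : u * ((x : G) * n) = u * (n * x) := by
        rw [← mul_assoc, h8, ← mul_assoc, ← h7, mul_assoc]
      exact (mul_left_cancel h9).symm
    rw [hNc, Subgroup.mem_bot] at hx
    rw [hx, Subgroup.coe_one, mul_one]
    exact hu
  · intro y hy
    have : t ∈ Subgroup.zpowers t ⊓ E := Subgroup.mem_inf.2 ⟨htz, by rw [← hy]; exact hmem y⟩
    rw [h4, Subgroup.mem_bot] at this
    exact ht1 this

/-- Let G be a non-abelian finite simple group with abelian Sylow 2-subgroups, and let t be an involution of G whose centralizer is a maximal subgroup of G and is the direct product of the subgroup generated by t with a subgroup E having a normal subgroup isomorphic to PSL(2, q), q odd and greater than 3, with trivial centralizer in E. Then every finite perfect group having a central 2-subgroup with quotient isomorphic to G has that central subgroup trivial (G has no nontrivial perfect central extension by a 2-group), and every automorphism of G of 2-power order that fixes every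 element of some Sylow 2-subgroup of G is inner. -/
theorem result {G : Type*} [Group G] [Finite G] [IsSimpleGroup G]
    (hG : ¬ IsMulCommutative G) (hab : ∀ S : Sylow 2 G, IsMulCommutative ↥(S : Subgroup G))
    (t : G) (ht : orderOf t = 2) (hmax : IsCoatom (Subgroup.centralizer ({t} : Set G)))
    (E : Subgroup G) (hE : Cfsg.IsInternalDirectProduct (Subgroup.zpowers t) E (Subgroup.centralizer ({t} : Set G)))
    {F : Type*} [Field F] [Fintype F] (hFo : Odd (Fintype.card F)) (hF3 : 3 < Fintype.card F)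
    (N : Subgroup ↥E) [N.Normal] (hN : Nonempty (↥N ≃* Matrix.ProjectiveSpecialLinearGroup (Fin 2) F))
    (hNc : Subgroup.centralizer (N : Set ↥E) = ⊥) :
    (∀ (L : Type) (_ : Group L) (_ : Finite L) (Z : Subgroup L) (_ : Z.Normal), commutator L = ⊤ → Z ≤ Subgroup.center L →
        IsPGroup 2 ↥Z → Nonempty (L ⧸ Z ≃* G) → Z = ⊥) ∧
    (∀ (φ : G ≃* G) (k : ℕ), φ ^ (2 ^ k) = 1 → (∃ S : Sylow 2 G, ∀ s ∈ (S : Subgroup G), φ s = s) →
        ∃ g : G, ∀ x : G, φ x = g * x * g⁻¹) := by
  classical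
  have : Fact (Nat.Prime 2) := ⟨Nat.prime_two⟩
  obtain ⟨e⟩ := hN
  have C := conf hab t ht E hE hFo N e hNc
  set ι := (E.subtype.comp N.subtype).comp e.symm.toMonoidHom with hι
  have hsimple := isSimple_psl (F := F) hF3
  obtain ⟨a, b, h⟩ := Lib.H53SL2.exists_sum_two_sq (-1 : F)
  obtain ⟨S, hT, hI, hJ⟩ := C.exists_sylow h
  have hSab : IsMulCommutative (S : Subgroup G) := hab S
  obtain ⟨r1, r2, r3, r4, r5, r6, r7, r8, r9, r10, r11, r12⟩ := C.rel h
  have hlist := C.mem_sylow h S hT hI hJ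
  have hconj := conj_all hG S hSab t (II ι) (JJ ι h) (WW ι C.h2 h) hT hI hJ C.tt r1 r2 C.t1 r3 r4 r5 r6 r7 r8
    r9 r10 r11 hlist
  have inv_of : ∀ {x : G}, x * x = 1 → x⁻¹ = x := fun hx => by rw [inv_eq_iff_mul_eq_one]; exact hx
  refine ⟨?_, ?_⟩
  · intro L _ _ Z hZn hperf hZ hZ2 ⟨f⟩
    have hcm := C.ab S
    have hIJ : II ι * JJ ι h ∈ (S : Subgroup G) := mul_mem hI hJ
    have hprod : ∀ x ∈ (S : Subgroup G), ∀ y ∈ (S : Subgroup G), x * x = 1 → y * y = 1 → (x * y) * (x * y) = 1 := by
      intro x hx y hy h1 h2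
      calc (x * y) * (x * y) = x * (y * x) * y := by group
        _ = (x * x) * (y * y) := by rw [hcm y hy x hx]; group
        _ = 1 := by rw [h1, h2, mul_one]
    refine ext_trivial S ?_ t (II ι) (JJ ι h) hT hI hJ C.t1 r3 r4 ?_ ?_ ?_ ?_ hconj Z hperf hZ hZ2 f
    · intro s hs
      rcases hlist s hs with rfl | rfl | rfl | rfl | rfl | rfl | rfl | rfl
      · simp
      · exact r1
      · exact r2
      · exact hprod _ hI _ hJ r1 r2
      · exact C.tt
      · exact hprod _ hT _ hI C.tt r1
      · exact hprod _ hT _ hJ C.tt r2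
      · exact hprod _ hT _ hIJ C.tt (hprod _ hI _ hJ r1 r2)
    · intro hh
      exact r5 (by rw [eq_inv_of_mul_eq_one_left hh, inv_of r2])
    · intro hh
      exact r6 (by rw [eq_inv_of_mul_eq_one_left hh, inv_of r1])
    · intro hh
      exact r7 (by rw [eq_inv_of_mul_eq_one_left hh, inv_of r2])
    · intro hh
      exact r8 (by rw [eq_inv_of_mul_eq_one_left hh, inv_of (hprod _ hI _ hJ r1 r2)])
  · rintro φ k hφ ⟨S0, hS0⟩
    obtain ⟨g, hg⟩ := MulAction.exists_smul_eq G S0 S
    have hgS : ∀ s ∈ (S : Subgroup G), g⁻¹ * s * g ∈ (S0 : Subgroup G) := by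
      intro s hs
      rw [← hg] at hs
      exact (Lib.H32Basic.mem_sylow_smul_iff g s S0).1 hs
    set φ' : MulAut G := φ with hφ'
    set ψ : MulAut G := MulAut.conj g * φ' * (MulAut.conj g)⁻¹ with hψ
    have hψk : ψ ^ 2 ^ k = 1 := by
      have hφ1 : φ' ^ 2 ^ k = 1 := hφ
      rw [hψ, conj_pow, hφ1, mul_one, mul_inv_cancel]
    have hψS : ∀ s ∈ (S : Subgroup G), ψ s = s := by
      intro s hs
      rw [hψ, MulAut.mul_apply, MulAut.mul_apply, ← map_inv, MulAut.conj_apply, MulAut.conj_apply, inv_inv]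
      have := hS0 _ (hgS s hs)
      have h2 : φ' (g⁻¹ * s * g) = g⁻¹ * s * g := this
      rw [h2]; group
    obtain ⟨x, hx⟩ := C.inner hG hmax h S hT hI hJ ψ k hψk hψS
    refine ⟨g⁻¹ * x * g, fun y => ?_⟩
    have h3 : φ' = (MulAut.conj g)⁻¹ * ψ * MulAut.conj g := by rw [hψ]; group
    have h4 : φ y = φ' y := rfl
    rw [h4, h3, hx, MulAut.mul_apply, MulAut.mul_apply, ← map_inv, MulAut.conj_apply, MulAut.conj_apply,
      MulAut.conj_apply]
    group

end Cfsg.Agent.S3206
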