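import Cfsg.Statements.S1138
import Cfsg.Agent.Lib.HigmanCard

set_option autoImplicit false
open Cfsg

namespace Cfsg.Agent.S1138

/-- Let `P` be a Suzuki 2-group with `|Z(P)| = q`. Then every square lies in `Z(P)` and `P/Z(P)` is abelian (so elementary abelian), `|P| = q²` or `|P| = q³`, and `P` has exponent 4. -/
theorem result {P : Type*} [Group P] (hP : Cfsg.IsSuzukiTwoGroup P) :
    (∀ x : P, x * x ∈ Subgroup.center P) ∧ (∀ x y : P, x⁻¹ * y⁻¹ * x * y ∈ Subgroup.center P) ∧
      (Nat.card P = Nat.card (Subgroup.center P) ^ 2 ∨ Nat.card P = Nat.card (Subgroup.center P) ^ 3) ∧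
      Monoid.exponent P = 4 := by
  obtain ⟨K, _, φ, _, -, h, hna⟩ := Lib.HigmanBase.exists_hyp hP
  have hc := h.center_eq hna
  obtain ⟨F, _, ι, χ, _, _, f⟩ := h.exists_fld
  refine ⟨fun x => ?_, fun x y => ?_, ?_, h.exponent hna⟩
  · rw [hc]; exact h.sq_mem hna x
  · rw [hc]
    have := h.comm_mem hna x⁻¹ y⁻¹
    rw [commutatorElement_def, inv_inv, inv_inv] at this
    exact this
  · rw [hc, f.card_Z h]
    exact h.card_eq hna f

end Cfsg.Agent.S1138
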