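import Cfsg.Statements.S0346
import Cfsg.Agent.Lib.ZassReg
import Cfsg.Agent.Lib.ZassOdd
import Cfsg.Agent.S0738
import Cfsg.Agent.S0742
import Cfsg.Agent.S0885

set_option autoImplicit false
open Cfsg

namespace Cfsg.Agent.S0346

/-- The number of points of a finite simple Zassenhaus group is `p^k + 1` for some prime power `p^k` (the regular normal
subgroup of a point stabiliser is a `p`-group). -/
theorem result {G Ω : Type*} [Group G] [Finite G] [MulAction G Ω] [Fintype Ω]
    (hZ : Cfsg.IsZassenhausGroup G Ω) [IsSimpleGroup G] :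
    IsPrimePow (Fintype.card Ω - 1) := by
  classical
  have h3 := Lib.ZassKernel.three_le_card hZ
  rw [Nat.card_eq_fintype_card] at h3
  obtain ⟨a⟩ : Nonempty Ω := by rw [← Fintype.card_pos_iff]; omega
  obtain ⟨b, hab⟩ := Lib.ZassOdd.exists_ne_of_zass hZ a
  obtain ⟨H, hHa, hHcard, hHfix⟩ := Lib.ZassOdd.exists_kernel hZ a
  have hreg := Lib.ZassReg.reg_of_kernel H hHa hHcard hHfix
  have hn := Lib.ZassReg.normal_of_kernel hZ H hHa hHcard hHfix
  have hpow : ∀ p f : ℕ, p.Prime → Fintype.card Ω = p ^ f + 1 →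
      IsPrimePow (Fintype.card Ω - 1) := by
    intro p f hp h
    have hf : f ≠ 0 := by
      rintro rfl
      rw [pow_zero] at h
      omega
    rw [h, Nat.add_sub_cancel]
    exact hp.isPrimePow.pow hf
  by_cases hd : Fintype.card Ω - 2 ≤
      2 * Nat.card ↥(MulAction.stabilizer G a ⊓ MulAction.stabilizer G b)
  · obtain ⟨-, p, f, hp, -, h⟩ := Cfsg.Agent.S0738.result hZ hab hd H hHa hn
      (fun y z hy hz => hreg y z hy hz)
    exact hpow p f hp h
  · rcases Nat.even_or_odd (Nat.card ↥(MulAction.stabilizer G a ⊓ MulAction.stabilizer G b))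
      with he | ho
    · obtain ⟨p, f, K, _, _, hp, -, -, h, -⟩ := Cfsg.Agent.S0742.result hZ hab he (by omega)
      exact hpow p f hp h
    · have hHc : Nat.card H + 1 = Fintype.card Ω := by rw [hHcard, Nat.card_eq_fintype_card]
      rcases Cfsg.Agent.S0885.result hZ hab (Nat.card H) _ hHc.symm rfl ho H hHa hHc hHfix with
        h | ⟨h, -, -⟩
      · exact absurd (show Fintype.card Ω - 2 ≤ _ by omega) hd
      · obtain ⟨k, hk⟩ := IsPGroup.iff_card.1 h
        exact hpow 2 k Nat.prime_two (by rw [← hHc, hk])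

end Cfsg.Agent.S0346
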