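import Cfsg.Statements.S1946
import Cfsg.Agent.Lib.MinPair
import Cfsg.Agent.Lib.Transfer

set_option autoImplicit false
open Cfsg

namespace Cfsg.Agent.S1946

open Cfsg.Agent.Lib.CFSylow Cfsg.Agent.Lib.MinPair
open scoped commutatorElement

/-- Let P be a Sylow p-subgroup of the finite group G. Then G has a normal p-complement if and only if P controls the fusion of its elements of order dividing p (dividing 4 when p = 2): whenever such an element a of P has a G-conjugate g a g⁻¹ in P, that conjugate is already x a x⁻¹ for some x in P. -/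
theorem result {G : Type*} [Group G] [Finite G] {p : ℕ} [Fact p.Prime] (P : Sylow p G) :
    Cfsg.HasNormalPComplement p G ↔
      ∀ a ∈ (P : Subgroup G), (a ^ p = 1 ∨ (p = 2 ∧ a ^ 4 = 1)) → ∀ g : G, g * a * g⁻¹ ∈ (P : Subgroup G) →
        ∃ x ∈ (P : Subgroup G), g * a * g⁻¹ = x * a * x⁻¹ := by
  constructor
  · intro h a ha _ g hg
    obtain ⟨z, hz, hz'⟩ := Cfsg.Agent.Lib.Transfer.ownFusion_of_hasNormalPComplement P h g
    exact ⟨z, hz, (hz' a ha hg).symm⟩
  · intro hctl
    rw [Cfsg.Agent.Lib.Transfer.hasNormalPComplement_iff_forall_centralizer]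
    intro Q hQ g hg hgo
    by_contra hnc
    obtain ⟨R₀, hRQ, hgR₀, hnR₀, hR₀, hexp₀, -⟩ := minimal_pair hQ hgo hg hnc
    -- conjugate into `P`
    obtain ⟨y, -, hy⟩ := (sylIn_sylow P).exists_conj_le (hQ.to_le hRQ) le_top
    have hctl' : ∀ a ∈ R₀, ∀ h ∈ Subgroup.zpowers g, ∃ x ∈ (P : Subgroup G),
        y * (h * a * h⁻¹) * y⁻¹ = x * (y * a * y⁻¹) * x⁻¹ := by
      intro a ha h hh
      have hhR : h ∈ nz R₀ := (Subgroup.zpowers_le.2 hgR₀) hh
      have h1 : h * a * h⁻¹ ∈ R₀ := le_normalizer_iff.1 (le_refl (nz R₀)) h hhR a ha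
      have h2 : y * (h * a * h⁻¹) * y⁻¹ ∈ (P : Subgroup G) := hy (conj_mem_cj h1)
      obtain ⟨x, hx, hxe⟩ := hctl (y * a * y⁻¹) (hy (conj_mem_cj ha)) (by
        rcases hexp₀ a ha with h | ⟨h, h'⟩
        · left; rw [conj_pow, h]; group
        · right; exact ⟨h, by rw [conj_pow, h']; group⟩) (y * h * y⁻¹) (by
        have e : y * h * y⁻¹ * (y * a * y⁻¹) * (y * h * y⁻¹)⁻¹ = y * (h * a * h⁻¹) * y⁻¹ := by group
        rw [e]; exact h2)
      refine ⟨x, hx, ?_⟩
      rw [← hxe]; group
    have key : ∀ n : ℕ, cj y R₀ ≤ (P : Subgroup G).lowerCentralSeries n := by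
      intro n
      induction n with
      | zero => exact hy
      | succ n ih =>
        have h1 : cj y R₀ = ⁅cj y R₀, cj y (Subgroup.zpowers g)⁆ := by
          rw [← cj_commutator]
          refine le_antisymm (cj_mono hR₀) (cj_mono ?_)
          rw [Subgroup.commutator_le]
          intro x hx h hh
          have hhR : h ∈ nz R₀ := (Subgroup.zpowers_le.2 hgR₀) hh
          have e : ⁅x, h⁆ = x * (h * x⁻¹ * h⁻¹) := by rw [commutatorElement_def]; group
          rw [e]
          exact mul_mem hx (le_normalizer_iff.1 (le_refl (nz R₀)) h hhR _ (inv_mem hx))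
        rw [h1, Subgroup.commutator_le]
        rintro _ ⟨a, ha, rfl⟩ _ ⟨h, hh, rfl⟩
        obtain ⟨x, hx, hxe⟩ := hctl' a ha h hh
        have ha' : y * a * y⁻¹ ∈ (P : Subgroup G).lowerCentralSeries n := ih (conj_mem_cj ha)
        have e : ⁅(MulAut.conj y).toMonoidHom a, (MulAut.conj y).toMonoidHom h⁆ =
            ⁅y * a * y⁻¹, x⁆ := by
          calc ⁅(MulAut.conj y).toMonoidHom a, (MulAut.conj y).toMonoidHom h⁆
              = (y * a * y⁻¹) * (y * (h * a * h⁻¹) * y⁻¹)⁻¹ := by
                simp only [MulEquiv.toMonoidHom_eq_coe, MonoidHom.coe_coe, MulAut.conj_apply,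
                  commutatorElement_def]
                group
            _ = (y * a * y⁻¹) * (x * (y * a * y⁻¹) * x⁻¹)⁻¹ := by rw [hxe]
            _ = ⁅y * a * y⁻¹, x⁆ := by rw [commutatorElement_def]; group
        rw [e]
        change ⁅y * a * y⁻¹, x⁆ ∈ ⁅(P : Subgroup G).lowerCentralSeries n, (P : Subgroup G)⁆
        exact Subgroup.commutator_mem_commutator ha' hx
    have hnil : Group.IsNilpotent ↥(P : Subgroup G) := P.isPGroup'.isNilpotent
    obtain ⟨n, hn⟩ := (Subgroup.isNilpotent_iff_lowerCentralSeries (P : Subgroup G)).1 hnil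
    apply hnR₀
    rw [mem_centralizer]
    intro a ha
    have h1 := key n (conj_mem_cj ha)
    rw [hn, Subgroup.mem_bot] at h1
    have h2 : a = 1 := by
      have : y * a * y⁻¹ = y * 1 * y⁻¹ := by rw [h1]; group
      exact mul_left_cancel (mul_right_cancel this)
    rw [h2]; group

end Cfsg.Agent.S1946
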