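import Cfsg.Statements.S4611
import Cfsg.Agent.Lib.BlockInfl
import Cfsg.Agent.Lib.Fitting
import Cfsg.Agent.Lib.Cores
import Cfsg.Agent.Lib.DefectZero
-- import your own Cfsg.Agent.* helpers here

set_option autoImplicit false
open Cfsg

namespace Cfsg.Agent.S4611

open Cfsg Cfsg.Agent.Lib Cfsg.Agent.Lib.BlockRing Cfsg.Agent.Lib.BlockGA Cfsg.Agent.Lib.BlockIdem
open Cfsg.Agent.Lib.CharBasic Cfsg.Agent.Lib.BlockInfl Cfsg.Agent.Lib.Cores

universe u

theorem mem_principal_iff {G : Type u} [Group G] [Finite G] [Group.IsSolvable G] {p : ℕ} (hp : p.Prime)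
    {M : Ideal AlgInt} (hM : IsPModular p M) (χ : IrrCharacter G) :
    χ ∈ principalBlock M G ↔ ∀ n ∈ pPrimeCore p G, (χ : G → ℂ) n = (χ : G → ℂ) 1 := by
  have := Fact.mk hp
  have hcop : ¬ p ∣ Nat.card (pPrimeCore p G) := by
    have := (coprime_card_pPrimeCore p G).symm
    exact (Nat.Prime.coprime_iff_not_dvd hp).mp this
  constructor
  · intro h
    exact BlockCore.ker_of_principal hM hcop h
  · intro h
    obtain ⟨ψ, hψ, hh⟩ := χ.2.deflate _ h
    have h1 : (⟨fun x : G => ψ (x : G ⧸ pPrimeCore p G), hψ.inflate _⟩ : IrrCharacter G) = χ :=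
      Subtype.ext (funext hh)
    rw [← h1]
    have h2 := inflate_mem_principal_iff hM (pPrimeCore p G) hcop (ψ := ⟨ψ, hψ⟩)
    refine h2.mpr ?_
    exact mem_principal_of_centralizer_le hM (isPGroup_pCore p _)
      (Fitting.centralizer_pCore_le_of_solvable p (pPrimeCore_quotient_pPrimeCore p G)) _

theorem eq_one_of_const {G : Type u} [Group G] [Finite G] (χ : IrrCharacter G)
    (h : ∀ g, (χ : G → ℂ) g = (χ : G → ℂ) 1) : (χ : G → ℂ) = fun _ => 1 := by
  classical
  have := Fintype.ofFinite G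
  have h1 := χ.2.classInner_self
  rw [classInner] at h1
  obtain ⟨n, hn⟩ : ∃ n : ℕ, (χ : G → ℂ) 1 = n := ⟨_, (DefectZero.charDegree_eq χ.2.isCharacter).symm⟩
  simp only [h, hn, Complex.conj_natCast, Finset.sum_const, Finset.card_univ, nsmul_eq_mul] at h1
  rw [← Nat.card_eq_fintype_card, ← mul_assoc, inv_mul_cancel₀ (by exact_mod_cast Nat.card_pos.ne'),
    one_mul] at h1
  have h2 : n * n = 1 := by exact_mod_cast h1
  have h3 : n = 1 := Nat.eq_one_of_mul_eq_one_right h2
  funext g
  rw [h, hn, h3]; norm_num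

theorem exists_ne_one {G : Type u} [Group G] [Finite G] [Nontrivial G] :
    ∃ χ : IrrCharacter G, (χ : G → ℂ) ≠ fun _ => 1 := by
  classical
  have := Fintype.ofFinite G
  by_contra hcon
  push Not at hcon
  have h1 : (ofFun fun _ : G => (Nat.card G : ℂ)⁻¹) = (1 : GA G) := by
    apply center_ext (ofFun_mem_center (fun _ _ => rfl)) (Subalgebra.one_mem _)
    intro χ
    rw [omega_one χ.2.one_ne_zero, hcon χ, omega, lin_apply]
    simp only [coeff_ofFun, mul_one, div_one, Finset.sum_const, Finset.card_univ, nsmul_eq_mul]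
    rw [← Nat.card_eq_fintype_card, mul_inv_cancel₀ (by exact_mod_cast Nat.card_pos.ne')]
  obtain ⟨g, hg⟩ := exists_ne (1 : G)
  have h2 := congrArg (fun z : GA G => z.coeff g) h1
  simp only [coeff_ofFun] at h2
  have h3 : (1 : GA G).coeff g = 0 := by
    rw [MonoidAlgebra.one_def, MonoidAlgebra.coeff_single, Finsupp.single_apply, if_neg (Ne.symm hg)]
  rw [h3] at h2
  exact inv_ne_zero (by exact_mod_cast Nat.card_pos.ne') h2



/-- Let G be a finite solvable group and π a nonempty set of primes, each dividing the order of G; fix for each p in π a maximal ideal M p of the algebraic integers containing p. Then the only irreducible character lying in the principal p-block for every p in π is the principal character if and only if G is generated by the subgroups O_{p'}(G), p in π (the largest normal subgroups of order prime to p). -/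
theorem result {G : Type*} [Group G] [Finite G] [Group.IsSolvable G] (π : Set ℕ) (hπ : ∀ p ∈ π, p.Prime ∧ p ∣ Nat.card G) (hne : π.Nonempty) (M : ℕ → Ideal Cfsg.AlgInt) (hM : ∀ p ∈ π, Cfsg.IsPModular p (M p)) :
    (∀ χ : Cfsg.IrrCharacter G, (∀ p ∈ π, χ ∈ Cfsg.principalBlock (M p) G) → (χ : G → ℂ) = fun _ => 1) ↔
      ⨆ p ∈ π, Cfsg.pPrimeCore p G = ⊤ := by

  classical
  set K := ⨆ p ∈ π, pPrimeCore p G with hK
  have hle : ∀ p ∈ π, pPrimeCore p G ≤ K := fun p hp => le_iSup₂_of_le p hp le_rfl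
  have hKn : K.Normal := by
    constructor
    intro n hn g
    have h1 : K ≤ K.comap (MulAut.conj g).toMonoidHom := by
      refine iSup₂_le fun p hp x hx => ?_
      exact hle p hp (Subgroup.Normal.conj_mem inferInstance x hx g)
    exact h1 hn
  constructor
  · intro h
    by_contra hne
    have hnt : Nontrivial (G ⧸ K) := QuotientGroup.nontrivial_iff.mpr hne
    obtain ⟨ψ, hψ⟩ := exists_ne_one (G := G ⧸ K)
    apply hψ
    have h1 := h ⟨fun x : G => (ψ : G ⧸ K → ℂ) (x : G ⧸ K), ψ.2.inflate K⟩ ?_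
    · funext y
      obtain ⟨x, rfl⟩ := QuotientGroup.mk_surjective y
      exact congrFun h1 x
    · intro p hp
      rw [mem_principal_iff (hπ p hp).1 (hM p hp)]
      intro n hn
      show (ψ : G ⧸ K → ℂ) (n : G ⧸ K) = (ψ : G ⧸ K → ℂ) ((1 : G) : G ⧸ K)
      rw [(QuotientGroup.eq_one_iff n).mpr (hle p hp hn)]
      rfl
  · intro hKt χ hχ
    apply eq_one_of_const
    obtain ⟨n, ρ, hρ, hρχ⟩ := χ.2
    have h1 : ∀ p ∈ π, ∀ x ∈ pPrimeCore p G, x ∈ ρ.ker := by
      intro p hp x hx
      have h2 := (mem_principal_iff (hπ p hp).1 (hM p hp) χ).mp (hχ p hp)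
      rw [← hρχ] at h2
      rw [MonoidHom.mem_ker]
      exact LinearMap.ext fun v => acts_trivially_of_character_eq ρ _ h2 x hx v
    have h2 : K ≤ ρ.ker := iSup₂_le fun p hp x hx => h1 p hp x hx
    intro g
    have h3 : g ∈ ρ.ker := h2 (by rw [hKt]; trivial)
    rw [MonoidHom.mem_ker] at h3
    have h4 : ρ g = ρ 1 := by rw [h3]; exact (map_one ρ).symm
    rw [← hρχ]
    exact congrArg (LinearMap.trace ℂ (Fin n → ℂ)) h4

end Cfsg.Agent.S4611
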