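import Cfsg.Statements.S0514
import Cfsg.Agent.Lib.Transfer
import Cfsg.Agent.Lib.SylowTools

set_option autoImplicit false
open Cfsg

namespace Cfsg.Agent.S0514

open DihedralGroup Cfsg.Agent.Lib.Transfer Cfsg.Agent.Lib.PNilp

/-- the rotation subgroup -/
def rot (n : ℕ) : Subgroup (DihedralGroup n) := Subgroup.zpowers (r 1)

theorem mem_rot {n : ℕ} (x : DihedralGroup n) : x ∈ rot n ↔ ∃ i, x = r i := by
  constructor
  · rintro ⟨k, rfl⟩
    exact ⟨(k : ZMod n), r_one_zpow k⟩
  · rintro ⟨i, rfl⟩
    obtain ⟨k, rfl⟩ := ZMod.intCast_surjective i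
    exact ⟨k, r_one_zpow k⟩

theorem out_rot {n : ℕ} {x : DihedralGroup n} (hx : x ∉ rot n) : ∃ i, x = sr i := by
  rw [mem_rot] at hx
  rcases x with i | i
  · exact absurd ⟨i, rfl⟩ hx
  · exact ⟨i, rfl⟩

theorem rot_mul {n : ℕ} {x y : DihedralGroup n} (hx : x ∉ rot n) (hy : y ∉ rot n) : x * y ∈ rot n := by
  obtain ⟨i, rfl⟩ := out_rot hx
  obtain ⟨j, rfl⟩ := out_rot hy
  rw [sr_mul_sr, mem_rot]
  exact ⟨_, rfl⟩

theorem rot_sq {n : ℕ} {x : DihedralGroup n} (hx : x ∉ rot n) : x * x = 1 := by
  obtain ⟨i, rfl⟩ := out_rot hx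
  exact sr_mul_self i

/-- automorphisms of odd order of a 2-group embedded in a dihedral group are trivial if they fix an involution -/
theorem dih_aut {R : Type*} [Group R] [Finite R] (hR : IsPGroup 2 R) {n : ℕ} (φ : R →* DihedralGroup n)
    (hφ : Function.Injective φ) (σ : MulAut R) (hσ : Odd (orderOf σ)) (t : R) (ht : orderOf t = 2)
    (hσt : σ t = t) : σ = 1 := by
  set B : Subgroup R := (rot n).comap φ with hB
  have hcyc : IsCyclic B := by
    have : IsCyclic (rot n) := by rw [rot]; infer_instance
    refine isCyclic_of_injective ((φ.comp B.subtype).codRestrict (rot n) (fun x => x.2)) ?_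
    intro a b hab
    have := congrArg Subtype.val hab
    exact Subtype.ext (hφ this)
  have hout : ∀ x, x ∉ B → x * x = 1 := by
    intro x hx
    apply hφ
    rw [map_mul, map_one]
    exact rot_sq hx
  have hmul : ∀ x y, x ∉ B → y ∉ B → x * y ∈ B := by
    intro x y hx hy
    rw [hB, Subgroup.mem_comap, map_mul]
    exact rot_mul hx hy
  obtain ⟨m, hm⟩ := hσ
  have hσm : σ ^ (2 * m + 1) = 1 := by rw [← hm, pow_orderOf_eq_one]
  obtain ⟨b, hb⟩ := hcyc.exists_generator
  by_cases hbb : b * b = 1
  · -- `|B| ≤ 2`
    have hBb : ∀ x ∈ B, x = 1 ∨ x = (b : R) := by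
      intro x hx
      obtain ⟨k, hk⟩ := Subgroup.mem_zpowers_iff.1 (hb ⟨x, hx⟩)
      have hk' : (b : R) ^ k = x := congrArg Subtype.val hk
      have hbb' : (b : R) ^ (2 : ℤ) = 1 := by
        rw [zpow_ofNat, pow_two]; exact congrArg Subtype.val hbb
      rcases Int.even_or_odd' k with ⟨j, rfl | rfl⟩
      · left; rw [← hk', zpow_mul, hbb', one_zpow]
      · right; rw [← hk', zpow_add, zpow_mul, hbb', one_zpow, one_mul, zpow_one]
    -- any two elements different from `1, t` are ... 
    have hthree : ∀ x y z : R, x ≠ 1 → y ≠ 1 → z ≠ 1 → x ≠ t → y ≠ t → z ≠ t → x = y ∨ y = z ∨ x = z := by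
      intro x y z hx hy hz hxt hyt hzt
      have ht1 : t ≠ 1 := by intro h; rw [h, orderOf_one] at ht; omega
      have key : ∀ u v w : R, u ∉ B → v ∉ B → w ∉ B → u = v ∨ v = w ∨ u = w := by
        intro u v w hu hv hw
        rcases hBb _ (hmul u v hu hv) with h1 | h1
        · left
          have := hout u hu
          exact mul_left_cancel (this.trans h1.symm)
        · rcases hBb _ (hmul u w hu hw) with h2 | h2
          · right; right
            have := hout u hu
            exact mul_left_cancel (this.trans h2.symm)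
          · right; left
            exact mul_left_cancel (h1.trans h2.symm)
      by_cases hxB : x ∈ B <;> by_cases hyB : y ∈ B <;> by_cases hzB : z ∈ B
      · rcases hBb x hxB with h | h <;> rcases hBb y hyB with h' | h' <;> simp_all
      · rcases hBb x hxB with h | h <;> rcases hBb y hyB with h' | h' <;> simp_all
      · rcases hBb x hxB with h | h <;> rcases hBb z hzB with h' | h' <;> simp_all
      · have htB : t ∉ B := by
          intro htB
          rcases hBb t htB with h | h
          · exact ht1 h
          · rcases hBb x hxB with h' | h'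
            · exact hx h'
            · exact hxt (h'.trans h.symm)
        rcases key y z t hyB hzB htB with h | h | h
        · exact Or.inr (Or.inl h)
        · exact absurd h hzt
        · exact absurd h hyt
      · rcases hBb y hyB with h | h <;> rcases hBb z hzB with h' | h' <;> simp_all
      · have htB : t ∉ B := by
          intro htB
          rcases hBb t htB with h | h
          · exact ht1 h
          · rcases hBb y hyB with h' | h'
            · exact hy h'
            · exact hyt (h'.trans h.symm)
        rcases key x z t hxB hzB htB with h | h | h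
        · exact Or.inr (Or.inr h)
        · exact absurd h hzt
        · exact absurd h hxt
      · have htB : t ∉ B := by
          intro htB
          rcases hBb t htB with h | h
          · exact ht1 h
          · rcases hBb z hzB with h' | h'
            · exact hz h'
            · exact hzt (h'.trans h.symm)
        rcases key x y t hxB hyB htB with h | h | h
        · exact Or.inl h
        · exact absurd h hyt
        · exact absurd h hxt
      · exact key x y z hxB hyB hzB
    have hfix2 : ∀ x : R, (σ ^ 2) x = x := by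
      intro x
      by_cases hx : x = 1
      · rw [hx, map_one]
      by_cases hxt : x = t
      · rw [hxt, pow_two, MulAut.mul_apply, hσt, hσt]
      have h1 : ∀ y : R, y ≠ 1 → σ y ≠ 1 := fun y hy h => hy (σ.injective (h.trans (map_one σ).symm))
      have h2 : ∀ y : R, y ≠ t → σ y ≠ t := fun y hy h => hy (σ.injective (h.trans hσt.symm))
      rw [pow_two, MulAut.mul_apply]
      rcases hthree x (σ x) (σ (σ x)) hx (h1 _ hx) (h1 _ (h1 _ hx)) hxt (h2 _ hxt) (h2 _ (h2 _ hxt)) with h | h | h
      · rw [← h, ← h]
      · rw [← h]; exact (σ.injective h).symm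
      · exact h.symm
    have hσ2 : σ ^ 2 = 1 := by ext x; exact hfix2 x
    rw [pow_succ, pow_mul, hσ2, one_pow, one_mul] at hσm
    exact hσm
  · -- `|B| ≥ 4`
    have hσb : σ (b : R) ∈ B := by
      by_contra h
      apply hbb
      have := hout _ h
      rw [← map_mul, ← map_one σ] at this
      exact Subtype.ext (σ.injective this)
    have hσB : ∀ x ∈ B, σ x ∈ B := by
      intro x hx
      obtain ⟨k, hk⟩ := Subgroup.mem_zpowers_iff.1 (hb ⟨x, hx⟩)
      have hk' : (b : R) ^ k = x := congrArg Subtype.val hk
      rw [← hk', map_zpow]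
      exact Subgroup.zpow_mem _ hσb k
    let τ₀ : B →* B := (σ.toMonoidHom.comp B.subtype).codRestrict B (fun x => hσB x x.2)
    have hτ₀ : Function.Injective τ₀ := by
      intro a c hac
      exact Subtype.ext (σ.injective (congrArg Subtype.val hac))
    let τ : MulAut B := MulEquiv.ofBijective τ₀ ((Finite.injective_iff_bijective).1 hτ₀)
    have hτ : ∀ x : B, ((τ x : B) : R) = σ x := fun x => rfl
    have hτpow : ∀ (k : ℕ) (x : B), (((τ ^ k) x : B) : R) = (σ ^ k) x := by
      intro k
      induction k with
      | zero => intro x; rfl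
      | succ k ih => intro x; rw [pow_succ', pow_succ', MulAut.mul_apply, MulAut.mul_apply, hτ, ih]
    have hτm : τ ^ (2 * m + 1) = 1 := by
      ext x
      rw [hτpow, hσm]
      rfl
    have hτ1 : τ = 1 := by
      have h1 : orderOf τ ∣ 2 * m + 1 := orderOf_dvd_of_pow_eq_one hτm
      have h2 : orderOf τ ∣ Nat.card (MulAut B) := orderOf_dvd_natCard τ
      rw [IsCyclic.card_mulAut] at h2
      obtain ⟨k, hk⟩ := (IsPGroup.iff_card).1 (hR.to_subgroup B)
      rw [hk] at h2
      have h3 : orderOf τ ∣ 2 ^ k := by
        rcases Nat.eq_zero_or_pos k with h0 | h0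
        · rw [h0] at h2 ⊢; simpa using h2
        · rw [Nat.totient_prime_pow Nat.prime_two h0] at h2
          simp only [Nat.add_one_sub_one, mul_one] at h2
          exact h2.trans (Nat.pow_dvd_pow 2 (by omega))
      have hcop : Nat.Coprime (2 * m + 1) (2 ^ k) := by
        apply Nat.Coprime.pow_right
        rw [Nat.coprime_two_right]
        exact ⟨m, rfl⟩
      rw [← orderOf_eq_one_iff]
      exact Nat.eq_one_of_dvd_coprimes hcop h1 h3
    have hfixB : ∀ x ∈ B, σ x = x := by
      intro x hx
      rw [← hτ ⟨x, hx⟩, hτ1]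
      rfl
    have hfixall : ∀ x, σ x = x := by
      intro x
      by_cases hx : x ∈ B
      · exact hfixB x hx
      have hσx : σ x ∉ B := by
        intro h
        apply hx
        obtain ⟨y, hy⟩ := (Finite.injective_iff_surjective.1 hτ₀) ⟨σ x, h⟩
        have hy' : σ (y : R) = σ x := congrArg Subtype.val hy
        rw [← σ.injective hy']
        exact y.2
      have hc : x * σ x ∈ B := hmul _ _ hx hσx
      set c := x * σ x with hcdef
      have hσxc : σ x = x * c := by
        rw [hcdef, ← mul_assoc, hout x hx, one_mul]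
      have hpow : ∀ k : ℕ, (σ ^ k) x = x * c ^ k := by
        intro k
        induction k with
        | zero => simp
        | succ k ih =>
          rw [pow_succ', MulAut.mul_apply, ih, map_mul, hσxc, hfixB _ (Subgroup.pow_mem _ hc k), mul_assoc, ← pow_succ']
      have h1 := hpow (2 * m + 1)
      rw [hσm, MulAut.one_apply] at h1
      have h2 : c ^ (2 * m + 1) = 1 := by
        have : x * 1 = x * c ^ (2 * m + 1) := by rw [mul_one]; exact h1
        exact (mul_left_cancel this).symm
      have h3 : orderOf c ∣ 2 * m + 1 := orderOf_dvd_of_pow_eq_one h2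
      obtain ⟨k, hk'⟩ := hR c
      have hk := orderOf_dvd_of_pow_eq_one hk'
      have hcop : Nat.Coprime (2 * m + 1) (2 ^ k) := by
        apply Nat.Coprime.pow_right
        rw [Nat.coprime_two_right]
        exact ⟨m, rfl⟩
      have h4 := Nat.eq_one_of_dvd_coprimes hcop h3 hk
      rw [orderOf_eq_one_iff] at h4
      rw [hσxc, h4, mul_one]
    ext x
    exact hfixall x

/-- a finite group with a central involution whose 2-subgroups embed in a dihedral group is 2-nilpotent -/
theorem dih_complement {C : Type*} [Group C] [Finite C] {n : ℕ}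
    (hdih : ∀ R : Subgroup C, IsPGroup 2 R → ∃ φ : R →* DihedralGroup n, Function.Injective φ)
    (t : C) (ht : orderOf t = 2) (htC : ∀ x : C, x * t = t * x) : HasNormalPComplement 2 C := by
  rw [hasNormalPComplement_iff_forall_centralizer]
  intro Q hQ g hg hgo
  have hzc : Subgroup.zpowers t ≤ Subgroup.center C := by
    rw [Subgroup.zpowers_le, Subgroup.mem_center_iff]
    exact htC
  have hzn : (Subgroup.zpowers t).Normal := by
    constructor
    intro x hx y
    have := Subgroup.mem_center_iff.1 (hzc hx) y
    rw [this, mul_assoc, mul_inv_cancel, mul_one]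
    exact hx
  have hzp : IsPGroup 2 (Subgroup.zpowers t) := by
    apply IsPGroup.of_card (n := 1)
    rw [Nat.card_zpowers, ht, pow_one]
  obtain ⟨R, hRdef⟩ : ∃ R : Subgroup C, R = Q ⊔ Subgroup.zpowers t := ⟨_, rfl⟩
  have hR : IsPGroup 2 R := hRdef ▸ hQ.to_sup_of_normal_right hzp
  have hgR : g ∈ Subgroup.normalizer (R : Set C) := by
    have h1 : Subgroup.normalizer (Q : Set C) ≤ Subgroup.normalizer (R : Set C) := by
      intro y hy
      rw [Subgroup.mem_normalizer_iff_map_conj_eq] at hy ⊢
      rw [hRdef, Subgroup.map_sup, hy]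
      congr 1
      rw [← Subgroup.mem_normalizer_iff_map_conj_eq]
      have : Subgroup.normalizer ((Subgroup.zpowers t : Subgroup C) : Set C) = ⊤ := Subgroup.normalizer_eq_top_iff.2 hzn
      rw [this]; trivial
    exact h1 hg
  obtain ⟨φ, hφ⟩ := hdih R hR
  have htR : t ∈ R := hRdef ▸ Subgroup.mem_sup_right (Subgroup.mem_zpowers t)
  have hsig := dih_aut hR φ hφ (R.normalizerMonoidHom ⟨g, hgR⟩) ?_ ⟨t, htR⟩ ?_ ?_
  · have h2 : (⟨g, hgR⟩ : Subgroup.normalizer (R : Set C)) ∈ R.normalizerMonoidHom.ker := hsig
    rw [Subgroup.normalizerMonoidHom_ker] at h2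
    have h3 : g ∈ Subgroup.centralizer (R : Set C) := h2
    refine Subgroup.centralizer_le (show (Q : Set C) ⊆ R from fun x hx => ?_) h3
    rw [hRdef]
    exact Subgroup.mem_sup_left hx
  · have h1 : orderOf (R.normalizerMonoidHom ⟨g, hgR⟩) ∣ orderOf g :=
      (orderOf_map_dvd _ _).trans (dvd_of_eq (Subgroup.orderOf_mk g hgR))
    rw [Nat.coprime_two_right] at hgo
    exact Odd.of_dvd_nat hgo h1
  · rw [Subgroup.orderOf_mk]; exact ht
  · apply Subtype.ext
    change g * t * g⁻¹ = t
    rw [htC g, mul_assoc, mul_inv_cancel, mul_one]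

/-- In a finite group whose Sylow 2-subgroups are dihedral of order at least 4, the centralizer of any involution has a
normal subgroup of odd order whose index in the centralizer is a power of 2. -/
theorem result {X : Type*} [Group X] [Finite X]
    (S : Sylow 2 X) (n : ℕ) (hn : 2 ≤ n) (hS : Nonempty ((S : Subgroup X) ≃* DihedralGroup n)) (t : X)
    (ht : orderOf t = 2) :
    ∃ N : Subgroup (Subgroup.centralizer ({t} : Set X)), N.Normal ∧ Odd (Nat.card N) ∧ ∃ k : ℕ, N.index = 2 ^ k := by
  have hmain : HasNormalPComplement 2 (Subgroup.centralizer ({t} : Set X)) := by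
    refine dih_complement (n := n) ?_ ⟨t, by rw [Subgroup.mem_centralizer_singleton_iff]⟩ ?_ ?_
    · intro R hR
      obtain ⟨a, ha⟩ := Cfsg.Agent.Lib.SylowTools.conj_into_sylow S
        (H := R.map (Subgroup.centralizer ({t} : Set X)).subtype) (hR.map _)
      obtain ⟨e⟩ := hS
      let φ₀ : R →* (S : Subgroup X) :=
        (((MulAut.conj a).toMonoidHom.comp (Subgroup.centralizer ({t} : Set X)).subtype).comp R.subtype).codRestrict
          (S : Subgroup X) (fun x => ha _ ⟨(x : Subgroup.centralizer ({t} : Set X)), x.2, rfl⟩)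
      have hφ₀ : Function.Injective φ₀ := by
        intro x y hxy
        have h1 := congrArg Subtype.val hxy
        exact Subtype.ext (Subtype.ext ((MulAut.conj a).injective h1))
      exact ⟨e.toMonoidHom.comp φ₀, e.injective.comp hφ₀⟩
    · rw [Subgroup.orderOf_mk]; exact ht
    · intro x
      apply Subtype.ext
      have := x.2
      rw [Subgroup.mem_centralizer_singleton_iff] at this
      exact this
  rw [hasNormalPComplement_iff] at hmain
  obtain ⟨N, hN, hN2, k, hk⟩ := hmain
  exact ⟨N, hN, Nat.odd_iff.2 (Nat.two_dvd_ne_zero.1 hN2), k, hk⟩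

end Cfsg.Agent.S0514
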