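import Cfsg.Statements.S0698
import Cfsg.Agent.Lib.NormalMT

set_option autoImplicit false
open Cfsg

namespace Cfsg.Agent.S0698



/-- Jordan's Theorem on normal subgroups of multiply transitive groups: if `G` is `k`-transitive (`k > 1`) of degree greater than `k`, a non-trivial normal subgroup is `(k-1)`-transitive, except possibly for `k = 3` when it may be an elementary abelian 2-group. -/
theorem result {α : Type*} [Fintype α] [DecidableEq α] (G : Subgroup (Equiv.Perm α)) {k : ℕ} (hk : 1 < k) (hdeg : k < Fintype.card α) (hG : MulAction.IsMultiplyPretransitive G α k) (N : Subgroup G) [N.Normal] (hN : N ≠ ⊥) : MulAction.IsMultiplyPretransitive N α (k - 1) ∨ (k = 3 ∧ IsMulCommutative N ∧ ∀ n ∈ N, n ^ 2 = 1) := by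
  classical
  have hcard : Nat.card α = Fintype.card α := Nat.card_eq_fintype_card
  obtain ⟨j, rfl⟩ : ∃ j, k = j + 1 := ⟨k - 1, by omega⟩
  have hENat : ((j + 1 : ℕ) : ℕ∞) ≤ ENat.card α := by
    rw [ENat.card_eq_coe_natCard, hcard]
    exact_mod_cast hdeg.le
  have hprimj : MulAction.IsMultiplyPreprimitive G α j :=
    MulAction.isMultiplyPreprimitive_of_isMultiplyPretransitive_succ G α hENat
  have hENatj : ((j : ℕ) : ℕ∞) ≤ ENat.card α := by
    rw [ENat.card_eq_coe_natCard, hcard]
    exact_mod_cast (by omega : j ≤ Fintype.card α)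
  have hprim : MulAction.IsPreprimitive G α := by
    rw [← MulAction.is_one_preprimitive_iff]
    exact MulAction.isMultiplyPreprimitive_of_le G α hprimj (by omega) hENatj
  have hNt := Cfsg.Agent.Lib.NormalMT.normal_transitive hprim N hN
  by_cases hreg : ∀ a : α, MulAction.stabilizer N a = ⊥
  · have hne : Nonempty α := by
      rw [← Fintype.card_pos_iff]; omega
    rcases Nat.lt_or_ge j 2 with h | h
    · left
      have : j = 1 := by omega
      subst this
      exact MulAction.is_one_pretransitive_iff.mpr hNt
    rcases Nat.lt_or_ge j 3 with h' | h'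
    · right
      have : j = 2 := by omega
      subst this
      rcases Cfsg.Agent.Lib.RegNormalMT.sq_eq_one_or_card_three hprimj N hreg with h3 | hsq
      · omega
      · have hcomm := Cfsg.Agent.Lib.RegNormalMT.comm_of_sq hsq
        refine ⟨rfl, ⟨⟨fun x y => Subtype.ext (hcomm x.1 x.2 y.1 y.2)⟩⟩, ?_⟩
        intro n hn
        rw [sq, hsq n hn]
    · exfalso
      have h3 : MulAction.IsMultiplyPreprimitive G α 3 :=
        MulAction.isMultiplyPreprimitive_of_le G α hprimj h' hENatj
      have := Cfsg.Agent.Lib.RegNormalMT.card_three_or_four h3 (by omega) N hNt hreg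
      omega
  · push Not at hreg
    left
    exact Cfsg.Agent.Lib.NormalMT.normal_of_primitive (j := j) (by omega) (by omega) hprimj
      (Or.inl (by omega)) N hreg

end Cfsg.Agent.S0698
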