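import Cfsg.Statements.S0678
import Cfsg.Agent.Lib.PrimeDegreeNorm2
import Cfsg.Agent.Lib.BrauerFowler
import Cfsg.Agent.Lib.SmallIndex12
import Cfsg.Agent.S0698

set_option autoImplicit false
open Cfsg

namespace Cfsg.Agent.S0678



/-- A non-solvable transitive permutation group on 7 points that does not contain the alternating group is a simple group of order 168. -/
theorem result {α : Type*} [Fintype α] [DecidableEq α] (hα : Fintype.card α = 7) (G : Subgroup (Equiv.Perm α)) [MulAction.IsPretransitive G α] (hG : ¬ Group.IsSolvable G) (hA : ¬ alternatingGroup α ≤ G) : Nat.card G = 168 ∧ IsSimpleGroup G := by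
  classical
  have : Fact (Nat.Prime 7) := ⟨by norm_num⟩
  have hΩ : Nat.card α = 7 := by rw [Nat.card_eq_fintype_card, hα]
  obtain ⟨P⟩ : Nonempty (Sylow 7 G) := inferInstance
  obtain ⟨d, n, hd, hn, hN, hcard, hnS⟩ := Cfsg.Agent.Lib.PrimeDegreeNorm.card_group (p := 7) hΩ P
  have hd' : d ≤ 6 := Nat.le_of_dvd (by norm_num) hd
  have hidx : Nat.card G * G.index = 5040 := by
    rw [Subgroup.card_mul_index, Nat.card_perm, hΩ]; rfl
  have hidx7 : 7 ≤ G.index := by
    by_contra hcon
    exact hA (Cfsg.Agent.Lib.SmallIndex12.alternating_le (by omega) G (by omega))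
  have hnsol : Nat.card G ≠ 7 := by
    intro h7
    apply hG
    have hcyc : IsCyclic G := isCyclic_of_prime_card h7
    let _ := hcyc.commGroup
    infer_instance
  have hd1 : d ≠ 1 := by
    rintro rfl
    rw [mul_one] at hN
    exact hnsol (Cfsg.Agent.Lib.PrimeDegreeNorm.card_eq_of_normalizer hΩ P hN)
  have h2t : MulAction.IsMultiplyPretransitive G α 2 := by
    rcases Cfsg.Agent.Lib.PrimeDegree.burnside (G := G) hΩ with h | h
    · exact absurd h hG
    · exact h
  -- k-transitivity gives divisibility
  have hdiv : ∀ {H : Type _} [Group H] [MulAction H α] [Finite H] (k : ℕ), k ≤ 7 →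
      MulAction.IsMultiplyPretransitive H α k → Nat.descFactorial 7 k ∣ Nat.card H := by
    intro H _ _ _ k hk h
    have h1 : Nat.card (Fin k ↪ α) = (7).descFactorial k := by
      rw [Nat.card_eq_fintype_card, Fintype.card_embedding_eq, Fintype.card_fin, hα]
    obtain ⟨x0⟩ : Nonempty (Fin k ↪ α) := by
      rw [Function.Embedding.nonempty_iff_card_le, Fintype.card_fin, hα]; exact hk
    have h2 := MulAction.index_stabilizer_of_transitive H x0
    rw [← h1, ← h2]
    exact Subgroup.index_dvd_card _
  have h42 : 42 ∣ Nat.card G := hdiv 2 (by norm_num) h2t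
  -- the even case
  have hodd : ¬ 2 ∣ d := by
    intro h2d
    have heven : Even (Nat.card (Subgroup.normalizer ((P : Subgroup G) : Set G))) := by
      rw [hN]; exact Even.mul_left (even_iff_two_dvd.mpr h2d) _
    have h3t := Cfsg.Agent.Lib.PrimeDegreeThree.three_transitive_of_even hΩ hG P heven
    have h210 : 210 ∣ Nat.card G := hdiv 3 (by norm_num) h3t
    have h4 : Nat.card G % 4 = 2 := by
      have hcases : Nat.card G = 210 ∨ Nat.card G = 630 := by
        obtain ⟨c, hc⟩ := h210
        have hc24 : c * G.index = 24 := by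
          have : 210 * (c * G.index) = 210 * 24 := by rw [← mul_assoc, ← hc, hidx]
          omega
        have hc3 : c ≤ 3 := by
          by_contra hcon
          have : 4 * 7 ≤ c * G.index := Nat.mul_le_mul (by omega) hidx7
          omega
        have hc0 : 0 < c := by
          rcases Nat.eq_zero_or_pos c with rfl | h
          · omega
          · exact h
        interval_cases c
        · left; omega
        · exfalso
          have hdn : d * n = 60 := by
            have : 7 * (d * n) = 7 * 60 := by rw [← mul_assoc, ← hcard]; omega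
            omega
          interval_cases d <;> omega
        · right; omega
      rcases hcases with h | h <;> rw [h]
    obtain ⟨K, hK⟩ := Cfsg.Agent.Lib.BrauerFowler.exists_index_two_of_two_mod_four h4
    have hKn : K.Normal := Subgroup.normal_of_index_eq_two hK
    have hKcard : Nat.card K * 2 = Nat.card G := by rw [← hK]; exact K.card_mul_index
    have hKne : K ≠ ⊥ := by
      rintro rfl
      rw [Subgroup.card_bot] at hKcard
      omega
    rcases Cfsg.Agent.S0698.result G (k := 3) (by norm_num) (by omega) h3t K hKne with h | ⟨_, _, h⟩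
    · have h5 : 42 ∣ Nat.card K := hdiv 2 (by norm_num) h
      omega
    · obtain ⟨x, hx⟩ := exists_prime_orderOf_dvd_card' (G := K) 7 (by
        have : 7 ∣ Nat.card K * 2 := by rw [hKcard]; exact Dvd.dvd.trans (by norm_num) h42
        omega)
      have h6 := h x x.2
      have h7 : x ^ 2 = 1 := Subtype.ext h6
      have h8 := orderOf_dvd_of_pow_eq_one h7
      rw [hx] at h8
      omega
  have hG168 : Nat.card G = 168 := by
    have hd3 : d = 3 := by interval_cases d <;> omega
    subst hd3
    have h240 : n * G.index = 240 := by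
      have : 21 * (n * G.index) = 21 * 240 := by
        rw [← mul_assoc, show 21 * n = Nat.card G by rw [hcard], hidx]
      omega
    have hn34 : n ≤ 34 := by
      by_contra hcon
      have : 35 * 7 ≤ n * G.index := Nat.mul_le_mul (by omega) hidx7
      omega
    have hn240 : n ∣ 240 := Dvd.intro _ h240
    interval_cases n <;> omega
  refine ⟨hG168, ?_⟩
  have hntG : Nontrivial G := by
    rw [← Finite.one_lt_card_iff_nontrivial, hG168]; norm_num
  refine ⟨fun K hK => ?_⟩
  by_contra hcon
  push Not at hcon
  obtain ⟨hKne, hKtop⟩ := hcon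
  have hKt := Cfsg.Agent.Lib.PrimeDegreeNorm2.transitive_of_normal hΩ K hKne
  obtain ⟨Q⟩ : Nonempty (Sylow 7 K) := inferInstance
  obtain ⟨d', n', hd'', hn', hN', hcard', hnS'⟩ :=
    Cfsg.Agent.Lib.PrimeDegreeNorm.card_group (p := 7) hΩ Q
  have hKdvd : Nat.card K ∣ 168 := by rw [← hG168]; exact Subgroup.card_subgroup_dvd_card K
  have hKlt : Nat.card K < 168 := by
    rcases Nat.lt_or_ge (Nat.card K) 168 with h | h
    · exact h
    · exact absurd (Subgroup.eq_top_of_card_eq K (by
        rw [hG168]; exact le_antisymm (Nat.le_of_dvd (by norm_num) hKdvd) h)) hKtop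
  have hd6 : d' ≤ 6 := Nat.le_of_dvd (by norm_num) hd''
  have hd0 : 0 < d' := Nat.pos_of_dvd_of_pos hd'' (by norm_num)
  have hn0 : 0 < n' := by omega
  by_cases hn1 : n' = 1
  · have h1 := Cfsg.Agent.Lib.PrimeDegreeNorm2.normalizer_eq_top hΩ K hKne (hnS'.symm.trans hn1) P
    rw [h1, Subgroup.card_top, hG168] at hN
    omega
  · have hn8 : 8 ≤ n' := by omega
    have hd1' : d' ≠ 1 := by
      rintro rfl
      rw [mul_one] at hN'
      have h1 := Cfsg.Agent.Lib.PrimeDegreeNorm.card_eq_of_normalizer hΩ Q hN'
      omega
    have hle : 7 * d' * n' < 168 := by rw [← hcard']; exact hKlt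
    have hdn : d' * n' < 24 := by
      by_contra hcon
      push Not at hcon
      have : 7 * 24 ≤ 7 * (d' * n') := Nat.mul_le_mul_left _ hcon
      rw [← mul_assoc] at this
      omega
    have hn'24 : n' < 12 := by
      by_contra hcon
      have : 2 * 12 ≤ d' * n' := Nat.mul_le_mul (by omega) (by omega)
      omega
    have hn'8 : n' = 8 := by omega
    subst hn'8
    have hd2 : d' = 2 := by omega
    subst hd2
    rw [hcard'] at hKdvd
    revert hKdvd
    norm_num

end Cfsg.Agent.S0678
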