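import Cfsg.Statements.S4134
import Cfsg.Agent.Lib.ItoTwoSizes
import Cfsg.Agent.Lib.DirectSylow
import Cfsg.Agent.Lib.SubgroupTools

set_option autoImplicit false
open Cfsg

namespace Cfsg.Agent.S4134

open Subgroup Cfsg.Agent.Lib

section

variable {G : Type*} [Group G] [Finite G]

theorem index_eq_one_iff_mem_center (x : G) : (centralizer ({x} : Set G)).index = 1 ↔ x ∈ center G := by
  rw [Subgroup.index_eq_one, Subgroup.mem_center_iff]
  constructor
  · intro h g
    have : g ∈ centralizer ({x} : Set G) := by rw [h]; trivial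
    exact mem_centralizer_singleton_iff.1 this
  · intro h
    rw [eq_top_iff]
    intro g _
    exact mem_centralizer_singleton_iff.2 (h g)

variable {n : ℕ} (hn : 1 < n)
    (h : ∀ x : G, (Subgroup.centralizer ({x} : Set G)).index = 1 ∨ (Subgroup.centralizer ({x} : Set G)).index = n)

include hn h

theorem H1 {x : G} (hx : x ∉ center G) : (centralizer ({x} : Set G)).index = n := by
  rcases h x with h1 | h1
  · exact absurd ((index_eq_one_iff_mem_center x).1 h1) hx
  · exact h1

theorem Hle {x y : G} (hx : x ∉ center G) (hy : y ∉ center G)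
    (hle : centralizer ({x} : Set G) ≤ centralizer ({y} : Set G)) :
    centralizer ({x} : Set G) = centralizer ({y} : Set G) :=
  ItoTwoSizes.eq_of_le_of_index hle (by rw [H1 hn h hx, H1 hn h hy])

theorem H3 {x y : G} (hc : Commute x y) (ho : (orderOf x).Coprime (orderOf y)) (hx : x ∉ center G) :
    centralizer ({x} : Set G) ≤ centralizer ({y} : Set G) := by
  by_cases hy : y ∈ center G
  · rw [Subgroup.index_eq_one.1 ((index_eq_one_iff_mem_center y).2 hy)]
    exact le_top
  have h1 := H70Basic.centralizer_mul_of_coprime hc ho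
  have hxy : x * y ∉ center G := by
    intro hcon
    rw [Subgroup.index_eq_one.1 ((index_eq_one_iff_mem_center (x * y)).2 hcon)] at h1
    apply hx
    rw [← index_eq_one_iff_mem_center, Subgroup.index_eq_one, eq_top_iff, h1]
    exact inf_le_left
  have h2 : centralizer ({x * y} : Set G) = centralizer ({x} : Set G) :=
    Hle hn h hxy hx (by rw [h1]; exact inf_le_left)
  rw [← h2, h1]
  exact inf_le_right

/-- the centralizer of a noncentral `x` commuting with a noncentral `y` of coprime order is abelian -/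
theorem HA {p : ℕ} {x y : G} (hc : Commute x y) (hp : p.Prime) (hx : x ∉ center G) (hy : y ∉ center G)
    (hxp : ∃ k, orderOf x = p ^ k) (hyp : (orderOf y).Coprime p) :
    ∀ u ∈ centralizer ({x} : Set G), ∀ v ∈ centralizer ({x} : Set G), u * v = v * u := by
  obtain ⟨k, hk⟩ := hxp
  have hcop : (orderOf x).Coprime (orderOf y) := by
    rw [hk]; exact (hyp.symm).pow_left k
  have hxy : centralizer ({x} : Set G) = centralizer ({y} : Set G) := Hle hn h hx hy (H3 hn h hc hcop hx)
  have key : ∀ u ∈ centralizer ({x} : Set G), ∀ (r : ℕ) (j : ℕ), r.Prime → orderOf u = r ^ j →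
      u ∈ centralizer (centralizer ({x} : Set G) : Set G) := by
    intro u hu r j hr hj
    have hle : centralizer ({x} : Set G) ≤ centralizer ({u} : Set G) := by
      by_cases hrp : r = p
      · subst hrp
        rw [hxy]
        rw [hxy] at hu
        exact H3 hn h (mem_centralizer_singleton_iff.1 hu).symm (by rw [hj]; exact hyp.pow_right j) hy
      · refine H3 hn h (mem_centralizer_singleton_iff.1 hu).symm ?_ hx
        rw [hj, hk]
        exact Nat.Coprime.pow _ _ ((Nat.coprime_primes hp hr).2 (Ne.symm hrp))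
    rw [Subgroup.mem_centralizer_iff]
    intro g hg
    exact mem_centralizer_singleton_iff.1 (hle hg)
  intro u hu v hv
  by_contra hcon
  have hu' : u ∉ centralizer (centralizer ({x} : Set G) : Set G) := by
    intro hu'
    rw [Subgroup.mem_centralizer_iff] at hu'
    exact hcon (hu' v hv).symm
  obtain ⟨r, j, m, hr, hj, hm⟩ := MinNonNilp.exists_prime_power_order _ hu'
  exact hm (key (u ^ m) (pow_mem hu m) r j hr hj)

omit hn h in
theorem exists_elt {H : Subgroup G} (hH : center G ≤ H) {s : ℕ} (hs : s.Prime) (hd : s ∣ (center G).relIndex H) :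
    ∃ y ∈ H, y ∉ center G ∧ ∃ k, orderOf y = s ^ k := by
  classical
  have := Fact.mk hs
  obtain ⟨T⟩ : Nonempty (Sylow s H) := inferInstance
  by_contra hcon
  push Not at hcon
  have hT : ∀ t : H, t ∈ (T : Subgroup H) → (t : G) ∈ center G := by
    intro t ht
    by_contra ht2
    obtain ⟨k, hk⟩ := IsPGroup.iff_orderOf.1 T.isPGroup' ⟨t, ht⟩
    apply hcon t t.2 ht2 k
    rw [← hk, Subgroup.orderOf_mk, Subgroup.orderOf_coe]
  have hle : (T : Subgroup H) ≤ (center G).subgroupOf H := fun t ht => Subgroup.mem_subgroupOf.2 (hT t ht)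
  have h1 : ((center G).subgroupOf H).index ∣ (T : Subgroup H).index := Subgroup.index_dvd_of_le hle
  exact T.not_dvd_index (hd.trans h1)

end

/-- Let G be a finite group whose conjugacy classes have exactly two sizes, 1 and n > 1. Then n is a power of a prime p and G is the direct product of a p-group and an abelian group of order prime to p: its Sylow p-subgroup P is normal with an abelian normal complement centralizing it; moreover P has an abelian normal subgroup A with P/A of exponent dividing p. -/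
theorem result {G : Type*} [Group G] [Finite G] (n : ℕ) (hn : 1 < n)
    (h : ∀ x : G, (Subgroup.centralizer ({x} : Set G)).index = 1 ∨ (Subgroup.centralizer ({x} : Set G)).index = n) (hex : ∃ x : G, (Subgroup.centralizer ({x} : Set G)).index = n) :
    ∃ (p : ℕ) (_ : Fact p.Prime) (a : ℕ), n = p ^ a ∧ ∀ P : Sylow p G, (P : Subgroup G).Normal ∧
      (∃ N : Subgroup G, N.Normal ∧ N.IsComplement' (P : Subgroup G) ∧ IsMulCommutative N ∧
        ∀ x ∈ N, ∀ y ∈ (P : Subgroup G), x * y = y * x) ∧
      ∃ A : Subgroup (P : Subgroup G), A.Normal ∧ IsMulCommutative A ∧ ∀ y : (P : Subgroup G), y ^ p ∈ A := by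
  classical
  obtain ⟨x₀, hx₀⟩ := hex
  have hx₀c : x₀ ∉ center G := by
    intro hcon
    rw [(index_eq_one_iff_mem_center x₀).2 hcon] at hx₀
    omega
  have hZle : ∀ x : G, center G ≤ centralizer ({x} : Set G) := fun x => Subgroup.center_le_centralizer _
  have hcardC : ∀ x : G, x ∉ center G → Nat.card (centralizer ({x} : Set G)) * n = Nat.card G := by
    intro x hx
    rw [← H1 hn h hx]
    exact Subgroup.card_mul_index _
  set c := (center G).relIndex (centralizer ({x₀} : Set G)) with hcdef
  have hcx : ∀ x : G, x ∉ center G → (center G).relIndex (centralizer ({x} : Set G)) = c := by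
    intro x hx
    have h1 := SubgroupTools.card_mul_relIndex_of_le (hZle x)
    have h2 := SubgroupTools.card_mul_relIndex_of_le (hZle x₀)
    have h3 := hcardC x hx
    have h4 := hcardC x₀ hx₀c
    have h5 : Nat.card (centralizer ({x} : Set G)) = Nat.card (centralizer ({x₀} : Set G)) :=
      Nat.eq_of_mul_eq_mul_right (by omega : 0 < n) (h3.trans h4.symm)
    rw [← h1, ← h2] at h5
    exact Nat.eq_of_mul_eq_mul_left Nat.card_pos h5
  -- reduction to elements of prime power order
  have hred : ∀ g : G, g ∉ center G → ∃ (r k : ℕ) (x : G), r.Prime ∧ orderOf x = r ^ k ∧ x ∉ center G ∧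
      centralizer ({g} : Set G) = centralizer ({x} : Set G) := by
    intro g hg
    obtain ⟨r, k, m, hr, hk, hm⟩ := MinNonNilp.exists_prime_power_order (center G) hg
    refine ⟨r, k, g ^ m, hr, hk, hm, Hle hn h hg hm ?_⟩
    intro u hu
    rw [mem_centralizer_singleton_iff] at hu ⊢
    exact ((show Commute u g from hu).pow_right m).eq
  -- Case A is impossible
  have hcaseB : ∀ (p : ℕ) (x y : G), p.Prime → (∃ k, orderOf x = p ^ k) → x ∉ center G → (orderOf y).Coprime p →
      Commute x y → y ∈ center G := by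
    intro p x y hp hxp hx hyp hcomm
    by_contra hy
    -- two primes dividing c
    obtain ⟨q, j, m, hq, hj, hm⟩ := MinNonNilp.exists_prime_power_order (center G) hy
    have hdiv : ∀ (r : ℕ) (u v : G), r.Prime → (∃ k, orderOf u = r ^ k) → u ∉ center G → Commute u v → v ∉ center G →
        r ∣ c := by
      intro r u v hr hur hu hcomm hv
      obtain ⟨k, hk⟩ := hur
      rw [← hcx v hv]
      have hmem : u ∈ centralizer ({v} : Set G) := mem_centralizer_singleton_iff.2 hcomm
      -- the image of u in the quotient has order a nontrivial power of r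
      have h1 : Nat.card (centralizer ({v} : Set G) ⧸ (center G).subgroupOf (centralizer ({v} : Set G))) =
        (center G).relIndex (centralizer ({v} : Set G)) := rfl
      rw [← h1]
      have hne : ((⟨u, hmem⟩ : centralizer ({v} : Set G)) :
          centralizer ({v} : Set G) ⧸ (center G).subgroupOf (centralizer ({v} : Set G))) ≠ 1 := by
        rw [Ne, QuotientGroup.eq_one_iff]
        exact hu
      set w := ((⟨u, hmem⟩ : centralizer ({v} : Set G)) :
          centralizer ({v} : Set G) ⧸ (center G).subgroupOf (centralizer ({v} : Set G))) with hw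
      have h2 : w ^ r ^ k = 1 := by
        rw [hw, ← QuotientGroup.mk_pow]
        have : (⟨u, hmem⟩ : centralizer ({v} : Set G)) ^ r ^ k = 1 := by
          apply Subtype.ext
          show u ^ r ^ k = 1
          rw [← hk]; exact pow_orderOf_eq_one u
        rw [this]; rfl
      obtain ⟨i, _, hi⟩ := (Nat.dvd_prime_pow hr).1 (orderOf_dvd_of_pow_eq_one h2)
      have hi0 : i ≠ 0 := by
        rintro rfl
        rw [pow_zero, orderOf_eq_one_iff] at hi
        exact hne hi
      exact (dvd_pow_self r hi0).trans (hi ▸ orderOf_dvd_natCard w)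
    have hpc : p ∣ c := hdiv p x y hp hxp hx hcomm hy
    have hqp : q ≠ p := by
      rintro rfl
      have h1 : orderOf (y ^ m) ∣ orderOf y := orderOf_pow_dvd m
      rw [hj] at h1
      have h2 : j ≠ 0 := by
        rintro rfl
        rw [pow_zero, orderOf_eq_one_iff] at hj
        rw [hj] at hm
        exact hm (one_mem _)
      have h3 : q ∣ orderOf y := (dvd_pow_self q h2).trans h1
      exact hq.one_lt.ne' (Nat.dvd_one.1 (hyp ▸ Nat.dvd_gcd h3 (dvd_refl q)))
    have hqc : q ∣ c := hdiv q (y ^ m) x hq ⟨j, hj⟩ hm (hcomm.pow_right m).symm hx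
    -- all centralizers abelian
    have habel : ∀ g : G, g ∉ center G → ∀ u ∈ centralizer ({g} : Set G), ∀ v ∈ centralizer ({g} : Set G),
        u * v = v * u := by
      intro g hg
      obtain ⟨r, k, g', hr, hk, hg', hgg⟩ := hred g hg
      rw [hgg]
      have hs : ∃ s : ℕ, s.Prime ∧ s ∣ c ∧ s ≠ r := by
        by_cases hpr : p = r
        · exact ⟨q, hq, hqc, by rw [← hpr]; exact hqp⟩
        · exact ⟨p, hp, hpc, hpr⟩
      obtain ⟨s, hs, hsc, hsr⟩ := hs
      rw [← hcx g' hg'] at hsc
      obtain ⟨y', hy', hy'c, k', hk'⟩ := exists_elt (hZle g') hs hsc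
      refine HA hn h (mem_centralizer_singleton_iff.1 hy').symm hr hg' hy'c ⟨k, hk⟩ ?_
      rw [hk']
      exact ((Nat.coprime_primes hs hr).2 hsr).pow_left k'
    -- the partition
    set 𝒟 : Set (Subgroup (G ⧸ center G)) := {D | ∃ g : G, g ∉ center G ∧
      D = (centralizer ({g} : Set G)).map (QuotientGroup.mk' (center G))} with h𝒟
    have hpart : ∀ x : G ⧸ center G, x ≠ 1 → ∃! D : Subgroup (G ⧸ center G), D ∈ 𝒟 ∧ x ∈ D := by
      intro x hx
      obtain ⟨g, rfl⟩ := QuotientGroup.mk_surjective x
      have hg : g ∉ center G := fun hg => hx ((QuotientGroup.eq_one_iff g).2 hg)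
      refine ⟨(centralizer ({g} : Set G)).map (QuotientGroup.mk' (center G)), ⟨⟨g, hg, rfl⟩, ?_⟩, ?_⟩
      · exact ⟨g, mem_centralizer_singleton_iff.2 rfl, rfl⟩
      · rintro D ⟨⟨k, hk, rfl⟩, hgD⟩
        have hgk : g ∈ centralizer ({k} : Set G) := by
          obtain ⟨u, hu, hug⟩ := hgD
          have h1 : u⁻¹ * g ∈ center G := QuotientGroup.eq.1 hug
          have h2 := mul_mem (show u ∈ centralizer ({k} : Set G) from hu) (hZle k h1)
          rwa [mul_inv_cancel_left] at h2
        have hle : centralizer ({k} : Set G) ≤ centralizer ({g} : Set G) := by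
          intro u hu
          exact mem_centralizer_singleton_iff.2 (habel k hk u hu g hgk)
        rw [Hle hn h hk hg hle]
    have hab : ∀ D ∈ 𝒟, IsMulCommutative D := by
      rintro D ⟨g, hg, rfl⟩
      refine ⟨⟨?_⟩⟩
      rintro ⟨_, ⟨u, hu, rfl⟩⟩ ⟨_, ⟨v, hv, rfl⟩⟩
      apply Subtype.ext
      show (QuotientGroup.mk' (center G)) u * (QuotientGroup.mk' (center G)) v =
        (QuotientGroup.mk' (center G)) v * (QuotientGroup.mk' (center G)) u
      rw [← map_mul, ← map_mul, habel g hg u hu v hv]
    have hcard : ∀ D ∈ 𝒟, Nat.card D = c := by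
      rintro D ⟨g, hg, rfl⟩
      have h1 := Subgroup.relIndex_ker (QuotientGroup.mk' (center G)) (K := centralizer ({g} : Set G))
      rw [QuotientGroup.ker_mk', hcx g hg] at h1
      exact h1.symm
    have hQ : Nat.card (G ⧸ center G) = n * c := by
      rw [← Subgroup.index_eq_card, ← Subgroup.relIndex_mul_index (hZle x₀), H1 hn h hx₀c, mul_comm]
    exact hqp (ItoTwoSizes.partition_prime 𝒟 hpart hab n c hcard hQ hn hq hp hqc hpc)
  -- Case B
  obtain ⟨p, k₀, x, hp, hk₀, hxc, hxx⟩ := hred x₀ hx₀c
  have hFp := Fact.mk hp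
  have hpdiv : ∀ (r : ℕ) (u : G), r.Prime → (∃ k, orderOf u = r ^ k) → u ∉ center G → ∀ s : ℕ, s.Prime → s ∣ c → s = r := by
    intro r u hr hur hu s hs hsc
    by_contra hsr
    rw [← hcx u hu] at hsc
    obtain ⟨y', hy', hy'c, k', hk'⟩ := exists_elt (hZle u) hs hsc
    apply hy'c
    refine hcaseB r u y' hr hur hu ?_ (mem_centralizer_singleton_iff.1 hy').symm
    rw [hk']
    exact ((Nat.coprime_primes hs hr).2 hsr).pow_left k'
  have hc1 : c ≠ 1 := by
    intro hc1
    rw [hcdef, Subgroup.relIndex_eq_one] at hc1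
    exact hx₀c (hc1 (mem_centralizer_singleton_iff.2 rfl))
  obtain ⟨s, hs, hsc⟩ := Nat.exists_prime_and_dvd hc1
  have hsp : s = p := hpdiv p x hp ⟨k₀, hk₀⟩ hxc s hs hsc
  subst hsp
  have hcentral : ∀ y : G, (orderOf y).Coprime s → y ∈ center G := by
    intro y hy
    by_contra hyc
    obtain ⟨r, j, m, hr, hj, hm⟩ := MinNonNilp.exists_prime_power_order (center G) hyc
    have h1 := hpdiv r (y ^ m) hr ⟨j, hj⟩ hm s hs hsc
    subst h1
    have h1 : orderOf (y ^ m) ∣ orderOf y := orderOf_pow_dvd m
    rw [hj] at h1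
    have h2 : j ≠ 0 := by
      rintro rfl
      rw [pow_zero, orderOf_eq_one_iff] at hj
      rw [hj] at hm
      exact hm (one_mem _)
    have h3 : s ∣ orderOf y := (dvd_pow_self s h2).trans h1
    exact hs.one_lt.ne' (Nat.dvd_one.1 (hy ▸ Nat.dvd_gcd h3 (dvd_refl s)))
  have hdir : ∀ x : G, ¬ s ∣ orderOf x → ¬ s ∣ (centralizer ({x} : Set G)).index := by
    intro x hx
    have : x ∈ center G := hcentral x (Nat.coprime_comm.1 ((Nat.Prime.coprime_iff_not_dvd hs).2 hx))
    rw [(index_eq_one_iff_mem_center x).2 this]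
    exact hs.not_dvd_one
  have hmain : ∀ P : Sylow s G, (P : Subgroup G).Normal ∧
      (∃ N : Subgroup G, N.Normal ∧ N.IsComplement' (P : Subgroup G) ∧ N ≤ center G) := by
    intro P
    obtain ⟨hPn, N, hNn, hNc, _, hN⟩ := DirectSylow.direct_factor hdir P
    exact ⟨hPn, N, hNn, hNc, fun y hy => hcentral y ((hN y).1 hy)⟩
  obtain ⟨P₀⟩ : Nonempty (Sylow s G) := inferInstance
  -- n is a power of s
  have hna : ∃ a, n = s ^ a := by
    obtain ⟨_, N, _, hNc, hNZ⟩ := hmain P₀
    obtain ⟨b, hb⟩ := IsPGroup.iff_card.1 P₀.isPGroup'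
    have h1 : n ∣ N.index := by
      rw [← H1 hn h hx₀c]
      exact Subgroup.index_dvd_of_le (hNZ.trans (hZle x₀))
    have h2 : N.index = Nat.card P₀ := hNc.symm.index_eq_card
    rw [h2, hb] at h1
    obtain ⟨a, _, ha⟩ := (Nat.dvd_prime_pow hs).1 h1
    exact ⟨a, ha⟩
  obtain ⟨a, ha⟩ := hna
  refine ⟨s, hFp, a, ha, fun P => ?_⟩
  obtain ⟨hPn, N, hNn, hNc, hNZ⟩ := hmain P
  refine ⟨hPn, ⟨N, hNn, hNc, ?_, ?_⟩, ?_⟩
  · refine ⟨⟨?_⟩⟩
    rintro ⟨u, hu⟩ ⟨v, hv⟩
    exact Subtype.ext (Subgroup.mem_center_iff.1 (hNZ hv) u)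
  · intro u hu v _
    exact (Subgroup.mem_center_iff.1 (hNZ hu) v).symm
  · apply ItoTwoSizes.pgroup_part P.isPGroup' n
    rintro ⟨u, hu⟩ huc
    have huG : u ∉ center G := by
      intro hcon
      apply huc
      rw [Subgroup.mem_center_iff]
      rintro ⟨v, hv⟩
      exact Subtype.ext (Subgroup.mem_center_iff.1 hcon v)
    have h1 : centralizer ({(⟨u, hu⟩ : (P : Subgroup G))} : Set (P : Subgroup G)) =
        (centralizer ({u} : Set G)).subgroupOf (P : Subgroup G) := by
      ext ⟨v, hv⟩
      rw [mem_centralizer_singleton_iff, Subgroup.mem_subgroupOf, mem_centralizer_singleton_iff]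
      exact ⟨fun h => congrArg Subtype.val h, fun h => Subtype.ext h⟩
    rw [h1]
    show (centralizer ({u} : Set G)).relIndex (P : Subgroup G) = n
    have htop : (P : Subgroup G) ⊔ centralizer ({u} : Set G) = ⊤ := by
      rw [eq_top_iff, ← hNc.sup_eq_top]
      exact sup_le ((hNZ.trans (hZle u)).trans le_sup_right) le_sup_left
    have h2 := SubgroupTools.card_sup_mul_card_inf (N := (P : Subgroup G)) (H := centralizer ({u} : Set G))
      (by rw [Subgroup.normalizer_eq_top]; exact le_top)
    rw [htop, Subgroup.card_top, ← Subgroup.card_mul_index (centralizer ({u} : Set G)), H1 hn h huG] at h2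
    have h3 : Nat.card ((P : Subgroup G) ⊓ centralizer ({u} : Set G) : Subgroup G) *
        (centralizer ({u} : Set G)).relIndex (P : Subgroup G) = Nat.card (P : Subgroup G) := by
      rw [← Subgroup.inf_relIndex_left, SubgroupTools.card_mul_relIndex_of_le inf_le_left]
    rw [← h3] at h2
    have h4 : 0 < Nat.card (centralizer ({u} : Set G)) := Nat.card_pos
    have h5 : 0 < Nat.card ((P : Subgroup G) ⊓ centralizer ({u} : Set G) : Subgroup G) := Nat.card_pos
    have h6 : Nat.card (centralizer ({u} : Set G)) * Nat.card ((P : Subgroup G) ⊓ centralizer ({u} : Set G) : Subgroup G) *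
        (centralizer ({u} : Set G)).relIndex (P : Subgroup G) =
        Nat.card (centralizer ({u} : Set G)) * Nat.card ((P : Subgroup G) ⊓ centralizer ({u} : Set G) : Subgroup G) * n := by
      calc _ = Nat.card ((P : Subgroup G) ⊓ centralizer ({u} : Set G) : Subgroup G) *
          (centralizer ({u} : Set G)).relIndex (P : Subgroup G) * Nat.card (centralizer ({u} : Set G)) := by ring
        _ = _ := h2.symm
        _ = _ := by ring
    exact Nat.eq_of_mul_eq_mul_left (Nat.mul_pos h4 h5) h6

end Cfsg.Agent.S4134
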