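import Cfsg.Statements.S3946
import Cfsg.Agent.Lib.KgNorm4

set_option autoImplicit false
open Cfsg

namespace Cfsg.Agent.S3946

open Cfsg.Agent.Lib

/-- Call an automorphism α of order n of a group G splitting when x · α(x) · α²(x) ⋯ α^(n−1)(x) = 1 for every x ∈ G. A finite group admitting a splitting automorphism of prime order is nilpotent (this contains the case of a fixed-point-free automorphism of prime order). -/
theorem result {G : Type*} [Group G] [Finite G] (α : MulAut G) (hp : (orderOf α).Prime)
    (hsplit : ∀ x : G, (((List.range (orderOf α)).map (fun i : ℕ => (α ^ i) x)).prod = 1)) : Group.IsNilpotent G := by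
  classical
  let X := G ⋊[MonoidHom.id (MulAut G)] (MulAut G)
  have hfin : Finite X := Finite.of_equiv (G × MulAut G) SemidirectProduct.equivProd.symm
  let L : Subgroup X := (SemidirectProduct.inl : G →* X).range
  let a : X := SemidirectProduct.inr α
  have key : ∀ (x : G) (n : ℕ), ((SemidirectProduct.inl x : X) * a) ^ n =
      SemidirectProduct.inl (((List.range n).map (fun i : ℕ => (α ^ i) x)).prod) * (SemidirectProduct.inr (α ^ n) : X) := by
    intro x n
    induction n with
    | zero => simp
    | succ n ih =>
      rw [pow_succ, ih, List.range_succ, List.map_append, List.prod_append]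
      simp only [List.map_cons, List.map_nil, List.prod_cons, List.prod_nil, mul_one, map_mul, pow_succ]
      have h1 : (SemidirectProduct.inr (α ^ n) : X) * SemidirectProduct.inl x =
          SemidirectProduct.inl ((α ^ n) x) * SemidirectProduct.inr (α ^ n) := by
        have h2 := SemidirectProduct.inl_aut (φ := MonoidHom.id (MulAut G)) (α ^ n) x
        simp only [MonoidHom.id_apply] at h2
        rw [h2, map_inv, inv_mul_cancel_right]
      simp only [mul_assoc]
      rw [← mul_assoc (SemidirectProduct.inr (α ^ n) : X), h1]
      simp only [mul_assoc]
      rfl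
  have hL : L.Normal := by
    show ((SemidirectProduct.inl : G →* X).range).Normal
    rw [SemidirectProduct.range_inl_eq_ker_rightHom]
    infer_instance
  have hspl : KgNorm.Spl (orderOf α) L a := by
    refine ⟨?_, ?_⟩
    · rw [Subgroup.normalizer_eq_top]; trivial
    · rintro _ ⟨x, rfl⟩
      rw [key x, hsplit x, pow_orderOf_eq_one]
      simp
  have h := KgNorm.main hp _ X L a hspl rfl
  have e : G ≃* L := MonoidHom.ofInjective SemidirectProduct.inl_injective
  exact Group.nilpotent_of_mulEquiv e.symm

end Cfsg.Agent.S3946
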