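import Cfsg.Prelude.Def_Blocks
import Cfsg.Agent.Lib.H76Rank1
import Cfsg.Agent.Lib.H76BDim3
import Cfsg.Agent.S4733

set_option autoImplicit false

namespace Cfsg.Agent.S4607

open Cfsg Cfsg.Agent.Lib Cfsg.Agent.Lib.BlockRing Cfsg.Agent.Lib.BlockDefect Cfsg.Agent.Lib.BlockIdem

/-- squares summing to a prime power and twice a square -/
theorem arith {p d a b f g : ℕ} (hp : p.Prime) (hd : d ≠ 0) (ha : ¬ p ∣ a) (hab : a ^ 2 + b ^ 2 = p ^ d)
    (hf : 0 < f) (h : p ^ d * f ^ 2 = g ^ 2 * 2) : p ^ d = 2 := by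
  have hg : g ≠ 0 := by
    rintro rfl
    have : 0 < p ^ d * f ^ 2 := by have := hp.pos; positivity
    rw [h] at this
    simp at this
  -- `p = 2`
  have hp2 : p = 2 := by
    by_contra hne
    have h1 := congrArg (fun n => n.factorization 2) h
    rw [Nat.factorization_mul (pow_ne_zero _ hp.ne_zero) (pow_ne_zero _ hf.ne'),
      Nat.factorization_mul (pow_ne_zero _ hg) two_ne_zero] at h1
    simp only [Finsupp.add_apply, Nat.factorization_pow, Finsupp.smul_apply, smul_eq_mul] at h1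
    rw [Nat.Prime.factorization hp, Nat.Prime.factorization Nat.prime_two, Finsupp.single_apply,
      if_neg hne, Finsupp.single_eq_same] at h1
    omega
  subst hp2
  have ha2 : a % 2 = 1 := by omega
  have h3 : a ^ 2 % 4 = 1 := by
    have : a % 4 = 1 ∨ a % 4 = 3 := by omega
    rcases this with h | h <;> rw [pow_two, Nat.mul_mod, h]
  have h4 : b ^ 2 % 4 = 0 ∨ b ^ 2 % 4 = 1 := by
    have : b % 4 = 0 ∨ b % 4 = 1 ∨ b % 4 = 2 ∨ b % 4 = 3 := by omega
    rcases this with h | h | h | h <;> rw [pow_two, Nat.mul_mod, h] <;> decide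
  have h5 : d = 1 := by
    by_contra hne
    have h6 : 4 ∣ 2 ^ d := by
      obtain ⟨e, rfl⟩ : ∃ e, d = e + 2 := ⟨d - 2, by omega⟩
      rw [pow_add]
      exact dvd_mul_left _ _
    omega
  rw [h5, pow_one]

theorem result {G : Type*} [Group G] [Finite G] (p : ℕ) [Fact p.Prime] (M : Ideal Cfsg.AlgInt) (hM : Cfsg.IsPModular p M) (B : Set (Cfsg.IrrCharacter G)) (hB : Cfsg.IsPBlock M B) (D : Subgroup G) (hD : Cfsg.IsDefectGroup p M B D) : Nat.card B = 2 ↔ Nat.card D = 2 := by
  classical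
  haveI := hM.2.1
  haveI := isPrime hM
  have hp := hM.1
  have hcard := defectGroup_card hM hB hD
  constructor
  · intro h2
    have hS := Cfsg.Agent.S4733.result p M hM B hB
    have hd : blockDefect p B ≠ 0 := by
      intro h
      have := (hS.2.1.mp h).1
      omega
    have hpos := BlockSmall.blockRank_pos hp (isPBlock_nonempty hB)
    have hl : blockRank p B = 1 := by
      have h3 : blockRank p B ≠ 2 := fun h => hd (hS.2.2.mpr (by rw [h2, h]))
      have := hS.1
      omega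
    obtain ⟨f, a, hf, hapos, hdeg, hsum, -, hnd⟩ := H76Rank1.rank_one hM hB hl
    obtain ⟨g, hg⟩ := H76BDim.two_characters hB h2
    obtain ⟨χ, ψ, hne, hBeq⟩ : ∃ χ ψ, χ ≠ ψ ∧ B = {χ, ψ} := by
      rw [Nat.card_coe_set_eq, Set.ncard_eq_two] at h2
      exact h2
    have hχ : χ ∈ B := by rw [hBeq]; simp
    have hψ : ψ ∈ B := by rw [hBeq]; simp
    have e1 : a χ ^ 2 + a ψ ^ 2 = p ^ blockDefect p B := by
      rw [← hsum]
      conv_rhs => rw [hBeq]
      rw [finsum_mem_pair hne]
    have e2 : p ^ blockDefect p B * f ^ 2 = g ^ 2 * 2 := by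
      have h3 : (∑ᶠ χ ∈ B, (χ : G → ℂ) 1 ^ 2) = (χ : G → ℂ) 1 ^ 2 + (ψ : G → ℂ) 1 ^ 2 := by
        conv_lhs => rw [hBeq]
        rw [finsum_mem_pair hne]
      rw [h3, hdeg χ hχ, hdeg ψ hψ] at hg
      have h4 : (((a χ ^ 2 + a ψ ^ 2) * f ^ 2 : ℕ) : ℂ) = ((g ^ 2 * 2 : ℕ) : ℂ) := by
        push_cast
        rw [← hg]
        ring
      rw [← e1]
      exact_mod_cast h4
    rw [hcard]
    obtain ⟨χ0, hχ0, h0⟩ := BlockDeg.exists_height_zero (p := p) (isPBlock_nonempty hB)
    have hn := hnd χ0 hχ0 h0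
    rw [hBeq] at hχ0
    rcases hχ0 with h | h
    · subst h
      exact arith hp hd hn e1 hf e2
    · rw [Set.mem_singleton_iff] at h
      subst h
      exact arith hp hd hn (by rw [add_comm]; exact e1) hf e2
  · intro h2
    rw [hcard] at h2
    have hd : blockDefect p B ≠ 0 := by
      intro h
      rw [h, pow_zero] at h2
      omega
    have hp2 : p = 2 := by
      have h3 : p ∣ 2 := by rw [← h2]; exact dvd_pow_self p hd
      exact (Nat.prime_dvd_prime_iff_eq hp Nat.prime_two).mp h3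
    subst hp2
    have h3 : blockDefect 2 B = 1 := by
      have : 2 ^ blockDefect 2 B = 2 ^ 1 := by rw [h2, pow_one]
      exact Nat.pow_right_injective le_rfl this
    exact (BlockSmall.defect_one hM hB h3).1

end Cfsg.Agent.S4607
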