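import Cfsg.Statements.S4648
import Cfsg.Agent.Lib.H76Loc3
import Cfsg.Agent.Lib.H76Alg4
import Cfsg.Agent.Lib.H76Nil
import Cfsg.Agent.Lib.BlockDefect

set_option autoImplicit false
open Cfsg

namespace Cfsg.Agent.S4648

open Cfsg.Agent.Lib Cfsg.Agent.Lib.H76Alg Cfsg.Agent.Lib.H76BDim Cfsg.Agent.Lib.BlockAlg
open Cfsg.Agent.Lib.BlockRing Cfsg.Agent.Lib.AbCount Cfsg.Agent.Lib.H76Nil

theorem comm_of_card {D : Type*} [Group D] [Finite D] {p : ℕ} [hp : Fact p.Prime] {n : ℕ}
    (h : Nat.card D = p ^ n) (hn : n ≤ 2) : ∀ x y : D, x * y = y * x := by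
  rcases (by omega : n = 0 ∨ n = 1 ∨ n = 2) with rfl | rfl | rfl
  · intro x y
    have := Finite.card_le_one_iff_subsingleton.mp (le_of_eq (by rw [h, pow_zero]))
    exact Subsingleton.elim _ _
  · have := isCyclic_of_prime_card (α := D) (p := p) (by rw [h, pow_one])
    intro x y
    exact (IsCyclic.isMulCommutative (α := D)).is_comm.comm x y
  · exact fun x y => (IsPGroup.isMulCommutative_of_card_eq_prime_sq h).is_comm.comm x y

/-- Let B be a block of the finite group G relative to a maximal ideal M of the algebraic integers containing the prime p, with a nontrivial defect group D. If B has p-regular rank 1 and at most four irreducible characters, then B is nilpotent, D has exactly as many elements as B has irreducible characters, and p is 2 or 3. -/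
theorem result {G : Type*} [Group G] [Finite G] (p : ℕ) [Fact p.Prime] (M : Ideal Cfsg.AlgInt) (hM : Cfsg.IsPModular p M) (B : Set (Cfsg.IrrCharacter G)) (hB : Cfsg.IsPBlock M B) (D : Subgroup G) (hD : Cfsg.IsDefectGroup p M B D) (hD1 : D ≠ ⊥) (hl : Cfsg.blockRank p B = 1) (hk : Nat.card B ≤ 4) : Cfsg.IsNilpotentBlock p M B ∧ Nat.card D = Nat.card B ∧ (p = 2 ∨ p = 3) := by
  classical
  have := hM.2.1
  have := charP_Kf hM
  have hpp : p.Prime := Fact.out
  have hcard : Nat.card D = Nat.card B := by
    obtain ⟨k, _, _, _, R, _, _, _, _, N, lamR, hN, hS, hT, hR⟩ := local_data hB hM hl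
    have h1 := hN.finrank_of_Tr_le_four hS (by rw [hT]; exact hk)
    rw [hT, hR] at h1
    rw [BlockDefect.defectGroup_card hM hB hD, h1]
  obtain ⟨n, hn⟩ := (IsPGroup.iff_card (p := p) (G := D)).1 (BlockDefect.defectGroup_isPGroup hD)
  have hn0 : n ≠ 0 := by
    rintro rfl
    rw [pow_zero, Subgroup.card_eq_one] at hn
    exact hD1 hn
  have h4 : p ^ n ≤ 4 := by rw [← hn, hcard]; exact hk
  have hn2 : n ≤ 2 := by
    by_contra hcon
    have h1 : 2 ^ 3 ≤ p ^ n := (Nat.pow_le_pow_left hpp.two_le 3).trans (Nat.pow_le_pow_right hpp.pos (by omega))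
    omega
  have hp4 : p ≤ 4 := (Nat.le_self_pow hn0 p).trans h4
  have hp23 : p = 2 ∨ p = 3 := by
    have := hpp.two_le
    interval_cases p
    · left; rfl
    · right; rfl
    · exact absurd hpp (by norm_num)
  refine ⟨?_, hcard, hp23⟩
  have hab := comm_of_card hn hn2
  have hab' : ∀ x ∈ D, ∀ y ∈ D, x * y = y * x := by
    intro x hx y hy
    exact congrArg Subtype.val (hab ⟨x, hx⟩ ⟨y, hy⟩)
  obtain ⟨c, hc⟩ := exists_abMax hB hD hab'
  apply hc.isNilpotentBlock
  by_cases hcyc : IsCyclic D
  · apply trivial_of_card hM hc hcard.symm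
    intro u hu
    by_cases hu1 : u = 1
    · rw [hu1, Subgroup.zpowers_one_eq_bot, hc.lq_bot, hl]
    · exact lq_cyclic hM hc hcyc hu hu1
  · have hp2 : p = 2 := by
      rcases hp23 with h | h
      · exact h
      · exfalso
        subst h
        have : n = 1 := by
          by_contra hcon
          have h2 : n = 2 := by omega
          subst h2
          norm_num at h4
        subst this
        exact hcyc (isCyclic_of_prime_card (p := 3) (by rw [hn, pow_one]))
    subst hp2
    have hn' : n = 2 := by
      by_contra hcon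
      have h1 : n = 1 := by omega
      subst h1
      exact hcyc (isCyclic_of_prime_card (p := 2) (by rw [hn, pow_one]))
    subst hn'
    have hc4 : Nat.card D = 4 := by rw [hn]; norm_num
    have hV : IsKleinFour D := by
      refine ⟨hc4, ?_⟩
      have h1 : Monoid.exponent D ∣ 2 := by
        apply Monoid.exponent_dvd_of_forall_pow_eq_one
        intro x
        have h2 : orderOf x ∣ 4 := by rw [← hc4]; exact orderOf_dvd_natCard x
        have h3 : orderOf x ≠ 4 := fun h => hcyc (isCyclic_of_orderOf_eq_card x (h.trans hc4.symm))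
        have h4 : orderOf x ≤ 4 := Nat.le_of_dvd (by norm_num) h2
        rw [← orderOf_dvd_iff_pow_eq_one]
        have h5 : 0 < orderOf x := orderOf_pos x
        interval_cases (orderOf x)
        · norm_num
        · norm_num
        · omega
        · omega
      have h3 : Monoid.exponent D ≠ 1 := by
        intro h
        have := Monoid.exp_eq_one_iff.1 h
        exact hcyc inferInstance
      exact ((Nat.dvd_prime Nat.prime_two).1 h1).resolve_left h3
    apply trivial_of_card hM hc hcard.symm
    intro u hu
    by_cases hu1 : u = 1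
    · rw [hu1, Subgroup.zpowers_one_eq_bot, hc.lq_bot, hl]
    · rw [lq_zpowers]
      exact hc.klein_rank hM hV hu hu1

end Cfsg.Agent.S4648
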