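import Cfsg.Statements.S4435
import Mathlib
import Cfsg.Agent.Lib.BlockFong2

set_option autoImplicit false
open Cfsg

namespace Cfsg.Agent.S4435
open Cfsg Cfsg.Agent.Lib.BlockRing Cfsg.Agent.Lib.BlockGA Cfsg.Agent.Lib.BlockIdem Cfsg.Agent.Lib.BlockFong
open Cfsg.Agent.Lib.BlockCover Cfsg.Agent.Lib.BlockInd


/-- Let N be a normal subgroup of the finite group G, b a block of N (relative to a maximal ideal M of the algebraic integers containing p), and T the stabilizer of b in G (the elements g such that conjugating any member of b by g gives a member of b); N ≤ T. Say that a block of T (or of G) covers b when some member has a constituent in b on restriction to N. Then: (i) every block B′ of T covering b induces a block B of G, B covers b, every ψ ∈ B′ induces to an irreducible character of G, and B consists exactly of the characters induced from members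 of B′; (ii) distinct blocks of T covering b induce distinct blocks of G; (iii) every block of G covering b is induced by some block of T covering b. -/
theorem result {G : Type*} [Group G] [Fintype G] (p : ℕ) [Fact p.Prime] (M : Ideal Cfsg.AlgInt) (hM : Cfsg.IsPModular p M) (N : Subgroup G) [hN : N.Normal] [Fintype N] (b : Set (Cfsg.IrrCharacter N)) (hb : Cfsg.IsPBlock M b) (T : Subgroup G) [Fintype T] (hT : ∀ g : G, g ∈ T ↔ ∀ θ ∈ b, ∀ θ' : Cfsg.IrrCharacter N, (∀ n : N, (θ' : N → ℂ) n = (θ : N → ℂ) ⟨g * n * g⁻¹, hN.conj_mem n n.2 g⟩) → θ' ∈ b) (hNT : N ≤ T) : (∀ B' : Set (Cfsg.IrrCharacter T), Cfsg.IsPBlock M B' → (∃ ψ ∈ B', ∃ θ ∈ b, Cfsg.classInner (fun n : N => (ψ : T → ℂ) ⟨(n : G), hNT n.2⟩) (θ : N → ℂ) ≠ 0) → ∃ B : Set (Cfsg.IrrCharacter G), Cfsg.IsInducedBlock M T B' B ∧ (∃ χ ∈ B, ∃ θ ∈ b, Cfsg.classInner (fun n : N => (χ : G → ℂ) n) (θ : N →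 ℂ) ≠ 0) ∧ (∀ ψ ∈ B', Cfsg.IsIrrCharacter G (Cfsg.indFun T (ψ : T → ℂ))) ∧ ∀ χ : Cfsg.IrrCharacter G, χ ∈ B ↔ ∃ ψ ∈ B', (χ : G → ℂ) = Cfsg.indFun T (ψ : T → ℂ)) ∧ (∀ B'₁ B'₂ : Set (Cfsg.IrrCharacter T), Cfsg.IsPBlock M B'₁ → Cfsg.IsPBlock M B'₂ → (∃ ψ ∈ B'₁, ∃ θ ∈ b, Cfsg.classInner (fun n : N => (ψ : T → ℂ) ⟨(n : G), hNT n.2⟩) (θ : N → ℂ) ≠ 0) → (∃ ψ ∈ B'₂, ∃ θ ∈ b, Cfsg.classInner (fun n : N => (ψ : T → ℂ) ⟨(n : G), hNT n.2⟩) (θ : N → ℂ) ≠ 0) → ∀ B : Set (Cfsg.IrrCharacter G), Cfsg.IsInducedBlock M T B'₁ B → Cfsg.IsInducedBlock M T B'₂ B → B'₁ = B'₂) ∧ (∀ B : Set (Cfsg.IrrCharacter G), Cfsg.IsPBlock M B → (∃ χ ∈ B, ∃ θ ∈ b, Cfsg.classInner (fun n : N => (χ : G → ℂ) n) (θ : N → ℂ) ≠ 0) → ∃ B' : Set (Cfsg.IrrCharacter T), Cfsg.IsPBlock M B' ∧ (∃ ψ ∈ B', ∃ θ ∈ b, Cfsg.classInner (fun n : N => (ψ : T → ℂ) ⟨(n : G), hNT n.2⟩) (θ : N → ℂ) ≠ 0) ∧ Cfsg.IsInducedBlock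 M T B' B) := by
  classical
  have hMp := isPrime hM
  have hs : Stab b T := stab_of hb hT hNT
  have hub : UnionOfBlocks M b := unionOfBlocks_of_isPBlock hb
  have hlb : LocA M (eB b) := locA_eB hb
  refine ⟨?_, ?_, ?_⟩
  · rintro B' hB' ⟨ψ₀, hψ₀, hover⟩
    obtain ⟨χ₀, hχ₀, hind, hmem⟩ := fong_main hs hub hB' hψ₀ hover
    refine ⟨_, hind, ⟨χ₀, mem_blockOf_self χ₀, ind_over hs hover hχ₀⟩, ?_, hmem⟩
    intro ψ hψ
    exact ind_irr hs (over_all hs hlb (sameBlock_of_mem hB' hψ₀ hψ) hover)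
  · rintro B'₁ B'₂ hB₁ hB₂ ⟨ψ₁, hψ₁, h₁⟩ ⟨ψ₂, hψ₂, h₂⟩ B hi₁ hi₂
    obtain ⟨χ₁, hχ₁, hind₁, hmem₁⟩ := fong_main hs hub hB₁ hψ₁ h₁
    obtain ⟨χ₂, hχ₂, hind₂, hmem₂⟩ := fong_main hs hub hB₂ hψ₂ h₂
    have e1 := induced_unique hind₁ hi₁
    have e2 := induced_unique hind₂ hi₂
    have h3 : SameBlock M (χ₁ : G → ℂ) (χ₂ : G → ℂ) := by
      have h4 : χ₂ ∈ blockOf M (χ₁ : G → ℂ) := by
        rw [e1, ← e2]; exact mem_blockOf_self χ₂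
      exact h4
    have h4 := (sameBlock_ind_iff hs hlb h₁ h₂ hχ₁ hχ₂).1 h3
    exact block_eq_of_mem hB₁ hB₂ (mem_of_sameBlock hB₁ hψ₁ h4) hψ₂
  · rintro B hB ⟨χ, hχ, hcov⟩
    obtain ⟨ψ, hψ, hχψ⟩ := ind_surj hs hcov
    refine ⟨blockOf M (ψ : T → ℂ), isPBlock_blockOf ψ, ⟨ψ, mem_blockOf_self ψ, hψ⟩, ?_⟩
    rw [eq_blockOf hB hχ]
    exact isInduced_ind (isPBlock_blockOf ψ) (mem_blockOf_self ψ) hχψ

end Cfsg.Agent.S4435
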