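import Cfsg.Statements.S4436
import Mathlib
import Cfsg.Agent.Lib.BlockFong3

set_option autoImplicit false
open Cfsg

namespace Cfsg.Agent.S4436
open Cfsg Cfsg.Agent.Lib.BlockRing Cfsg.Agent.Lib.BlockGA Cfsg.Agent.Lib.BlockIdem Cfsg.Agent.Lib.BlockFong
open Cfsg.Agent.Lib.BlockCover Cfsg.Agent.Lib.BlockInd Cfsg.Agent.Lib.BlockDefect


/-- Let N be a normal subgroup of the finite group G, b a block of N (relative to a maximal ideal M of the algebraic integers containing p), T the stabilizer of b in G, N ≤ T, and B′ a block of T covering b (some member of B′ has a constituent in b on restriction to N) that induces the block B of G. Then every defect group of B′ is a defect group of B, and for every ψ ∈ B′ the induced character ψ^G is an irreducible character of G lying in B with the same height as ψ. -/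
theorem result {G : Type*} [Group G] [Fintype G] (p : ℕ) [Fact p.Prime] (M : Ideal Cfsg.AlgInt) (hM : Cfsg.IsPModular p M) (N : Subgroup G) [hN : N.Normal] [Fintype N] (b : Set (Cfsg.IrrCharacter N)) (hb : Cfsg.IsPBlock M b) (T : Subgroup G) [Fintype T] (hT : ∀ g : G, g ∈ T ↔ ∀ θ ∈ b, ∀ θ' : Cfsg.IrrCharacter N, (∀ n : N, (θ' : N → ℂ) n = (θ : N → ℂ) ⟨g * n * g⁻¹, hN.conj_mem n n.2 g⟩) → θ' ∈ b) (hNT : N ≤ T) (B' : Set (Cfsg.IrrCharacter T)) (hB' : Cfsg.IsPBlock M B') (hcov : (∃ ψ ∈ B', ∃ θ ∈ b, Cfsg.classInner (fun n : N => (ψ : T → ℂ) ⟨(n : G), hNT n.2⟩) (θ : N → ℂ) ≠ 0)) (B : Set (Cfsg.IrrCharacter G)) (hind : Cfsg.IsInducedBlock M T B' B) : (∀ D : Subgroup T, Cfsg.IsDefectGroup p M B' D → Cfsg.IsDefectGroup p M B (D.map T.subtype)) ∧ ∀ ψ ∈ B', ∃ χ ∈ B, (χ : G → ℂ) = Cfsg.indFun T (ψ : T → ℂ) ∧ Cfsg.blockHeight p B (χ : G → ℂ) = Cfsg.blockHeight p B' (ψ : T → ℂ) := by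
  classical
  have hMp := isPrime hM
  have hs : Stab b T := stab_of hb hT hNT
  have hub : UnionOfBlocks M b := unionOfBlocks_of_isPBlock hb
  have hlb : LocA M (eB b) := locA_eB hb
  obtain ⟨ψ₀, hψ₀, hover⟩ := hcov
  obtain ⟨χ₀, hχ₀, hind', hmem⟩ := fong_main hs hub hB' hψ₀ hover
  have e1 := induced_unique hind' hind
  rw [e1] at hmem
  have hirr : ∀ ψ ∈ B', IsIrrCharacter G (indFun T (ψ : T → ℂ)) := fun ψ hψ =>
    ind_irr hs (over_all hs hlb (sameBlock_of_mem hB' hψ₀ hψ) hover)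
  have hvmin := vmin_ind (p := p) ⟨ψ₀, hψ₀⟩ hmem hirr
  have hcardG : (Nat.card G).factorization p = (Nat.card T).factorization p + T.index.factorization p := by
    rw [← T.card_mul_index, Nat.factorization_mul Nat.card_pos.ne' Subgroup.index_ne_zero_of_finite]
    rfl
  refine ⟨?_, ?_⟩
  · intro D' hD'
    obtain ⟨D, hD⟩ := exists_defectGroup hM hind.2.1
    obtain ⟨x, hx⟩ := defect_le_induced hM hind hD' hD
    refine isDefectGroup_of_le hD hx ?_
    rw [Subgroup.card_map_of_injective T.subtype_injective, defectGroup_card hM hind.2.1 hD,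
      defectGroup_card hM hB' hD', blockDefect_eq, blockDefect_eq, hvmin, hcardG]
    apply le_of_eq
    congr 1
    omega
  · intro ψ hψ
    refine ⟨⟨_, hirr ψ hψ⟩, (hmem _).2 ⟨ψ, hψ, rfl⟩, rfl, ?_⟩
    rw [blockHeight_eq, blockHeight_eq, hvmin, vdeg_ind (p := p) (ψ := ψ) (χ := ⟨_, hirr ψ hψ⟩) rfl]
    omega

end Cfsg.Agent.S4436
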