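import Cfsg.Statements.S0338
import Cfsg.Agent.Lib.ZassNormal
import Cfsg.Agent.S0339

set_option autoImplicit false
open Cfsg

namespace Cfsg.Agent.S0338

theorem calc_aux {G : Type*} [Group G] {t x y : G} (h7 : y * x⁻¹ * (t * x * t) = t * y * t) :
    t * (y * x⁻¹) = y * x⁻¹ * t := by
  calc t * (y * x⁻¹) = (t * y * t) * (t⁻¹ * x⁻¹) := by group
    _ = y * x⁻¹ * (t * x * t) * (t⁻¹ * x⁻¹) := by rw [h7]
    _ = y * x⁻¹ * t := by group

open MulAction Cfsg.Agent.Lib.ZassBasic Cfsg.Agent.Lib.ZassNormal in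
theorem aux {G Ω : Type*} [Group G] [MulAction G Ω] [Fintype Ω]
    (hZ : Cfsg.IsZassenhausGroup G Ω) (hodd : Odd (Fintype.card Ω)) : IsSimpleGroup G := by
  classical
  obtain ⟨hf, h2, h3, ⟨g0, hg0, a, b, hab, hga, hgb⟩, hreg⟩ := id hZ
  have hfG : Finite G := by
    apply Finite.of_injective (MulAction.toPermHom G Ω) MulAction.toPerm_injective
  have hnt : Nontrivial G := ⟨g0, 1, hg0⟩
  refine ⟨fun N hNn => ?_⟩
  by_cases hN : N = ⊥
  · exact Or.inl hN
  right
  have hZN := Cfsg.Agent.S0339.result hZ N hN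
  have h2N := hZN.2.1
  have hcard : Odd (Nat.card Ω) := by rwa [Nat.card_eq_fintype_card]
  -- involutions fix exactly one point
  have hinv : ∀ s : G, s * s = 1 → s ≠ 1 → Nat.card (fixedBy Ω s) = 1 := by
    intro s hs hs1
    have h4 := involution_parity (Ω := Ω) hs
    have h5 := fixedBy_le_two h3 hs1
    rw [Nat.odd_iff] at hcard
    rw [Nat.ModEq, hcard] at h4
    interval_cases Nat.card (fixedBy Ω s)
    · omega
    · rfl
    · omega
  obtain ⟨t0, ht0⟩ := exists_involution h2N hab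
  have : FaithfulSMul N Ω := hZN.1
  obtain ⟨k, hk1, hk2⟩ := exists_conj_swap h2N ht0 hab
  set t : N := k * t0 * k⁻¹ with ht
  have htt : t * t = 1 := by
    have h4 : t0 * t0 = 1 := by rw [← sq, ← ht0, pow_orderOf_eq_one]
    rw [ht, show k * t0 * k⁻¹ * (k * t0 * k⁻¹) = k * (t0 * t0) * k⁻¹ by group, h4]
    group
  have ht1 : t ≠ 1 := by
    intro h
    rw [h, one_smul] at hk1
    exact hab hk1
  clear_value t
  have htt' : (t : G) * t = 1 := congrArg Subtype.val htt
  have ht1' : (t : G) ≠ 1 := fun h => ht1 (Subtype.ext h)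
  have hta : (t : G) • a = b := hk1
  have htb : (t : G) • b = a := hk2
  obtain ⟨c, hc⟩ : ∃ c : Ω, (t : G) • c = c := by
    have h4 := hinv _ htt' ht1'
    have : Nonempty (fixedBy Ω (t : G)) := (Nat.card_pos_iff.mp (by omega)).1
    exact ⟨this.some, this.some.2⟩
  have huniq : ∀ d : Ω, (t : G) • d = d → d = c := by
    intro d hd
    have h4 := hinv _ htt' ht1'
    have : Subsingleton (fixedBy Ω (t : G)) := (Nat.card_eq_one_iff_unique.mp h4).1
    exact congrArg Subtype.val (Subsingleton.elim (⟨d, hd⟩ : fixedBy Ω (t : G)) ⟨c, hc⟩)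
  have hca : c ≠ a := by
    rintro rfl; exact hab (hc.symm.trans hta)
  have hcb : c ≠ b := by
    rintro rfl; exact hab (htb.symm.trans hc)
  have htinv : (t : G)⁻¹ = t := inv_eq_of_mul_eq_one_right htt'
  set H := stabilizer G a ⊓ stabilizer G b with hH
  have hHa : ∀ h ∈ H, h • a = a := fun h hh => hh.1
  have hHb : ∀ h ∈ H, h • b = b := fun h hh => hh.2
  -- H ≤ N
  have hHN : H ≤ N := by
    let f : H → H := fun h => ⟨(h : G)⁻¹ * (t * h * t), by
      refine ⟨?_, ?_⟩
      · show ((h : G)⁻¹ * (t * h * t)) • a = a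
        rw [mul_smul, mul_smul, mul_smul, hta, hHb h h.2, htb, inv_smul_of_smul (hHa h h.2)]
      · show ((h : G)⁻¹ * (t * h * t)) • b = b
        rw [mul_smul, mul_smul, mul_smul, htb, hHa h h.2, hta, inv_smul_of_smul (hHb h h.2)]⟩
    have hfi : Function.Injective f := by
      intro x y hxy
      have h4 : (x : G)⁻¹ * (t * x * t) = (y : G)⁻¹ * (t * y * t) := congrArg Subtype.val hxy
      have h5 : (y : G) * (x : G)⁻¹ ∈ H := mul_mem y.2 (inv_mem x.2)
      have h6 : (t : G) * (y * (x : G)⁻¹) = (y * (x : G)⁻¹) * t := by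
        have h7 : (y : G) * (x : G)⁻¹ * (t * x * t) = t * y * t := by
          rw [mul_assoc, h4, mul_inv_cancel_left]
        exact calc_aux h7
      have h8 : (y * (x : G)⁻¹) • c = c := by
        apply huniq
        rw [← mul_smul, h6, mul_smul, hc]
      have h9 := h3 _ a b c hab hcb.symm hca.symm (hHa _ h5) (hHb _ h5) h8
      exact Subtype.ext (mul_inv_eq_one.mp h9).symm
    have hfs : Function.Surjective f := Finite.surjective_of_injective hfi
    intro h hh
    obtain ⟨x, hx⟩ := hfs ⟨h, hh⟩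
    have h4 : (x : G)⁻¹ * (t * x * t) = h := congrArg Subtype.val hx
    rw [← h4]
    have h5 : (x : G)⁻¹ * t * x ∈ N := by
      have := hNn.conj_mem t t.2 (x : G)⁻¹
      rwa [inv_inv] at this
    have h6 : (x : G)⁻¹ * (t * x * t) = ((x : G)⁻¹ * t * x) * t := by group
    rw [h6]
    exact mul_mem h5 t.2
  rw [eq_top_iff]
  intro g _
  obtain ⟨n, hn1, hn2⟩ := exists_move h2N hab (fun h => hab (MulAction.injective g h) : g • a ≠ g • b)
  have hn1' : (n : G) • a = g • a := hn1
  have hn2' : (n : G) • b = g • b := hn2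
  have h4 : (n : G)⁻¹ * g ∈ H := by
    refine ⟨?_, ?_⟩
    · show ((n : G)⁻¹ * g) • a = a
      rw [mul_smul, ← hn1', inv_smul_smul]
    · show ((n : G)⁻¹ * g) • b = b
      rw [mul_smul, ← hn2', inv_smul_smul]
  have h5 := N.mul_mem n.2 (hHN h4)
  rwa [mul_inv_cancel_left] at h5

/-- A Zassenhaus group of odd degree is a simple group. -/
theorem result {G Ω : Type*} [Group G] [MulAction G Ω] [Fintype Ω]
    (hZ : Cfsg.IsZassenhausGroup G Ω) (hodd : Odd (Fintype.card Ω)) : IsSimpleGroup G := by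
  exact aux hZ hodd

end Cfsg.Agent.S0338
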