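import Cfsg.Statements.S4355
import Cfsg.Agent.Lib.TwoCentralAb

set_option autoImplicit false
open Cfsg

namespace Cfsg.Agent.S4355

/-- If every element of 2-power order of a finite group has a conjugacy class of odd size, then the Sylow 2-subgroups of the group are abelian. -/
theorem result {G : Type*} [Group G] [Finite G]
    (h : ∀ x : G, (∃ k : ℕ, orderOf x = 2 ^ k) → ¬ 2 ∣ (Subgroup.centralizer ({x} : Set G)).index) (P : Sylow 2 G) :
    IsMulCommutative P := by
  have : Fact (Nat.Prime 2) := ⟨Nat.prime_two⟩
  refine Cfsg.Agent.Lib.TwoCentralAb.main (fun x hx => ?_) P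
  have h1 := h x hx
  obtain ⟨R⟩ : Nonempty (Sylow 2 (Subgroup.centralizer ({x} : Set G))) := inferInstance
  -- the Sylow of the centralizer has full order
  have hR : IsPGroup 2 ((R : Subgroup (Subgroup.centralizer ({x} : Set G))).map (Subgroup.centralizer ({x} : Set G)).subtype) :=
    R.2.map _
  obtain ⟨Q, hQ⟩ := hR.exists_le_sylow
  have hcard : Nat.card Q ≤ Nat.card (R : Subgroup (Subgroup.centralizer ({x} : Set G))) := by
    rw [Q.card_eq_multiplicity, R.card_eq_multiplicity]
    apply Nat.pow_le_pow_right (by norm_num)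
    have h2 := (Subgroup.centralizer ({x} : Set G)).card_mul_index
    rw [← h2, Nat.factorization_mul Nat.card_pos.ne' Subgroup.index_ne_zero_of_finite]
    simp [Nat.factorization_eq_zero_of_not_dvd h1]
  have heq : (R : Subgroup (Subgroup.centralizer ({x} : Set G))).map (Subgroup.centralizer ({x} : Set G)).subtype = Q := by
    apply Subgroup.eq_of_le_of_card_ge hQ
    rw [Subgroup.card_map_of_injective (Subgroup.subtype_injective _)]
    exact hcard
  refine ⟨Q, ?_⟩
  rw [← heq]
  rintro _ ⟨y, -, rfl⟩
  exact y.2


end Cfsg.Agent.S4355
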