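import Cfsg.Statements.S5422
import Cfsg.Agent.Lib.LargeExtra4

set_option autoImplicit false
open Cfsg

namespace Cfsg.Agent.S5422

open Cfsg.Agent.Lib.LargeExtra

/-- Let Q be an extraspecial 2-subgroup of the finite group G whose centralizer in G is its centre Z and which is normal in the centralizer of Z; suppose Q has width at least 2 (order 2^(2w+1) with w ≥ 2) and g is an element of G not normalizing Z with g Z g⁻¹ inside Q. Then Z lies inside g Q g⁻¹; writing V for the subgroup generated by Z and g Z g⁻¹ (a four-group), the normalizer of V induces on V its full automorphism group, that is, the centralizer of V has index 6 in the normalizer of V; and Q is a large extraspecial 2-subgroup of G. -/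
theorem result {G : Type*} [Group G] [Finite G] (Q : Subgroup G) (hL1 : Cfsg.IsExtraspecial 2 ↥Q) (hL2 : Subgroup.centralizer (Q : Set G) = ((Subgroup.center ↥Q).map Q.subtype)) (hL3 : Subgroup.centralizer (((Subgroup.center ↥Q).map Q.subtype) : Set G) ≤ Subgroup.normalizer (Q : Set G)) (w : ℕ) (hw : 2 ≤ w) (hcard : Nat.card ↥Q = 2 ^ (2 * w + 1)) (g : G) (hg : g ∉ Subgroup.normalizer (((Subgroup.center ↥Q).map Q.subtype) : Set G)) (hZg : (((Subgroup.center ↥Q).map Q.subtype)).map (MulAut.conj g).toMonoidHom ≤ Q) : ((Subgroup.center ↥Q).map Q.subtype) ≤ (Q).map (MulAut.conj g).toMonoidHom ∧ (Subgroup.centralizer ((((Subgroup.center ↥Q).map Q.subtype) ⊔ (((Subgroup.center ↥Q).map Q.subtype)).map (MulAut.conj g).toMonoidHom : Subgroup G) : Set G)).relIndex (Subgroup.normalizer ((((Subgroup.center ↥Q).map Q.subtype) ⊔ (((Subgroup.center ↥Q).map Q.subtype)).map (MulAut.conj g).toMonoidHom : Subgroup G) : Set G)) = 6 ∧ Cfsg.IsLargeExtraspecial Q := by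
  obtain ⟨z, h⟩ := exists_preLarge hL1 hL2 hL3
  have h1 := h.conj g
  have hsQ : g * z * g⁻¹ ∈ Q := hZg (by
    rw [mem_map_conj_iff]
    have : g⁻¹ * (g * z * g⁻¹) * g = z := by group
    rw [this]; exact h.mem_map_iff.2 (Or.inr rfl))
  have hne : g * z * g⁻¹ ≠ z := by
    intro he
    apply hg
    rw [Subgroup.mem_normalizer_iff]
    intro x
    rw [h.mem_map_iff, h.mem_map_iff]
    have hinj : ∀ x y : G, g * x * g⁻¹ = g * y * g⁻¹ ↔ x = y := by
      intro x y; constructor
      · intro hxy; exact mul_left_cancel (mul_right_cancel hxy)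
      · intro hxy; rw [hxy]
    constructor
    · rintro (rfl | rfl)
      · left; group
      · right; exact he
    · rintro (hx | hx)
      · left
        have : g * x * g⁻¹ = g * 1 * g⁻¹ := by rw [hx]; group
        exact (hinj _ _).1 this
      · right
        have : g * x * g⁻¹ = g * z * g⁻¹ := by rw [hx, he]
        exact (hinj _ _).1 this
  have h8 : 8 < Nat.card Q := by
    rw [hcard]
    calc 8 < 2 ^ 5 := by norm_num
      _ ≤ 2 ^ (2 * w + 1) := Nat.pow_le_pow_right (by norm_num) (by omega)
  have hna := h.exists_nonab_centralizer h8 hsQ h1.ne hne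
  have hzQ1 := h.mem_conj hsQ hne hna
  generalize hs : g * z * g⁻¹ = s at *
  have hV : ((Subgroup.center ↥Q).map Q.subtype) ⊔
      (((Subgroup.center ↥Q).map Q.subtype)).map (MulAut.conj g).toMonoidHom =
      Subgroup.closure ({z, s} : Set G) := by
    rw [h.map, MonoidHom.map_zpowers]
    have : (MulAut.conj g).toMonoidHom z = s := by rw [← hs]; rfl
    rw [this, Subgroup.zpowers_eq_closure, Subgroup.zpowers_eq_closure, ← Subgroup.closure_union]
    rfl
  refine ⟨?_, ?_, ?_⟩
  · intro x hx
    rcases h.mem_map_iff.1 hx with rfl | rfl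
    · exact one_mem _
    · exact hzQ1
  · rw [hV]
    have hcomm : z * s = s * z := (h.cen s hsQ).symm
    obtain ⟨a, haQ, has⟩ := h.exists_conj hsQ h1.ne hne
    obtain ⟨b, hbQ, hbz⟩ := h1.exists_conj hzQ1 h.ne hne.symm
    have haz : a * z * a⁻¹ = z := by rw [h.cen a haQ, mul_inv_cancel_right]
    have hbs : b * s * b⁻¹ = s := by rw [h1.cen b hbQ, mul_inv_cancel_right]
    rw [← hcomm] at hbz
    have hmem := @mem_closure_pair_iff G _ z s h.sq h1.sq hcomm
    have hconj1 : ∀ x y : G, x * y * x⁻¹ = 1 → y = 1 := by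
      intro x y hxy
      rw [mul_inv_eq_one] at hxy
      have : x * y = x * 1 := by rw [hxy, mul_one]
      exact mul_left_cancel this
    have hnorm : ∀ x : G, x * z * x⁻¹ ∈ Subgroup.closure ({z, s} : Set G) →
        x * s * x⁻¹ ∈ Subgroup.closure ({z, s} : Set G) →
        x ∈ Subgroup.normalizer ((Subgroup.closure ({z, s} : Set G) : Subgroup G) : Set G) := by
      intro x hx1 hx2
      apply Subgroup.mem_normalizer_fintype
      intro n hn
      rcases hmem.1 hn with rfl | rfl | rfl | rfl
      · simp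
      · exact hx1
      · exact hx2
      · have : x * (z * s) * x⁻¹ = (x * z * x⁻¹) * (x * s * x⁻¹) := by group
        rw [SetLike.mem_coe, this]; exact mul_mem hx1 hx2
    refine relIndex_eq_six h.sq h1.sq hcomm h.ne h1.ne hne.symm _ ?_ ?_ (a := a) (b := b) ?_ ?_ haz has hbs hbz _ ?_
    · intro x hx
      have := (Subgroup.mem_normalizer_iff.1 hx z).1 (hmem.2 (Or.inr (Or.inl rfl)))
      rcases hmem.1 this with h2 | h2
      · exact absurd (hconj1 x z h2) h.ne
      · exact h2
    · intro x hx
      have := (Subgroup.mem_normalizer_iff.1 hx s).1 (hmem.2 (Or.inr (Or.inr (Or.inl rfl))))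
      rcases hmem.1 this with h2 | h2
      · exact absurd (hconj1 x s h2) h1.ne
      · exact h2
    · apply hnorm
      · rw [haz]; exact hmem.2 (Or.inr (Or.inl rfl))
      · rw [has]; exact hmem.2 (Or.inr (Or.inr (Or.inr rfl)))
    · apply hnorm
      · rw [hbz]; exact hmem.2 (Or.inr (Or.inr (Or.inr rfl)))
      · rw [hbs]; exact hmem.2 (Or.inr (Or.inr (Or.inl rfl)))
    · intro x _
      rw [centralizer_closure_pair, Subgroup.mem_inf, Subgroup.mem_centralizer_singleton_iff,
        Subgroup.mem_centralizer_singleton_iff]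
  · refine ⟨hL1, hL2, hL3, ?_⟩
    intro K hK hQK
    exact h.odd_eq_bot h1 hsQ hne hzQ1 hK (fun q hq k hk => conj_mem_of_le_normalizer (hQK hq) hk)

end Cfsg.Agent.S5422
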