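import Cfsg.Statements.S4249
import Cfsg.Agent.Lib.Hughes2

set_option autoImplicit false
open Cfsg

namespace Cfsg.Agent.S4249

/-- Let G be a finite group and p a prime such that G is not a p-group, and suppose the Hughes subgroup H_p(G), generated by all elements g with g^p ≠ 1, is a proper subgroup. Then H_p(G) is nilpotent and has index p in G. -/
theorem result {G : Type*} [Group G] [Finite G] (p : ℕ) (hp : p.Prime) (hG : ¬ IsPGroup p G)
    (hH : Subgroup.closure {g : G | g ^ p ≠ 1} ≠ ⊤) :
    Group.IsNilpotent (Subgroup.closure {g : G | g ^ p ≠ 1}) ∧ (Subgroup.closure {g : G | g ^ p ≠ 1}).index = p := by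
  have : Fact p.Prime := ⟨hp⟩
  have hn : (Subgroup.closure {g : G | g ^ p ≠ 1}).Normal := by
    rw [← Subgroup.normalizer_eq_top_iff, eq_top_iff]
    refine le_trans ?_ (Subgroup.normalizer_le_normalizer_closure _)
    intro x _
    intro g
    have h1 : (x * g * x⁻¹) ^ p = x * g ^ p * x⁻¹ := conj_pow
    rw [Set.mem_ofPred_eq, Set.mem_ofPred_eq, h1]
    apply not_congr
    constructor
    · intro h; rw [h]; group
    · intro h
      have := congrArg (fun y => x⁻¹ * y * x) h
      simpa [mul_assoc] using this
  have h1 : ∀ g : G, g ∉ Subgroup.closure {g : G | g ^ p ≠ 1} → g ^ p = 1 := by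
    intro g hg
    by_contra h
    exact hg (Subgroup.subset_closure h)
  have h2 := Lib.Hughes.index_eq hG _ hH h1
  exact ⟨Lib.Hughes.kegel _ h2 h1, h2⟩

end Cfsg.Agent.S4249
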