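import Cfsg.Statements.S3035
import Cfsg.Agent.Lib.CentD8C
import Cfsg.Agent.S0255
import Cfsg.Agent.S0254

set_option autoImplicit false
open Cfsg

namespace Cfsg.Agent.S3035


set_option linter.all false

theorem key : ∀ r : ZMod 2, r ^ 3 = 1 → r = 1 := by decide


/-- Let G be a finite group with an involution z whose centralizer is dihedral of order 8. Then G = C_G(z) O(G) with O(G) the largest normal subgroup of odd order, or G is isomorphic to the symmetric group of degree 4, the symmetric group of degree 5, the group SL₃(2), or the alternating group of degree 6. -/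
theorem result {G : Type*} [Group G] [Finite G] (z : G) (hz : orderOf z = 2)
    (hC : Nonempty (↥(Subgroup.centralizer ({z} : Set G)) ≃* DihedralGroup 4)) :
    Subgroup.centralizer ({z} : Set G) ⊔ Cfsg.oddCore G = ⊤ ∨ Nonempty (G ≃* Equiv.Perm (Fin 4)) ∨ Nonempty (G ≃* Equiv.Perm (Fin 5)) ∨
      Nonempty (G ≃* Matrix.SpecialLinearGroup (Fin 3) (ZMod 2)) ∨ Nonempty (G ≃* ↥(alternatingGroup (Fin 6))) := by
  obtain ⟨ι, h⟩ := Cfsg.Agent.Lib.CentD8.exists_emb z hz hC
  by_cases hA : IsConj z (ι (DihedralGroup.sr 0))
  · by_cases hB : IsConj z (ι (DihedralGroup.sr 1))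
    · obtain ⟨F, _, _, h1, h2, ⟨e⟩⟩ := h.psl2 hA hB
      rcases h.q_eq hA F h1 h2 e with hq | hq
      · haveI : Fact (Nat.Prime 2) := ⟨Nat.prime_two⟩
        obtain ⟨e2⟩ := Cfsg.Agent.S0255.result (F := F) (K := ZMod 2) hq (by simp [ZMod.card])
        right; right; right; left
        have hbot : Subgroup.center (Matrix.SpecialLinearGroup (Fin 3) (ZMod 2)) = ⊥ := by
          rw [eq_bot_iff]
          intro A hA
          rw [Subgroup.mem_bot]
          rw [Matrix.SpecialLinearGroup.mem_center_iff] at hA
          obtain ⟨r, hr, hrA⟩ := hA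
          have : r = 1 := key r (by simpa using hr)
          subst this
          apply Subtype.ext
          rw [← hrA]
          simp
        have e3 : Matrix.ProjectiveSpecialLinearGroup (Fin 3) (ZMod 2) ≃* Matrix.SpecialLinearGroup (Fin 3) (ZMod 2) :=
          (QuotientGroup.quotientMulEquivOfEq hbot).trans QuotientGroup.quotientBot
        exact ⟨(e.trans e2).trans e3⟩
      · obtain ⟨e2⟩ := Cfsg.Agent.S0254.result (F := F) hq
        right; right; right; right
        exact ⟨e.trans e2⟩
    · rcases h.case_one hA hB with h1 | h1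
      · exact Or.inr (Or.inl h1)
      · exact Or.inr (Or.inr (Or.inl h1))
  · by_cases hB : IsConj z (ι (DihedralGroup.sr 1))
    · rcases h.case_one' hA hB with h1 | h1
      · exact Or.inr (Or.inl h1)
      · exact Or.inr (Or.inr (Or.inl h1))
    · exact Or.inl (h.case_isolated hA hB)

end Cfsg.Agent.S3035
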