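import Cfsg.Statements.S3277
import Cfsg.Agent.Lib.H55Klein
import Cfsg.Agent.Lib.SmallFusion
import Cfsg.Agent.Lib.Transfer
import Cfsg.Agent.Lib.ElemCent3
import Cfsg.Agent.Lib.ClSmall
import Cfsg.Agent.S3276

set_option autoImplicit false
open Cfsg

namespace Cfsg.Agent.S3277

open Cfsg.Agent.Lib Cfsg.Agent.Lib.H55Invol in
/-- Let G be a finite group containing an involution whose centralizer is elementary abelian of order 4. If G has no normal 2-complement and no normal elementary abelian 2-subgroup of order 2 or 4, then G is isomorphic to the alternating group of degree 5 (that is, to PSL(2, 5)). -/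
theorem result {G : Type*} [Group G] [Finite G] (x : G) (hx : orderOf x = 2)
    (hC4 : Nat.card ↥(Subgroup.centralizer ({x} : Set G)) = 4) (hCe : ∀ c ∈ Subgroup.centralizer ({x} : Set G), c ^ 2 = 1)
    (hnc : ¬ Cfsg.HasNormalPComplement 2 G)
    (hne : ∀ E : Subgroup G, E.Normal → Cfsg.IsElementaryAbelian 2 E → Nat.card ↥E ≠ 2 ∧ Nat.card ↥E ≠ 4) :
    Nonempty (G ≃* ↥(alternatingGroup (Fin 5))) := by
  set C := Subgroup.centralizer ({x} : Set G) with hC
  have hxC : x ∈ C := by rw [hC, Subgroup.mem_centralizer_singleton_iff]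
  have hK : IsKleinFour ↥C := by
    refine ⟨hC4, ?_⟩
    apply Nat.dvd_antisymm
    · rw [Monoid.exponent_dvd_iff_forall_pow_eq_one]
      intro c
      exact Subtype.ext (hCe c c.2)
    · rw [← hx]
      have := Monoid.order_dvd_exponent (⟨x, hxC⟩ : ↥C)
      rwa [Subgroup.orderOf_mk] at this
  have hodd : ¬ 2 ∣ C.relIndex C := by rw [Subgroup.relIndex_self]; norm_num
  have hn : (C.subgroupOf C).Normal := by rw [Subgroup.subgroupOf_self]; infer_instance
  rcases H55Klein.main x hx C le_rfl hK hodd hn with ⟨P, hP⟩ | ⟨z, hzC, hz, hxz, hnconj, hstar⟩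
  · have hKP : IsKleinFour ↥(P : Subgroup G) := by rw [hP]; exact hK
    have hPcomm : ∀ a ∈ (P : Subgroup G), ∀ b ∈ (P : Subgroup G), a * b = b * a := fun a ha b hb =>
      H55Klein.klein_comm hKP ha hb
    rcases SmallFusion.klein_dichotomy P hKP with h | h
    · have hcyc : ¬ IsCyclic (P : Subgroup G) := IsKleinFour.not_isCyclic
      have hnn : ¬ (P : Subgroup G).Normal := by
        intro hnor
        refine (hne (P : Subgroup G) hnor ⟨IsKleinFour.isMulCommutative, ?_⟩).2 hKP.card_four
        intro a ha
        rw [pow_two]; exact H55Klein.klein_sq hKP ha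
      have hcent : ∀ t : G, orderOf t = 2 → IsMulCommutative (Subgroup.centralizer ({t} : Set G)) ∧
          ∀ c ∈ Subgroup.centralizer ({t} : Set G), c ^ 2 = 1 := by
        intro t ht
        obtain ⟨g, hg⟩ := isConj_iff.1 (h x t hx ht)
        have key : ∀ c ∈ Subgroup.centralizer ({t} : Set G), g⁻¹ * c * g ∈ C := by
          intro c hc
          rw [Subgroup.mem_centralizer_singleton_iff, ← hg] at hc
          rw [hC, Subgroup.mem_centralizer_singleton_iff]
          calc g⁻¹ * c * g * x = g⁻¹ * (c * (g * x * g⁻¹)) * g := by group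
            _ = g⁻¹ * (g * x * g⁻¹ * c) * g := by rw [hc]
            _ = x * (g⁻¹ * c * g) := by group
        constructor
        · rw [isMulCommutative_iff]
          rintro ⟨a, ha⟩ ⟨b, hb⟩
          apply Subtype.ext
          show a * b = b * a
          have h1 := H55Klein.klein_comm hK (key a ha) (key b hb)
          calc a * b = g * ((g⁻¹ * a * g) * (g⁻¹ * b * g)) * g⁻¹ := by group
            _ = g * ((g⁻¹ * b * g) * (g⁻¹ * a * g)) * g⁻¹ := by rw [h1]
            _ = b * a := by group
        · intro c hc
          have h1 := H55Klein.klein_sq hK (key c hc)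
          calc c ^ 2 = g * ((g⁻¹ * c * g) * (g⁻¹ * c * g)) * g⁻¹ := by rw [pow_two]; group
            _ = 1 := by rw [h1]; group
      obtain ⟨F, iF, iFt, hF, ⟨e⟩⟩ := ElemCent.psl_two P hcyc hnn hcent
      have hF4 : Fintype.card F = 4 := by
        rw [hF]; exact hKP.card_four
      obtain ⟨e2⟩ := ClSmall.psl2_four hF4
      exact ⟨e.trans e2⟩
    · exfalso
      apply hnc
      apply Transfer.hasNormalPComplement_of_ownFusion P
      rintro a ha b hb ⟨g, hg⟩
      have hab : a = b := h a ha b hb (isConj_iff.2 ⟨g, hg⟩)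
      exact ⟨1, one_mem _, by rw [← hab]; group⟩
  · exfalso
    have hS := Cfsg.Agent.S3276.result x z hx hz hxz hnconj hstar
    obtain ⟨-, hel, hcard⟩ := hS
    set N := Subgroup.normalClosure ({z} : Set G) with hN
    have hzN : z ∈ N := Subgroup.subset_normalClosure (Set.mem_singleton z)
    have hcomm : ∀ a ∈ N, ∀ b ∈ N, a * b = b * a := by
      intro a ha b hb
      exact congrArg Subtype.val (hel.1.is_comm.comm (⟨a, ha⟩ : ↥N) ⟨b, hb⟩)
    have h4 : Nat.card ↥N ≤ 4 := by
      by_cases hxN : x ∈ N
      · rw [← hC4]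
        apply Subgroup.card_le_of_le
        intro a ha
        rw [hC, Subgroup.mem_centralizer_singleton_iff]
        exact hcomm a ha x hxN
      · apply hcard
        intro u hu huo hux
        by_contra huz
        have huC : u ∈ C := by rw [hC, Subgroup.mem_centralizer_singleton_iff]; exact hux
        have hux' : u ≠ x := by rintro rfl; exact hxN hu
        have hxz' : x ≠ z := by rintro rfl; exact hnconj (IsConj.refl _)
        have h3 := H55Klein.klein_eq_mul hK hxC hzC huC (ne_one hx) (ne_one hz) hxz' (ne_one huo) hux' huz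
        apply hxN
        have : x = u * z := by
          rw [h3, mul_assoc, mul_self hz, mul_one]
        rw [this]
        exact mul_mem hu hzN
    have h2 : 2 ∣ Nat.card ↥N := by
      rw [← hz]
      have := orderOf_dvd_natCard (⟨z, hzN⟩ : ↥N)
      rwa [Subgroup.orderOf_mk] at this
    have h0 : 0 < Nat.card ↥N := Nat.card_pos
    have := hne N Subgroup.normalClosure_normal hel
    omega

end Cfsg.Agent.S3277
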