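import Cfsg.Statements.S5430
import Cfsg.Agent.Lib.LargeExtra6

set_option autoImplicit false
open Cfsg

namespace Cfsg.Agent.S5430

open Cfsg.Agent.Lib.LargeExtra

/-- set-up: the pair attached to the hypotheses. -/
theorem pair_of {G : Type*} [Group G] (Q : Subgroup G) (hQ : Cfsg.IsLargeExtraspecial Q) (z : G) (hz : ((Subgroup.center ↥Q).map Q.subtype) = Subgroup.zpowers z) (hz2 : orderOf z = 2) (w : ℕ) (hw : 2 ≤ w) (hcard : Nat.card ↥Q = 2 ^ (2 * w + 1)) (g : G) (hgH : g ∉ Subgroup.centralizer ({z} : Set G)) (hgQ : g * z * g⁻¹ ∈ Q) :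
    Pair Q (Q.map (MulAut.conj g).toMonoidHom) z (g * z * g⁻¹) := by
  obtain ⟨z', h⟩ := exists_preLarge hQ.1 hQ.2.1 hQ.2.2.1
  have hzz' : z = z' := by
    have h1 : z ∈ (Subgroup.center ↥Q).map Q.subtype := by rw [hz]; exact Subgroup.mem_zpowers z
    rcases h.mem_map_iff.1 h1 with h2 | h2
    · rw [h2, orderOf_one] at hz2; exact absurd hz2 (by norm_num)
    · exact h2
  subst hzz'
  have h1 := h.conj g
  have hne : g * z * g⁻¹ ≠ z := by
    intro he
    apply hgH
    rw [Subgroup.mem_centralizer_singleton_iff]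
    rw [mul_inv_eq_iff_eq_mul] at he; exact he
  have h8 : 8 < Nat.card Q := by
    rw [hcard]
    calc 8 < 2 ^ 5 := by norm_num
      _ ≤ 2 ^ (2 * w + 1) := Nat.pow_le_pow_right (by norm_num) (by omega)
  have hna := h.exists_nonab_centralizer h8 hgQ h1.ne hne
  exact ⟨h, h1, hgQ, h.mem_conj hgQ hne hna, hne, fun _ hy => h.map_conj_eq hy⟩

/-- Let Q be a large extraspecial 2-subgroup of the finite group G (extraspecial; centralizer equal to its centre; normal in the centralizer of its centre; normalizing no non-trivial subgroup of odd order) with centre generated by z, an involution, of width w ≥ 2 (order 2^(2w+1)); let g be an element outside the centralizer H of z with g z g⁻¹ in Q; write V for the subgroup generated by z and g z g⁻¹, X for the subgroup generated by Q and g Q g⁻¹, R for the subgroup generated by the centralizer of z in g Q g⁻¹ and the centralizer of g z g⁻¹ in Q, and E for the intersection of Q and g Q g⁻¹. Then R is the centralizer of V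 in X and is the largest normal 2-subgroup of X, and X/R is isomorphic to the symmetric group of degree 3; moreover the normalizer of V is the product of X and the centralizer of V in H, X is normal in it, and modulo R it is the direct product of X/R and of the centralizer of V in H modulo R. -/
theorem result {G : Type*} [Group G] [Finite G] (Q : Subgroup G) (hQ : Cfsg.IsLargeExtraspecial Q) (z : G) (hz : ((Subgroup.center ↥Q).map Q.subtype) = Subgroup.zpowers z) (hz2 : orderOf z = 2) (w : ℕ) (hw : 2 ≤ w) (hcard : Nat.card ↥Q = 2 ^ (2 * w + 1)) (g : G) (hgH : g ∉ Subgroup.centralizer ({z} : Set G)) (hgQ : g * z * g⁻¹ ∈ Q) (V X R E : Subgroup G) (hV : V = Subgroup.closure ({z, g * z * g⁻¹} : Set G)) (hX : X = Q ⊔ (Q).map (MulAut.conj g).toMonoidHom) (hR : R = ((Q).map (MulAut.conj g).toMonoidHom ⊓ Subgroup.centralizer ({z} : Set G)) ⊔ (Q ⊓ Subgroup.centralizer ({g * z * g⁻¹} : Set G))) (hE : E = Q ⊓ (Q).map (MulAut.conj g).toMonoidHom) : R = X ⊓ Subgroup.centralizer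 (V : Set G) ∧ R = (Cfsg.pCore 2 ↥X).map X.subtype ∧ (∃ h : (R.subgroupOf X).Normal, Nonempty (↥X ⧸ R.subgroupOf X ≃* Equiv.Perm (Fin 3))) ∧ Subgroup.normalizer (V : Set G) = X ⊔ (Subgroup.centralizer ({z} : Set G) ⊓ Subgroup.centralizer (V : Set G)) ∧ (∀ y ∈ Subgroup.normalizer (V : Set G), ∀ x ∈ X, y * x * y⁻¹ ∈ X) ∧ R ≤ Subgroup.centralizer ({z} : Set G) ⊓ Subgroup.centralizer (V : Set G) ∧ (∀ x ∈ X, ∀ c ∈ Subgroup.centralizer ({z} : Set G) ⊓ Subgroup.centralizer (V : Set G), x * c * x⁻¹ * c⁻¹ ∈ R) ∧ X ⊓ (Subgroup.centralizer ({z} : Set G) ⊓ Subgroup.centralizer (V : Set G)) = R := by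
  haveI : Fact (Nat.Prime 2) := ⟨Nat.prime_two⟩
  have p := pair_of Q hQ z hz hz2 w hw hcard g hgH hgQ
  clear hE
  generalize hQ1 : Q.map (MulAut.conj g).toMonoidHom = Q1 at *
  generalize hs : g * z * g⁻¹ = s at *
  change R = Pair.R Q Q1 z s at hR
  subst hR hX hV
  have hCV : ∀ x : G, x ∈ Subgroup.centralizer ((Subgroup.closure ({z, s} : Set G) : Subgroup G) : Set G) ↔
      (x * z = z * x ∧ x * s = s * x) := by
    intro x
    rw [centralizer_closure_pair, Subgroup.mem_inf, Subgroup.mem_centralizer_singleton_iff,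
      Subgroup.mem_centralizer_singleton_iff]
  have hCVz : ∀ x : G, x ∈ Subgroup.centralizer ({z} : Set G) ⊓ Subgroup.centralizer ((Subgroup.closure ({z, s} : Set G) : Subgroup G) : Set G) ↔
      (x * z = z * x ∧ x * s = s * x) := by
    intro x
    rw [Subgroup.mem_inf, hCV, Subgroup.mem_centralizer_singleton_iff]
    tauto
  have hn := p.normal
  obtain ⟨φ, hφs, hker, hφ⟩ := p.exists_equiv
  have hnorm : Subgroup.normalizer ((Subgroup.closure ({z, s} : Set G) : Subgroup G) : Set G) = (Q ⊔ Q1) ⊔ (Subgroup.centralizer ({z} : Set G) ⊓ Subgroup.centralizer ((Subgroup.closure ({z, s} : Set G) : Subgroup G) : Set G)) := by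
    apply le_antisymm
    · intro n hn
      obtain ⟨a, haQ, b, hbQ, haz, has, hbs, hbz⟩ := p.exists_ab
      have haX : a ∈ Q ⊔ Q1 := Subgroup.mem_sup_left haQ
      have hbX : b ∈ Q ⊔ Q1 := Subgroup.mem_sup_right hbQ
      have hzsz : ∀ x : G, x * (z * s) * x⁻¹ = (x * z * x⁻¹) * (x * s * x⁻¹) := by intro x; group
      have hb' : b * (z * s) * b⁻¹ = z := by rw [hzsz, hbz, hbs, mul_assoc, p.h1.sq, mul_one]
      have ha' : a * (z * s) * a⁻¹ = s := by rw [hzsz, haz, has, ← mul_assoc, p.h.sq, one_mul]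
      -- find x with x z x⁻¹ = n z n⁻¹
      obtain ⟨x, hxX, hx⟩ : ∃ x ∈ Q ⊔ Q1, x * z * x⁻¹ = n * z * n⁻¹ := by
        rcases p.tri_z hn with h | h | h
        · exact ⟨1, one_mem _, by rw [h]; simp⟩
        · refine ⟨a * b, mul_mem haX hbX, ?_⟩
          have : (a * b) * z * (a * b)⁻¹ = a * (b * z * b⁻¹) * a⁻¹ := by group
          rw [h, this, hbz, ha']
        · exact ⟨b, hbX, by rw [h, hbz]⟩
      have hxn : x ∈ Subgroup.normalizer ((Subgroup.closure ({z, s} : Set G) : Subgroup G) : Set G) :=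
        p.X_le_normalizer hxX
      have hn' : x⁻¹ * n ∈ Subgroup.normalizer ((Subgroup.closure ({z, s} : Set G) : Subgroup G) : Set G) :=
        mul_mem (inv_mem hxn) hn
      have hz' : (x⁻¹ * n) * z * (x⁻¹ * n)⁻¹ = z := by
        have : (x⁻¹ * n) * z * (x⁻¹ * n)⁻¹ = x⁻¹ * (n * z * n⁻¹) * x := by group
        rw [this, ← hx]; group
      -- adjust by a
      obtain ⟨y, hyX, hyz, hys⟩ : ∃ y ∈ Q ⊔ Q1, y * z * y⁻¹ = z ∧ y * s * y⁻¹ = (x⁻¹ * n) * s * (x⁻¹ * n)⁻¹ := by
        rcases p.tri_s hn' with h | h | h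
        · exfalso
          apply p.hne
          rw [← hz'] at h
          exact mul_left_cancel (mul_right_cancel h)
        · exact ⟨1, one_mem _, by simp, by rw [h]; simp⟩
        · exact ⟨a, haX, haz, by rw [h, has]⟩
      have hc : y⁻¹ * (x⁻¹ * n) ∈ Subgroup.centralizer ({z} : Set G) ⊓ Subgroup.centralizer ((Subgroup.closure ({z, s} : Set G) : Subgroup G) : Set G) := by
        rw [hCVz]
        constructor
        · rw [← mul_inv_eq_iff_eq_mul]
          have : y⁻¹ * (x⁻¹ * n) * z * (y⁻¹ * (x⁻¹ * n))⁻¹ = y⁻¹ * ((x⁻¹ * n) * z * (x⁻¹ * n)⁻¹) * y := by group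
          rw [this, hz']
          have := congrArg (fun t => y⁻¹ * t * y) hyz
          simpa [mul_assoc] using this.symm
        · rw [← mul_inv_eq_iff_eq_mul]
          have : y⁻¹ * (x⁻¹ * n) * s * (y⁻¹ * (x⁻¹ * n))⁻¹ = y⁻¹ * ((x⁻¹ * n) * s * (x⁻¹ * n)⁻¹) * y := by group
          rw [this, ← hys]; group
      have : n = (x * y) * (y⁻¹ * (x⁻¹ * n)) := by group
      rw [this]
      exact mul_mem (Subgroup.mem_sup_left (mul_mem hxX hyX)) (Subgroup.mem_sup_right hc)
    · apply sup_le p.X_le_normalizer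
      intro x hx
      rw [hCVz] at hx
      apply p.mem_normalizer_V
      · rw [hx.1, mul_inv_cancel_right]; exact p.mem_V.2 (Or.inr (Or.inl rfl))
      · rw [hx.2, mul_inv_cancel_right]; exact p.mem_V.2 (Or.inr (Or.inr (Or.inl rfl)))
  refine ⟨?_, ?_, ⟨hn, ?_⟩, hnorm, ?_, ?_, ?_, ?_⟩
  · ext x
    rw [Subgroup.mem_inf, hCV, p.mem_R_iff]
  · apply le_antisymm
    · intro x hx
      refine ⟨⟨x, Pair.R_le hx⟩, ?_, rfl⟩
      have h1 : (Pair.R Q Q1 z s).subgroupOf (Q ⊔ Q1) ≤ Cfsg.pCore 2 ↥(Q ⊔ Q1) := by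
        apply le_sSup
        exact ⟨hn, p.isPGroup_R.of_equiv (Subgroup.subgroupOfEquivOfLe Pair.R_le).symm⟩
      exact h1 hx
    · rintro _ ⟨x, hx, rfl⟩
      have h1 : (Cfsg.pCore 2 ↥(Q ⊔ Q1)).map φ = ⊥ := by
        apply perm_three_normal
        · exact (pCore_normal').map φ hφs
        · exact isPGroup_pCore.map φ
      have h2 : φ x = 1 := by
        have : φ x ∈ (Cfsg.pCore 2 ↥(Q ⊔ Q1)).map φ := ⟨x, hx, rfl⟩
        rw [h1] at this
        exact this
      have h3 : x ∈ φ.ker := h2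
      rw [hker] at h3
      exact h3
  · -- the isomorphism
    have e1 : ↥(Q ⊔ Q1) ⧸ (Pair.R Q Q1 z s).subgroupOf (Q ⊔ Q1) ≃* ↥(Q ⊔ Q1) ⧸ φ.ker :=
      QuotientGroup.quotientMulEquivOfEq hker.symm
    exact ⟨e1.trans (QuotientGroup.quotientKerEquivOfSurjective φ hφs)⟩
  · intro y hy x hx
    rw [hnorm] at hy
    have key : (Q ⊔ Q1) ⊔ (Subgroup.centralizer ({z} : Set G) ⊓ Subgroup.centralizer ((Subgroup.closure ({z, s} : Set G) : Subgroup G) : Set G)) ≤ Subgroup.normalizer (((Q ⊔ Q1 : Subgroup G)) : Set G) := by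
      apply sup_le Subgroup.le_normalizer
      intro c hc
      rw [hCVz] at hc
      have h1 : ∀ c : G, c * z = z * c → c * s = s * c → ∀ x ∈ Q ⊔ Q1, c * x * c⁻¹ ∈ Q ⊔ Q1 := by
        intro c hcz hcs
        have : Q ⊔ Q1 ≤ (Q ⊔ Q1).comap (MulAut.conj c).toMonoidHom := by
          apply sup_le
          · intro q hq
            exact Subgroup.mem_sup_left (p.h.norm c hcz q hq)
          · intro q hq
            exact Subgroup.mem_sup_right (p.h1.norm c hcs q hq)
        intro x hx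
        exact this hx
      rw [Subgroup.mem_normalizer_iff]
      intro q
      constructor
      · exact h1 c hc.1 hc.2 q
      · intro hq
        have h2 : c⁻¹ * z = z * c⁻¹ := by rw [inv_mul_eq_iff_eq_mul, ← mul_assoc, hc.1, mul_inv_cancel_right]
        have h3 : c⁻¹ * s = s * c⁻¹ := by rw [inv_mul_eq_iff_eq_mul, ← mul_assoc, hc.2, mul_inv_cancel_right]
        have := h1 c⁻¹ h2 h3 _ hq
        simpa [mul_assoc] using this
    exact (Subgroup.mem_normalizer_iff.1 (key hy) x).1 hx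
  · intro x hx
    rw [hCVz]
    exact p.R_le_z hx
  · intro x hx c hc
    rw [hCVz] at hc
    exact p.comm_mem_sup hx hc.1 hc.2
  · ext x
    rw [Subgroup.mem_inf, hCVz, p.mem_R_iff]

end Cfsg.Agent.S5430
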