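import Cfsg.Statements.S5431
import Cfsg.Agent.S5430

set_option autoImplicit false
open Cfsg

namespace Cfsg.Agent.S5431

open Cfsg.Agent.Lib.LargeExtra

section
variable {G : Type*} [Group G] {Q Q1 : Subgroup G} {z s : G}

theorem sq_of_comm {x y : G} (h : x * y = y * x) : (x * y) * (x * y) = (x * x) * (y * y) := by
  calc (x * y) * (x * y) = x * (y * x) * y := by simp only [mul_assoc]
    _ = (x * x) * (y * y) := by rw [← h]; simp only [mul_assoc]

theorem E_comm (p : Pair Q Q1 z s) {e q : G} (heQ : e ∈ Q) (_he1 : e ∈ Q1) (hq : q ∈ Q) :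
    q * e * q⁻¹ * e⁻¹ = 1 ∨ q * e * q⁻¹ * e⁻¹ = z := by
  rcases p.h.comm q hq e heQ with h | h
  · left; rw [h]; simp [mul_assoc]
  · right; rw [h]; simp [mul_assoc]

/-- `E = Q ∩ Q1` normalized by `X`. -/
theorem E_conj (p : Pair Q Q1 z s) {e x : G} (he : e ∈ Q ⊓ Q1) (hx : x ∈ Q ⊔ Q1) :
    x * e * x⁻¹ ∈ Q ⊓ Q1 := by
  have hzE : z ∈ Q ⊓ Q1 := ⟨p.h.mem, p.hz⟩
  have hsE : s ∈ Q ⊓ Q1 := ⟨p.hs, p.h1.mem⟩
  have key : Q ⊔ Q1 ≤ Subgroup.normalizer (((Q ⊓ Q1 : Subgroup G)) : Set G) := by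
    apply sup_le
    · intro q hq
      have h1 : ∀ q ∈ Q, ∀ e ∈ Q ⊓ Q1, q * e * q⁻¹ ∈ Q ⊓ Q1 := by
        intro q hq e he
        have : q * e * q⁻¹ = (q * e * q⁻¹ * e⁻¹) * e := by simp
        rw [this]
        refine mul_mem ?_ he
        rcases E_comm p he.1 he.2 hq with h | h
        · rw [h]; exact one_mem _
        · rw [h]; exact hzE
      rw [Subgroup.mem_normalizer_iff]
      intro e
      refine ⟨h1 q hq e, fun h => ?_⟩
      simpa [mul_assoc] using h1 q⁻¹ (inv_mem hq) _ h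
    · intro q hq
      have h1 : ∀ q ∈ Q1, ∀ e ∈ Q ⊓ Q1, q * e * q⁻¹ ∈ Q ⊓ Q1 := by
        intro q hq e he
        have : q * e * q⁻¹ = (q * e * q⁻¹ * e⁻¹) * e := by simp
        rw [this]
        refine mul_mem ?_ he
        rcases E_comm p.swap he.2 he.1 hq with h | h
        · rw [h]; exact one_mem _
        · rw [h]; exact hsE
      rw [Subgroup.mem_normalizer_iff]
      intro e
      refine ⟨h1 q hq e, fun h => ?_⟩
      simpa [mul_assoc] using h1 q⁻¹ (inv_mem hq) _ h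
  exact (Subgroup.mem_normalizer_iff.1 (key hx) e).1 he

/-- `[X, E] ≤ V`. -/
theorem comm_E (p : Pair Q Q1 z s) {x e : G} (hx : x ∈ Q ⊔ Q1) (he : e ∈ Q ⊓ Q1) :
    x * e * x⁻¹ * e⁻¹ ∈ Subgroup.closure ({z, s} : Set G) := by
  have hV : ∀ {x : G}, x ∈ Q ⊔ Q1 → ∀ v ∈ Subgroup.closure ({z, s} : Set G),
      x * v * x⁻¹ ∈ Subgroup.closure ({z, s} : Set G) := by
    intro x hx v hv
    -- only Q and Q1 matter
    have key : Q ⊔ Q1 ≤ Subgroup.normalizer ((Subgroup.closure ({z, s} : Set G) : Subgroup G) : Set G) := by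
      apply sup_le
      · intro q hq
        have h1 : ∀ q ∈ Q, ∀ e ∈ Subgroup.closure ({z, s} : Set G), q * e * q⁻¹ ∈ Subgroup.closure ({z, s} : Set G) := by
          intro q hq e he
          have heQ : e ∈ Q ∧ e ∈ Q1 := by
            rcases p.mem_V.1 he with rfl | rfl | rfl | rfl
            · exact ⟨one_mem _, one_mem _⟩
            · exact ⟨p.h.mem, p.hz⟩
            · exact ⟨p.hs, p.h1.mem⟩
            · exact ⟨mul_mem p.h.mem p.hs, mul_mem p.hz p.h1.mem⟩
          have : q * e * q⁻¹ = (q * e * q⁻¹ * e⁻¹) * e := by simp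
          rw [this]
          refine mul_mem ?_ he
          rcases E_comm p heQ.1 heQ.2 hq with h | h
          · rw [h]; exact one_mem _
          · rw [h]; exact p.mem_V.2 (Or.inr (Or.inl rfl))
        rw [Subgroup.mem_normalizer_iff]
        intro e
        refine ⟨h1 q hq e, fun h => ?_⟩
        simpa [mul_assoc] using h1 q⁻¹ (inv_mem hq) _ h
      · intro q hq
        have h1 : ∀ q ∈ Q1, ∀ e ∈ Subgroup.closure ({z, s} : Set G), q * e * q⁻¹ ∈ Subgroup.closure ({z, s} : Set G) := by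
          intro q hq e he
          have heQ : e ∈ Q ∧ e ∈ Q1 := by
            rcases p.mem_V.1 he with rfl | rfl | rfl | rfl
            · exact ⟨one_mem _, one_mem _⟩
            · exact ⟨p.h.mem, p.hz⟩
            · exact ⟨p.hs, p.h1.mem⟩
            · exact ⟨mul_mem p.h.mem p.hs, mul_mem p.hz p.h1.mem⟩
          have : q * e * q⁻¹ = (q * e * q⁻¹ * e⁻¹) * e := by simp
          rw [this]
          refine mul_mem ?_ he
          rcases E_comm p.swap heQ.2 heQ.1 hq with h | h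
          · rw [h]; exact one_mem _
          · rw [h]; exact p.mem_V.2 (Or.inr (Or.inr (Or.inl rfl)))
        rw [Subgroup.mem_normalizer_iff]
        intro e
        refine ⟨h1 q hq e, fun h => ?_⟩
        simpa [mul_assoc] using h1 q⁻¹ (inv_mem hq) _ h
    exact (Subgroup.mem_normalizer_iff.1 (key hx) v).1 hv
  let S : Subgroup G :=
    { carrier := {x | x ∈ Q ⊔ Q1 ∧ x * e * x⁻¹ * e⁻¹ ∈ Subgroup.closure ({z, s} : Set G)}
      one_mem' := ⟨one_mem _, by simp⟩
      mul_mem' := by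
        rintro a b ⟨ha, ha'⟩ ⟨hb, hb'⟩
        refine ⟨mul_mem ha hb, ?_⟩
        have : (a * b) * e * (a * b)⁻¹ * e⁻¹ = (a * (b * e * b⁻¹ * e⁻¹) * a⁻¹) * (a * e * a⁻¹ * e⁻¹) := by
          group
        rw [this]; exact mul_mem (hV ha _ hb') ha'
      inv_mem' := by
        rintro a ⟨ha, ha'⟩
        refine ⟨inv_mem ha, ?_⟩
        have : a⁻¹ * e * (a⁻¹)⁻¹ * e⁻¹ = a⁻¹ * (a * e * a⁻¹ * e⁻¹)⁻¹ * (a⁻¹)⁻¹ := by group
        rw [this]; exact hV (inv_mem ha) _ (inv_mem ha') }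
  have : Q ⊔ Q1 ≤ S := by
    apply sup_le
    · intro q hq
      refine ⟨Subgroup.mem_sup_left hq, ?_⟩
      rcases E_comm p he.1 he.2 hq with h | h
      · rw [h]; exact one_mem _
      · rw [h]; exact p.mem_V.2 (Or.inr (Or.inl rfl))
    · intro q hq
      refine ⟨Subgroup.mem_sup_right hq, ?_⟩
      rcases E_comm p.swap he.2 he.1 hq with h | h
      · rw [h]; exact one_mem _
      · rw [h]; exact p.mem_V.2 (Or.inr (Or.inr (Or.inl rfl)))
  exact (this hx).2

/-- generators of `R` commute modulo `E`. -/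
theorem comm_gen (p : Pair Q Q1 z s) {x y : G}
    (hx : x ∈ (Q1 ⊓ Subgroup.centralizer ({z} : Set G)) ∨ x ∈ (Q ⊓ Subgroup.centralizer ({s} : Set G)))
    (hy : y ∈ (Q1 ⊓ Subgroup.centralizer ({z} : Set G)) ∨ y ∈ (Q ⊓ Subgroup.centralizer ({s} : Set G))) :
    x * y * x⁻¹ * y⁻¹ ∈ Q ⊓ Q1 := by
  have hzE : z ∈ Q ⊓ Q1 := ⟨p.h.mem, p.hz⟩
  have hsE : s ∈ Q ⊓ Q1 := ⟨p.hs, p.h1.mem⟩
  simp only [Subgroup.mem_inf, Subgroup.mem_centralizer_singleton_iff] at hx hy
  rcases hx with ⟨hx, hx'⟩ | ⟨hx, hx'⟩ <;> rcases hy with ⟨hy, hy'⟩ | ⟨hy, hy'⟩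
  · rcases p.h1.comm x hx y hy with h | h
    · rw [h]; simp [mul_assoc]
    · rw [h]; simpa [mul_assoc] using hsE
  · have h1 : x * y * x⁻¹ * y⁻¹ ∈ Q := mul_mem (p.h.norm x hx' y hy) (inv_mem hy)
    have h2 : x * y * x⁻¹ * y⁻¹ ∈ Q1 := by
      have : x * y * x⁻¹ * y⁻¹ = x * (y * x⁻¹ * y⁻¹) := by simp only [mul_assoc]
      rw [this]; exact mul_mem hx (p.h1.norm y hy' _ (inv_mem hx))
    exact ⟨h1, h2⟩
  · have h1 : x * y * x⁻¹ * y⁻¹ ∈ Q1 := mul_mem (p.h1.norm x hx' y hy) (inv_mem hy)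
    have h2 : x * y * x⁻¹ * y⁻¹ ∈ Q := by
      have : x * y * x⁻¹ * y⁻¹ = x * (y * x⁻¹ * y⁻¹) := by simp only [mul_assoc]
      rw [this]; exact mul_mem hx (p.h.norm y hy' _ (inv_mem hx))
    exact ⟨h2, h1⟩
  · rcases p.h.comm x hx y hy with h | h
    · rw [h]; simp [mul_assoc]
    · rw [h]; simpa [mul_assoc] using hzE

theorem comm_R (p : Pair Q Q1 z s) {x y : G} (hx : x ∈ Pair.R Q Q1 z s) (hy : y ∈ Pair.R Q Q1 z s) :
    x * y * x⁻¹ * y⁻¹ ∈ Q ⊓ Q1 := by
  have step1 : ∀ y : G, (y ∈ (Q1 ⊓ Subgroup.centralizer ({z} : Set G)) ∨ y ∈ (Q ⊓ Subgroup.centralizer ({s} : Set G))) →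
      ∀ x ∈ Pair.R Q Q1 z s, x * y * x⁻¹ * y⁻¹ ∈ Q ⊓ Q1 := by
    intro y hy x hx
    let S : Subgroup G :=
      { carrier := {x | x ∈ Q ⊔ Q1 ∧ x * y * x⁻¹ * y⁻¹ ∈ Q ⊓ Q1}
        one_mem' := ⟨one_mem _, by simp⟩
        mul_mem' := by
          rintro a b ⟨ha, ha'⟩ ⟨hb, hb'⟩
          refine ⟨mul_mem ha hb, ?_⟩
          have : (a * b) * y * (a * b)⁻¹ * y⁻¹ = (a * (b * y * b⁻¹ * y⁻¹) * a⁻¹) * (a * y * a⁻¹ * y⁻¹) := by
            group
          rw [this]; exact mul_mem (E_conj p hb' ha) ha'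
        inv_mem' := by
          rintro a ⟨ha, ha'⟩
          refine ⟨inv_mem ha, ?_⟩
          have : a⁻¹ * y * (a⁻¹)⁻¹ * y⁻¹ = a⁻¹ * (a * y * a⁻¹ * y⁻¹)⁻¹ * (a⁻¹)⁻¹ := by group
          rw [this]; exact E_conj p (inv_mem ha') (inv_mem ha) }
    have : Pair.R Q Q1 z s ≤ S := by
      apply sup_le
      · intro q hq
        exact ⟨Subgroup.mem_sup_right hq.1, comm_gen p (Or.inl hq) hy⟩
      · intro q hq
        exact ⟨Subgroup.mem_sup_left hq.1, comm_gen p (Or.inr hq) hy⟩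
    exact (this hx).2
  let S : Subgroup G :=
    { carrier := {y | y ∈ Q ⊔ Q1 ∧ y * x * y⁻¹ * x⁻¹ ∈ Q ⊓ Q1}
      one_mem' := ⟨one_mem _, by simp⟩
      mul_mem' := by
        rintro a b ⟨ha, ha'⟩ ⟨hb, hb'⟩
        refine ⟨mul_mem ha hb, ?_⟩
        have : (a * b) * x * (a * b)⁻¹ * x⁻¹ = (a * (b * x * b⁻¹ * x⁻¹) * a⁻¹) * (a * x * a⁻¹ * x⁻¹) := by
          group
        rw [this]; exact mul_mem (E_conj p hb' ha) ha'
      inv_mem' := by
        rintro a ⟨ha, ha'⟩
        refine ⟨inv_mem ha, ?_⟩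
        have : a⁻¹ * x * (a⁻¹)⁻¹ * x⁻¹ = a⁻¹ * (a * x * a⁻¹ * x⁻¹)⁻¹ * (a⁻¹)⁻¹ := by group
        rw [this]; exact E_conj p (inv_mem ha') (inv_mem ha) }
  have hinv : ∀ y : G, x * y * x⁻¹ * y⁻¹ ∈ Q ⊓ Q1 ↔ y * x * y⁻¹ * x⁻¹ ∈ Q ⊓ Q1 := by
    intro y
    have : y * x * y⁻¹ * x⁻¹ = (x * y * x⁻¹ * y⁻¹)⁻¹ := by group
    rw [this, inv_mem_iff]
  have : Pair.R Q Q1 z s ≤ S := by
    apply sup_le
    · intro q hq
      exact ⟨Subgroup.mem_sup_right hq.1, (hinv q).1 (step1 q (Or.inl hq) x hx)⟩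
    · intro q hq
      exact ⟨Subgroup.mem_sup_left hq.1, (hinv q).1 (step1 q (Or.inr hq) x hx)⟩
  exact (hinv y).2 (this hy).2

theorem sq_R (p : Pair Q Q1 z s) {x : G} (hx : x ∈ Pair.R Q Q1 z s) : x * x ∈ Q ⊓ Q1 := by
  have hzE : z ∈ Q ⊓ Q1 := ⟨p.h.mem, p.hz⟩
  have hsE : s ∈ Q ⊓ Q1 := ⟨p.hs, p.h1.mem⟩
  let S : Subgroup G :=
    { carrier := {x | x ∈ Pair.R Q Q1 z s ∧ x * x ∈ Q ⊓ Q1}
      one_mem' := ⟨one_mem _, by simp⟩
      mul_mem' := by
        rintro a b ⟨ha, ha'⟩ ⟨hb, hb'⟩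
        refine ⟨mul_mem ha hb, ?_⟩
        have : (a * b) * (a * b) = (a * (b * a * b⁻¹ * a⁻¹) * a⁻¹) * ((a * a) * (b * b)) := by group
        rw [this]
        exact mul_mem (E_conj p (comm_R p hb ha) (Pair.R_le ha)) (mul_mem ha' hb')
      inv_mem' := by
        rintro a ⟨ha, ha'⟩
        refine ⟨inv_mem ha, ?_⟩
        rw [← mul_inv_rev]; exact inv_mem ha' }
  have : Pair.R Q Q1 z s ≤ S := by
    apply sup_le
    · intro q hq
      refine ⟨Subgroup.mem_sup_left hq, ?_⟩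
      rcases p.h1.qsq q hq.1 with h | h
      · rw [h]; exact one_mem _
      · rw [h]; exact hsE
    · intro q hq
      refine ⟨Subgroup.mem_sup_right hq, ?_⟩
      rcases p.h.qsq q hq.1 with h | h
      · rw [h]; exact one_mem _
      · rw [h]; exact hzE
  exact (this hx).2

theorem center_R (p : Pair Q Q1 z s) {x : G} (hx : x ∈ Pair.R Q Q1 z s)
    (hc : ∀ r ∈ Pair.R Q Q1 z s, x * r = r * x) : x = 1 ∨ x = z ∨ x = s ∨ x = z * s := by
  obtain ⟨q, hq, hqs⟩ := p.h.exists_conj p.hs p.h1.ne p.hne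
  have hxz := p.R_le_z hx
  have hqs' : q * s = z * (s * q) := by
    rw [mul_inv_eq_iff_eq_mul] at hqs; rw [hqs, mul_assoc]
  have hqz : q * z = z * q := p.h.cen q hq
  have hP : ∀ y ∈ Q, y * s = s * y → x * y = y * x := fun y hy hys => hc y (Pair.mem_P hy hys)
  -- every element of Q is in P or P q
  have hcase : ∀ y ∈ Q, y * s = s * y ∨ (y * q) * s = s * (y * q) := by
    intro y hy
    rcases p.h.comm y hy s p.hs with h1 | h1
    · left; exact h1
    · right
      calc (y * q) * s = y * (q * s) := by rw [mul_assoc]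
        _ = y * z * s * q := by rw [hqs']; simp only [mul_assoc]
        _ = z * (y * s) * q := by rw [p.h.cen y hy]; simp only [mul_assoc]
        _ = (z * z) * (s * y) * q := by rw [h1]; simp only [mul_assoc]
        _ = s * (y * q) := by rw [p.h.sq, one_mul, mul_assoc]
  -- if x' commutes with P and q then x' ∈ Z
  have hcen : ∀ x' : G, (∀ y ∈ Q, y * s = s * y → x' * y = y * x') → x' * q = q * x' → x' = 1 ∨ x' = z := by
    intro x' h1 h2
    apply p.h.cent
    intro y hy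
    rcases hcase y hy with h3 | h3
    · exact (h1 y hy h3).symm
    · have h4 := h1 _ (mul_mem hy hq) h3
      have : x' * y * q = y * x' * q := by
        rw [mul_assoc, h4, mul_assoc, ← h2, mul_assoc]
      exact (mul_right_cancel this).symm
  -- c = x q x⁻¹ q⁻¹
  have hcQ : x * q * x⁻¹ * q⁻¹ ∈ Q := mul_mem (p.h.norm x hxz.1 q hq) (inv_mem hq)
  have hcP : ∀ y ∈ Q, y * s = s * y → y * (x * q * x⁻¹ * q⁻¹) = (x * q * x⁻¹ * q⁻¹) * y := by
    intro y hy hys
    have h1 : x * y = y * x := hP y hy hys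
    have h1' : x⁻¹ * y = y * x⁻¹ := by rw [inv_mul_eq_iff_eq_mul, ← mul_assoc, h1, mul_inv_cancel_right]
    -- q⁻¹ y q ∈ P
    have h2 : q⁻¹ * y * q ∈ Q := mul_mem (mul_mem (inv_mem hq) hy) hq
    have h3 : (q⁻¹ * y * q) * s = s * (q⁻¹ * y * q) := by
      rcases p.h.comm (q⁻¹ * y * q) h2 s p.hs with h4 | h4
      · exact h4
      · exfalso
        -- y commutes with q s q⁻¹ = z s
        have h5 : y * (z * s) = (z * s) * y := by
          rw [← mul_assoc, p.h.cen y hy, mul_assoc, hys, mul_assoc]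
        have h6 : (q⁻¹ * y * q) * s = s * (q⁻¹ * y * q) := by
          have e1 : q * s = (z * s) * q := by rw [hqs', mul_assoc]
          have e2 : s * q⁻¹ = q⁻¹ * (z * s) := by
            rw [eq_inv_mul_iff_mul_eq, ← mul_assoc, e1]; simp
          calc (q⁻¹ * y * q) * s = q⁻¹ * y * (q * s) := by simp only [mul_assoc]
            _ = q⁻¹ * (y * (z * s)) * q := by rw [e1]; simp only [mul_assoc]
            _ = (q⁻¹ * (z * s)) * y * q := by rw [h5]; simp only [mul_assoc]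
            _ = s * (q⁻¹ * y * q) := by rw [← e2]; simp only [mul_assoc]
        rw [h6] at h4
        have h7 : 1 * (s * (q⁻¹ * y * q)) = z * (s * (q⁻¹ * y * q)) := by rw [one_mul]; exact h4
        exact p.h.ne (mul_right_cancel h7).symm
    have h4 : x * (q⁻¹ * y * q) = (q⁻¹ * y * q) * x := hP _ h2 h3
    have h4' : x⁻¹ * (q⁻¹ * y * q) = (q⁻¹ * y * q) * x⁻¹ := by
      rw [inv_mul_eq_iff_eq_mul, ← mul_assoc, h4, mul_inv_cancel_right]
    symm
    calc (x * q * x⁻¹ * q⁻¹) * y = x * q * (x⁻¹ * (q⁻¹ * y * q)) * q⁻¹ := by simp [mul_assoc]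
      _ = (x * y) * q * x⁻¹ * q⁻¹ := by rw [h4']; simp [mul_assoc]
      _ = y * (x * q * x⁻¹ * q⁻¹) := by rw [h1]; simp only [mul_assoc]
  have hsq : (x * q * x⁻¹) * (x * q * x⁻¹) = q * q := by
    have h1 : (x * q * x⁻¹) * (x * q * x⁻¹) = x * (q * q) * x⁻¹ := by simp [mul_assoc]
    rw [h1]
    rcases p.h.qsq q hq with h2 | h2
    · rw [h2]; simp
    · rw [h2, hxz.1, mul_inv_cancel_right]
  have hbad : ∀ c : G, x * q * x⁻¹ * q⁻¹ = c → q * c = z * (c * q) → c * c = 1 → False := by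
    intro c h1 h2 h3
    have h4 : x * q * x⁻¹ = c * q := by rw [← h1]; simp
    rw [h4] at hsq
    have h5 : (c * q) * (c * q) = z * (q * q) := by
      calc (c * q) * (c * q) = c * (q * c) * q := by simp only [mul_assoc]
        _ = c * z * c * (q * q) := by rw [h2]; simp only [mul_assoc]
        _ = z * (c * c) * (q * q) := by
            have : c * z = z * c := by
              have hcQ' : c ∈ Q := by rw [← h1]; exact hcQ
              exact p.h.cen c hcQ'
            rw [this]; simp only [mul_assoc]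
        _ = z * (q * q) := by rw [h3, mul_one]
    rw [h5] at hsq
    have h6 : z * (q * q) = 1 * (q * q) := by rw [one_mul]; exact hsq
    exact p.h.ne (mul_right_cancel h6)
  rcases p.h.toExData.double_centralizer p.hs p.h1.ne p.hne hcQ hcP with h1 | h1 | h1 | h1
  · rw [mul_inv_eq_one, mul_inv_eq_iff_eq_mul] at h1
    rcases hcen x hP h1 with h2 | h2
    · left; exact h2
    · right; left; exact h2
  · -- x q x⁻¹ = z q ; x s commutes with q
    have h2 : x * q = z * q * x := by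
      rw [mul_inv_eq_iff_eq_mul, mul_inv_eq_iff_eq_mul] at h1; exact h1
    have h3 : (x * s) * q = q * (x * s) := by
      have hsq' : s * q = z * (q * s) := by
        rw [hqs', ← mul_assoc, p.h.sq, one_mul]
      calc (x * s) * q = x * (s * q) := by rw [mul_assoc]
        _ = (x * z) * (q * s) := by rw [hsq']; simp only [mul_assoc]
        _ = z * (x * q) * s := by rw [hxz.1]; simp only [mul_assoc]
        _ = (z * z) * (q * (x * s)) := by rw [h2]; simp only [mul_assoc]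
        _ = q * (x * s) := by rw [p.h.sq, one_mul]
    have h4 : ∀ y ∈ Q, y * s = s * y → (x * s) * y = y * (x * s) := by
      intro y hy hys
      rw [mul_assoc, ← hys, ← mul_assoc, hP y hy hys, mul_assoc]
    rcases hcen _ h4 h3 with h5 | h5
    · right; right; left
      have : x = s⁻¹ := by rw [eq_inv_iff_mul_eq_one]; exact h5
      rw [this, p.h1.toExData.inv]
    · right; right; right
      have : x = z * s⁻¹ := by rw [eq_mul_inv_iff_mul_eq]; exact h5
      rw [this, p.h1.toExData.inv]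
  · exfalso
    refine hbad s h1 hqs' p.h1.sq
  · exfalso
    refine hbad (z * s) h1 ?_ ?_
    · calc q * (z * s) = (q * z) * s := by rw [mul_assoc]
        _ = z * (q * s) := by rw [hqz, mul_assoc]
        _ = z * (z * s * q) := by rw [hqs', mul_assoc z s q]
    · rw [sq_of_comm p.comm, p.h.sq, p.h1.sq, one_mul]

end

/-- Let Q be a large extraspecial 2-subgroup of the finite group G (extraspecial; centralizer equal to its centre; normal in the centralizer of its centre; normalizing no non-trivial subgroup of odd order) with centre generated by z, an involution, of width w ≥ 2 (order 2^(2w+1)); let g be an element outside the centralizer H of z with g z g⁻¹ in Q; write V for the subgroup generated by z and g z g⁻¹, X for the subgroup generated by Q and g Q g⁻¹, R for the subgroup generated by the centralizer of z in g Q g⁻¹ and the centralizer of g z g⁻¹ in Q, and E for the intersection of Q and g Q g⁻¹. Then V is the centre of R, E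 lies in the second centre of R, R is nilpotent of class at most 3, E and R/E are elementary abelian, R/E is the direct product of the images of the centralizer of g z g⁻¹ in Q and of the centralizer of z in g Q g⁻¹ (R is their product and they meet in E), and the commutator subgroup of X and E lies in V. -/
theorem result {G : Type*} [Group G] [Finite G] (Q : Subgroup G) (hQ : Cfsg.IsLargeExtraspecial Q) (z : G) (hz : ((Subgroup.center ↥Q).map Q.subtype) = Subgroup.zpowers z) (hz2 : orderOf z = 2) (w : ℕ) (hw : 2 ≤ w) (hcard : Nat.card ↥Q = 2 ^ (2 * w + 1)) (g : G) (hgH : g ∉ Subgroup.centralizer ({z} : Set G)) (hgQ : g * z * g⁻¹ ∈ Q) (V X R E : Subgroup G) (hV : V = Subgroup.closure ({z, g * z * g⁻¹} : Set G)) (hX : X = Q ⊔ (Q).map (MulAut.conj g).toMonoidHom) (hR : R = ((Q).map (MulAut.conj g).toMonoidHom ⊓ Subgroup.centralizer ({z} : Set G)) ⊔ (Q ⊓ Subgroup.centralizer ({g * z * g⁻¹} : Set G))) (hE : E = Q ⊓ (Q).map (MulAut.conj g).toMonoidHom)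 : (Subgroup.center ↥R).map R.subtype = V ∧ E ≤ (Subgroup.upperCentralSeries ↥R 2).map R.subtype ∧ Subgroup.upperCentralSeries ↥R 3 = ⊤ ∧ Cfsg.IsElementaryAbelian 2 E ∧ (∀ x ∈ R, ∀ y ∈ R, x * y * x⁻¹ * y⁻¹ ∈ E ∧ x ^ 2 ∈ E) ∧ ((Q).map (MulAut.conj g).toMonoidHom ⊓ Subgroup.centralizer ({z} : Set G)) ⊓ (Q ⊓ Subgroup.centralizer ({g * z * g⁻¹} : Set G)) = E ∧ ⁅X, E⁆ ≤ V := by
  have p := Cfsg.Agent.S5430.pair_of Q hQ z hz hz2 w hw hcard g hgH hgQ
  generalize hQ1 : Q.map (MulAut.conj g).toMonoidHom = Q1 at *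
  generalize hs : g * z * g⁻¹ = s at *
  change R = Pair.R Q Q1 z s at hR
  subst hR hX hV hE
  have hVR : Subgroup.closure ({z, s} : Set G) ≤ Pair.R Q Q1 z s := by
    rw [Subgroup.closure_le]
    rintro x (rfl | hx)
    · exact Pair.mem_P p.h.mem p.comm
    · rw [Set.mem_singleton_iff.1 hx]; exact Pair.mem_P p.hs rfl
  have hcenter : (Subgroup.center ↥(Pair.R Q Q1 z s)).map (Pair.R Q Q1 z s).subtype = Subgroup.closure ({z, s} : Set G) := by
    apply le_antisymm
    · rintro _ ⟨x, hx, rfl⟩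
      rw [p.mem_V]
      apply center_R p x.2
      intro r hr
      have := Subgroup.mem_center_iff.1 hx ⟨r, hr⟩
      exact (congrArg Subtype.val this).symm
    · intro x hx
      refine ⟨⟨x, hVR hx⟩, ?_, rfl⟩
      rw [SetLike.mem_coe, Subgroup.mem_center_iff]
      rintro ⟨r, hr⟩
      apply Subtype.ext
      show r * x = x * r
      have h1 := p.R_le_z hr
      rcases p.mem_V.1 hx with rfl | rfl | rfl | rfl
      · simp
      · exact h1.1
      · exact h1.2
      · rw [← mul_assoc, h1.1, mul_assoc, h1.2, mul_assoc]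
  have hinf : (Q1 ⊓ Subgroup.centralizer ({z} : Set G)) ⊓ (Q ⊓ Subgroup.centralizer ({s} : Set G)) = Q ⊓ Q1 := by
    ext x
    simp only [Subgroup.mem_inf, Subgroup.mem_centralizer_singleton_iff]
    constructor
    · rintro ⟨⟨h1, _⟩, ⟨h3, _⟩⟩; exact ⟨h3, h1⟩
    · rintro ⟨h1, h2⟩; exact ⟨⟨h2, p.h.cen x h1⟩, ⟨h1, p.h1.cen x h2⟩⟩
  have hER : Q ⊓ Q1 ≤ Pair.R Q Q1 z s := by
    intro x hx
    exact Pair.mem_P hx.1 (p.h1.cen x hx.2)
  have hZ1 : ∀ x : ↥(Pair.R Q Q1 z s), (x : G) ∈ Subgroup.closure ({z, s} : Set G) → x ∈ Subgroup.center ↥(Pair.R Q Q1 z s) := by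
    intro x hx
    rw [← hcenter] at hx
    obtain ⟨y, hy, hyx⟩ := hx
    have : y = x := Subtype.ext hyx
    rw [← this]; exact hy
  have hZ2 : ∀ x : ↥(Pair.R Q Q1 z s), (x : G) ∈ Q ⊓ Q1 → x ∈ Subgroup.upperCentralSeries ↥(Pair.R Q Q1 z s) 2 := by
    intro x hx
    rw [Subgroup.mem_upperCentralSeries_succ_iff]
    intro y
    rw [Subgroup.upperCentralSeries_one]
    apply hZ1
    show (x : G) * y * (x : G)⁻¹ * (y : G)⁻¹ ∈ _
    have h1 := comm_E p (Pair.R_le y.2) hx
    have : (x : G) * y * (x : G)⁻¹ * (y : G)⁻¹ = ((y : G) * x * (y : G)⁻¹ * (x : G)⁻¹)⁻¹ := by group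
    rw [this]; exact inv_mem h1
  refine ⟨hcenter, ?_, ?_, ?_, ?_, hinf, ?_⟩
  · intro x hx
    exact ⟨⟨x, hER hx⟩, hZ2 _ hx, rfl⟩
  · rw [eq_top_iff]
    intro x _
    rw [Subgroup.mem_upperCentralSeries_succ_iff]
    intro y
    apply hZ2
    exact comm_R p x.2 y.2
  · constructor
    · constructor
      constructor
      rintro ⟨a, ha⟩ ⟨b, hb⟩
      apply Subtype.ext
      show a * b = b * a
      rcases p.h.comm a ha.1 b hb.1 with h1 | h1
      · exact h1
      · rcases p.h1.comm a ha.2 b hb.2 with h2 | h2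
        · exact h2
        · exfalso
          rw [h1] at h2
          exact p.hne (mul_right_cancel h2).symm
    · intro a ha
      rw [pow_two]
      rcases p.h.qsq a ha.1 with h1 | h1
      · exact h1
      · rcases p.h1.qsq a ha.2 with h2 | h2
        · exact h2
        · exfalso
          rw [h1] at h2
          exact p.hne h2.symm
  · intro x hx y hy
    refine ⟨comm_R p hx hy, ?_⟩
    rw [pow_two]; exact sq_R p hx
  · rw [Subgroup.commutator_le]
    intro x hx e he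
    rw [commutatorElement_def]
    exact comm_E p hx he

end Cfsg.Agent.S5431
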