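import Cfsg.Statements.S2561
import Cfsg.Agent.Lib.QuadF2

set_option autoImplicit false
open Cfsg

namespace Cfsg.Agent.S2561

open Module Cfsg.Agent.Lib.QuadF2

/-- reindexing for the explicit equivalence with the minus type -/
def idx (k : ℕ) : (Fin k ⊕ Fin k) ⊕ Fin 2 ≃ Fin (k + 1) ⊕ Fin (k + 1) where
  toFun := Sum.elim (Sum.map Fin.succ Fin.succ) ![Sum.inl 0, Sum.inr 0]
  invFun := Sum.elim (Fin.cons (Sum.inr 0) (fun i => Sum.inl (Sum.inl i))) (Fin.cons (Sum.inr 1) (fun i => Sum.inl (Sum.inr i)))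
  left_inv := by
    rintro ((i | i) | i)
    · simp
    · simp
    · fin_cases i <;> simp
  right_inv := by
    rintro (i | i)
    · refine Fin.cases ?_ (fun i => ?_) i <;> simp
    · refine Fin.cases ?_ (fun i => ?_) i <;> simp

/-- the vector `e_{l0} + e_{r0}` -/
def w0 (k : ℕ) : Fin (k + 1) ⊕ Fin (k + 1) → ZMod 2 := Sum.elim (Pi.single 0 1) (Pi.single 0 1)

theorem q_w0 (k : ℕ) : qPlus (k + 1) (w0 k) = 1 := by
  simp [Cfsg.quadFormPlus, w0, Fin.sum_univ_succ]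

theorem f_w0 (k : ℕ) (v : Fin (k + 1) ⊕ Fin (k + 1) → ZMod 2) : fPlus (k + 1) v (w0 k) = v (.inl 0) + v (.inr 0) := by
  simp [fPlus, w0, Fin.sum_univ_succ]

theorem minus_explicit (k : ℕ) (v : Fin (k + 1) ⊕ Fin (k + 1) → ZMod 2) :
    qPlus (k + 1) v + fPlus (k + 1) v (w0 k) = qMinus k (LinearEquiv.funCongrLeft (ZMod 2) (ZMod 2) (idx k) v) := by
  rw [f_w0]
  simp only [Cfsg.quadFormPlus, Cfsg.quadFormMinus, Fin.sum_univ_succ, LinearEquiv.funCongrLeft_apply, LinearMap.funLeft_apply]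
  have h1 : ∀ i : Fin k, idx k (.inl (.inl i)) = .inl i.succ := fun i => rfl
  have h2 : ∀ i : Fin k, idx k (.inl (.inr i)) = .inr i.succ := fun i => rfl
  have h3 : idx k (.inr 0) = .inl 0 := rfl
  have h4 : idx k (.inr 1) = .inr 0 := rfl
  simp only [h1, h2, h3, h4]
  have hsq : ∀ a : ZMod 2, a ^ 2 = a := by decide
  rw [hsq, hsq]
  ring

theorem result (m : ℕ) (hm : 1 ≤ m) :
    Nat.card {q : (Fin m ⊕ Fin m → ZMod 2) → ZMod 2 // (∀ u v : (Fin m ⊕ Fin m → ZMod 2), q (u + v) = q u + q v + (Cfsg.quadFormPlus m (ZMod 2) (u + v) - Cfsg.quadFormPlus m (ZMod 2) u - Cfsg.quadFormPlus m (ZMod 2) v))} = 2 ^ (2 * m) ∧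
    (∀ q : (Fin m ⊕ Fin m → ZMod 2) → ZMod 2, (∀ u v : (Fin m ⊕ Fin m → ZMod 2), q (u + v) = q u + q v + (Cfsg.quadFormPlus m (ZMod 2) (u + v) - Cfsg.quadFormPlus m (ZMod 2) u - Cfsg.quadFormPlus m (ZMod 2) v)) →
      (∃ g : (Fin m ⊕ Fin m → ZMod 2) ≃ₗ[ZMod 2] (Fin m ⊕ Fin m → ZMod 2), ∀ v, q v = Cfsg.quadFormPlus m (ZMod 2) (g v)) ∨
      (∃ g : (Fin m ⊕ Fin m → ZMod 2) ≃ₗ[ZMod 2] ((Fin (m - 1) ⊕ Fin (m - 1)) ⊕ Fin 2 → ZMod 2), ∀ v, q v = Cfsg.quadFormMinus (m - 1) (ZMod 2) 1 1 (g v))) ∧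
    Nat.card {q : (Fin m ⊕ Fin m → ZMod 2) → ZMod 2 // (∀ u v : (Fin m ⊕ Fin m → ZMod 2), q (u + v) = q u + q v + (Cfsg.quadFormPlus m (ZMod 2) (u + v) - Cfsg.quadFormPlus m (ZMod 2) u - Cfsg.quadFormPlus m (ZMod 2) v)) ∧ ∃ g : (Fin m ⊕ Fin m → ZMod 2) ≃ₗ[ZMod 2] (Fin m ⊕ Fin m → ZMod 2), ∀ v, q v = Cfsg.quadFormPlus m (ZMod 2) (g v)} = 2 ^ (2 * m - 1) + 2 ^ (m - 1) ∧
    Nat.card {q : (Fin m ⊕ Fin m → ZMod 2) → ZMod 2 // (∀ u v : (Fin m ⊕ Fin m → ZMod 2), q (u + v) = q u + q v + (Cfsg.quadFormPlus m (ZMod 2) (u + v) - Cfsg.quadFormPlus m (ZMod 2) u - Cfsg.quadFormPlus m (ZMod 2) v)) ∧ ∃ g : (Fin m ⊕ Fin m → ZMod 2) ≃ₗ[ZMod 2] ((Fin (m - 1) ⊕ Fin (m - 1)) ⊕ Fin 2 → ZMod 2), ∀ v, q v = Cfsg.quadFormMinus (m - 1) (ZMod 2) 1 1 (g v)} = 2 ^ (2 * m - 1) - 2 ^ (m - 1) := by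
  classical
  obtain ⟨k, rfl⟩ : ∃ k, m = k + 1 := ⟨m - 1, by omega⟩
  simp only [Nat.add_sub_cancel]
  have hQ := isQ_plus (k + 1)
  have hnd := fPlus_nondeg (k + 1)
  have hpol : ∀ q : (Fin (k + 1) ⊕ Fin (k + 1) → ZMod 2) → ZMod 2, (∀ u v : (Fin (k + 1) ⊕ Fin (k + 1) → ZMod 2), q (u + v) = q u + q v + (Cfsg.quadFormPlus (k + 1) (ZMod 2) (u + v) - Cfsg.quadFormPlus (k + 1) (ZMod 2) u - Cfsg.quadFormPlus (k + 1) (ZMod 2) v)) ↔ IsQ q (fPlus (k + 1)) := by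
    intro q
    constructor
    · intro h
      refine ⟨fun u v => ?_, hQ.add_left⟩
      rw [h]
      have := hQ.pol u v
      linear_combination this
    · intro h u v
      rw [h.pol]
      have := hQ.pol u v
      linear_combination -this
  simp only [hpol]
  -- the bijection `w ↦ q0 + f(·, w)`
  let T : (Fin (k + 1) ⊕ Fin (k + 1) → ZMod 2) → (Fin (k + 1) ⊕ Fin (k + 1) → ZMod 2) → ZMod 2 := fun w v => qPlus (k + 1) v + fPlus (k + 1) v w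
  have hT : ∀ w, IsQ (T w) (fPlus (k + 1)) := fun w => hQ.translate w
  have hTinj : ∀ w w', T w = T w' → w = w' := by
    intro w w' h
    have h1 : w - w' = 0 := by
      apply hnd
      intro v
      have := congrFun h v
      simp only [T, add_right_inj] at this
      rw [hQ.symm, sub_eq_add_neg, hQ.add_right, this]
      have hneg : -w' = w' := by
        funext x
        exact ZMod.neg_eq_self_mod_two _
      rw [hneg]
      exact add_self _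
    exact sub_eq_zero.mp h1
  have hTsurj : ∀ q, IsQ q (fPlus (k + 1)) → ∃ w, T w = q := by
    intro q hq
    obtain ⟨w, hw⟩ := exists_translate hQ hnd hq
    exact ⟨w, funext fun v => (hw v).symm⟩
  have hplus : ∀ w, qPlus (k + 1) w = 0 → ∃ g : (Fin (k + 1) ⊕ Fin (k + 1) → ZMod 2) ≃ₗ[ZMod 2] (Fin (k + 1) ⊕ Fin (k + 1) → ZMod 2), ∀ v, T w v = qPlus (k + 1) (g v) := fun w hw =>
    exists_equiv_translate hQ hw
  have hminus : ∀ w, qPlus (k + 1) w = 1 → ∃ g : (Fin (k + 1) ⊕ Fin (k + 1) → ZMod 2) ≃ₗ[ZMod 2] ((Fin k ⊕ Fin k) ⊕ Fin 2 → ZMod 2), ∀ v, T w v = qMinus k (g v) := by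
    intro w hw
    have hQ1 := hT (w0 k)
    have h1 : T (w0 k) (w + w0 k) = 0 := by
      show qPlus (k + 1) (w + w0 k) + fPlus (k + 1) (w + w0 k) (w0 k) = 0
      rw [hQ.pol, hw, q_w0, hQ.add_left, hQ.self]
      have h2 := add_self (fPlus (k + 1) w (w0 k))
      have h3 := add_self (1 : ZMod 2)
      linear_combination h2 + h3
    obtain ⟨g, hg⟩ := exists_equiv_translate hQ1 h1
    refine ⟨g.trans (LinearEquiv.funCongrLeft (ZMod 2) (ZMod 2) (idx k)), fun v => ?_⟩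
    rw [LinearEquiv.trans_apply, ← minus_explicit]
    have h4 : qPlus (k + 1) (g v) + fPlus (k + 1) (g v) (w0 k) = T (w0 k) (g v) := rfl
    rw [h4, ← hg]
    show qPlus (k + 1) v + fPlus (k + 1) v w = qPlus (k + 1) v + fPlus (k + 1) v (w0 k) + fPlus (k + 1) v (w + w0 k)
    rw [hQ.add_right]
    have h5 := add_self (fPlus (k + 1) v (w0 k))
    linear_combination -h5
  have hS : ∀ w, IsQ.S (T w) = chi (qPlus (k + 1) w) * 2 ^ (k + 1) := by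
    intro w
    rw [← S_plus]
    exact hQ.S_translate w
  have hplus_iff : ∀ w, (∃ g : (Fin (k + 1) ⊕ Fin (k + 1) → ZMod 2) ≃ₗ[ZMod 2] (Fin (k + 1) ⊕ Fin (k + 1) → ZMod 2), ∀ v, T w v = qPlus (k + 1) (g v)) ↔ qPlus (k + 1) w = 0 := by
    intro w
    refine ⟨?_, hplus w⟩
    rintro ⟨g, hg⟩
    rcases two_cases (qPlus (k + 1) w) with h | h
    · exact h
    · exfalso
      have h1 := hS w
      rw [h, chi_one] at h1
      have h2 : IsQ.S (T w) = IsQ.S (qPlus (k + 1)) := by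
        rw [← S_comp g.toEquiv (qPlus (k + 1))]
        exact congrArg IsQ.S (funext hg)
      rw [h2, S_plus] at h1
      have : (0 : ℤ) < 2 ^ (k + 1) := by positivity
      linarith
  have hminus_iff : ∀ w, (∃ g : (Fin (k + 1) ⊕ Fin (k + 1) → ZMod 2) ≃ₗ[ZMod 2] ((Fin k ⊕ Fin k) ⊕ Fin 2 → ZMod 2), ∀ v, T w v = qMinus k (g v)) ↔ qPlus (k + 1) w ≠ 0 := by
    intro w
    constructor
    · rintro ⟨g, hg⟩ h
      have h1 := hS w
      rw [h, chi_zero] at h1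
      have h2 : IsQ.S (T w) = IsQ.S (qMinus k) := by
        rw [← S_comp g.toEquiv (qMinus k)]
        exact congrArg IsQ.S (funext hg)
      rw [h2, S_minus] at h1
      have : (0 : ℤ) < 2 ^ (k + 1) := by positivity
      linarith
    · intro h
      exact hminus w ((two_cases _).resolve_left h)
  -- counting
  have hcardV : Nat.card (Fin (k + 1) ⊕ Fin (k + 1) → ZMod 2) = 2 ^ (2 * (k + 1)) := by
    rw [Nat.card_eq_fintype_card]
    simp [two_mul]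
  have hcount : ∀ P : ((Fin (k + 1) ⊕ Fin (k + 1) → ZMod 2) → ZMod 2) → Prop, Nat.card {q : (Fin (k + 1) ⊕ Fin (k + 1) → ZMod 2) → ZMod 2 // IsQ q (fPlus (k + 1)) ∧ P q} = Nat.card {w : (Fin (k + 1) ⊕ Fin (k + 1) → ZMod 2) // P (T w)} := by
    intro P
    symm
    apply Nat.card_eq_of_bijective (fun w : {w : (Fin (k + 1) ⊕ Fin (k + 1) → ZMod 2) // P (T w)} => (⟨T w, hT w, w.2⟩ : {q : (Fin (k + 1) ⊕ Fin (k + 1) → ZMod 2) → ZMod 2 // IsQ q (fPlus (k + 1)) ∧ P q}))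
    constructor
    · intro w w' h
      exact Subtype.ext (hTinj _ _ (congrArg Subtype.val h))
    · rintro ⟨q, hq, hP⟩
      obtain ⟨w, rfl⟩ := hTsurj q hq
      exact ⟨⟨w, hP⟩, rfl⟩
  have hz := IsQ.two_mul_card_zeros (V := (Fin (k + 1) ⊕ Fin (k + 1) → ZMod 2)) (qPlus (k + 1))
  have hz' : 2 * Nat.card {w : (Fin (k + 1) ⊕ Fin (k + 1) → ZMod 2) // qPlus (k + 1) w = 0} = 2 ^ (2 * (k + 1)) + 2 ^ (k + 1) := by
    have : (Fintype.card (Fin (k + 1) ⊕ Fin (k + 1) → ZMod 2) : ℤ) = 2 ^ (2 * (k + 1)) := by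
      rw [← Nat.card_eq_fintype_card, hcardV]; push_cast; rfl
    rw [this, S_plus] at hz
    exact_mod_cast hz
  have hzero : Nat.card {w : (Fin (k + 1) ⊕ Fin (k + 1) → ZMod 2) // qPlus (k + 1) w = 0} = 2 ^ (2 * (k + 1) - 1) + 2 ^ k := by
    have e1 : 2 ^ (2 * (k + 1)) = 2 * 2 ^ (2 * (k + 1) - 1) := by
      rw [← pow_succ']; congr 1
    have e2 : 2 ^ (k + 1) = 2 * 2 ^ k := pow_succ' _ _
    omega
  have hnonzero : Nat.card {w : (Fin (k + 1) ⊕ Fin (k + 1) → ZMod 2) // ¬ qPlus (k + 1) w = 0} = 2 ^ (2 * (k + 1) - 1) - 2 ^ k := by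
    have h1 : Nat.card {w : (Fin (k + 1) ⊕ Fin (k + 1) → ZMod 2) // qPlus (k + 1) w = 0} + Nat.card {w : (Fin (k + 1) ⊕ Fin (k + 1) → ZMod 2) // ¬ qPlus (k + 1) w = 0} = 2 ^ (2 * (k + 1)) := by
      rw [← hcardV, ← Nat.card_sum]
      exact Nat.card_congr (Equiv.sumCompl (fun w : (Fin (k + 1) ⊕ Fin (k + 1) → ZMod 2) => qPlus (k + 1) w = 0))
    have e1 : 2 ^ (2 * (k + 1)) = 2 * 2 ^ (2 * (k + 1) - 1) := by
      rw [← pow_succ']; congr 1
    have e2 : 2 ^ (k + 1) = 2 * 2 ^ k := pow_succ' _ _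
    omega
  refine ⟨?_, ?_, ?_, ?_⟩
  · have := hcount (fun _ => True)
    simp only [and_true] at this
    rw [this, ← hcardV]
    exact Nat.card_congr (Equiv.subtypeUnivEquiv fun _ => trivial)
  · intro q hq
    obtain ⟨w, rfl⟩ := hTsurj q hq
    rcases two_cases (qPlus (k + 1) w) with h | h
    · exact Or.inl (hplus w h)
    · exact Or.inr (hminus w h)
  · rw [hcount (fun q => ∃ g : (Fin (k + 1) ⊕ Fin (k + 1) → ZMod 2) ≃ₗ[ZMod 2] (Fin (k + 1) ⊕ Fin (k + 1) → ZMod 2), ∀ v, q v = qPlus (k + 1) (g v)), ← hzero]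
    exact Nat.card_congr (Equiv.subtypeEquivRight fun w => hplus_iff w)
  · refine (hcount (fun q => ∃ g : (Fin (k + 1) ⊕ Fin (k + 1) → ZMod 2) ≃ₗ[ZMod 2] ((Fin k ⊕ Fin k) ⊕ Fin 2 → ZMod 2), ∀ v, q v = qMinus k (g v))).trans ?_
    rw [← hnonzero]
    exact Nat.card_congr (Equiv.subtypeEquivRight fun w => hminus_iff w)

end Cfsg.Agent.S2561
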