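import Mathlib
import Cfsg.Statements.S0824
import Cfsg.Agent.S0288
import Cfsg.Agent.Lib.SymF2Hom
import Cfsg.Agent.Lib.IsomTransport

set_option autoImplicit false
open Cfsg

namespace Cfsg.Agent.S0824

open Module Cfsg.Agent.Lib.QuadF2 Cfsg.Agent.Lib.SymF2 Cfsg.Agent.Lib.SymF2Hom Cfsg.Agent.Lib.IsomTransport

/-- the action on even vectors -/
def rho5 : Equiv.Perm (Fin 5) →* Module.End (ZMod 2) (E 5) where
  toFun π := actE π
  map_one' := by
    apply LinearMap.ext
    intro v
    rfl
  map_mul' π σ := by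
    apply LinearMap.ext
    intro v
    rfl

theorem rho5_injective : Function.Injective rho5 := by
  rw [injective_iff_map_eq_one]
  intro π hπ
  by_contra hne
  obtain ⟨a, ha⟩ : ∃ a, π a ≠ a := by
    by_contra hcon
    push Not at hcon
    exact hne (Equiv.ext hcon)
  obtain ⟨b, hb⟩ : ∃ b, b ∉ ({a, π a} : Finset (Fin 5)) := by
    by_contra hcon
    push Not at hcon
    have h1 : (Finset.univ : Finset (Fin 5)) ⊆ {a, π a} := fun x _ => hcon x
    have h2 := Finset.card_le_card h1
    rw [Finset.card_univ, Fintype.card_fin] at h2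
    have h3 := Finset.card_le_two (a := a) (b := π a)
    omega
  simp only [Finset.mem_insert, Finset.mem_singleton, not_or] at hb
  let x : Fin 5 → ZMod 2 := Pi.single a 1 + Pi.single b 1
  have hx : x ∈ E 5 := by
    rw [mem_E]
    simp only [x, Pi.add_apply, Finset.sum_add_distrib, Finset.sum_pi_single']
    simp
    rfl
  have h1 := congrArg (fun g : Module.End (ZMod 2) (E 5) => ((g ⟨x, hx⟩ : E 5) : Fin 5 → ZMod 2) (π a)) hπ
  have h2 : x (π⁻¹ (π a)) = x (π a) := h1
  have e1 : x (π⁻¹ (π a)) = 1 := by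
    have : π⁻¹ (π a) = a := by simp
    rw [this]
    simp [x, Pi.single_apply, Ne.symm hb.1]
  have e2 : x (π a) = 0 := by
    simp [x, Pi.single_apply, ha, Ne.symm hb.2]
  rw [e1, e2] at h2
  exact absurd h2 (by decide)

theorem A_five : A 5 = -4 := by
  have a1 := A_succ 4
  have b4 := B_succ 3
  have a3 := A_succ 2
  have b3 := B_succ 2
  have a2 := A_succ 1
  have b2 := B_succ 1
  have a0 := A_succ 0
  have b1 := B_succ 0
  have a4 := A_succ 3
  have h0 := A_zero
  have hb0 : B 0 = 0 := by decide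
  norm_num at a1 b4 a3 b3 a2 b2 a0 b1 a4
  omega

theorem result {F : Type*} [Field F] [Fintype F] (hF : Fintype.card F = 2) : Nonempty (↥(Cfsg.isometryGroup F (Cfsg.quadFormMinus 1 F 1 1)) ≃* Equiv.Perm (Fin 5)) := by
  classical
  have hE : IsQ (fun x : E 5 => q (x : Fin 5 → ZMod 2)) (fun x y : E 5 => f (x : Fin 5 → ZMod 2) (y : Fin 5 → ZMod 2)) :=
    { pol := fun x y => (isQ 5).pol x y
      add_left := fun x y z => (isQ 5).add_left x y z }
  have instF : Fintype (E 5) := Fintype.ofFinite _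
  have hnd : ∀ u : E 5, (∀ v : E 5, f (u : Fin 5 → ZMod 2) (v : Fin 5 → ZMod 2) = 0) → u = 0 := by
    intro u hu
    have h1 : ∀ i j, (u : Fin 5 → ZMod 2) i = (u : Fin 5 → ZMod 2) j := by
      intro i j
      by_cases hij : i = j
      · rw [hij]
      · have hy : (Pi.single i 1 + Pi.single j 1 : Fin 5 → ZMod 2) ∈ E 5 := by
          rw [mem_E]
          simp only [Pi.add_apply, Finset.sum_add_distrib, Finset.sum_pi_single']
          simp
          rfl
        have h1 := hu ⟨_, hy⟩
        simp only [f] at h1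
        rw [(mem_E _).mp u.2, zero_mul, zero_add] at h1
        simp only [Pi.add_apply, mul_add, Finset.sum_add_distrib] at h1
        simp only [Pi.single_apply, mul_ite, mul_one, mul_zero, Finset.sum_ite_eq', Finset.mem_univ, if_true] at h1
        have h2 := add_self ((u : Fin 5 → ZMod 2) j)
        linear_combination h1 - h2
    have h2 := (mem_E _).mp u.2
    have h3 : ∑ i : Fin 5, (u : Fin 5 → ZMod 2) i = (u : Fin 5 → ZMod 2) 0 := by
      rw [Finset.sum_congr rfl (fun i _ => h1 i 0), Finset.sum_const, Finset.card_univ, Fintype.card_fin]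
      generalize (u : Fin 5 → ZMod 2) 0 = c
      revert c
      decide
    apply Subtype.ext
    funext i
    rw [h1 i 0, ← h3, h2]
    rfl
  have hfr : finrank (ZMod 2) (E 5) = 2 * (1 + 1) := finrank_E 4
  have hcl := classification hE hnd hfr
  have hneg : IsQ.S (fun x : E 5 => q (x : Fin 5 → ZMod 2)) < 0 := by
    rw [S_E, A_five]; norm_num
  obtain ⟨g, hg⟩ := hcl.2 hneg
  obtain ⟨φ, hφ, -⟩ := exists_hom_isometry rho5 (fun x : E 5 => q (x : Fin 5 → ZMod 2)) (fun π w => q_act π _)
    rho5_injective g (Cfsg.quadFormMinus 1 (ZMod 2) 1 1) hg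
  have hcard : Nat.card ↥(Cfsg.isometryGroup (ZMod 2) (Cfsg.quadFormMinus 1 (ZMod 2) 1 1)) = 120 := by
    have := Cfsg.Agent.S0288.result (F := ZMod 2) (q := 2) (by simp [ZMod.card]) 2 (by norm_num) 1 1 (by decide)
    rw [show 2 - 1 = 1 from rfl] at this
    rw [this]
    decide
  have hcardS : Nat.card (Equiv.Perm (Fin 5)) = 120 := by
    rw [Nat.card_eq_fintype_card, Fintype.card_perm, Fintype.card_fin]
    rfl
  have hbij : Function.Bijective φ := by
    rw [Nat.bijective_iff_injective_and_card]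
    exact ⟨hφ, by rw [hcard, hcardS]⟩
  obtain ⟨σ⟩ := exists_ringEquiv_two hF
  exact ⟨(isometryEquiv σ _ (Cfsg.quadFormMinus 1 F 1 1) (quadFormMinus_map σ 1)).symm.trans
    (MulEquiv.ofBijective φ hbij).symm⟩

end Cfsg.Agent.S0824
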