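import Cfsg.Statements.S2553
import Cfsg.Agent.Lib.H53Sub8d
import Cfsg.Agent.Lib.ClSeven
import Cfsg.Agent.S0495

set_option autoImplicit false
open Cfsg

namespace Cfsg.Agent.S2553

open Cfsg.Agent.Lib Cfsg.Agent.Lib.H53Sub8b Cfsg.Agent.Lib.H53Sub8d

theorem iso_of_simple {G : Type*} [Group G] [Finite G] [IsSimpleGroup G] (h : Nat.card G = 168) :
    Nonempty (G ≃* GL (Fin 3) (ZMod 2)) := by
  have : Fact (Nat.Prime 7) := ⟨by norm_num⟩
  obtain ⟨e1⟩ := Cfsg.Agent.S0495.result h (F := ZMod 7) (ZMod.card 7)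
  have : IsSimpleGroup (Matrix.ProjectiveSpecialLinearGroup (Fin 2) (ZMod 7)) :=
    (MulEquiv.isSimpleGroup_congr e1).1 inferInstance
  have h1 := ClSeven.bijective_of_simple ClSeven.pslHom _ ClSeven.pslHom_ne
    (ClSeven.card_psl27.trans ClSeven.card_gl32.symm)
  exact ⟨e1.trans (MulEquiv.ofBijective _ h1)⟩

/-- Let H be a nontrivial subgroup of GL(4,2) (a group isomorphic to the alternating group of degree 8) whose largest normal 2-subgroup and largest normal subgroup of odd order are both trivial. Then H is isomorphic to an alternating group of degree n for some 5 ≤ n ≤ 8, to the symmetric group of degree 5 or 6, or to GL(3,2). -/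
theorem result (H : Subgroup (GL (Fin 4) (ZMod 2))) (hH : H ≠ ⊥) (hO : Cfsg.pPrimeCore 2 ↥H = ⊥) (hO2 : Cfsg.pCore 2 ↥H = ⊥) :
    (∃ n : ℕ, 5 ≤ n ∧ n ≤ 8 ∧ Nonempty (↥H ≃* alternatingGroup (Fin n))) ∨
    Nonempty (↥H ≃* Equiv.Perm (Fin 5)) ∨ Nonempty (↥H ≃* Equiv.Perm (Fin 6)) ∨ Nonempty (↥H ≃* GL (Fin 3) (ZMod 2)) := by
  classical
  have : Fact (Nat.Prime 2) := ⟨Nat.prime_two⟩
  have hgood : Good H := good_of_cores hO2 hO
  have hnt : Nontrivial H := (Subgroup.nontrivial_iff_ne_bot H).2 hH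
  have hbig : 64 ∣ Nat.card H → Nonempty (H ≃* alternatingGroup (Fin 8)) := by
    intro h64
    have h1 := H53Sub8a.eq_top_of_sixtyfour h64 (fun N hN hp => by
      rw [eq_bot_iff, ← hO2]
      exact Cores.le_pCore hN hp)
    exact ⟨((MulEquiv.subgroupCongr h1).trans Subgroup.topEquiv).trans GL4A8.equivA8⟩
  let f : H →* Equiv.Perm (Fin 8) := (alternatingGroup (Fin 8)).subtype.comp (GL4A8.equivA8.toMonoidHom.comp H.subtype)
  have hinj : Function.Injective f := (alternatingGroup (Fin 8)).subtype_injective.comp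
    (GL4A8.equivA8.injective.comp H.subtype_injective)
  let e : H ≃* f.range := f.ofInjective hinj
  have hA : f.range ≤ alternatingGroup (Fin 8) := by
    rintro _ ⟨h, rfl⟩
    exact (GL4A8.equivA8 (h : GL (Fin 4) (ZMod 2))).2
  have hnt' : Nontrivial f.range := e.toEquiv.symm.nontrivial
  rcases perm_main f.range hA (hgood.equiv e) hnt' with ⟨n, h5, h8, ⟨e2⟩⟩ | ⟨⟨e2⟩⟩ | ⟨⟨e2⟩⟩ | ⟨h1, h2⟩ | h1
  · exact Or.inl ⟨n, h5, h8, ⟨e.trans e2⟩⟩
  · exact Or.inr (Or.inl ⟨e.trans e2⟩)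
  · exact Or.inr (Or.inr (Or.inl ⟨e.trans e2⟩))
  · obtain ⟨e3⟩ := iso_of_simple h1
    exact Or.inr (Or.inr (Or.inr ⟨e.trans e3⟩))
  · rw [Nat.card_congr e.toEquiv.symm] at h1
    obtain ⟨e4⟩ := hbig h1
    exact Or.inl ⟨8, by norm_num, le_rfl, ⟨e4⟩⟩

end Cfsg.Agent.S2553
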