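import Mathlib
import Cfsg.Statements.S0822
import Cfsg.Agent.S0245
import Cfsg.Agent.S0246
import Cfsg.Agent.Lib.Psu42

set_option autoImplicit false
open Cfsg

namespace Cfsg.Agent.S0822

open Matrix Cfsg.Agent.Lib Cfsg.Agent.Lib.K4 Cfsg.Agent.Lib.Psu42

section Transport

variable {K E : Type*} [Field K] [Field E] {m : ℕ}

theorem mem_map (σ : K ≃+* E) (A : Matrix (Fin m ⊕ Fin m) (Fin m ⊕ Fin m) K) (hA : A ∈ Matrix.symplecticGroup (Fin m) K) :
    A.map σ ∈ Matrix.symplecticGroup (Fin m) E := by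
  rw [SymplecticGroup.mem_iff] at hA ⊢
  have hJ : (Matrix.J (Fin m) K).map σ = Matrix.J (Fin m) E := by
    rw [Matrix.J, Matrix.J, Matrix.fromBlocks_map]
    congr 1
    · ext i j; simp
    · ext i j; by_cases h : i = j <;> simp [h]
    · ext i j; simp [Matrix.one_apply]
    · ext i j; simp
  have h1 := congrArg (fun M : Matrix (Fin m ⊕ Fin m) (Fin m ⊕ Fin m) K => M.map σ) hA
  simp only [Matrix.map_mul, Matrix.transpose_map, hJ] at h1
  exact h1

/-- the symplectic group over isomorphic fields -/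
noncomputable def spEquiv (σ : K ≃+* E) : Matrix.symplecticGroup (Fin m) K ≃* Matrix.symplecticGroup (Fin m) E where
  toFun A := ⟨A.1.map σ, mem_map σ A.1 A.2⟩
  invFun B := ⟨B.1.map σ.symm, mem_map σ.symm B.1 B.2⟩
  left_inv A := by
    apply Subtype.ext
    ext i j
    simp
  right_inv B := by
    apply Subtype.ext
    ext i j
    simp
  map_mul' A B := by
    apply Subtype.ext
    exact Matrix.map_mul

end Transport

/-- the permutation representation on the matrix group -/
noncomputable def alM : Matrix.symplecticGroup (Fin 2) (ZMod 3) →* Equiv.Perm (Fin 40) :=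
  al.comp (ClIso.sympEquiv (Fin 2) (ZMod 3)).toMonoidHom

theorem ker_le : alM.ker ≤ Subgroup.center (Matrix.symplecticGroup (Fin 2) (ZMod 3)) := by
  intro g hg
  rw [Subgroup.mem_center_iff]
  intro k
  apply (ClIso.sympEquiv (Fin 2) (ZMod 3)).injective
  rw [map_mul, map_mul]
  have h1 : al (ClIso.sympEquiv (Fin 2) (ZMod 3) g) = 1 := hg
  apply ClSymp.Spg_ext
  intro x
  rcases eq_of_fix _ h1 with h | h
  · change (ClIso.sympEquiv (Fin 2) (ZMod 3) k).1 ((ClIso.sympEquiv (Fin 2) (ZMod 3) g).1 x) =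
      (ClIso.sympEquiv (Fin 2) (ZMod 3) g).1 ((ClIso.sympEquiv (Fin 2) (ZMod 3) k).1 x)
    rw [h, h]
  · change (ClIso.sympEquiv (Fin 2) (ZMod 3) k).1 ((ClIso.sympEquiv (Fin 2) (ZMod 3) g).1 x) =
      (ClIso.sympEquiv (Fin 2) (ZMod 3) g).1 ((ClIso.sympEquiv (Fin 2) (ZMod 3) k).1 x)
    rw [h, h, map_neg]

theorem card_Sp : Nat.card (Matrix.symplecticGroup (Fin 2) (ZMod 3)) = 51840 := by
  rw [S0245.result (F := ZMod 3) (ZMod.card 3) 2]
  decide

theorem card_center : Nat.card (Subgroup.center (Matrix.symplecticGroup (Fin 2) (ZMod 3))) = 2 := by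
  exact (S0246.result (F := ZMod 3) (ZMod.card 3) 2 (by norm_num)).trans (by norm_num)

theorem card_SU4 : Nat.card (SU 4 K4 2) = 25920 := by
  have h := ClUnitary.card_SU (F := K4) (q := 2) (n := 4) card_K4' (by norm_num)
  have h2 : 2 ^ (4 * (4 - 1) / 2) * ∏ i ∈ Finset.range 4, (if Even i then 2 ^ (i + 1) + 1 else 2 ^ (i + 1) - 1) = 77760 := by decide
  rw [h2] at h
  omega

theorem main : Nonempty (PSU 4 K4 2 ≃* PSp 2 (ZMod 3)) := by
  have hfin1 : Finite (Matrix.symplecticGroup (Fin 2) (ZMod 3)) := Nat.finite_of_card_ne_zero (by rw [card_Sp]; norm_num)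
  have hfin2 : Finite (SU 4 K4 2) := Nat.finite_of_card_ne_zero (by rw [card_SU4]; norm_num)
  have h1 : Nat.card alM.ker * Nat.card alM.range = 51840 := by
    rw [← card_Sp, ← Subgroup.card_mul_index alM.ker, Subgroup.index_ker]
  have h2 : Nat.card alM.ker ≤ 2 := (Subgroup.card_le_of_le ker_le).trans card_center.le
  have hr : alM.range = al.range := by
    apply le_antisymm
    · rintro _ ⟨g, rfl⟩; exact ⟨_, rfl⟩
    · rintro _ ⟨g, rfl⟩
      refine ⟨(ClIso.sympEquiv (Fin 2) (ZMod 3)).symm g, ?_⟩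
      change al ((ClIso.sympEquiv (Fin 2) (ZMod 3)) ((ClIso.sympEquiv (Fin 2) (ZMod 3)).symm g)) = al g
      rw [MulEquiv.apply_symm_apply]
  have hle : alM.range ≤ be.range := hr ▸ range_le
  have h3 : Nat.card alM.range ≤ Nat.card be.range := Subgroup.card_le_of_le hle
  have h4 : Nat.card be.ker * Nat.card be.range = 25920 := by
    rw [← card_SU4, ← Subgroup.card_mul_index be.ker, Subgroup.index_ker]
  have h5 : 0 < Nat.card be.ker := Nat.card_pos
  have h6 : Nat.card be.range ≤ 25920 := by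
    rw [← h4]; exact Nat.le_mul_of_pos_left _ h5
  have h7 : Nat.card alM.ker = 2 := by
    by_contra hne
    have : Nat.card alM.ker ≤ 1 := by omega
    have h8 : Nat.card alM.ker * Nat.card alM.range ≤ 1 * 25920 := Nat.mul_le_mul this (h3.trans h6)
    omega
  have h8 : Nat.card alM.range = 25920 := by
    rw [h7] at h1; omega
  have h9 : Nat.card be.range = 25920 := le_antisymm h6 (h8 ▸ h3)
  have h10 : Nat.card be.ker = 1 := by
    have h4' : Nat.card be.ker * 25920 = 1 * 25920 := by rw [← h9, h4, h9]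
    exact Nat.eq_of_mul_eq_mul_right (by norm_num) h4'
  have heq : alM.range = be.range := Subgroup.eq_of_le_of_card_ge hle (by rw [h8, h9])
  have hker : alM.ker = Subgroup.center (Matrix.symplecticGroup (Fin 2) (ZMod 3)) :=
    Subgroup.eq_of_le_of_card_ge ker_le (by rw [h7, card_center])
  have hinj : Function.Injective be := by
    rw [← MonoidHom.ker_eq_bot_iff]
    exact Subgroup.card_eq_one.mp h10
  have hc : Subgroup.center (SU 4 K4 2) = ⊥ := by
    apply Subgroup.card_eq_one.mp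
    exact (ClUnitary.card_center_SU card_K4' (by norm_num)).trans (by norm_num)
  have e1 : PSU 4 K4 2 ≃* SU 4 K4 2 :=
    (QuotientGroup.quotientMulEquivOfEq hc).trans QuotientGroup.quotientBot
  have e2 : SU 4 K4 2 ≃* be.range := MonoidHom.ofInjective hinj
  have e3 : PSp 2 (ZMod 3) ≃* alM.range :=
    (QuotientGroup.quotientMulEquivOfEq hker.symm).trans (QuotientGroup.quotientKerEquivRange alM)
  exact ⟨e1.trans (e2.trans ((MulEquiv.subgroupCongr heq.symm).trans e3.symm))⟩

theorem result {F K : Type*} [Field F] [Fintype F] [Field K] [Fintype K] (hF : Fintype.card F = 4) (hK : Fintype.card K = 3) : Nonempty (Cfsg.PSU 4 F 2 ≃* Cfsg.PSp 2 K) := by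
  obtain ⟨e⟩ := exists_equiv F hF
  obtain ⟨φ⟩ := main
  have σ : ZMod 3 ≃+* K := FiniteField.ringEquivOfCardEq (by rw [ZMod.card, hK])
  exact ⟨(SUTransport.psuEquiv e 4 2).trans (φ.trans (SUTransport.quotCenterCongr (spEquiv σ)))⟩

end Cfsg.Agent.S0822
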