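import Cfsg.Statements.S2763
import Cfsg.Agent.Lib.QdAffine
import Cfsg.Agent.Lib.AmalgamCharP

set_option autoImplicit false
open Cfsg

namespace Cfsg.Agent.S2763

open Cfsg.Agent.Lib.QdAffine Matrix

section general
variable {F : Type*} [Field F]

theorem ent_inv_00 (M : ↥(qdOver F)) : ent M⁻¹ 0 0 = ent M 1 1 := by
  have h := mem_qdOver_iff.1 M.2
  unfold ent
  rw [Subgroup.coe_inv, Matrix.SpecialLinearGroup.coe_inv]
  simp [Matrix.adjugate_fin_three, h.1, h.2.1, h.2.2]

theorem ent_inv_10 (M : ↥(qdOver F)) : ent M⁻¹ 1 0 = - ent M 1 0 := by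
  have h := mem_qdOver_iff.1 M.2
  unfold ent
  rw [Subgroup.coe_inv, Matrix.SpecialLinearGroup.coe_inv]
  simp [Matrix.adjugate_fin_three, h.1, h.2.1, h.2.2]

/-- the Borel subgroup -/
def borel (F : Type*) [Field F] : Subgroup ↥(qdOver F) where
  carrier := {M | ent M 1 0 = 0}
  mul_mem' := by
    intro a b (ha : ent a 1 0 = 0) (hb : ent b 1 0 = 0)
    show ent (a * b) 1 0 = 0
    rw [ent_mul, ha, hb, ent_two_zero]; ring
  one_mem' := by
    show ent 1 1 0 = 0
    rw [ent_one]; simp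
  inv_mem' := by
    intro a (ha : ent a 1 0 = 0)
    show ent a⁻¹ 1 0 = 0
    rw [ent_inv_10, ha, neg_zero]

theorem mem_borel {M : ↥(qdOver F)} : M ∈ borel F ↔ ent M 1 0 = 0 := Iff.rfl

/-- the unitriangular subgroup -/
def unip (F : Type*) [Field F] : Subgroup ↥(qdOver F) where
  carrier := {M | ent M 1 0 = 0 ∧ ent M 0 0 = 1}
  mul_mem' := by
    rintro a b ⟨ha, ha'⟩ ⟨hb, hb'⟩
    refine ⟨?_, ?_⟩
    · rw [ent_mul, ha, hb, ent_two_zero]; ring
    · rw [ent_mul, ha', hb', hb, ent_two_zero]; ring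
  one_mem' := by
    refine ⟨?_, ?_⟩ <;> rw [ent_one] <;> simp
  inv_mem' := by
    rintro a ⟨ha, ha'⟩
    refine ⟨?_, ?_⟩
    · rw [ent_inv_10, ha, neg_zero]
    · rw [ent_inv_00]
      have := ent_det a
      rw [ha, ha'] at this
      linear_combination this

theorem mem_unip {M : ↥(qdOver F)} : M ∈ unip F ↔ ent M 1 0 = 0 ∧ ent M 0 0 = 1 := Iff.rfl

theorem unip_11 {M : ↥(qdOver F)} (h : M ∈ unip F) : ent M 1 1 = 1 := by
  have := ent_det M
  rw [h.1, h.2] at this
  linear_combination this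

/-- The Borel subgroup is maximal. -/
theorem borel_maximal (K : Subgroup ↥(qdOver F)) (hK : borel F ≤ K) {M : ↥(qdOver F)}
    (hM : M ∈ K) (hM' : ent M 1 0 ≠ 0) : K = ⊤ := by
  rw [eq_top_iff]
  intro N _
  by_cases hN : ent N 1 0 = 0
  · exact hK hN
  · set c := ent M 1 0 with hc
    set c' := ent N 1 0 with hc'
    let b : ↥(qdOver F) := mk (c / c') ((c / c' * ent M 1 1 - ent N 1 1) / c) 0 (c' / c) 0 0
      (by field_simp; ring)
    have hb : b ∈ borel F := rfl
    have hmem : N * b * M⁻¹ ∈ borel F := by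
      rw [mem_borel, ent_mul, ent_mul, ent_mul, ent_inv_00, ent_inv_10, ent_two_zero, ent_mul,
        ent_two_zero]
      simp only [b, ent_mk_00, ent_mk_01, ent_mk_10, ent_mk_11, ent_two_one]
      rw [← hc, ← hc']
      field_simp
      ring
    have : N = (N * b * M⁻¹) * M * b⁻¹ := by group
    rw [this]
    exact K.mul_mem (K.mul_mem (hK hmem) hM) (K.inv_mem (hK hb))

/-- The Borel subgroup normalizes the unitriangular group. -/
theorem borel_le_normalizer : borel F ≤ Subgroup.normalizer (unip F : Set ↥(qdOver F)) := by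
  have key : ∀ g ∈ borel F, ∀ h ∈ unip F, g * h * g⁻¹ ∈ unip F := by
    intro g hg h hh
    have h11 := unip_11 hh
    refine ⟨?_, ?_⟩
    · exact (borel F).mul_mem ((borel F).mul_mem hg hh.1) ((borel F).inv_mem hg)
    · rw [mem_borel] at hg
      rw [ent_mul, ent_mul, ent_mul, ent_inv_00, ent_inv_10, ent_two_zero, ent_mul, hg, hh.1, hh.2,
        ent_two_zero]
      have := ent_det g
      rw [hg] at this
      linear_combination this
  intro g hg
  rw [Subgroup.mem_normalizer_iff]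
  intro h
  refine ⟨key g hg h, fun hh => ?_⟩
  have := key g⁻¹ ((borel F).inv_mem hg) _ hh
  simpa [mul_assoc] using this

/-- An explicit automorphism of the unitriangular group. -/
def theta (F : Type*) [Field F] : ↥(unip F) ≃* ↥(unip F) where
  toFun M := ⟨mk 1 (ent M.1 1 2) 0 1 (ent M.1 0 1 * ent M.1 1 2 - ent M.1 0 2) (ent M.1 0 1)
    (by ring), ⟨rfl, rfl⟩⟩
  invFun M := ⟨mk 1 (ent M.1 1 2) 0 1 (ent M.1 0 1 * ent M.1 1 2 - ent M.1 0 2) (ent M.1 0 1)
    (by ring), ⟨rfl, rfl⟩⟩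
  left_inv M := by
    apply Subtype.ext
    apply ext_ent
    · exact M.2.2.symm
    · rfl
    · show ent M.1 1 2 * ent M.1 0 1 - (ent M.1 0 1 * ent M.1 1 2 - ent M.1 0 2) = ent M.1 0 2
      ring
    · exact M.2.1.symm
    · exact (unip_11 M.2).symm
    · rfl
  right_inv M := by
    apply Subtype.ext
    apply ext_ent
    · exact M.2.2.symm
    · rfl
    · show ent M.1 1 2 * ent M.1 0 1 - (ent M.1 0 1 * ent M.1 1 2 - ent M.1 0 2) = ent M.1 0 2
      ring
    · exact M.2.1.symm
    · exact (unip_11 M.2).symm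
    · rfl
  map_mul' M N := by
    have m00 := M.2.2
    have m10 := M.2.1
    have m11 := unip_11 M.2
    have n00 := N.2.2
    have n10 := N.2.1
    have n11 := unip_11 N.2
    have e12 : ent (M * N).1 1 2 = ent N.1 1 2 + ent M.1 1 2 := by
      show ent (M.1 * N.1) 1 2 = _
      rw [ent_mul, m10, m11, ent_two_two]; ring
    have e01 : ent (M * N).1 0 1 = ent N.1 0 1 + ent M.1 0 1 := by
      show ent (M.1 * N.1) 0 1 = _
      rw [ent_mul, m00, n11, ent_two_one]; ring
    have e02 : ent (M * N).1 0 2 = ent N.1 0 2 + ent M.1 0 1 * ent N.1 1 2 + ent M.1 0 2 := by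
      show ent (M.1 * N.1) 0 2 = _
      rw [ent_mul, m00, ent_two_two]; ring
    apply Subtype.ext
    apply ext_ent
    · show (1 : F) = ent (mk 1 (ent M.1 1 2) 0 1 (ent M.1 0 1 * ent M.1 1 2 - ent M.1 0 2) (ent M.1 0 1) (by ring) * mk 1 (ent N.1 1 2) 0 1 (ent N.1 0 1 * ent N.1 1 2 - ent N.1 0 2) (ent N.1 0 1) (by ring)) 0 0
      rw [ent_mul]; simp [ent_two_zero]
    · show ent (M * N).1 1 2 = ent (mk 1 (ent M.1 1 2) 0 1 (ent M.1 0 1 * ent M.1 1 2 - ent M.1 0 2) (ent M.1 0 1) (by ring) * mk 1 (ent N.1 1 2) 0 1 (ent N.1 0 1 * ent N.1 1 2 - ent N.1 0 2) (ent N.1 0 1) (by ring)) 0 1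
      rw [ent_mul]; simp [ent_two_one]; exact e12
    · show ent (M * N).1 0 1 * ent (M * N).1 1 2 - ent (M * N).1 0 2 =
        ent (mk 1 (ent M.1 1 2) 0 1 (ent M.1 0 1 * ent M.1 1 2 - ent M.1 0 2) (ent M.1 0 1) (by ring) * mk 1 (ent N.1 1 2) 0 1 (ent N.1 0 1 * ent N.1 1 2 - ent N.1 0 2) (ent N.1 0 1) (by ring)) 0 2
      rw [ent_mul, e12, e01, e02]; simp [ent_two_two]; ring
    · show (0 : F) = ent (mk 1 (ent M.1 1 2) 0 1 (ent M.1 0 1 * ent M.1 1 2 - ent M.1 0 2) (ent M.1 0 1) (by ring) * mk 1 (ent N.1 1 2) 0 1 (ent N.1 0 1 * ent N.1 1 2 - ent N.1 0 2) (ent N.1 0 1) (by ring)) 1 0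
      rw [ent_mul]; simp [ent_two_zero]
    · show (1 : F) = ent (mk 1 (ent M.1 1 2) 0 1 (ent M.1 0 1 * ent M.1 1 2 - ent M.1 0 2) (ent M.1 0 1) (by ring) * mk 1 (ent N.1 1 2) 0 1 (ent N.1 0 1 * ent N.1 1 2 - ent N.1 0 2) (ent N.1 0 1) (by ring)) 1 1
      rw [ent_mul]; simp [ent_two_one]
    · show ent (M * N).1 0 1 = ent (mk 1 (ent M.1 1 2) 0 1 (ent M.1 0 1 * ent M.1 1 2 - ent M.1 0 2) (ent M.1 0 1) (by ring) * mk 1 (ent N.1 1 2) 0 1 (ent N.1 0 1 * ent N.1 1 2 - ent N.1 0 2) (ent N.1 0 1) (by ring)) 1 2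
      rw [ent_mul]; simp [ent_two_two]; exact e01

/-- A nontrivial normal subgroup of `Qd(F)` inside the translations is the translation group. -/
theorem normal_le_ker (N : Subgroup ↥(qdOver F)) (hN : N.Normal) (hle : N ≤ (block (F := F)).ker)
    (hne : N ≠ ⊥) : N = (block (F := F)).ker := by
  apply le_antisymm hle
  obtain ⟨⟨M, hM⟩, hM1'⟩ := N.ne_bot_iff_exists_ne_one.1 hne
  have hM1 : M ≠ 1 := fun h1 => hM1' (Subtype.ext h1)
  obtain ⟨v, hv⟩ := ker_eq_tr (hle hM)
  have hMv : tr v ∈ N := by rw [← hv]; exact hM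
  have hv0 : v ≠ 0 := by
    rintro rfl
    exact hM1 (hv.trans tr_zero)
  have sub : ∀ w w' : Fin 2 → F, tr w ∈ N → tr w' ∈ N → tr (w - w') ∈ N := by
    intro w w' h h'
    have h1 : tr (w - w') * tr w' = tr w := by rw [← tr_add, sub_add_cancel]
    have h2 : tr (w - w') = tr w * (tr w')⁻¹ := by rw [← h1]; group
    rw [h2]
    exact N.mul_mem h (N.inv_mem h')
  have act : ∀ (A : Matrix.SpecialLinearGroup (Fin 2) F) (w : Fin 2 → F), tr w ∈ N →
      tr ((A : Matrix (Fin 2) (Fin 2) F) *ᵥ w) ∈ N := by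
    intro A w h
    have h1 := conj_tr (emb A) w
    rw [block_emb] at h1
    rw [← h1]
    exact hN.conj_mem _ h _
  let U : F → Matrix.SpecialLinearGroup (Fin 2) F := fun t => ⟨!![1, t; 0, 1], by simp [Matrix.det_fin_two]⟩
  let L : F → Matrix.SpecialLinearGroup (Fin 2) F := fun t => ⟨!![1, 0; t, 1], by simp [Matrix.det_fin_two]⟩
  have hU : ∀ (t : F) (w : Fin 2 → F), (U t : Matrix (Fin 2) (Fin 2) F) *ᵥ w - w = ![t * w 1, 0] := by
    intro t w
    ext i
    fin_cases i <;> simp [U, dotProduct, Fin.sum_univ_two]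
  have hL : ∀ (t : F) (w : Fin 2 → F), (L t : Matrix (Fin 2) (Fin 2) F) *ᵥ w - w = ![0, t * w 0] := by
    intro t w
    ext i
    fin_cases i <;> simp [L, dotProduct, Fin.sum_univ_two]
  -- some vector with nonzero second coordinate
  have h1 : ∃ w : Fin 2 → F, tr w ∈ N ∧ w 1 ≠ 0 := by
    by_cases h : v 1 = 0
    · have h0 : v 0 ≠ 0 := by
        intro h0
        apply hv0
        ext i
        fin_cases i
        · exact h0
        · exact h
      have h3 := sub _ _ (act (L 1) v hMv) hMv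
      rw [hL] at h3
      exact ⟨_, h3, by simpa using h0⟩
    · exact ⟨v, hMv, h⟩
  obtain ⟨w, hw, hw1⟩ := h1
  have h2 : ∀ t : F, tr ![t, 0] ∈ N := by
    intro t
    have h3 := sub _ _ (act (U (t / w 1)) w hw) hw
    rw [hU, div_mul_cancel₀ _ hw1] at h3
    exact h3
  have h3 : ∀ t : F, tr ![0, t] ∈ N := by
    intro t
    have h3 := sub _ _ (act (L t) _ (h2 1)) (h2 1)
    rw [hL] at h3
    simpa using h3
  intro K hK
  obtain ⟨u, rfl⟩ := ker_eq_tr hK
  have : u = ![u 0, 0] + ![0, u 1] := by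
    ext i
    fin_cases i <;> simp
  rw [this, tr_add]
  exact N.mul_mem (h2 _) (h3 _)

/-- `SL₂` is transitive on nonzero vectors. -/
theorem exists_to_e1 (v : Fin 2 → F) (hv : v ≠ 0) :
    ∃ A : Matrix.SpecialLinearGroup (Fin 2) F, (A : Matrix (Fin 2) (Fin 2) F) *ᵥ v = ![1, 0] := by
  by_cases h0 : v 0 = 0
  · have h1 : v 1 ≠ 0 := by
      intro h1
      apply hv
      ext i
      fin_cases i
      · exact h0
      · exact h1
    refine ⟨⟨!![0, (v 1)⁻¹; - v 1, 0], by rw [Matrix.det_fin_two]; simp [h1]⟩, ?_⟩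
    ext i
    fin_cases i <;> simp [dotProduct, Fin.sum_univ_two, h0, h1]
  · refine ⟨⟨!![(v 0)⁻¹, 0; - v 1, v 0], by rw [Matrix.det_fin_two]; simp [h0]⟩, ?_⟩
    ext i
    fin_cases i
    · simp [dotProduct, Fin.sum_univ_two, h0]
    · simp [dotProduct, Fin.sum_univ_two]
      ring

end general

section finite
variable {F : Type*} [Field F] [Fintype F] {p : ℕ} [Fact p.Prime] [CharP F p]

theorem unip_isPGroup : IsPGroup p ↥(unip F) := by
  obtain ⟨n, hn, hc⟩ := FiniteField.card F p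
  have e : ↥(unip F) ≃ F × F × F :=
    { toFun := fun M => (ent M.1 0 1, ent M.1 0 2, ent M.1 1 2)
      invFun := fun t => ⟨mk 1 t.1 0 1 t.2.1 t.2.2 (by ring), ⟨rfl, rfl⟩⟩
      left_inv := fun M => by
        apply Subtype.ext
        apply ext_ent
        · exact M.2.2.symm
        · rfl
        · rfl
        · exact M.2.1.symm
        · exact (unip_11 M.2).symm
        · rfl
      right_inv := fun t => rfl }
  apply IsPGroup.of_card (n := n + (n + n))
  rw [Nat.card_congr e, Nat.card_prod, Nat.card_prod, Nat.card_eq_fintype_card, hc, pow_add,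
    pow_add]

/-- Every Sylow `p`-subgroup is conjugate to the unitriangular one. -/
theorem sylow_conj (S : Sylow p ↥(qdOver F)) :
    ∃ g : ↥(qdOver F), (S : Subgroup ↥(qdOver F)).map (MulAut.conj g).toMonoidHom = unip F := by
  classical
  let act : MulAction ↥(S : Subgroup ↥(qdOver F)) (Fin 2 → F) :=
    { smul := fun n v => ((block n.1 : Matrix.SpecialLinearGroup (Fin 2) F) : Matrix (Fin 2) (Fin 2) F) *ᵥ v
      one_smul := fun v => by
        show ((block (1 : ↥(qdOver F)) : Matrix.SpecialLinearGroup (Fin 2) F) : Matrix (Fin 2) (Fin 2) F) *ᵥ v = v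
        rw [map_one, Matrix.SpecialLinearGroup.coe_one, Matrix.one_mulVec]
      mul_smul := fun m n v => by
        show ((block (m.1 * n.1) : Matrix.SpecialLinearGroup (Fin 2) F) : Matrix (Fin 2) (Fin 2) F) *ᵥ v
          = _ *ᵥ (_ *ᵥ v)
        rw [Matrix.mulVec_mulVec, map_mul]
        rfl }
  have hcard : p ∣ Nat.card (Fin 2 → F) := by
    rw [Nat.card_eq_fintype_card, Fintype.card_fun, Fintype.card_fin]
    obtain ⟨n, hn, hc⟩ := FiniteField.card F p
    rw [hc, ← pow_mul]
    exact dvd_pow_self p (by positivity)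
  have h0 : (0 : Fin 2 → F) ∈ MulAction.fixedPoints ↥(S : Subgroup ↥(qdOver F)) (Fin 2 → F) := by
    intro n
    exact Matrix.mulVec_zero _
  obtain ⟨v, hv, hv0⟩ :=
    S.isPGroup'.exists_fixed_point_of_prime_dvd_card_of_fixed_point (Fin 2 → F) hcard h0
  obtain ⟨A, hA⟩ := exists_to_e1 v hv0.symm
  refine ⟨emb A, ?_⟩
  have hle : (S : Subgroup ↥(qdOver F)).map (MulAut.conj (emb A)).toMonoidHom ≤ unip F := by
    rintro _ ⟨s, hs, rfl⟩
    have h1 : (block s : Matrix (Fin 2) (Fin 2) F) *ᵥ v = v := hv ⟨s, hs⟩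
    have h2 : ((block (emb A * s * (emb A)⁻¹) : Matrix.SpecialLinearGroup (Fin 2) F) :
        Matrix (Fin 2) (Fin 2) F) *ᵥ ![1, 0] = ![1, 0] := by
      have h3 : block (emb A * s * (emb A)⁻¹) * A = A * block s := by
        rw [map_mul, map_mul, map_inv, block_emb, inv_mul_cancel_right]
      rw [← hA, Matrix.mulVec_mulVec, ← Matrix.SpecialLinearGroup.coe_mul, h3,
        Matrix.SpecialLinearGroup.coe_mul, ← Matrix.mulVec_mulVec, h1]
    have a := congrFun h2 0
    have b := congrFun h2 1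
    simp only [Matrix.mulVec, dotProduct, Fin.sum_univ_two] at a b
    refine ⟨?_, ?_⟩
    · show ent (emb A * s * (emb A)⁻¹) 1 0 = 0
      rw [← block_10]
      simpa using b
    · show ent (emb A * s * (emb A)⁻¹) 0 0 = 1
      rw [← block_00]
      simpa using a
  apply le_antisymm hle
  have h3 : IsPGroup p ↥((unip F).map (MulAut.conj (emb A)⁻¹).toMonoidHom) := unip_isPGroup.map _
  have h4 : (S : Subgroup ↥(qdOver F)) ≤ (unip F).map (MulAut.conj (emb A)⁻¹).toMonoidHom := by
    intro s hs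
    refine ⟨emb A * s * (emb A)⁻¹, hle ⟨s, hs, rfl⟩, ?_⟩
    show (emb A)⁻¹ * (emb A * s * (emb A)⁻¹) * ((emb A)⁻¹)⁻¹ = s
    group
  have h5 := S.is_maximal' h3 h4
  intro u hu
  refine ⟨(emb A)⁻¹ * u * emb A, ?_, ?_⟩
  · show (emb A)⁻¹ * u * emb A ∈ (S : Subgroup ↥(qdOver F))
    rw [← h5]
    refine ⟨u, hu, ?_⟩
    show (emb A)⁻¹ * u * ((emb A)⁻¹)⁻¹ = _
    group
  · show emb A * ((emb A)⁻¹ * u * emb A) * (emb A)⁻¹ = u
    group

theorem theta_spec (F : Type*) [Field F] :
    ∃ (θ : ↥(unip F) ≃* ↥(unip F)) (x : ↥(unip F)),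
      (x : ↥(qdOver F)) ∈ (block (F := F)).ker ∧ (θ x : ↥(qdOver F)) ∉ (block (F := F)).ker := by
  have hx : tr ![(0 : F), 1] ∈ unip F := ⟨ent_mk_10 _ _ _ _ _ _ _, ent_mk_00 _ _ _ _ _ _ _⟩
  refine ⟨theta F, ⟨tr ![0, 1], hx⟩, tr_mem_ker _, ?_⟩
  intro h
  rw [MonoidHom.mem_ker, block_eq_one_iff] at h
  have h2 : ent (theta F ⟨tr ![0, 1], hx⟩ : ↥(qdOver F)) 0 1 = 1 := by
    have h3 : ent (theta F ⟨tr ![0, 1], hx⟩ : ↥(qdOver F)) 0 1 = ent (tr ![(0 : F), 1]) 1 2 :=
      ent_mk_01 1 (ent (tr ![(0 : F), 1]) 1 2) 0 1 _ _ (by ring)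
    rw [h3]
    unfold tr
    rw [ent_mk_12]
    rfl
  rw [h.2.1] at h2
  exact zero_ne_one h2

theorem x0_spec (F : Type*) [Field F] : ∃ x ∈ unip F, x ∉ (block (F := F)).ker := by
  obtain ⟨θ, x, _, h⟩ := theta_spec F
  exact ⟨θ x, (θ x).2, h⟩

theorem unip_not_le (F : Type*) [Field F] : ¬ unip F ≤ (block (F := F)).ker := by
  obtain ⟨x, hx, hx'⟩ := x0_spec F
  exact fun h => hx' (h hx)

end finite

section abstract

open Cfsg.Agent.Lib.AmalgamCharP

variable {G : Type*} [Group G]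

theorem char_normalizer {S : Subgroup G} (T : Subgroup ↥S) (hT : T.Characteristic) :
    Subgroup.normalizer (S : Set G) ≤ Subgroup.normalizer ((T.map S.subtype : Subgroup G) : Set G) := by
  have key : ∀ n ∈ Subgroup.normalizer (S : Set G),
      (T.map S.subtype).map (MulAut.conj n).toMonoidHom ≤ T.map S.subtype := by
    intro n hn
    have hn' : ∀ s, s ∈ S ↔ n * s * n⁻¹ ∈ S := fun s => Subgroup.mem_normalizer_iff.1 hn s
    let e : ↥S ≃* ↥S :=
      { toFun := fun s => ⟨n * s.1 * n⁻¹, (hn' s.1).1 s.2⟩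
        invFun := fun s => ⟨n⁻¹ * s.1 * n, (hn' _).2 (by
          have : n * (n⁻¹ * s.1 * n) * n⁻¹ = s.1 := by group
          rw [this]; exact s.2)⟩
        left_inv := fun s => by
          apply Subtype.ext
          show n⁻¹ * (n * s.1 * n⁻¹) * n = s.1
          group
        right_inv := fun s => by
          apply Subtype.ext
          show n * (n⁻¹ * s.1 * n) * n⁻¹ = s.1
          group
        map_mul' := fun s t => by
          apply Subtype.ext
          show n * (s.1 * t.1) * n⁻¹ = (n * s.1 * n⁻¹) * (n * t.1 * n⁻¹)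
          group }
    rintro _ ⟨_, ⟨t, ht, rfl⟩, rfl⟩
    refine ⟨e t, ?_, rfl⟩
    have := Subgroup.characteristic_iff_le_comap.1 hT e ht
    exact this
  intro n hn
  apply mem_normalizer_of_map_conj_eq
  apply le_antisymm (key n hn)
  have h1 := key n⁻¹ (Subgroup.inv_mem _ hn)
  have h2 := Subgroup.map_mono (f := (MulAut.conj n).toMonoidHom) h1
  rwa [map_conj_conj_inv] at h2

theorem abstract_main {p : ℕ} [Fact p.Prime] (V U : Subgroup G) (hVn : V.Normal) (hVp : pCore p G = V)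
    (S : Sylow p G) (g : G) (hg : (S : Subgroup G).map (MulAut.conj g).toMonoidHom = U)
    (θ : U ≃* U) (x : U) (hx : (x : G) ∈ V) (hθ : (θ x : G) ∉ V) (hUV : ¬ U ≤ V)
    (hmax : ∀ K : Subgroup G, Subgroup.normalizer (U : Set G) ≤ K → K ≠ ⊤ →
      K = Subgroup.normalizer (U : Set G))
    (hirr : ∀ N : Subgroup G, N.Normal → N ≤ V → N ≠ ⊥ → N = V)
    (T : Subgroup ↥(S : Subgroup G)) (hT : T ≠ ⊥) (hTc : T.Characteristic) :
    Subgroup.normalizer ((T.map (S : Subgroup G).subtype : Subgroup G) : Set G) =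
      Subgroup.normalizer ((S : Subgroup G) : Set G) ∧
    Subgroup.normalizer ((S : Subgroup G) : Set G) ≠ ⊤ := by
  have hgu : ∀ s : G, s ∈ (S : Subgroup G) ↔ g * s * g⁻¹ ∈ U := by
    intro s
    rw [← hg]
    constructor
    · intro hs
      exact ⟨s, hs, rfl⟩
    · rintro ⟨s', hs', h⟩
      have h' : g * s' * g⁻¹ = g * s * g⁻¹ := h
      have : s' = s := by simpa using h'
      rwa [← this]
  have hVS : V ≤ (S : Subgroup G) := by
    rw [← hVp]
    exact pCore_le_sylow S
  -- V is not characteristic in S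
  have hnot : T.map (S : Subgroup G).subtype ≠ V := by
    intro hTV
    let e : ↥(S : Subgroup G) ≃* ↥U :=
      { toFun := fun s => ⟨g * s.1 * g⁻¹, (hgu s.1).1 s.2⟩
        invFun := fun u => ⟨g⁻¹ * u.1 * g, (hgu _).2 (by
          have : g * (g⁻¹ * u.1 * g) * g⁻¹ = u.1 := by group
          rw [this]; exact u.2)⟩
        left_inv := fun s => by
          apply Subtype.ext
          show g⁻¹ * (g * s.1 * g⁻¹) * g = s.1
          group
        right_inv := fun u => by
          apply Subtype.ext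
          show g * (g⁻¹ * u.1 * g) * g⁻¹ = u.1
          group
        map_mul' := fun s t => by
          apply Subtype.ext
          show g * (s.1 * t.1) * g⁻¹ = (g * s.1 * g⁻¹) * (g * t.1 * g⁻¹)
          group }
    have memT : ∀ y : ↥(S : Subgroup G), y ∈ T ↔ (y : G) ∈ V := by
      intro y
      rw [← hTV]
      constructor
      · intro h
        exact ⟨y, h, rfl⟩
      · rintro ⟨z, hz, hzy⟩
        have : z = y := Subtype.ext hzy
        rwa [← this]
    have hy : e.symm x ∈ T := by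
      rw [memT]
      show g⁻¹ * (x : G) * g ∈ V
      have := hVn.conj_mem _ hx g⁻¹
      rwa [inv_inv] at this
    have hy2 : ((e.trans θ).trans e.symm) (e.symm x) ∈ T :=
      Subgroup.characteristic_iff_le_comap.1 hTc ((e.trans θ).trans e.symm) hy
    rw [memT] at hy2
    have h3 : (((e.trans θ).trans e.symm) (e.symm x) : G) = g⁻¹ * (θ x : G) * g := by
      show g⁻¹ * ((θ (e (e.symm x)) : ↥U) : G) * g = _
      rw [e.apply_symm_apply]
    rw [h3] at hy2
    apply hθ
    have := hVn.conj_mem _ hy2 g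
    have h5 : g * (g⁻¹ * (θ x : G) * g) * g⁻¹ = (θ x : G) := by group
    rwa [h5] at this
  have hNT : Subgroup.normalizer ((T.map (S : Subgroup G).subtype : Subgroup G) : Set G) ≠ ⊤ := by
    intro htop
    have hn : (T.map (S : Subgroup G).subtype).Normal := Subgroup.normalizer_eq_top_iff.1 htop
    have hp : IsPGroup p ↥(T.map (S : Subgroup G).subtype) :=
      (S.isPGroup'.to_subgroup T).map _
    have hle : T.map (S : Subgroup G).subtype ≤ V := by
      rw [← hVp]
      exact le_pCore hn hp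
    apply hnot
    apply hirr _ hn hle
    intro hb
    apply hT
    rwa [Subgroup.map_eq_bot_iff_of_injective _ (Subgroup.subtype_injective _)] at hb
  have hNS : Subgroup.normalizer ((S : Subgroup G) : Set G) ≠ ⊤ := by
    intro htop
    have hn : (S : Subgroup G).Normal := Subgroup.normalizer_eq_top_iff.1 htop
    have hle : (S : Subgroup G) ≤ V := by
      rw [← hVp]
      exact le_pCore hn S.isPGroup'
    apply hUV
    rw [← hg]
    have := Subgroup.map_mono (f := (MulAut.conj g).toMonoidHom) hle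
    rwa [map_conj_eq_of_mem_normalizer (N := V) (by rw [Subgroup.normalizer_eq_top]; trivial)] at this
  refine ⟨?_, hNS⟩
  have hle := char_normalizer T hTc
  have h1 : Subgroup.normalizer (U : Set G) ≤
      (Subgroup.normalizer ((T.map (S : Subgroup G).subtype : Subgroup G) : Set G)).map
        (MulAut.conj g).toMonoidHom := by
    rw [← hg, normalizer_map_conj]
    exact Subgroup.map_mono hle
  have h2 := hmax _ h1 (by
    intro h
    apply hNT
    have h3 := congrArg (fun K : Subgroup G => K.map (MulAut.conj g⁻¹).toMonoidHom) h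
    beta_reduce at h3
    rw [map_conj_inv_conj] at h3
    rw [h3, eq_top_iff]
    intro y _
    exact ⟨g * y * g⁻¹, trivial, by simp [mul_assoc]⟩)
  rw [← hg, normalizer_map_conj] at h2
  have h3 := congrArg (fun K : Subgroup G => K.map (MulAut.conj g⁻¹).toMonoidHom) h2
  beta_reduce at h3
  rwa [map_conj_inv_conj, map_conj_inv_conj] at h3

end abstract

theorem main {F : Type*} [Field F] [Fintype F] {p : ℕ} [Fact p.Prime] [CharP F p]
    (S : Sylow p ↥(qdOver F)) (T : Subgroup ↥(S : Subgroup ↥(qdOver F))) (hT : T ≠ ⊥)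
    (hTc : T.Characteristic) :
    Subgroup.normalizer ((T.map (S : Subgroup ↥(qdOver F)).subtype : Subgroup ↥(qdOver F)) :
      Set ↥(qdOver F)) = Subgroup.normalizer ((S : Subgroup ↥(qdOver F)) : Set ↥(qdOver F)) ∧
    Subgroup.normalizer ((S : Subgroup ↥(qdOver F)) : Set ↥(qdOver F)) ≠ ⊤ := by
  obtain ⟨g, hg⟩ := sylow_conj S
  obtain ⟨θ, x, hx, hθ⟩ := theta_spec F
  have hN : Subgroup.normalizer (unip F : Set ↥(qdOver F)) = borel F := by
    apply le_antisymm _ borel_le_normalizer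
    intro M hM
    by_contra hM'
    have htop := borel_maximal _ borel_le_normalizer hM hM'
    have hn : (unip F).Normal := Subgroup.normalizer_eq_top_iff.1 htop
    apply unip_not_le F
    rw [← pCore_eq_ker (p := p)]
    exact le_sSup ⟨hn, unip_isPGroup⟩
  refine abstract_main _ (unip F) inferInstance pCore_eq_ker S g hg θ x hx hθ (unip_not_le F) ?_
    normal_le_ker T hT hTc
  intro K hK hK1
  rw [hN] at hK ⊢
  apply le_antisymm _ hK
  intro M hM
  by_contra hM'
  exact hK1 (borel_maximal K hK hM hM')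

/-- In the group Qd(p) (p prime; the natural semidirect product of an elementary abelian group of order p² by SL₂(p)), the normalizer of every nontrivial characteristic subgroup of a Sylow p-subgroup S equals the normalizer of S, which is a proper subgroup; in particular no such characteristic subgroup is normal. -/
theorem result {p : ℕ} [Fact p.Prime] (S : Sylow p ↥(Cfsg.qd p)) (T : Subgroup ↥(S : Subgroup ↥(Cfsg.qd p))) (hT : T ≠ ⊥) (hTc : T.Characteristic) : Subgroup.normalizer ((T.map (S : Subgroup ↥(Cfsg.qd p)).subtype : Subgroup ↥(Cfsg.qd p)) : Set ↥(Cfsg.qd p)) = Subgroup.normalizer ((S : Subgroup ↥(Cfsg.qd p)) : Set ↥(Cfsg.qd p)) ∧ Subgroup.normalizer ((S : Subgroup ↥(Cfsg.qd p)) : Set ↥(Cfsg.qd p)) ≠ ⊤ := by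
  exact main S T hT hTc

end Cfsg.Agent.S2763
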