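import Cfsg.Statements.S0157
import Cfsg.Agent.Lib.CharBasic2

set_option autoImplicit false
open Cfsg
open scoped ComplexConjugate

namespace Cfsg.Agent.S0157

open Cfsg.Agent.Lib.CharBasic

variable {G : Type*} [Group G] (X : Type*) [MulAction G X] [Finite X]

theorem sum_fixed [Fintype G] : ∑ g : G, (Nat.card (MulAction.fixedBy X g) : ℂ) =
    (Nat.card (MulAction.orbitRel.Quotient G X) : ℂ) * (Nat.card G : ℂ) := by
  classical
  have : Fintype X := Fintype.ofFinite X
  have : ∀ g : G, Fintype (MulAction.fixedBy X g) := fun g => Fintype.ofFinite _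
  have : Fintype (MulAction.orbitRel.Quotient G X) := Fintype.ofFinite _
  have h := MulAction.sum_card_fixedBy_eq_card_orbits_mul_card_group G X
  simp only [Nat.card_eq_fintype_card]
  exact_mod_cast h

theorem card_fixed_prod (g : G) : Nat.card (MulAction.fixedBy (X × X) g) =
    Nat.card (MulAction.fixedBy X g) * Nat.card (MulAction.fixedBy X g) := by
  rw [← Nat.card_prod]
  refine Nat.card_congr ⟨fun p => (⟨p.1.1, congrArg Prod.fst p.2⟩, ⟨p.1.2, congrArg Prod.snd p.2⟩),
    fun p => ⟨(p.1.1, p.2.1), Prod.ext p.1.2 p.2.2⟩, fun p => rfl, fun p => rfl⟩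

theorem card_orbits_one [MulAction.IsPretransitive G X] [Nonempty X] :
    Nat.card (MulAction.orbitRel.Quotient G X) = 1 := by
  rw [Nat.card_eq_one_iff_unique]
  obtain ⟨x⟩ := ‹Nonempty X›
  refine ⟨⟨fun a b => ?_⟩, ⟨Quotient.mk'' x⟩⟩
  induction a using Quotient.inductionOn' with | _ a =>
  induction b using Quotient.inductionOn' with | _ b =>
  apply Quotient.sound'
  rw [MulAction.orbitRel_apply]
  obtain ⟨g, hg⟩ := MulAction.exists_smul_eq G b a
  exact ⟨g, hg⟩

theorem card_orbits_two_iff [MulAction.IsPretransitive G X] (hX : 2 ≤ Nat.card X) :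
    Nat.card (MulAction.orbitRel.Quotient G (X × X)) = 2 ↔
      MulAction.IsMultiplyPretransitive G X 2 := by
  rw [MulAction.is_two_pretransitive_iff]
  have hnt : Nontrivial X := (Finite.one_lt_card_iff_nontrivial).mp hX
  obtain ⟨x, y, hxy⟩ := hnt
  have hq : ∀ p q : X × X, (Quotient.mk'' p : MulAction.orbitRel.Quotient G (X × X)) = Quotient.mk'' q ↔
      ∃ g : G, g • q.1 = p.1 ∧ g • q.2 = p.2 := by
    intro p q
    rw [Quotient.eq'', MulAction.orbitRel_apply]
    constructor
    · rintro ⟨g, hg⟩
      exact ⟨g, congrArg Prod.fst hg, congrArg Prod.snd hg⟩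
    · rintro ⟨g, h1, h2⟩
      exact ⟨g, Prod.ext h1 h2⟩
  constructor
  · intro h a b c d hab hcd
    by_contra hcon
    have h1 : (Quotient.mk'' (a, b) : MulAction.orbitRel.Quotient G (X × X)) ≠ Quotient.mk'' (c, d) := by
      intro he
      obtain ⟨g, hg1, hg2⟩ := (hq _ _).mp he.symm
      exact hcon ⟨g, hg1, hg2⟩
    have h2 : (Quotient.mk'' (x, x) : MulAction.orbitRel.Quotient G (X × X)) ≠ Quotient.mk'' (a, b) := by
      intro he
      obtain ⟨g, hg1, hg2⟩ := (hq _ _).mp he.symm
      exact hab (hg1.symm.trans hg2)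
    have h3 : (Quotient.mk'' (x, x) : MulAction.orbitRel.Quotient G (X × X)) ≠ Quotient.mk'' (c, d) := by
      intro he
      obtain ⟨g, hg1, hg2⟩ := (hq _ _).mp he.symm
      exact hcd (hg1.symm.trans hg2)
    obtain ⟨u, v, huv, huniv⟩ := Nat.card_eq_two_iff.mp h
    have hmem : ∀ z : MulAction.orbitRel.Quotient G (X × X), z = u ∨ z = v := by
      intro z
      have : z ∈ ({u, v} : Set _) := by rw [huniv]; exact Set.mem_univ z
      simpa using this
    rcases hmem (Quotient.mk'' (a, b)) with ha | ha <;>
    rcases hmem (Quotient.mk'' (c, d)) with hc | hc <;>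
    rcases hmem (Quotient.mk'' (x, x)) with hx | hx
    · exact h1 (ha.trans hc.symm)
    · exact h1 (ha.trans hc.symm)
    · exact h2 (hx.trans ha.symm)
    · exact h3 (hx.trans hc.symm)
    · exact h3 (hx.trans hc.symm)
    · exact h2 (hx.trans ha.symm)
    · exact h1 (ha.trans hc.symm)
    · exact h1 (ha.trans hc.symm)
  · intro h
    rw [Nat.card_eq_two_iff]
    refine ⟨Quotient.mk'' (x, x), Quotient.mk'' (x, y), ?_, ?_⟩
    · intro he
      obtain ⟨g, hg1, hg2⟩ := (hq _ _).mp he.symm
      exact hxy (hg1.symm.trans hg2)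
    · rw [Set.eq_univ_iff_forall]
      intro z
      induction z using Quotient.inductionOn' with | _ p =>
      obtain ⟨a, b⟩ := p
      by_cases hab : a = b
      · left
        subst hab
        rw [hq]
        obtain ⟨g, hg⟩ := MulAction.exists_smul_eq G x a
        exact ⟨g, hg, hg⟩
      · right
        show _ = _
        rw [hq]
        obtain ⟨g, hg1, hg2⟩ := h hxy hab
        exact ⟨g, hg1, hg2⟩

/-- For a transitive action of a finite group on a finite set with at least two points: the action is 2-transitive if and only if the function sending g to (number of fixed points of g) − 1 is an irreducible character. -/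
theorem result {G : Type*} [Group G] [Finite G] (X : Type*) [MulAction G X] [Finite X] [MulAction.IsPretransitive G X] (hX : 2 ≤ Nat.card X) : Cfsg.IsIrrCharacter G (fun g => (Nat.card (MulAction.fixedBy X g) : ℂ) - 1) ↔ MulAction.IsMultiplyPretransitive G X 2 := by
  classical
  have : Fintype G := Fintype.ofFinite G
  have hne : Nonempty X := (Nat.card_pos_iff.mp (by omega)).1
  have hG : (Nat.card G : ℂ) ≠ 0 := Nat.cast_ne_zero.mpr Nat.card_pos.ne'
  set π : G → ℂ := fun g => (Nat.card (MulAction.fixedBy X g) : ℂ) with hπ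
  have hchar : IsCharacter G π := isCharacter_perm
  have hone : ∑ g : G, π g = (Nat.card G : ℂ) := by
    rw [hπ, sum_fixed X, card_orbits_one X]; simp
  have hsq : ∑ g : G, π g * π g =
      (Nat.card (MulAction.orbitRel.Quotient G (X × X)) : ℂ) * (Nat.card G : ℂ) := by
    rw [← sum_fixed (X × X)]
    refine Finset.sum_congr rfl fun g _ => ?_
    rw [card_fixed_prod X g]
    push_cast
    rfl
  have hinner : classInner π 1 = 1 := by
    unfold classInner
    simp only [Pi.one_apply, map_one, mul_one]
    rw [hone, inv_mul_cancel₀ hG]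
  have hfun : (fun g => (Nat.card (MulAction.fixedBy X g) : ℂ) - 1) = π - 1 := by
    funext g; rfl
  have hchar1 : IsCharacter G (π - 1) :=
    hchar.sub_constituent isIrrCharacter_one (by rw [hinner]; exact one_ne_zero)
  have hnorm : classInner (π - 1) (π - 1) =
      (Nat.card (MulAction.orbitRel.Quotient G (X × X)) : ℂ) - 1 := by
    unfold classInner
    have h1 : ∀ g : G, (π - 1) g * conj ((π - 1) g) = π g * π g - 2 * π g + 1 := by
      intro g
      have : conj ((π - 1) g) = π g - 1 := by simp [hπ]
      rw [this, Pi.sub_apply, Pi.one_apply]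
      ring
    simp only [h1, Finset.sum_add_distrib, Finset.sum_sub_distrib, ← Finset.mul_sum]
    rw [hsq, hone]
    simp only [Finset.sum_const, Finset.card_univ, nsmul_eq_mul, mul_one]
    rw [← Nat.card_eq_fintype_card]
    field_simp
    ring
  rw [hfun, isIrrCharacter_iff_norm_one, hnorm, ← card_orbits_two_iff X hX]
  constructor
  · rintro ⟨_, h⟩
    have h2 : (Nat.card (MulAction.orbitRel.Quotient G (X × X)) : ℂ) = (2 : ℕ) := by
      push_cast
      linear_combination h
    exact_mod_cast h2
  · intro h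
    refine ⟨hchar1, ?_⟩
    rw [h]
    norm_num

end Cfsg.Agent.S0157
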