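import Cfsg.Statements.S0558
import Mathlib
import Cfsg.Agent.Lib.NilpotentHall
import Cfsg.Agent.Lib.Transfer

set_option autoImplicit false
open Cfsg

namespace Cfsg.Agent.S0558

open Subgroup Pointwise Lib.LocBase Lib.NilpotentHall

/-- A nilpotent group is generated by a Sylow subgroup and its centralizer. -/
theorem le_sup_centralizer {G : Type*} [Group G] [Finite G] {p : ℕ} [hp : Fact p.Prime]
    {H P : Subgroup G} (hH : Group.IsNilpotent H) (hP : IsSyl p P H) :
    H ≤ P ⊔ centralizer (P : Set G) := by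
  set K := P ⊔ centralizer (P : Set G) with hK
  have h1 : (K ⊓ H).relIndex H = 1 := by
    by_contra h
    obtain ⟨r, hr, hrd⟩ := Nat.exists_prime_and_dvd h
    have : Fact r.Prime := ⟨hr⟩
    obtain ⟨R, hR⟩ := exists_isSyl r H
    have hRK : R ≤ K ⊓ H := by
      refine le_inf ?_ hR.le
      by_cases hrp : r = p
      · subst hrp
        -- `R = P` as `P` is normal
        obtain ⟨h, hh, e⟩ := hR.conj hP
        rw [map_conj_eq_of_mem (le_normalizer_of_isSyl hH hP hh)] at e
        rw [← e]; exact le_sup_left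
      · exact (le_centralizer_of_nilpotent hrp hH hR.le hP.le hR.pgroup hP.pgroup).trans
          le_sup_right
    have h2 : (K ⊓ H).relIndex H ∣ R.relIndex H := by
      rw [← relIndex_mul_relIndex R (K ⊓ H) H hRK inf_le_right]
      exact dvd_mul_left _ _
    exact hR.ndvd (hrd.trans h2)
  have h2 := relIndex_eq_one.mp h1
  exact h2.trans inf_le_left

theorem main {G : Type*} [Group G] [Finite G] (H : Subgroup G)
    (hnot : ∀ p : ℕ, p.Prime → ∀ P : Sylow p G, (P : Subgroup G) ≠ H)
    (hnorm : ∀ p : ℕ, p.Prime → p ∣ Nat.card H → ∀ P : Sylow p H,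
      Subgroup.normalizer (((P : Subgroup H).map H.subtype : Subgroup G) : Set G) = H) :
    ∃ N : Subgroup G, N.Normal ∧ Subgroup.IsComplement' N H := by
  have hnorm' : ∀ p : ℕ, p.Prime → p ∣ Nat.card H → ∀ P : Subgroup G, IsSyl p P H →
      normalizer (P : Set G) = H := by
    intro p hp hpd P hP
    have : Fact p.Prime := ⟨hp⟩
    obtain ⟨P', hP'⟩ := hP.exists_sylow'
    have := hnorm p hp hpd P'
    rwa [hP'] at this
  -- `H` is nilpotent
  have hnil : Group.IsNilpotent H := by
    refine (Group.isNilpotent_of_finite_tfae (G := H)).out 0 3 |>.mpr ?_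
    intro p hp P
    by_cases hpd : p ∣ Nat.card H
    · have h1 := hnorm p hp.out hpd P
      have h2 := (normal_subgroupOf_iff_le_normalizer (H := (P : Subgroup H).map H.subtype)
        (K := H) (map_subtype_le _)).mpr h1.ge
      rwa [subgroupOf, comap_map_eq_self_of_injective H.subtype_injective] at h2
    · have : (P : Subgroup H) = ⊥ := by
        rw [← card_eq_one, P.card_eq_multiplicity, Nat.factorization_eq_zero_of_not_dvd hpd,
          pow_zero]
      rw [this]; infer_instance
  -- Sylow subgroups of `H` are Sylow in `G`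
  have htop : ∀ p : ℕ, p.Prime → p ∣ Nat.card H → ∀ P : Subgroup G, IsSyl p P H →
      IsSyl p P ⊤ := by
    intro p hp hpd P hP
    have : Fact p.Prime := ⟨hp⟩
    have hPn := hnorm' p hp hpd P hP
    refine ⟨le_top, hP.pgroup, ?_⟩
    rw [relIndex_top_right]
    intro hd
    obtain ⟨n, hn⟩ := IsPGroup.iff_card.mp hP.pgroup
    have h1 : p ^ (n + 1) ∣ Nat.card G := by
      rw [← Subgroup.card_mul_index P, hn, pow_succ]
      exact mul_dvd_mul_left _ hd
    have h2 := Sylow.prime_dvd_card_quotient_normalizer h1 hn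
    rw [← Subgroup.index_eq_card] at h2
    apply hP.ndvd
    rw [relIndex, ← hPn]
    exact h2
  -- every Sylow subgroup of `H` controls its own fusion
  have hcomp : ∀ p : ℕ, p.Prime → p ∣ Nat.card H → HasNormalPComplement p G := by
    intro p hp hpd
    have : Fact p.Prime := ⟨hp⟩
    obtain ⟨P, hP⟩ := exists_isSyl p H
    have hPtop := htop p hp hpd P hP
    obtain ⟨P', hP'⟩ := hPtop.exists_sylow_top
    -- another prime
    obtain ⟨q, hq, hqd, hqp⟩ : ∃ q : ℕ, q.Prime ∧ q ∣ Nat.card H ∧ q ≠ p := by
      by_contra hcon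
      push Not at hcon
      apply hnot p hp P'
      rw [hP']
      refine relIndex_eq_one.mp ?_ |>.antisymm' hP.le
      by_contra hne
      obtain ⟨r, hr, hrd⟩ := Nat.exists_prime_and_dvd hne
      have hrH : r ∣ Nat.card H := hrd.trans (Subgroup.relIndex_dvd_card P H)
      rw [hcon r hr hrH] at hrd
      exact hP.ndvd hrd
    have : Fact q.Prime := ⟨hq⟩
    obtain ⟨Q, hQ⟩ := exists_isSyl q H
    have hQtop := htop q hq hqd Q hQ
    have hQn := hnorm' q hq hqd Q hQ
    have hQC : Q ≤ centralizer (P : Set G) :=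
      le_centralizer_of_nilpotent hqp hnil hQ.le hP.le hQ.pgroup hP.pgroup
    apply Lib.Transfer.hasNormalPComplement_of_ownFusion P'
    intro x hx y hy hxy
    replace hx : x ∈ P := hP' ▸ hx
    replace hy : y ∈ P := hP' ▸ hy
    obtain ⟨g, hg⟩ := hxy
    have h1 : Q ≤ centralizer {y} := hQC.trans (centralizer_le (by simpa using hy))
    have h2 : Q.map (MulAut.conj g).toMonoidHom ≤ centralizer {y} := by
      rintro _ ⟨u, hu, rfl⟩
      rw [mem_centralizer_singleton_iff]
      have h3 := mem_centralizer_iff.mp (hQC hu) x hx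
      rw [← hg]
      simp only [MulEquiv.coe_toMonoidHom, MulAut.conj_apply]
      have h4 : u * x = x * u := h3.symm
      calc g * u * g⁻¹ * (g * x * g⁻¹) = g * (u * x) * g⁻¹ := by group
        _ = g * (x * u) * g⁻¹ := by rw [h4]
        _ = _ := by group
    have h3 : IsSyl q Q (centralizer {y}) := hQtop.of_le h1 le_top
    have h4 : IsSyl q (Q.map (MulAut.conj g).toMonoidHom) (centralizer {y}) := by
      have h5 := hQtop.map_conj g
      rw [map_top_of_surjective _ (MulAut.conj g).surjective] at h5
      exact h5.of_le h2 le_top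
    obtain ⟨c, hc, e⟩ := h3.conj h4
    rw [← map_conj_mul] at e
    have hcg : c * g ∈ H := by
      rw [← hQn]
      exact mem_normalizer_of_map_conj_eq e
    obtain ⟨z, hz, w, hw, e2⟩ := (Lib.SubgroupTools.mem_sup_of_le_normalizer
      (H := centralizer (P : Set G)) (N := P) (centralizer_le_normalizer _)).mp
      ((le_sup_centralizer hnil hP hcg))
    refine ⟨z, by rw [← hP'] at hz; exact hz, ?_⟩
    have hcy : y * c = c * y := (mem_centralizer_singleton_iff.mp hc).symm
    have hwx : x * w = w * x := mem_centralizer_iff.mp hw x hx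
    calc z * x * z⁻¹ = z * (x * w) * w⁻¹ * z⁻¹ := by group
      _ = (z * w) * x * (z * w)⁻¹ := by rw [hwx]; group
      _ = c * (g * x * g⁻¹) * c⁻¹ := by rw [e2]; group
      _ = y := by rw [hg, ← hcy]; group
  -- intersection of the normal complements
  have hN : ∀ p : ℕ, ∃ N : Subgroup G, N.Normal ∧ (p ∈ (Nat.card H).primeFactors →
      ¬ p ∣ Nat.card N ∧ N.index = p ^ (Nat.card H).factorization p) := by
    intro p
    by_cases hp : p ∈ (Nat.card H).primeFactors
    · have hpp := Nat.prime_of_mem_primeFactors hp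
      have hpd := Nat.dvd_of_mem_primeFactors hp
      have : Fact p.Prime := ⟨hpp⟩
      obtain ⟨P, hP⟩ := exists_isSyl p H
      have hPtop := htop p hpp hpd P hP
      obtain ⟨P1, hP1⟩ := hPtop.exists_sylow_top
      obtain ⟨P2, hP2⟩ := hP.exists_sylow'
      obtain ⟨N, hNn, hNc⟩ := (Lib.PNilp.hasNormalPComplement_iff_sylow P1).mp (hcomp p hpp hpd)
      refine ⟨N, hNn, fun _ => ⟨((Lib.PNilp.isComplement'_sylow_iff P1 N).mp hNc).1, ?_⟩⟩
      rw [hNc.symm.index_eq_card, hP1, ← hP2, ← P2.card_eq_multiplicity]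
      exact (Nat.card_congr ((P2 : Subgroup H).equivMapOfInjective _ H.subtype_injective).toEquiv).symm
    · exact ⟨⊤, inferInstance, fun h => absurd h hp⟩
  choose N hNn hNp using hN
  let I := {p // p ∈ (Nat.card H).primeFactors}
  let f : G →* (∀ p : I, G ⧸ N p) := MonoidHom.pi (fun p => QuotientGroup.mk' (N p))
  have hker : ∀ x : G, x ∈ f.ker ↔ ∀ p : I, x ∈ N p := by
    intro x
    rw [MonoidHom.mem_ker]
    constructor
    · intro h p
      have := congrFun h p
      exact (QuotientGroup.eq_one_iff x).mp this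
    · intro h
      funext p
      exact (QuotientGroup.eq_one_iff x).mpr (h p)
  have hidx : f.ker.index ∣ Nat.card H := by
    rw [Subgroup.index_ker]
    refine (Subgroup.card_subgroup_dvd_card f.range).trans ?_
    rw [Nat.card_pi]
    have h1 : ∀ p : I, Nat.card (G ⧸ N p) = (p : ℕ) ^ (Nat.card H).factorization p := by
      intro p
      rw [← Subgroup.index_eq_card]
      exact (hNp p p.2).2
    simp_rw [h1]
    rw [Finset.prod_coe_sort (Nat.card H).primeFactors
      (fun p => p ^ (Nat.card H).factorization p)]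
    exact (Nat.prod_factorization_pow_eq_self (n := Nat.card H) Nat.card_pos.ne').dvd
  have hdisj : f.ker ⊓ H = ⊥ := by
    rw [eq_bot_iff]
    intro x hx
    obtain ⟨hx1, hx2⟩ := mem_inf.mp hx
    rw [mem_bot, ← orderOf_eq_one_iff]
    by_contra hne
    obtain ⟨r, hr, hrd⟩ := Nat.exists_prime_and_dvd hne
    have h1 : r ∣ Nat.card H := by
      have := orderOf_dvd_natCard (⟨x, hx2⟩ : H)
      exact hrd.trans (by simpa using this)
    have h2 : r ∈ (Nat.card H).primeFactors := Nat.mem_primeFactors.mpr ⟨hr, h1, Nat.card_pos.ne'⟩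
    have h3 := (hker x).mp hx1 ⟨r, h2⟩
    apply (hNp r h2).1
    have h4 : orderOf x ∣ Nat.card (N r) := by
      have := orderOf_dvd_natCard (⟨x, h3⟩ : N r)
      simpa using this
    exact hrd.trans h4
  refine ⟨f.ker, inferInstance, ?_⟩
  apply isComplement'_of_card_mul_and_disjoint _ (disjoint_iff.mpr hdisj)
  have h1 := Lib.SubgroupTools.card_sup_of_disjoint (N := f.ker) (H := H)
    le_normalizer_of_normal (disjoint_iff.mpr hdisj)
  have h2 := Subgroup.card_mul_index f.ker
  have h3 : Nat.card (f.ker ⊔ H : Subgroup G) ≤ Nat.card G := Subgroup.card_le_card_group _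
  have h4 : f.ker.index ≤ Nat.card H := Nat.le_of_dvd Nat.card_pos hidx
  apply le_antisymm
  · rw [← h1]; exact h3
  · rw [← h2]; exact Nat.mul_le_mul_left _ h4

/-- Let H be a subgroup of a finite group G that is not a Sylow subgroup of G for any prime, and suppose that for every prime p dividing the order of H and every Sylow p-subgroup P of H the normalizer of P in G is exactly H. Then some normal subgroup of G is a complement to H. -/
theorem result {G : Type*} [Group G] [Finite G] (H : Subgroup G) (hnot : ∀ p : ℕ, p.Prime → ∀ P : Sylow p G, (P : Subgroup G) ≠ H) (hnorm : ∀ p : ℕ, p.Prime → p ∣ Nat.card H → ∀ P : Sylow p H, Subgroup.normalizer (((P : Subgroup H).map H.subtype : Subgroup G) : Set G) = H) : ∃ N : Subgroup G, N.Normal ∧ Subgroup.IsComplement' N H := by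
  exact main H hnot hnorm

end Cfsg.Agent.S0558
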