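import Cfsg.Statements.S0183
import Cfsg.Agent.Lib.CN12
import Cfsg.Agent.Lib.CN11

set_option autoImplicit false
open Cfsg

namespace Cfsg.Agent.S0183

open Cfsg.Agent.Lib Cfsg.Agent.Lib.CN

theorem mns_false {G : Type*} [Group G] [Finite G] (hG : Cfsg.IsMinSimpleOddOrder G)
    (hCN : Cfsg.IsCNGroup G) : False := by
  classical
  have hnt := (MinSimpleOdd.isSimple hG).toNontrivial
  let S : Setoid {H : Subgroup G // IsMaxNilp H} :=
    { r := fun H K => ∃ g : G, K.1 = H.1.map (MulAut.conj g).toMonoidHom
      iseqv := by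
        constructor
        · intro H
          refine ⟨1, ?_⟩
          ext x
          rw [RelSylow.mem_conj_iff]
          simp
        · rintro H K ⟨g, hg⟩
          refine ⟨g⁻¹, ?_⟩
          rw [hg]
          ext x
          rw [RelSylow.mem_conj_iff, RelSylow.mem_conj_iff]
          simp [mul_assoc]
        · rintro H K L ⟨g, hg⟩ ⟨g', hg'⟩
          refine ⟨g' * g, ?_⟩
          rw [hg', hg]
          ext x
          rw [RelSylow.mem_conj_iff, RelSylow.mem_conj_iff, RelSylow.mem_conj_iff]
          simp [mul_assoc] }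
  let ι := Quotient S
  have : Finite {H : Subgroup G // IsMaxNilp H} := inferInstance
  have : Finite ι := inferInstance
  let _ : Fintype ι := Fintype.ofFinite ι
  let H : ι → Subgroup G := fun i => (Quotient.out i).1
  have hH : ∀ i, IsMaxNilp (H i) := fun i => (Quotient.out i).2
  let L : ι → Subgroup G := fun i => Subgroup.normalizer (H i : Set G)
  have hall : ∀ K : Subgroup G, IsMaxNilp K → ∃ i, ∃ g : G, K = (H i).map (MulAut.conj g).toMonoidHom := by
    intro K hK
    refine ⟨Quotient.mk S ⟨K, hK⟩, ?_⟩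
    exact Quotient.mk_out (s := S) ⟨K, hK⟩
  have hneq : ∀ i j, i ≠ j → ¬ ∃ g : G, H j = (H i).map (MulAut.conj g).toMonoidHom := by
    intro i j hij h
    apply hij
    have := Quotient.sound (s := S) (a := Quotient.out i) (b := Quotient.out j) h
    rwa [Quotient.out_eq, Quotient.out_eq] at this
  have hcov : ∀ g : G, ∃ i, ∃ x : G, x * g * x⁻¹ ∈ H i := by
    intro x
    obtain ⟨K, hK, hxK, -⟩ := exists_isMaxNilp_of_comm (x := x) (y := x) rfl
    obtain ⟨i, g, hg⟩ := hall K hK
    refine ⟨i, g⁻¹, ?_⟩
    rw [hg, RelSylow.mem_conj_iff] at hxK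
    rwa [inv_inv]
  refine Lib.CN12.no_partition (MinSimpleOdd.odd_card hG) (ι := ι) ?_ L H ?_ ?_ (fun i => (hH i).1) ?_ ?_ ?_ ?_ ?_
  · by_contra hlt
    have hle : Fintype.card ι ≤ 1 := by omega
    have hsub : ∀ i j : ι, i = j := fun i j => Fintype.card_le_one_iff.mp hle i j
    obtain ⟨i, -⟩ := hcov 1
    apply mns_ne_top hG (hH i)
    apply Subgroup.index_eq_one.mp
    by_contra h1
    obtain ⟨p, hp, hpd⟩ := Nat.exists_prime_and_dvd h1
    have := Fact.mk hp
    have hpG : p ∣ Nat.card G := hpd.trans (Subgroup.index_dvd_card _)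
    obtain ⟨x, hx⟩ := exists_prime_orderOf_dvd_card' p hpG
    obtain ⟨j, g, hg⟩ := hcov x
    have hji : j = i := hsub _ _
    subst hji
    have h2 : orderOf (g * x * g⁻¹) = p := by
      have : g * x * g⁻¹ = MulAut.conj g x := rfl
      rw [this, MulEquiv.orderOf_eq, hx]
    have h3 : p ∣ Nat.card (H j) := by
      rw [← h2, ← Subgroup.orderOf_mk _ hg]
      exact orderOf_dvd_natCard _
    have h4 := (hH j).coprime_index hCN
    exact Nat.Prime.not_coprime_iff_dvd.mpr ⟨p, hp, h3, hpd⟩ h4
  · intro i; exact mns_lt_normalizer hG hCN (hH i)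
  · intro i; exact mns_ne_bot hG (hH i)
  · intro i x hx h hh
    exact (Subgroup.mem_normalizer_iff.mp hx h).mp hh
  · intro i h hh hh1
    exact inf_le_right.trans (mns_centralizer_le hG hCN (hH i) hh hh1)
  · intro i j hij
    rcases (hH i).conj_or_coprime hCN (hH j) with h | h
    · exact absurd h (hneq i j hij)
    · exact h
  · intro i
    refine ⟨?_, rfl⟩
    intro g hg x hx hgx
    by_contra hx1
    have h1 : (H i).map (MulAut.conj g⁻¹).toMonoidHom ≠ H i := by
      intro h
      apply hg
      have h2 : ∀ y, g * y * g⁻¹ ∈ H i ↔ y ∈ H i := by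
        intro y
        conv_rhs => rw [← h]
        rw [RelSylow.mem_conj_iff, inv_inv]
      exact Subgroup.mem_normalizer_iff.mpr fun y => (h2 y).symm
    have h2 := mns_ti hG hCN (hH i) g⁻¹ h1
    have h5 : x ∈ (H i).map (MulAut.conj g⁻¹).toMonoidHom := by
      rw [RelSylow.mem_conj_iff, inv_inv]
      exact hgx
    have h3 : x ∈ H i ⊓ (H i).map (MulAut.conj g⁻¹).toMonoidHom := ⟨hx, h5⟩
    rw [h2, Subgroup.mem_bot] at h3
    exact hx1 h3
  · intro g _
    exact hcov g

theorem aux (n : ℕ) : ∀ (G : Type _) [Group G] [Finite G], Nat.card G = n → Odd (Nat.card G) →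
    IsCNGroup G → Group.IsSolvable G := by
  induction n using Nat.strong_induction_on with
  | _ n ih =>
    intro G _ _ hn hodd hCN
    by_contra hns
    have hsub : ∀ H : Subgroup G, H ≠ ⊤ → Group.IsSolvable H := by
      intro H hH
      have hlt : Nat.card H < Nat.card G := by
        apply lt_of_le_of_ne (Nat.card_le_card_of_injective _ H.subtype_injective)
        intro h
        exact hH (Subgroup.eq_top_of_card_eq H h)
      exact ih _ (by rw [← hn]; exact hlt) H rfl
        (hodd.of_dvd_nat (Subgroup.card_subgroup_dvd_card H)) (CN.subgroup hCN H)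
    have hnt : Nontrivial G := by
      by_contra h
      rw [not_nontrivial_iff_subsingleton] at h
      exact hns inferInstance
    have hsimple : IsSimpleGroup G := by
      refine ⟨?_⟩
      intro N hN
      by_contra hN2
      push Not at hN2
      obtain ⟨hN1, hN2⟩ := hN2
      have hNs := hsub N hN2
      have hQ : IsCNGroup (G ⧸ N) := CN.quotient hCN N hNs
      have hcard : Nat.card (G ⧸ N) < Nat.card G := by
        rw [Subgroup.card_eq_card_quotient_mul_card_subgroup N]
        have h1 : 1 < Nat.card N := by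
          rw [Subgroup.one_lt_card_iff_ne_bot]; exact hN1
        have h2 : 0 < Nat.card (G ⧸ N) := Nat.card_pos
        nlinarith
      have hQs : Group.IsSolvable (G ⧸ N) := ih _ (by rw [← hn]; exact hcard) (G ⧸ N) rfl
        (hodd.of_dvd_nat (Subgroup.card_quotient_dvd_card N)) hQ
      exact hns (Group.isSolvable_of_ker_le_range N.subtype (QuotientGroup.mk' N) (by simp))
    refine mns_false (G := G) ⟨hodd, hsimple, ?_, hsub⟩ hCN
    intro hcomm
    exact hns (Group.isSolvable_of_comm fun a b => hcomm.is_comm.comm a b)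

theorem result {G : Type*} [Group G] [Finite G] (hodd : Odd (Nat.card G)) (hCN : Cfsg.IsCNGroup G) : Group.IsSolvable G := 
  aux _ G rfl hodd hCN

end Cfsg.Agent.S0183
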