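import Cfsg.Statements.S0204
import Cfsg.Agent.S0205
import Cfsg.Agent.Lib.NoKlein

set_option autoImplicit false
open Cfsg

namespace Cfsg.Agent.S0204

/-- A non-cyclic finite simple group contains a subgroup which is a Klein four-group; this combines the Odd Order Theorem, Burnside's transfer argument for cyclic Sylow 2-subgroups and the Brauer–Suzuki Theorem. -/
theorem result {G : Type*} [Group G] [Finite G] [IsSimpleGroup G] (hG : ¬ IsCyclic G) : ∃ E : Subgroup G, IsKleinFour E := by
  by_contra hcon
  push Not at hcon
  apply hG
  have hcomm : ∀ a b : G, a * b = b * a := by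
    by_cases hodd : Odd (Nat.card G)
    · have := Cfsg.Agent.S0205.result hodd
      exact IsSimpleGroup.comm_iff_isSolvable.2 this
    · rw [Nat.not_odd_iff_even] at hodd
      exact Lib.NoKlein.comm_of_no_klein hcon hodd
  let _ : CommGroup G := { (inferInstance : Group G) with mul_comm := hcomm }
  exact inferInstance

end Cfsg.Agent.S0204
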