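import Cfsg.Statements.S0349
import Cfsg.Agent.Lib.NBN5
import Cfsg.Agent.Lib.NBN14
import Cfsg.Agent.Lib.SUZcor
import Cfsg.Agent.S0215

set_option autoImplicit false
open Cfsg

namespace Cfsg.Agent.S0349

/-- Let a finite simple group have a (B,N)-pair of rank one which is strongly split (`B = U (B ⊓ N)` with `U` nilpotent,
normal in `B` and meeting `N` trivially), with `[G : B]` and `|B ⊓ N|` odd. Then the group is isomorphic to `PSL₂(F)` with
`|F|` a power of `2`, or is simple of Suzuki order, or is isomorphic to `PSU₃` realised over a field with `q²` elements,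
`q = 2^n`, `n ≥ 2`. -/
theorem result {G : Type*} [Group G] [Finite G] [IsSimpleGroup G]
    (P : Cfsg.BNPair G) (hrank : P.rank = 1) (U : Subgroup G) (hUB : U ≤ P.B)
    (hUn : (U.subgroupOf P.B).Normal) (hUnil : Group.IsNilpotent U) (hsplit : U ⊔ (P.B ⊓ P.N) = P.B)
    (hdisj : U ⊓ P.N = ⊥) (hind : Odd P.B.index) (hH : Odd (Nat.card ↥(P.B ⊓ P.N))) :
    (∃ (F : Type) (_ : Field F) (_ : Fintype F), (∃ n : ℕ, Fintype.card F = 2 ^ n) ∧ Nonempty (G ≃* Matrix.ProjectiveSpecialLinearGroup (Fin 2) F)) ∨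
      Cfsg.IsSuzuki G ∨
      (∃ (F : Type) (_ : Field F) (_ : Fintype F) (n : ℕ), 2 ≤ n ∧ Fintype.card F = (2 ^ n) ^ 2 ∧
        Nonempty (G ≃* Cfsg.PSU 3 F (2 ^ n))) := by
  obtain ⟨hf, ⟨a, t, Q, hS⟩, h2⟩ := Cfsg.Agent.Lib.NBN14.bn Cfsg.Agent.Lib.NBN5.base P hrank hUB
    (fun b hb x hx => Subgroup.mem_subgroupOf.1
      (hUn.conj_mem ⟨x, hUB hx⟩ (Subgroup.mem_subgroupOf.2 hx) ⟨b, hb⟩))
    hUnil hsplit hind hH (fun Q u h1 h2 h3 => Cfsg.Agent.S0215.result Q u h1 h2 h3)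
  haveI := hf
  have heven : Even (Nat.card G) := by
    obtain ⟨x, y, hx1, -, -, hxx, -⟩ := h2
    have h3 : orderOf x = 2 := orderOf_eq_prime (by rw [pow_two]; exact hxx) hx1
    rw [even_iff_two_dvd, ← h3]
    exact orderOf_dvd_natCard x
  rcases Cfsg.Agent.Lib.SUZcor.concl'_of_concl heven (Cfsg.Agent.Lib.SUSFinal.main hS h2) with
    ⟨F, i1, i2, ⟨n, -, hn⟩, h⟩ | h | h
  · exact Or.inl ⟨F, i1, i2, ⟨n, hn⟩, h⟩
  · exact Or.inr (Or.inl h)
  · exact Or.inr (Or.inr h)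

end Cfsg.Agent.S0349
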