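import Cfsg.Statements.S0623
import Cfsg.Agent.Lib.PStab
import Cfsg.Agent.Lib.StableClosure

set_option autoImplicit false
open Cfsg

namespace Cfsg.Agent.S0623

open Subgroup Cfsg.Agent.Lib.ThompsonJ Cfsg.Agent.Lib.RelSylow Cfsg.Agent.Lib.PStab
  Cfsg.Agent.Lib.StableClosure

universe u

/-- the commutator `[W, x, x]`. -/
abbrev quad {G : Type*} [Group G] (W : Subgroup G) (x : G) : Subgroup G :=
  ⁅⁅W, zpowers x⁆, zpowers x⁆

theorem map_quad {G K : Type*} [Group G] [Group K] (f : G →* K) (W : Subgroup G) (x : G) :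
    (quad W x).map f = quad (W.map f) (f x) := by
  unfold quad
  rw [map_commutator, map_commutator, MonoidHom.map_zpowers]

theorem quad_conj {G : Type*} [Group G] (W : Subgroup G) [W.Normal] (x g : G)
    (h : quad W x = ⊥) : quad W (g * x * g⁻¹) = ⊥ := by
  have h1 := map_quad (MulAut.conj g).toMonoidHom W x
  rw [h, Subgroup.map_bot, conj_eq_of_mem_normalizer (by rw [Subgroup.normalizer_eq_top]; exact mem_top g)] at h1
  exact h1.symm

/-- No element of a finite p-group acts quadratically and nontrivially on the stable normal closure W(S). -/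
theorem result {S : Type*} [Group S] [Finite S] {p : ℕ} [Fact p.Prime] (hS : IsPGroup p S) (x : S) (hq : ⁅⁅Cfsg.stableNormalClosure p S, Subgroup.zpowers x⁆, Subgroup.zpowers x⁆ = ⊥) : ⁅Cfsg.stableNormalClosure p S, Subgroup.zpowers x⁆ = ⊥ := by
  set W := Cfsg.stableNormalClosure p S with hW
  have hWn : W.Normal := snc_normal
  set Q : Set S := {x : S | quad W x = ⊥} with hQ
  have hT : W ≤ W ⊓ centralizer Q := by
    conv_lhs => rw [hW]
    apply sInf_le
    refine ⟨le_inf omega_center_le ((omegaOne_le _).trans (center_le_centralizer _)), ?_⟩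
    intro H _ τ hτ
    have hfin : Finite H := hτ.2.1
    have hW'n : (W.map τ).Normal := snc_map_normal hτ
    have hW'oct : W.map τ ≤ (Cfsg.omegaCenterThompson p S).map τ := map_mono snc_le_oct
    have hstab : Cfsg.IsPStableOn p (W.map τ) := hτ.2.2.2.2.2 (W.map τ) hW'oct
    rw [isPStableOn_iff] at hstab
    obtain ⟨P, hP⟩ := hτ.2.2.1
    have hPs : IsSyl p (P : Subgroup H) ⊤ := isSyl_top_iff P
    refine ⟨?_⟩
    rintro _ ⟨t, ⟨htW, htQ⟩, rfl⟩ h
    obtain ⟨c, hc, l, hl, rfl⟩ := Dcore_frattini (p := p) (centralizer ((W.map τ : Subgroup H) : Set H)) hPs h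
    obtain ⟨w, hw, hwl⟩ : l * τ t * l⁻¹ ∈ W.map τ := hW'n.conj_mem _ ⟨t, htW, rfl⟩ l
    have h1 : c * l * τ t * (c * l)⁻¹ = τ w := by
      have h2 := mem_centralizer_iff.1 hc (τ w) ⟨w, hw, rfl⟩
      have h3 : c * l * τ t * (c * l)⁻¹ = c * (l * τ t * l⁻¹) * c⁻¹ := by group
      rw [h3, ← hwl, ← h2]; group
    rw [h1]
    refine ⟨w, ⟨hw, ?_⟩, rfl⟩
    show w ∈ centralizer Q
    rw [mem_centralizer_iff]
    intro y hy
    -- τ y ∈ D ⊓ P
    have hyD : τ y ∈ (P : Subgroup H) ⊓ Dcore p (centralizer ((W.map τ : Subgroup H) : Set H)) := by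
      refine ⟨?_, hstab (τ y) ?_⟩
      · rw [hP]; exact ⟨y, rfl⟩
      · have := map_quad τ W y
        rw [hy, Subgroup.map_bot] at this
        exact this.symm
    have hyl : l⁻¹ * τ y * l ∈ (P : Subgroup H) ⊓ Dcore p (centralizer ((W.map τ : Subgroup H) : Set H)) := by
      have := (mem_normalizer_iff.1 (inv_mem hl) (τ y)).1 hyD
      simpa using this
    obtain ⟨z, hz⟩ : l⁻¹ * τ y * l ∈ τ.range := by rw [← hP]; exact hyl.1
    have hzQ : z ∈ Q := by
      have h4 : quad (W.map τ) (τ z) = ⊥ := by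
        rw [hz]
        have h5 : quad (W.map τ) (τ y) = ⊥ := by
          have := map_quad τ W y
          rw [hy, Subgroup.map_bot] at this
          exact this.symm
        have h6 := quad_conj (W.map τ) (τ y) l⁻¹ h5
        simpa using h6
      rw [← map_quad, Subgroup.map_eq_bot_iff_of_injective _ hτ.1] at h4
      exact h4
    have h7 := mem_centralizer_iff.1 htQ z hzQ
    apply hτ.1
    rw [map_mul, map_mul, hwl]
    have h8 : τ y = l * τ z * l⁻¹ := by rw [hz]; group
    have h9 : τ z * τ t = τ t * τ z := by rw [← map_mul, ← map_mul, h7]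
    rw [h8]
    calc l * τ z * l⁻¹ * (l * τ t * l⁻¹) = l * (τ z * τ t) * l⁻¹ := by group
      _ = l * (τ t * τ z) * l⁻¹ := by rw [h9]
      _ = _ := by group
  rw [commutator_eq_bot_iff_le_centralizer, le_centralizer_iff, zpowers_le]
  rw [mem_centralizer_iff]
  intro w hw
  exact (mem_centralizer_iff.1 (hT hw).2 x hq).symm

end Cfsg.Agent.S0623
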