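import Cfsg.Statements.S0647

set_option autoImplicit false
open Cfsg

namespace Cfsg.Agent.S0647

/-- For a nonempty family of maximal abelian subgroups of a finite group, the intersection of the family is the centre of the subgroup it generates, which is also the full centralizer of that subgroup. -/
theorem result {S : Type*} [Group S] [Finite S] (𝒜 : Set (Subgroup S)) (hne : 𝒜.Nonempty) (hab : ∀ A ∈ 𝒜, IsMulCommutative A) (hmax : ∀ A ∈ 𝒜, ∀ B : Subgroup S, IsMulCommutative B → A ≤ B → B = A) : sInf 𝒜 = sSup 𝒜 ⊓ Subgroup.centralizer ((sSup 𝒜 : Subgroup S) : Set S) ∧ sInf 𝒜 = Subgroup.centralizer ((sSup 𝒜 : Subgroup S) : Set S) := by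
  have key : ∀ A ∈ 𝒜, Subgroup.centralizer (A : Set S) ≤ A := by
    intro A hA x hx
    have hcomm : IsMulCommutative (A ⊔ Subgroup.zpowers x : Subgroup S) := by
      rw [← Subgroup.le_centralizer_iff_isMulCommutative]
      have hAA : A ≤ Subgroup.centralizer (A : Set S) := by
        rw [Subgroup.le_centralizer_iff_isMulCommutative]; exact hab A hA
      have hxA : Subgroup.zpowers x ≤ Subgroup.centralizer (A : Set S) := by
        rwa [Subgroup.zpowers_le]
      have hxx : Subgroup.zpowers x ≤ Subgroup.centralizer (Subgroup.zpowers x : Set S) := by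
        rw [Subgroup.le_centralizer_iff_isMulCommutative]; infer_instance
      refine sup_le ?_ ?_
      · rw [Subgroup.le_centralizer_iff]
        refine sup_le hAA hxA
      · rw [Subgroup.le_centralizer_iff]
        refine sup_le ?_ hxx
        rw [Subgroup.le_centralizer_iff]; exact hxA
    have := hmax A hA _ hcomm le_sup_left
    have hx' : x ∈ A ⊔ Subgroup.zpowers x := Subgroup.mem_sup_right (Subgroup.mem_zpowers x)
    rwa [this] at hx'
  have h2 : sInf 𝒜 = Subgroup.centralizer ((sSup 𝒜 : Subgroup S) : Set S) := by
    apply le_antisymm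
    · rw [Subgroup.le_centralizer_iff]
      apply sSup_le
      intro A hA
      rw [Subgroup.le_centralizer_iff]
      refine (sInf_le hA).trans ?_
      rw [Subgroup.le_centralizer_iff_isMulCommutative]; exact hab A hA
    · apply le_sInf
      intro A hA
      refine le_trans ?_ (key A hA)
      exact Subgroup.centralizer_le (le_sSup hA)
  refine ⟨?_, h2⟩
  rw [← h2, eq_comm, inf_eq_right]
  obtain ⟨A, hA⟩ := hne
  exact (sInf_le hA).trans (le_sSup hA)

end Cfsg.Agent.S0647
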