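import Cfsg.Statements.S0649

set_option autoImplicit false
open Cfsg

namespace Cfsg.Agent.S0649

open Subgroup

/-- In the Glauberman replacement situation, if B does not normalize A then some element of B normalizes N_S(A) without normalizing A. -/
theorem result {S : Type*} [Group S] [Finite S] {p : ℕ} [Fact p.Prime] (hS : IsPGroup p S) (B : Subgroup S) [B.Normal] (hB2 : p = 2 → IsMulCommutative B) (A : Subgroup S) (hA : IsMulCommutative A) (hBA : ⁅B, B⁆ ≤ A) (hnot : ¬ B ≤ Subgroup.normalizer (A : Set S)) : ∃ b ∈ B, b ∈ Subgroup.normalizer ((Subgroup.normalizer (A : Set S)) : Set S) ∧ b ∉ Subgroup.normalizer (A : Set S) := by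
  set N := normalizer (A : Set S) with hN
  set M := B ⊔ N with hM
  have hNM : N < M := lt_of_le_of_ne le_sup_right (fun h => hnot (by rw [h]; exact le_sup_left))
  -- work in the group M
  have hMn : Group.IsNilpotent M := (hS.to_subgroup M).isNilpotent
  have hcond : NormalizerCondition M := Group.normalizerCondition_of_isNilpotent
  have hlt : N.subgroupOf M < ⊤ := by
    rw [lt_top_iff_ne_top, Ne, subgroupOf_eq_top]
    exact hNM.not_ge
  obtain ⟨g, hg, hgN⟩ := SetLike.exists_of_lt (hcond _ hlt)
  -- g : M normalizes N.subgroupOf M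
  have hgn : (g : S) ∈ normalizer (N : Set S) := by
    rw [mem_normalizer_iff]
    intro x
    rw [mem_normalizer_iff] at hg
    constructor
    · intro hx
      exact (hg ⟨x, hNM.le hx⟩).1 hx
    · intro hx
      have hxM : x ∈ M := by
        have h1 := M.mul_mem (M.mul_mem (M.inv_mem g.2) (hNM.le hx)) g.2
        simpa [mul_assoc] using h1
      exact (hg ⟨x, hxM⟩).2 hx
  have hgM : (g : S) ∈ B ⊔ N := g.2
  rw [← SetLike.mem_coe, Subgroup.normal_mul] at hgM
  obtain ⟨b, hb, n, hn, hbn⟩ := hgM
  have hbn' : b = g * n⁻¹ := by rw [← hbn]; group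
  refine ⟨b, hb, ?_, ?_⟩
  · rw [hbn']
    exact mul_mem hgn (inv_mem (le_normalizer hn))
  · intro hbN
    apply hgN
    rw [mem_subgroupOf, ← hbn]
    exact N.mul_mem hbN hn

end Cfsg.Agent.S0649
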