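import Cfsg.Statements.S0655
import Cfsg.Agent.Lib.ThompsonJ

set_option autoImplicit false
open Cfsg

namespace Cfsg.Agent.S0655

open Cfsg.Agent.Lib.ThompsonJ

/-- In a p-group the intersection of all elementary abelian subgroups of largest order is the subgroup generated by the elements of order dividing p in the centre (equivalently the centralizer) of the elementary-version Thompson subgroup. -/
theorem result {S : Type*} [Group S] [Finite S] {p : ℕ} [Fact p.Prime] (hS : IsPGroup p S) : sInf (Cfsg.maxElementaryAbelianSubgroups p S) = Cfsg.omegaCenterThompson p S ∧ Cfsg.omegaCenterThompson p S = Cfsg.omegaOne p (Subgroup.centralizer (Cfsg.thompsonSubgroup p S : Set S)) := by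
  have h1 : sInf (Cfsg.maxElementaryAbelianSubgroups p S) ≤ Cfsg.omegaCenterThompson p S := by
    intro x hx
    rw [Subgroup.mem_sInf] at hx
    obtain ⟨A, hA⟩ : (Cfsg.maxElementaryAbelianSubgroups p S).Nonempty := by
      rw [maxElementaryAbelian_eq]; exact maxElem_nonempty p ⊤
    have hxA := hx A hA
    refine mem_omegaOne ⟨?_, ?_⟩ (hA.1.2 x hxA)
    · exact (le_sSup hA : A ≤ Cfsg.thompsonSubgroup p S) hxA
    · have : Cfsg.thompsonSubgroup p S ≤ Subgroup.centralizer (Subgroup.zpowers x : Set S) := by
        apply sSup_le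
        intro B hB
        rw [Subgroup.le_centralizer_iff, Subgroup.zpowers_le]
        exact (elemAb_iff.1 hB.1).1 (hx B hB)
      rw [Subgroup.le_centralizer_iff, Subgroup.zpowers_le] at this
      exact this
  have h2 : Cfsg.omegaCenterThompson p S ≤ Cfsg.omegaOne p (Subgroup.centralizer (Cfsg.thompsonSubgroup p S : Set S)) :=
    omegaOne_mono inf_le_right
  have h3 : Cfsg.omegaOne p (Subgroup.centralizer (Cfsg.thompsonSubgroup p S : Set S)) ≤ sInf (Cfsg.maxElementaryAbelianSubgroups p S) := by
    unfold Cfsg.omegaOne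
    rw [Subgroup.closure_le]
    rintro x ⟨hxc, hxp⟩
    rw [SetLike.mem_coe, Subgroup.mem_sInf]
    intro A hA
    have hA' := hA
    rw [maxElementaryAbelian_eq] at hA'
    refine mem_of_centralizes_elem hA' (Subgroup.mem_top x) hxp ?_
    exact Subgroup.centralizer_le (le_sSup hA : A ≤ Cfsg.thompsonSubgroup p S) hxc
  exact ⟨le_antisymm h1 (h2.trans h3), le_antisymm h2 (h3.trans h1)⟩

end Cfsg.Agent.S0655
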