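import Cfsg.Statements.S0692
import Cfsg.Agent.Lib.RegMat

set_option autoImplicit false
open Cfsg

namespace Cfsg.Agent.S0692


open Cfsg.Agent.Lib.RegMat

def T : List (ℕ × ℕ × ℕ × ℕ) :=
  [(1, 0, 0, 1), (0, 10, 1, 0), (2, 4, 1, 8), (10, 0, 0, 10), (4, 9, 8, 10), (10, 3, 2, 4),
   (8, 7, 10, 2), (0, 1, 10, 0), (9, 7, 10, 3), (3, 1, 4, 9), (7, 3, 2, 1), (6, 0, 4, 2),
   (1, 9, 8, 7), (7, 2, 3, 1), (1, 8, 9, 7), (3, 4, 1, 9), (0, 5, 2, 7), (9, 10, 7, 3),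
   (7, 9, 6, 0), (6, 8, 5, 5), (1, 2, 10, 10), (8, 10, 7, 2), (4, 8, 9, 10), (5, 0, 7, 9),
   (10, 2, 3, 4), (9, 4, 0, 5), (8, 5, 5, 6), (2, 10, 10, 1), (5, 7, 0, 9), (6, 6, 6, 8),
   (1, 1, 1, 2), (9, 0, 4, 5), (0, 6, 9, 4), (2, 1, 4, 8), (4, 2, 5, 0), (5, 3, 6, 6),
   (10, 9, 1, 1), (7, 6, 9, 0), (6, 5, 8, 5), (1, 10, 2, 10), (0, 2, 5, 7), (10, 6, 5, 2),
   (3, 0, 10, 4), (6, 10, 9, 6), (2, 7, 0, 6), (3, 6, 6, 5), (9, 1, 1, 10), (6, 4, 0, 2),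
   (5, 5, 5, 3), (10, 10, 10, 9), (2, 0, 7, 6), (6, 1, 2, 6), (0, 8, 4, 1), (10, 5, 6, 2),
   (6, 9, 10, 6), (1, 7, 3, 0), (2, 5, 6, 10), (4, 0, 1, 3), (4, 5, 2, 0), (5, 6, 3, 6),
   (10, 1, 9, 1), (0, 9, 6, 4), (1, 5, 6, 9), (8, 0, 1, 7), (5, 1, 2, 5), (9, 5, 6, 1),
   (7, 10, 0, 8), (5, 9, 10, 5), (0, 7, 3, 10), (8, 9, 9, 2), (3, 3, 3, 7), (10, 8, 4, 0),
   (5, 10, 9, 5), (0, 3, 7, 10), (1, 6, 5, 9), (5, 2, 1, 5), (10, 4, 8, 0), (9, 6, 5, 1),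
   (7, 0, 10, 8), (9, 3, 2, 2), (3, 8, 7, 8), (8, 1, 0, 7), (2, 9, 8, 9), (8, 4, 3, 3),
   (7, 1, 5, 4), (3, 5, 9, 8), (2, 6, 5, 10), (4, 1, 0, 3), (6, 2, 1, 6), (0, 4, 8, 1),
   (3, 2, 2, 9), (8, 8, 8, 4), (1, 3, 7, 0), (9, 9, 9, 3), (4, 3, 3, 8), (1, 4, 4, 6),
   (5, 8, 8, 2), (3, 10, 0, 4), (6, 7, 7, 1), (2, 3, 3, 5), (2, 8, 9, 9), (8, 3, 4, 3),
   (9, 2, 3, 2), (3, 7, 8, 8), (4, 10, 6, 7), (8, 6, 2, 3), (7, 5, 1, 4), (3, 9, 5, 8),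
   (6, 3, 3, 9), (7, 7, 7, 4), (5, 4, 4, 10), (2, 2, 2, 8), (7, 8, 8, 3), (10, 7, 7, 5),
   (9, 8, 8, 6), (7, 4, 4, 4), (4, 6, 10, 7), (8, 2, 6, 3), (4, 7, 7, 7), (4, 4, 4, 7)]

def W : List (List (Fin 2)) :=
  [[0], [1, 0, 1, 0], [1, 1, 0, 1, 0, 1, 1, 0], [1, 0, 1, 1, 0, 1, 0],
   [1, 1, 0, 1, 1, 0], [1, 1, 0, 1, 1, 0, 0, 0], [1, 0, 1, 1, 0, 1, 0, 0, 0], [1, 1, 0, 1, 0, 1, 1, 0, 0, 0],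
   [1, 0, 1, 0, 0, 0], [0, 0, 0], [], [0, 1, 0, 1, 1],
   [0, 1, 0, 1, 1, 0], [0, 1, 0, 1, 1, 0, 1], [1, 1, 0, 1, 0, 1, 1, 0, 1, 0], [1, 0, 1, 0, 1, 1, 0, 0, 0],
   [1, 1, 0, 1, 0, 1, 0, 0], [0, 1, 1, 0, 1, 0, 1, 1, 0, 0], [0, 1, 1], [0, 1, 0, 0],
   [1, 0, 1, 1], [0, 1, 0, 1, 0, 0, 0], [1], [0, 1, 0, 1, 1, 0, 1, 0, 1, 0, 0, 0],
   [0, 1, 0, 1, 1, 0, 1, 0, 1, 1], [0, 1, 1, 0, 0, 0], [0, 1, 1, 0, 1, 0, 1, 0, 0, 0], [1, 1, 0, 1, 1, 0, 1],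
   [1, 1, 0, 1, 1, 0, 0], [0, 1, 0, 1, 1, 0, 1, 0, 1], [1, 0, 1, 1, 0, 1, 0, 1, 0, 0, 0], [1, 0, 1, 1, 0],
   [1, 0, 1, 0, 1, 1, 0, 1, 0, 1], [1, 1, 0, 0], [1, 0, 1, 1, 0, 1, 0, 1, 0, 0], [1, 0, 1, 0, 1, 1, 0, 1],
   [0, 1, 0], [0, 1, 0, 1, 1, 0, 1, 0, 1, 1, 0], [1, 1, 0, 1, 0, 0, 0], [1, 0, 1, 0, 1, 1, 0, 1, 0],
   [1, 1, 0, 1, 1, 0, 1, 0, 1, 0, 0], [1, 0, 1, 1, 0, 1, 0, 1, 1], [1, 0, 1, 1, 0, 1], [0, 1, 0, 1, 1, 0, 1, 0, 0, 0],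
   [1, 1, 0, 1, 0, 1, 1], [1, 0, 1, 0, 1, 0, 0, 0], [1, 1, 0, 1, 1, 0, 1, 0, 1, 0], [1, 1, 0, 1, 0, 1, 1, 0, 1, 0, 1, 1],
   [0, 1, 0, 1, 0, 0], [1, 1, 0, 1, 0, 1, 1, 0, 1, 0, 0], [0, 1, 0, 1, 1, 0, 1, 0, 1, 1, 0, 1], [1, 0],
   [1, 1, 0, 0, 0], [1, 0, 1, 0, 1, 1, 0, 1, 0, 1, 1, 0], [1, 0, 1, 0, 1], [0, 1, 1, 0, 1, 0, 1, 0, 0],
   [1, 0, 1, 0, 1, 1, 0, 0], [0, 1, 1, 0, 1, 0, 0, 0], [1, 0, 1, 0, 1, 1, 0, 1, 0, 1, 1], [0, 1, 1, 0, 1, 0, 0],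
   [1, 1, 0, 1, 0, 0], [1, 0, 1, 0, 0], [1, 0, 1, 1, 0, 1, 0, 1, 1, 0], [1, 1, 0, 1, 0, 1, 0, 0, 0],
   [1, 1, 0, 1, 1, 0, 1, 0], [1, 0, 1, 0, 1, 0, 0], [1, 1, 0, 1, 1, 0, 1, 0, 0, 0], [1, 1, 0, 1, 0, 1, 0],
   [1, 1, 0, 1, 0, 1, 1, 0, 1, 0, 1], [1, 0, 1], [1, 1, 0, 1], [0, 1, 1, 0, 1],
   [0, 1, 1, 0, 1, 0, 1, 1, 0, 1], [0, 1, 1, 0, 1, 0], [1, 0, 1, 0, 1, 1], [0, 1, 1, 0, 1, 0, 1],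
   [0, 1, 0, 1, 1, 0, 1, 0], [0, 1, 1, 0, 1, 0, 1, 1, 0, 1, 0], [1, 1, 0], [1, 0, 0, 0],
   [1, 0, 1, 1, 0, 1, 0, 1, 1, 0, 1, 0], [1, 1, 0, 1, 0, 1, 1, 0, 1], [0, 1, 0, 1], [1, 0, 1, 1, 0, 1, 0, 1, 1, 0, 1],
   [1, 1, 0, 1, 1, 0, 1, 0, 1, 0, 0, 0], [1, 0, 1, 0, 1, 0], [1, 1, 0, 1, 0, 1, 1, 0, 0], [0, 1, 1, 0, 1, 0, 1, 1, 0],
   [1, 0, 1, 1, 0, 1, 0, 0], [1, 0, 1, 1, 0, 1, 0, 1, 1, 0, 0], [1, 1, 0, 1, 1, 0, 1, 0, 1], [1, 0, 1, 0, 1, 1, 0, 1, 0, 0, 0],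
   [1, 1, 0, 1, 0], [0, 1, 1, 0, 1, 0, 1, 1, 0, 1, 0, 1], [0, 1, 0, 0, 0], [1, 0, 1, 0, 1, 1, 0, 1, 0, 0],
   [1, 0, 1, 1, 0, 1, 0, 1], [1, 1], [0, 1, 0, 1, 0], [1, 0, 1, 1, 0, 0, 0],
   [1, 0, 1, 1, 0, 1, 0, 1, 0], [0, 1, 0, 1, 1, 0, 1, 0, 1, 0, 0], [1, 1, 0, 1, 1], [1, 1, 0, 1, 1, 0, 1, 0, 0],
   [0, 1, 1, 0, 1, 0, 1, 0], [0, 1, 1, 0], [0, 1, 0, 1, 1, 0, 1, 0, 1, 1, 0, 0], [0, 1, 0, 1, 1, 0, 1, 0, 1, 0],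
   [1, 0, 0], [0, 0], [1, 0, 1, 1, 0, 0], [0, 1],
   [0, 1, 1, 0, 0], [0, 1, 1, 0, 1, 0, 1, 1], [1, 1, 0, 1, 0, 1], [1, 0, 1, 0, 1, 1, 0],
   [1, 1, 0, 1, 0, 1, 1, 0, 1, 0, 0, 0], [0, 1, 0, 1, 1, 0, 1, 0, 0], [0, 1, 0, 1, 1, 0, 0, 0], [0, 1, 0, 1, 1, 0, 0]]

def gN : Fin 2 → ℕ × ℕ × ℕ × ℕ := ![(0, 10, 1, 0), (2, 4, 1, 8)]

theorem T_closed : ∀ i : Fin 2, ∀ t ∈ T, mulN 11 (gN i) t ∈ T := by decide +kernel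

theorem T_length : T.length = 120 := by decide +kernel

theorem W_reach : ∀ a < 11, ∀ b < 11, (a, b) ≠ (0, 0) →
    ∃ w ∈ W, w.foldr (fun i u => actN 11 (gN i) u) (1, 0) = (a, b) := by decide +kernel


/-- An exceptional sharply doubly transitive group of degree 11^2: the listed matrices generate a subgroup of GL(2,11) of order 120 acting regularly on the non-zero vectors. -/
theorem result (A : Matrix.GeneralLinearGroup (Fin 2) (ZMod 11)) (B : Matrix.GeneralLinearGroup (Fin 2) (ZMod 11)) (hA : (A : Matrix (Fin 2) (Fin 2) (ZMod 11)) = !![0, -1; 1, 0]) (hB : (B : Matrix (Fin 2) (Fin 2) (ZMod 11)) = !![2, 4; 1, -3]) : Nat.card (Subgroup.closure ({A, B} : Set (Matrix.GeneralLinearGroup (Fin 2) (ZMod 11)))) = 120 ∧ ∀ v w : Fin 2 → ZMod 11, v ≠ 0 → w ≠ 0 → ∃!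 h : Subgroup.closure ({A, B} : Set (Matrix.GeneralLinearGroup (Fin 2) (ZMod 11))), Matrix.mulVec ((h : Matrix.GeneralLinearGroup (Fin 2) (ZMod 11)) : Matrix (Fin 2) (Fin 2) (ZMod 11)) v = w := by
  have : Fact (Nat.Prime 11) := ⟨by norm_num⟩
  let gen : Fin 2 → Matrix.GeneralLinearGroup (Fin 2) (ZMod 11) := ![A, B]
  have hgen : ∀ i, (gen i : Matrix (Fin 2) (Fin 2) (ZMod 11)) = toM 11 (gN i) := by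
    intro i
    fin_cases i
    · show (A : Matrix (Fin 2) (Fin 2) (ZMod 11)) = _
      rw [hA]; decide
    · show (B : Matrix (Fin 2) (Fin 2) (ZMod 11)) = _
      rw [hB]; decide
  have hS : ∀ g ∈ ({A, B} : Set (Matrix.GeneralLinearGroup (Fin 2) (ZMod 11))),
      ∃ i, gen i = g := by
    intro g hg
    rcases hg with rfl | rfl
    · exact ⟨0, rfl⟩
    · exact ⟨1, rfl⟩
  have hS' : ∀ i, gen i ∈ ({A, B} : Set (Matrix.GeneralLinearGroup (Fin 2) (ZMod 11))) := by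
    intro i
    fin_cases i
    · exact Or.inl rfl
    · exact Or.inr rfl
  apply regular (q := 11) _ _ (toV 11 (1, 0)) e1_ne
  · intro v hv
    obtain ⟨a, ha, b, hb, rfl⟩ := exists_toV v
    have hab : (a, b) ≠ (0, 0) := by
      intro h
      apply hv
      rw [h]; exact toV_zero
    obtain ⟨w, _, hw⟩ := W_reach a ha b hb hab
    obtain ⟨h, hh, hhv⟩ := word_mem (q := 11) _ gen hS' gN hgen w (1, 0)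
    exact ⟨h, hh, by rw [hhv, hw]⟩
  · refine (card_closure_le _ ((T.map (toM 11)).toFinset) ?_ ?_).trans ?_
    · rw [List.mem_toFinset, List.mem_map]
      exact ⟨(1, 0, 0, 1), by decide +kernel, toM_one⟩
    · intro g hg m hm
      obtain ⟨i, rfl⟩ := hS g hg
      rw [List.mem_toFinset, List.mem_map] at hm ⊢
      obtain ⟨t, ht, rfl⟩ := hm
      exact ⟨mulN 11 (gN i) t, T_closed i t ht, by rw [toM_mul, hgen]⟩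
    · refine (List.toFinset_card_le _).trans ?_
      rw [List.length_map, T_length]
      norm_num

end Cfsg.Agent.S0692
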