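import Mathlib
import Cfsg.Statements.S0849
import Cfsg.Agent.Lib.IndFun

set_option autoImplicit false
open Cfsg

namespace Cfsg.Agent.S0849

open Cfsg.Agent.Lib.IndFun

theorem result {G : Type*} [Group G] [Fintype G] (H : Subgroup G) (S : Set G) (hSH : S ⊆ H) (hHS : ∀ h ∈ H, ∀ s ∈ S, h * s * h⁻¹ ∈ S) (hTI : ∀ g : G, g ∉ H → ∀ s ∈ S, g * s * g⁻¹ ∉ S) (hinv : ∀ s ∈ S, s⁻¹ ∈ S) (φ : H → ℂ) (hφ : Cfsg.IsClassFunction H φ) (hφS : ∀ x : H, (x : G) ∉ S → φ x = 0) (u v : G) (hu : orderOf u = 2) (hv : orderOf v = 2) : ∑ᶠ p ∈ {p : G × G | IsConj u p.1 ∧ IsConj v p.2}, Cfsg.indFun H φ (p.1 * p.2) = (H.index : ℂ) * ∑ᶠ p ∈ {p : H × H | IsConj u (p.1 : G) ∧ IsConj v (p.2 : G)}, φ (p.1 * p.2) := by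
  classical
  have : Fintype H := Fintype.ofFinite H
  have hcard : ∀ (x g : G), IsConj x g → orderOf x = 2 → g * g = 1 := by
    intro x g hxg hx
    obtain ⟨c, hc⟩ := isConj_iff.mp hxg
    have hxx : x * x = 1 := by rw [← sq, ← hx]; exact pow_orderOf_eq_one x
    rw [← hc]
    calc c * x * c⁻¹ * (c * x * c⁻¹) = c * (x * x) * c⁻¹ := by group
      _ = 1 := by rw [hxx]; group
  rw [finsum_mem_eq_finite_toFinset_sum _ (Set.toFinite _), finsum_mem_eq_finite_toFinset_sum _ (Set.toFinite _)]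
  set T : Finset (G × G) := (Set.toFinite {p : G × G | IsConj u p.1 ∧ IsConj v p.2}).toFinset with hT
  set TH : Finset (H × H) := (Set.toFinite {p : H × H | IsConj u (p.1 : G) ∧ IsConj v (p.2 : G)}).toFinset with hTH
  have memT : ∀ p : G × G, p ∈ T ↔ IsConj u p.1 ∧ IsConj v p.2 := by
    intro p; rw [hT, Set.Finite.mem_toFinset]; rfl
  have memTH : ∀ p : H × H, p ∈ TH ↔ IsConj u (p.1 : G) ∧ IsConj v (p.2 : G) := by
    intro p; rw [hTH, Set.Finite.mem_toFinset]; rfl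
  have h1 : ∑ p ∈ T, Cfsg.indFun H φ (p.1 * p.2) = (Nat.card H : ℂ)⁻¹ * ∑ x : G, ∑ p ∈ T, extendByZero H φ (p.1 * p.2) := by
    simp only [Cfsg.indFun]
    rw [← Finset.mul_sum, Finset.sum_comm]
    congr 1
    refine Finset.sum_congr rfl (fun x _ => ?_)
    refine Finset.sum_bij' (fun p _ => (x⁻¹ * p.1 * x, x⁻¹ * p.2 * x)) (fun p _ => (x * p.1 * x⁻¹, x * p.2 * x⁻¹)) ?_ ?_ ?_ ?_ ?_
    · intro p hp
      rw [memT] at hp ⊢
      exact ⟨hp.1.trans (isConj_iff.mpr ⟨x⁻¹, by group⟩), hp.2.trans (isConj_iff.mpr ⟨x⁻¹, by group⟩)⟩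
    · intro p hp
      rw [memT] at hp ⊢
      exact ⟨hp.1.trans (isConj_iff.mpr ⟨x, rfl⟩), hp.2.trans (isConj_iff.mpr ⟨x, rfl⟩)⟩
    · intro p _
      ext <;> simp <;> group
    · intro p _
      ext <;> simp <;> group
    · intro p _
      congr 1
      group
  rw [h1, Finset.sum_const, Finset.card_univ, nsmul_eq_mul, ← mul_assoc]
  have h2 : (Nat.card H : ℂ)⁻¹ * (Fintype.card G : ℂ) = (H.index : ℂ) := by
    rw [← Nat.card_eq_fintype_card, ← Subgroup.card_mul_index H]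
    have : (Nat.card H : ℂ) ≠ 0 := by exact_mod_cast Nat.card_pos.ne'
    push_cast
    field_simp
  rw [h2]
  congr 1
  -- restrict to H × H
  symm
  refine Finset.sum_of_injOn (fun p : H × H => ((p.1 : G), (p.2 : G))) ?_ ?_ ?_ ?_
  · intro p _ q _ hpq
    simp only [Prod.mk.injEq] at hpq
    exact Prod.ext (Subtype.ext hpq.1) (Subtype.ext hpq.2)
  · intro p hp
    rw [Finset.mem_coe, memTH] at hp
    rw [Finset.mem_coe, memT]
    exact hp
  · intro p hp hnot
    rw [memT] at hp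
    by_contra hne
    apply hnot
    -- p.1 * p.2 ∈ S
    have hmem : p.1 * p.2 ∈ H := by
      by_contra hmem
      apply hne
      unfold extendByZero
      rw [Function.extend_apply']
      · rfl
      · rintro ⟨z, hz⟩
        exact hmem (hz ▸ z.2)
    have hS : p.1 * p.2 ∈ S := by
      by_contra hS
      apply hne
      unfold extendByZero
      have := Function.Injective.extend_apply (Subtype.val_injective (p := fun x => x ∈ H)) φ 0 ⟨p.1 * p.2, hmem⟩
      exact this.trans (hφS _ hS)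
    have ha := hcard u p.1 hp.1 hu
    have hb := hcard v p.2 hp.2 hv
    have hpH1 : p.1 ∈ H := by
      by_contra hnH
      apply hTI p.1 hnH _ hS
      have e1 : p.1⁻¹ = p.1 := inv_eq_of_mul_eq_one_left ha
      have e2 : p.2⁻¹ = p.2 := inv_eq_of_mul_eq_one_left hb
      have : p.1 * (p.1 * p.2) * p.1⁻¹ = (p.1 * p.2)⁻¹ := by
        rw [← mul_assoc, ha, one_mul, mul_inv_rev, e1, e2]
      rw [this]
      exact hinv _ hS
    have hpH2 : p.2 ∈ H := by
      have : p.2 = p.1⁻¹ * (p.1 * p.2) := by group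
      rw [this]
      exact mul_mem (inv_mem hpH1) hmem
    refine ⟨(⟨p.1, hpH1⟩, ⟨p.2, hpH2⟩), ?_, rfl⟩
    rw [Finset.mem_coe, memTH]
    exact hp
  · intro p _
    unfold extendByZero
    have := Function.Injective.extend_apply (Subtype.val_injective (p := fun x => x ∈ H)) φ 0 (p.1 * p.2)
    exact this.symm

end Cfsg.Agent.S0849
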