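import Cfsg.Statements.S0974
import Cfsg.Agent.Lib.BRSmall
import Cfsg.Agent.S0732

set_option autoImplicit false
open Cfsg

namespace Cfsg.Agent.S0974

/-- No finite simple group has order 3648 = 2^6 * 3 * 19. -/
theorem result {G : Type*} [Group G] [Finite G] [IsSimpleGroup G] : Nat.card G ≠ 3648 := by
  intro h
  rcases Cfsg.Agent.Lib.BRSmall.cases.{_, 0} (fun hp hα G _ hG hd => Cfsg.Agent.S0732.result hp hα G hG hd) h (by norm_num) 19 (by norm_num) (by norm_num) (by norm_num) with
    ⟨h1, -⟩ | ⟨q, hq, h1, -⟩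
  · norm_num at h1
  · have h2 : q = 18 := by omega
    subst h2
    norm_num at h1

end Cfsg.Agent.S0974
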