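import Cfsg.Statements.S0978
import Cfsg.Agent.Lib.PBOpts

set_option autoImplicit false
open Cfsg

namespace Cfsg.Agent.S0978

open Subgroup Cfsg.Agent.Lib.SmallSimple

/-- No finite simple group has order 5040 = 2^4 * 3^2 * 5 * 7. -/
theorem result {G : Type*} [Group G] [Finite G] [IsSimpleGroup G] : Nat.card G ≠ 5040 := by
  intro h
  have : Fact (Nat.Prime 5) := ⟨by norm_num⟩
  have hG : ¬ IsMulCommutative G := not_isMulCommutative_of_card h (by norm_num)
  obtain ⟨P⟩ : Nonempty (Sylow 5 G) := inferInstance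
  obtain ⟨hPc, e, c, hN, hC, he, he1, hecn, hmem⟩ :=
    Lib.PBNum.data hG (M := 1008) 70 (by rw [h]) (by norm_num) (by norm_num) P
  have h1 : Lib.PBNum.opts 5 1008 70 = [] := by decide +kernel
  rw [h1] at hmem
  exact List.not_mem_nil hmem

end Cfsg.Agent.S0978
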