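import Cfsg.Statements.S0994
import Cfsg.Agent.Lib.SmallSimple3

set_option autoImplicit false
open Cfsg

namespace Cfsg.Agent.S0994

open Cfsg.Agent.Lib.SmallSimple

/-- No finite simple group has order 1188 = 2^2 * 3^3 * 11. -/
theorem result {G : Type*} [Group G] [Finite G] [IsSimpleGroup G] : Nat.card G ≠ 1188 := by
  intro h
  have hG : ¬ IsMulCommutative G := not_isMulCommutative_of_card h (by norm_num)
  have hp : Fact (Nat.Prime 11) := ⟨by norm_num⟩
  have hG11 : Nat.card G = 11 ^ 1 * 108 := by rw [h]; norm_num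
  have h1 := nsyl_mem hG11 (by norm_num)
  have h2 : (Nat.divisors 108).filter (fun d => d % 11 = 1) = {1, 12} := by decide +kernel
  rw [h2] at h1
  simp only [Finset.mem_insert, Finset.mem_singleton] at h1
  obtain ⟨P⟩ : Nonempty (Sylow 11 G) := inferInstance
  have h3 := nsyl_ne_one hG (p := 11) (by rw [h]; norm_num)
  have h4 : Nat.card (Sylow 11 G) = 12 := h1.resolve_left h3
  have h5 := card_normalizer_mul_nsyl P
  rw [h4, h] at h5
  obtain ⟨e, c, hN, -, he, he1⟩ := nc_data hG P (by rw [sylow_card_of hG11 (by norm_num) P]; norm_num)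
  rw [hN] at h5
  have h6 : e * c = 9 := by
    have : e * (11 * c) * 12 = 132 * (e * c) := by ring
    omega
  have h7 : e ∣ 9 := Dvd.intro _ h6
  have h8 : e ∣ 1 := by
    have := Nat.dvd_gcd h7 he
    simpa using this
  exact he1 (Nat.dvd_one.1 h8)

end Cfsg.Agent.S0994
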