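import Cfsg.Statements.S1140

set_option autoImplicit false
open Cfsg

namespace Cfsg.Agent.S1140

theorem linInd (F : Type*) [Field F] :
    LinearIndependent F (fun σ : F ≃+* F => ((σ : F →+* F) : F → F)) := by
  have h := linearIndependent_monoidHom F F
  have h2 := h.comp (fun σ : F ≃+* F => ((σ : F →+* F) : F →* F)) (by
    intro σ τ hst
    ext x
    have := DFunLike.congr_fun hst x
    exact this)
  exact h2

theorem span_all {F : Type*} [Field F] [Fintype F] [CharP F 2] [Fintype (F ≃+* F)] (f : F →+ F) :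
    ∃ c : (F ≃+* F) → F, ∀ x : F, f x = ∑ σ : F ≃+* F, c σ * σ x := by
  classical
  letI : Algebra (ZMod 2) F := ZMod.algebra F 2
  haveI : Fact (Nat.Prime 2) := ⟨Nat.prime_two⟩
  let e : (F ≃+* F) → (F →ₗ[ZMod 2] F) := fun σ => ((σ : F →+* F) : F →+ F).toZModLinearMap 2
  have hind : LinearIndependent F e := by
    let φ : (F →ₗ[ZMod 2] F) →ₗ[F] (F → F) :=
      { toFun := fun g => (g : F → F)
        map_add' := fun _ _ => rfl
        map_smul' := fun _ _ => rfl }
    refine LinearIndependent.of_comp φ ?_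
    exact linInd F
  have hcard : Fintype.card (F ≃+* F) = Module.finrank F (F →ₗ[ZMod 2] F) := by
    rw [Module.finrank_linearMap_self]
    haveI : IsGalois (ZMod 2) F := inferInstance
    have h1 := IsGalois.card_aut_eq_finrank (ZMod 2) F
    rw [← h1, Nat.card_eq_fintype_card]
    refine Fintype.card_congr ?_
    refine { toFun := fun σ => AlgEquiv.ofRingEquiv (f := σ) (fun r => ?_), invFun := fun σ => σ.toRingEquiv, left_inv := ?_, right_inv := ?_ }
    · have : (σ : F →+* F).comp (algebraMap (ZMod 2) F) = algebraMap (ZMod 2) F := Subsingleton.elim _ _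
      exact RingHom.congr_fun this r
    · intro σ; ext x; rfl
    · intro σ; ext x; rfl
  have hspan := hind.span_eq_top_of_card_eq_finrank' hcard
  have hmem : f.toZModLinearMap 2 ∈ Submodule.span F (Set.range e) := by
    rw [hspan]; trivial
  obtain ⟨c, hc⟩ := (Submodule.mem_span_range_iff_exists_fun F).1 hmem
  refine ⟨c, fun x => ?_⟩
  have := congrArg (fun g : F →ₗ[ZMod 2] F => g x) hc
  simp only [LinearMap.coe_sum, Finset.sum_apply, LinearMap.smul_apply, smul_eq_mul] at this
  exact this.symm

theorem result {F : Type*} [Field F] [Fintype F] [CharP F 2] :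
    LinearIndependent F (fun σ : F ≃+* F => ((σ : F →+* F) : F → F)) ∧
      (∀ f : F →+ F, ∃ (s : Finset (F ≃+* F)) (c : (F ≃+* F) → F), ∀ x : F, f x = ∑ σ ∈ s, c σ * σ x) ∧
      ∀ B : F →+ F →+ F, ∃ (s : Finset ((F ≃+* F) × (F ≃+* F))) (c : (F ≃+* F) × (F ≃+* F) → F),
        ∀ x y : F, B x y = ∑ p ∈ s, c p * (p.1 x * p.2 y) := by
  classical
  haveI : Finite (F ≃+* F) := Finite.of_injective (fun σ : F ≃+* F => (σ : F → F)) DFunLike.coe_injective
  letI : Fintype (F ≃+* F) := Fintype.ofFinite _
  refine ⟨linInd F, fun f => ?_, fun B => ?_⟩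
  · obtain ⟨c, hc⟩ := span_all f
    exact ⟨Finset.univ, c, hc⟩
  · choose c hc using fun x => span_all (B x)
    have hadd : ∀ x y, c (x + y) = c x + c y := by
      intro x y
      have hl := linInd F
      rw [Fintype.linearIndependent_iff] at hl
      have := hl (fun σ => c (x + y) σ - (c x σ + c y σ)) (by
        ext z
        have h1 : ∑ σ : F ≃+* F, c (x+y) σ * σ z = ∑ σ : F ≃+* F, c x σ * σ z + ∑ σ : F ≃+* F, c y σ * σ z := by
          rw [← hc, ← hc, ← hc, map_add]; rfl
        simp only [Finset.sum_apply, Pi.smul_apply, smul_eq_mul, Pi.zero_apply, sub_mul, add_mul, Finset.sum_sub_distrib, Finset.sum_add_distrib]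
        have h2 : ∀ σ : F ≃+* F, ((σ : F →+* F) : F → F) z = σ z := fun _ => rfl
        simp only [h2]
        rw [h1]; ring)
      funext σ
      have := this σ
      simp only [Pi.add_apply]
      exact sub_eq_zero.1 this
    choose d hd using fun σ : F ≃+* F => span_all (AddMonoidHom.mk' (fun x => c x σ) (fun x y => by rw [hadd]; rfl))
    refine ⟨Finset.univ, fun p => d p.2 p.1, fun x y => ?_⟩
    rw [hc, ← Finset.univ_product_univ, Finset.sum_product_right]
    refine Finset.sum_congr rfl fun σ _ => ?_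
    have := hd σ x
    simp only [AddMonoidHom.mk'_apply] at this
    rw [this, Finset.sum_mul]
    refine Finset.sum_congr rfl fun τ _ => ?_
    ring

end Cfsg.Agent.S1140
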