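import Cfsg.Statements.S1158
import Cfsg.Agent.Lib.ReeQ
import Cfsg.Agent.Lib.ReeR

set_option autoImplicit false
open Cfsg

namespace Cfsg.Agent.S1158

/-- In the small Ree group ²G₂(q), q = 3^(2m+1) with m ≥ 1, realised as G¹ inside the Chevalley group G₂ over the field with q elements (θ the 3^m-th power map), with `r = 3^(m+1)` (so `r² = 3q`): for each `k ∈ {(q-1)/2, (q+1)/4, q - r + 1, q + r + 1}` there is a cyclic subgroup `A` of order `k` whose normaliser has order `2(q-1)`, `6(q+1)`, `6(q-r+1)`, `6(q+r+1)` respectively, and `N(A₀) = N(A)` for every non-trivial `A₀ ≤ A`. -/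
theorem result {K : Type*} [Field K] [Fintype K] {m : ℕ} (hm : 1 ≤ m) (hK : Fintype.card K = 3 ^ (2 * m + 1)) :
    ∀ kn ∈ ({((3 ^ (2 * m + 1) - 1) / 2, 2 * (3 ^ (2 * m + 1) - 1)), ((3 ^ (2 * m + 1) + 1) / 4, 6 * (3 ^ (2 * m + 1) + 1)),
        (3 ^ (2 * m + 1) - 3 ^ (m + 1) + 1, 6 * (3 ^ (2 * m + 1) - 3 ^ (m + 1) + 1)),
        (3 ^ (2 * m + 1) + 3 ^ (m + 1) + 1, 6 * (3 ^ (2 * m + 1) + 3 ^ (m + 1) + 1))} : Set (ℕ × ℕ)),
      ∃ A : Subgroup ↥(Cfsg.Lie.twistedG2 K (3 ^ m)), IsCyclic A ∧ Nat.card A = kn.1 ∧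
        Nat.card (Subgroup.normalizer (A : Set ↥(Cfsg.Lie.twistedG2 K (3 ^ m)))) = kn.2 ∧
        ∀ A₀ : Subgroup ↥(Cfsg.Lie.twistedG2 K (3 ^ m)), A₀ ≤ A → A₀ ≠ ⊥ →
          Subgroup.normalizer (A₀ : Set ↥(Cfsg.Lie.twistedG2 K (3 ^ m))) = Subgroup.normalizer (A : Set ↥(Cfsg.Lie.twistedG2 K (3 ^ m))) := by
  intro kn hkn
  obtain ⟨Y, A, c, t, hY⟩ := (Cfsg.Agent.Lib.ReeQ.rd hK hm).tor_all _ (Cfsg.Agent.Lib.ReeP.rho_inj hK hm) kn hkn
  have hne : Y ≠ ⊥ := by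
    rintro rfl
    rw [Subgroup.card_bot] at hY
    have h27 : 27 ≤ 3 ^ (2 * m + 1) := Cfsg.Agent.Lib.ReeA.pow_ge hm
    have hle : 3 * 3 ^ (m + 1) ≤ 3 ^ (2 * m + 1) := by
      have : 3 * 3 ^ (m + 1) = 3 ^ (m + 2) := by ring
      rw [this]
      exact Nat.pow_le_pow_right (by norm_num) (by omega)
    have h9 : 9 ≤ 3 ^ (m + 1) := by
      calc 9 = 3 ^ 2 := by norm_num
        _ ≤ 3 ^ (m + 1) := Nat.pow_le_pow_right (by norm_num) (by omega)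
    rcases hkn with rfl | rfl | rfl | rfl
    · simp only at hY; omega
    · simp only at hY; omega
    · simp only at hY; omega
    · simp only at hY; omega
  have hN : Subgroup.normalizer (Y : Set ↥(Cfsg.Lie.twistedG2 K (3 ^ m))) = Subgroup.normalizer (A : Set ↥(Cfsg.Lie.twistedG2 K (3 ^ m))) :=
    t.tor.norm_eq le_rfl hne
  refine ⟨Y, t.tor.cyc, hY, ?_, ?_⟩
  · rw [hN]; exact t.tor.norm
  · intro A₀ h0 h1
    rw [hN]; exact t.tor.norm_eq h0 h1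

end Cfsg.Agent.S1158
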