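import Cfsg.Statements.S1249
import Cfsg.Agent.Lib.SylowTools

set_option autoImplicit false
open Cfsg

namespace Cfsg.Agent.S1249

/-- Let P and Q be Sylow p-subgroups of the finite group G both containing the subgroup A. If A is strongly closed in P, then A is strongly closed in Q. -/
theorem result {G : Type*} [Group G] [Finite G] {p : ℕ} [Fact p.Prime] (P Q : Sylow p G) (A : Subgroup G) (hAQ : A ≤ Q) (hA : Cfsg.IsStronglyClosed A (P : Subgroup G)) : Cfsg.IsStronglyClosed A (Q : Subgroup G) := by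
  obtain ⟨hAP, hcl⟩ := hA
  refine ⟨hAQ, ?_⟩
  obtain ⟨g, hQ⟩ := Cfsg.Agent.Lib.SylowTools.sylow_conj P Q
  have h1 : ∀ x ∈ A, g⁻¹ * x * g ∈ A := by
    intro x hx
    have := (hQ x).1 (hAQ hx)
    have h2 := hcl x hx g⁻¹ (by simpa using this)
    simpa using h2
  -- g⁻¹ A g ≤ A hence equality by finiteness
  have h2 : A.map (MulAut.conj g⁻¹).toMonoidHom = A :=
    Cfsg.Agent.Lib.SylowTools.map_conj_eq_of_mem_normalizer
      (Cfsg.Agent.Lib.SylowTools.mem_normalizer_of_forall (fun y hy => by simpa using h1 y hy))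
  have h3 : ∀ x ∈ A, g * x * g⁻¹ ∈ A := by
    intro x hx
    rw [← h2] at hx
    obtain ⟨y, hy, rfl⟩ := hx
    simpa [mul_assoc] using hy
  intro x hx k hk
  have h4 := (hQ _).1 hk
  have h5 : (g⁻¹ * k) * x * (g⁻¹ * k)⁻¹ ∈ A := hcl x hx (g⁻¹ * k) (by simpa [mul_assoc] using h4)
  have h6 := h3 _ h5
  simpa [mul_assoc] using h6

end Cfsg.Agent.S1249
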