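import Cfsg.Statements.S1250
import Cfsg.Agent.Lib.SylowTools

set_option autoImplicit false
open Cfsg

namespace Cfsg.Agent.S1250

/-- Let S be a Sylow p-subgroup of the finite group G, A ≤ S strongly closed in S, and N a normal subgroup. Then the image of A in G ⧸ N is strongly closed in the image of S (which is a Sylow p-subgroup of G ⧸ N). -/
theorem result {G : Type*} [Group G] [Finite G] {p : ℕ} [Fact p.Prime] (S : Sylow p G) (A : Subgroup G) (hA : Cfsg.IsStronglyClosed A (S : Subgroup G)) (N : Subgroup G) [N.Normal] : Cfsg.IsStronglyClosed (A.map (QuotientGroup.mk' N)) ((S : Subgroup G).map (QuotientGroup.mk' N)) := by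
  obtain ⟨hAS, hcl⟩ := hA
  refine ⟨Subgroup.map_mono hAS, ?_⟩
  rintro _ ⟨x, hx, rfl⟩ q hq
  obtain ⟨g, rfl⟩ := QuotientGroup.mk'_surjective N q
  rw [← map_inv, ← map_mul, ← map_mul] at hq ⊢
  -- y := g x g⁻¹ lies in S ⊔ N
  have hy : g * x * g⁻¹ ∈ (S : Subgroup G) ⊔ N := by
    have : g * x * g⁻¹ ∈ ((S : Subgroup G).map (QuotientGroup.mk' N)).comap (QuotientGroup.mk' N) := hq
    rwa [QuotientGroup.comap_map_mk', sup_comm] at this
  have hSK : (S : Subgroup G) ≤ (S : Subgroup G) ⊔ N := le_sup_left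
  obtain ⟨m, hm⟩ := (IsPGroup.iff_orderOf.1 S.2) ⟨x, hAS hx⟩
  obtain ⟨k, hk, h2⟩ := Cfsg.Agent.Lib.SylowTools.conj_elem_into_of_subgroup hSK S.2
    (Cfsg.Agent.Lib.SylowTools.not_dvd_relIndex_of_sylow S hSK) hy
    ⟨m, by rw [Cfsg.Agent.Lib.SylowTools.orderOf_conj', ← hm, ← Subgroup.orderOf_coe]⟩
  -- write k = s * n
  obtain ⟨s, hs, n, hn, hsn⟩ := Cfsg.Agent.Lib.SylowTools.mem_sup_normal_iff.1 hk
  have h3 : n * (g * x * g⁻¹) * n⁻¹ ∈ (S : Subgroup G) := by
    rw [← hsn] at h2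
    have := (S : Subgroup G).mul_mem ((S : Subgroup G).mul_mem ((S : Subgroup G).inv_mem hs) h2) hs
    simpa [mul_assoc] using this
  have h4 : (n * g) * x * (n * g)⁻¹ ∈ A := hcl x hx (n * g) (by simpa [mul_assoc] using h3)
  refine ⟨_, h4, ?_⟩
  simp only [map_mul, map_inv]
  have : (QuotientGroup.mk' N) n = 1 := by simpa using hn
  simp [this]

end Cfsg.Agent.S1250
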