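import Cfsg.Statements.S1251
import Cfsg.Agent.Lib.ZStarU
import Cfsg.Agent.Lib.SylowTools
import Cfsg.Agent.Lib.OmegaCent
import Cfsg.Agent.Lib.SubgroupTools

set_option autoImplicit false
open Cfsg

namespace Cfsg.Agent.S1251

open Cfsg.Agent.Lib Cfsg.Agent.Lib.SylowTools
open scoped Pointwise

/-- Let S be a Sylow 2-subgroup of the finite group G and A ≤ S strongly closed in S. If H is a subgroup normalized by A with no nontrivial normal subgroup of odd order and A ∩ H = 1, then A ≤ C_G(H). -/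
theorem result {G : Type*} [Group G] [Finite G] (S : Sylow 2 G) (A : Subgroup G) (hA : Cfsg.IsStronglyClosed A (S : Subgroup G)) (H : Subgroup G) (hAH : A ≤ Subgroup.normalizer (H : Set G)) (hO : Cfsg.oddCore ↥H = ⊥) (hdisj : A ⊓ H = ⊥) : A ≤ Subgroup.centralizer (H : Set G) := by
  have hp2 := Fact.mk Nat.prime_two
  have hA2 : IsPGroup 2 A := S.isPGroup'.to_le hA.1
  -- a Sylow 2-subgroup `P` of `A ⊔ H` containing `A`
  set K : Subgroup G := A ⊔ H with hK
  obtain ⟨P, hAP, hPK, hP, hPi⟩ := exists_sylow_of_subgroup (p := 2) (le_sup_left : A ≤ K) hA2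
  obtain ⟨Q, hPQ⟩ := hP.exists_le_sylow
  obtain ⟨x0, hx0⟩ := sylow_conj S Q
  -- `A` is strongly closed in `Q`
  have hAQ : ∀ a ∈ A, ∀ g : G, g * a * g⁻¹ ∈ (Q : Subgroup G) → g * a * g⁻¹ ∈ A := by
    have h1 : ∀ a ∈ A, x0⁻¹ * a * x0 ∈ A := by
      intro a ha
      have h2 := (hx0 a).mp (hPQ (hAP ha))
      have h3 := hA.2 a ha x0⁻¹
      rw [inv_inv] at h3
      exact h3 h2
    have h4 : ∀ a ∈ A, x0 * a * x0⁻¹ ∈ A := by
      have h5 : x0⁻¹ ∈ Subgroup.normalizer (A : Set G) :=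
        mem_normalizer_of_forall (fun y hy => by rw [inv_inv]; exact h1 y hy)
      have h6 := inv_mem h5
      rw [inv_inv] at h6
      intro a ha
      exact (Subgroup.mem_normalizer_iff.mp h6 a).mp ha
    intro a ha g hg
    have h7 := (hx0 _).mp hg
    have h8 := hA.2 a ha (x0⁻¹ * g) (by
      have : x0⁻¹ * g * a * (x0⁻¹ * g)⁻¹ = x0⁻¹ * (g * a * g⁻¹) * x0 := by group
      rw [this]; exact h7)
    have h9 := h4 _ h8
    have : x0 * (x0⁻¹ * g * a * (x0⁻¹ * g)⁻¹) * x0⁻¹ = g * a * g⁻¹ := by group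
    rwa [this] at h9
  -- `H` is normal in `K`
  have hKn : K ≤ Subgroup.normalizer (H : Set G) := sup_le hAH Subgroup.le_normalizer
  have hHK : H ≤ K := le_sup_right
  -- `A` centralizes `P ∩ H`
  have hAR : ∀ a ∈ A, ∀ r ∈ P ⊓ H, a * r = r * a := by
    intro a ha r hr
    have h1 : a * r * a⁻¹ * r⁻¹ ∈ A := by
      have h2 : r * a⁻¹ * r⁻¹ ∈ A := hAQ _ (inv_mem ha) r
        (hPQ (mul_mem (mul_mem hr.1 (inv_mem (hAP ha))) (inv_mem hr.1)))
      have h3 : a * r * a⁻¹ * r⁻¹ = a * (r * a⁻¹ * r⁻¹) := by group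
      rw [h3]; exact mul_mem ha h2
    have h4 : a * r * a⁻¹ * r⁻¹ ∈ H :=
      mul_mem ((Subgroup.mem_normalizer_iff.mp (hAH ha) r).mp hr.2) (inv_mem hr.2)
    have h5 : a * r * a⁻¹ * r⁻¹ ∈ A ⊓ H := Subgroup.mem_inf.mpr ⟨h1, h4⟩
    rw [hdisj, Subgroup.mem_bot, mul_inv_eq_one, mul_inv_eq_iff_eq_mul] at h5
    exact h5
  intro a ha
  -- the group `L = ⟨a⟩ ⊔ H`
  set L : Subgroup G := Subgroup.zpowers a ⊔ H with hL
  have haL : a ∈ L := Subgroup.mem_sup_left (Subgroup.mem_zpowers a)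
  have hHL : H ≤ L := le_sup_right
  have haN : a ∈ Subgroup.normalizer (H : Set G) := hAH ha
  have hLn : L ≤ Subgroup.normalizer (H : Set G) :=
    sup_le ((Subgroup.zpowers_le).mpr haN) Subgroup.le_normalizer
  have hLK : L ≤ K := sup_le ((Subgroup.zpowers_le.mpr ha).trans le_sup_left) le_sup_right
  -- elements of `L`
  have hLel : ∀ g ∈ L, ∃ h ∈ H, ∃ i : ℤ, g = h * a ^ i := by
    intro g hg
    have h1 : g ∈ (Subgroup.zpowers a : Set G) * (H : Set G) := by
      rw [← Subgroup.coe_mul_of_left_le_normalizer_right _ _ (Subgroup.zpowers_le.mpr haN)]; exact hg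
    obtain ⟨b, ⟨i, rfl⟩, h, hh, rfl⟩ := h1
    refine ⟨a ^ i * h * (a ^ i)⁻¹, ?_, i, by group⟩
    exact (Subgroup.mem_normalizer_iff.mp (zpow_mem haN i) h).mp hh
  obtain ⟨k, hk⟩ := (IsPGroup.iff_orderOf.mp hA2) ⟨a, ha⟩
  have hk' : orderOf a = 2 ^ k := (Subgroup.orderOf_coe _).trans hk
  -- `a` is isolated in `L`
  have hiso : IsIsolated (⟨a, haL⟩ : L) := by
    intro g hcomm
    obtain ⟨h, hh, i, hg⟩ := hLel g g.2
    have hga : (g : G) * a * (g : G)⁻¹ = h * a * h⁻¹ := by rw [hg]; group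
    have hcomm' : a * (h * a * h⁻¹) = (h * a * h⁻¹) * a := by
      rw [← hga]; exact congrArg Subtype.val hcomm
    -- `v = a^h a⁻¹ ∈ H` commutes with `a`
    set v := h * a * h⁻¹ * a⁻¹ with hv
    have hvH : v ∈ H := by
      have : v = h * (a * h⁻¹ * a⁻¹) := by rw [hv]; group
      rw [this]
      exact mul_mem hh ((Subgroup.mem_normalizer_iff.mp haN h⁻¹).mp (inv_mem hh))
    have hva : Commute v a := by
      have h1 : Commute (h * a * h⁻¹) a := hcomm'.symm
      exact h1.mul_left (Commute.inv_left (Commute.refl a))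
    have hv2 : ∃ m, orderOf v = 2 ^ m := by
      have h1 : Commute (h * a * h⁻¹) a⁻¹ := Commute.inv_right hcomm'.symm
      have h2 := h1.orderOf_mul_dvd_lcm
      rw [orderOf_conj', orderOf_inv, Nat.lcm_self, hk'] at h2
      obtain ⟨m, -, hm⟩ := (Nat.dvd_prime_pow Nat.prime_two).mp h2
      exact ⟨m, hm⟩
    -- conjugate `v` into `P ⊓ H` by an element of `C_H(a)`
    have hRC : P ⊓ H ≤ H ⊓ Subgroup.centralizer {a} := by
      intro r hr
      refine Subgroup.mem_inf.mpr ⟨hr.2, ?_⟩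
      rw [Subgroup.mem_centralizer_singleton_iff]
      exact (hAR a ha r hr).symm
    have hRi : ¬ 2 ∣ (P ⊓ H).relIndex (H ⊓ Subgroup.centralizer {a}) := by
      intro hd
      have h1 : ¬ 2 ∣ (P ⊓ H).relIndex H := by
        intro hd'
        apply hPi
        have h2 : (P ⊓ H).relIndex H = P.relIndex H := Subgroup.inf_relIndex_right P H
        rw [h2] at hd'
        -- `P.relIndex H ∣ P.relIndex K` as `H` is normal in `K`
        have hHn : (H.subgroupOf K).Normal := Cfsg.Agent.Lib.SubgroupTools.normal_subgroupOf_iff_le_normalizer' hKn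
        have h3 : (P.subgroupOf K).relIndex (H.subgroupOf K) ∣ (P.subgroupOf K).index :=
          Cfsg.Agent.Lib.OmegaCent.relIndex_dvd_index_normal _ _
        have h4 : (P.subgroupOf K).relIndex (H.subgroupOf K) = P.relIndex H := by
          rw [Subgroup.relIndex_subgroupOf hHK]
        rw [h4] at h3
        exact hd'.trans h3
      apply h1
      have h5 : H ⊓ Subgroup.centralizer {a} ≤ H := inf_le_left
      rw [← Subgroup.relIndex_mul_relIndex _ _ _ hRC h5]
      exact hd.mul_right _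
    obtain ⟨c, hc, hcv⟩ := conj_elem_into_of_subgroup (p := 2) hRC (hP.to_le inf_le_left) hRi
      (Subgroup.mem_inf.mpr ⟨hvH, Subgroup.mem_centralizer_singleton_iff.mpr hva⟩) hv2
    have hca : c * a = a * c := Subgroup.mem_centralizer_singleton_iff.mp hc.2
    -- `(c h) a (c h)⁻¹ ∈ P`
    have h1 : (c * h) * a * (c * h)⁻¹ = (c * v * c⁻¹) * a := by
      have : (c * h) * a * (c * h)⁻¹ = c * (v * a) * c⁻¹ := by rw [hv]; group
      rw [this]
      calc c * (v * a) * c⁻¹ = (c * v * c⁻¹) * (c * a) * c⁻¹ := by group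
        _ = (c * v * c⁻¹) * (a * c) * c⁻¹ := by rw [hca]
        _ = _ := by group
    have h2 : (c * h) * a * (c * h)⁻¹ ∈ A := by
      apply hAQ a ha
      rw [h1]
      exact hPQ (mul_mem hcv.1 (hAP ha))
    have h3 : c * v * c⁻¹ ∈ A ⊓ H := by
      refine Subgroup.mem_inf.mpr ⟨?_, hcv.2⟩
      have : c * v * c⁻¹ = ((c * h) * a * (c * h)⁻¹) * a⁻¹ := by rw [h1]; group
      rw [this]; exact mul_mem h2 (inv_mem ha)
    rw [hdisj, Subgroup.mem_bot] at h3
    have hv1 : v = 1 := by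
      calc v = c⁻¹ * (c * v * c⁻¹) * c := by group
        _ = 1 := by rw [h3]; group
    apply Subtype.ext
    change (g : G) * a * (g : G)⁻¹ = a
    rw [hga]
    rw [hv, mul_inv_eq_one] at hv1
    exact hv1
  have hZ := ZStarU.inZStar_of_isIsolated (x := (⟨a, haL⟩ : L)) ⟨k, (Subgroup.orderOf_coe _).symm.trans hk'⟩ hiso
  -- the core of `L` is trivial
  have hOL : ∀ w ∈ pPrimeCore 2 L, (w : G) ∈ H → w = 1 := by
    intro w hw hwH
    have h1 : (pPrimeCore 2 L).Normal := inferInstance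
    -- the intersection with `H` is a normal odd order subgroup of `H`
    set N : Subgroup H := ((pPrimeCore 2 L).map L.subtype).subgroupOf H with hN
    have hNn : N.Normal := by
      refine ⟨fun n hn g => ?_⟩
      rw [hN, Subgroup.mem_subgroupOf] at hn ⊢
      obtain ⟨y, hy, hyn⟩ := hn
      refine ⟨⟨(g : G), hHL g.2⟩ * y * ⟨(g : G), hHL g.2⟩⁻¹, h1.conj_mem y hy _, ?_⟩
      change (g : G) * (y : G) * (g : G)⁻¹ = (g : G) * (n : G) * (g : G)⁻¹
      have : (y : G) = (n : G) := hyn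
      rw [this]
    have hNc : (Nat.card N).Coprime 2 := by
      apply Nat.Coprime.coprime_dvd_left _ (Cores.coprime_card_pPrimeCore 2 L)
      rw [hN]
      have h3 : Nat.card (((pPrimeCore 2 L).map L.subtype).subgroupOf H) =
          Nat.card (((pPrimeCore 2 L).map L.subtype) ⊓ H : Subgroup G) := by
        rw [← Subgroup.card_map_of_injective H.subtype_injective, Subgroup.subgroupOf_map_subtype]
      rw [h3]
      refine (Subgroup.card_dvd_of_le inf_le_left).trans ?_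
      rw [Subgroup.card_map_of_injective L.subtype_injective]
    have h4 := Cores.le_pPrimeCore hNn hNc
    have h5 : pPrimeCore 2 H = ⊥ := hO
    rw [h5, le_bot_iff] at h4
    have h6 : (⟨(w : G), hwH⟩ : H) ∈ N := by
      rw [hN, Subgroup.mem_subgroupOf]; exact ⟨w, hw, rfl⟩
    rw [h4, Subgroup.mem_bot] at h6
    have h7 : (w : G) = 1 := congrArg Subtype.val h6
    exact Subtype.ext h7
  rw [Subgroup.mem_centralizer_iff]
  intro h hh
  have h1 := hZ ⟨h, hHL hh⟩
  have h2 := hOL _ h1 (by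
    change h * a * h⁻¹ * a⁻¹ ∈ H
    have : h * a * h⁻¹ * a⁻¹ = h * (a * h⁻¹ * a⁻¹) := by group
    rw [this]
    exact mul_mem hh ((Subgroup.mem_normalizer_iff.mp haN h⁻¹).mp (inv_mem hh)))
  have h3 : h * a * h⁻¹ * a⁻¹ = 1 := congrArg Subtype.val h2
  rw [mul_inv_eq_one, mul_inv_eq_iff_eq_mul] at h3
  exact h3

end Cfsg.Agent.S1251
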