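import Cfsg.Statements.S1292
import Cfsg.Agent.Lib.PConstrained

set_option autoImplicit false
open Cfsg Cfsg.Agent.Lib.Components Cfsg.Agent.Lib.Layer Cfsg.Agent.Lib.CompRel Cfsg.Agent.Lib.PComponents Cfsg.Agent.Lib.PConstrained

namespace Cfsg.Agent.S1292

/-- Let G be a finite group such that F*(C_G(t)) = O_2(C_G(t)) for every involution t. Then F*(N_G(T)) = O_2(N_G(T)) for every nontrivial 2-subgroup T of G. -/
theorem result {G : Type*} [Group G] [Finite G] (h : ∀ t : G, orderOf t = 2 → Cfsg.generalizedFittingSubgroup ↥(Subgroup.centralizer ({t} : Set G)) = Cfsg.pCore 2 ↥(Subgroup.centralizer ({t} : Set G))) (T : Subgroup G) (hT : IsPGroup 2 ↥T) (hT1 : T ≠ ⊥) : Cfsg.generalizedFittingSubgroup ↥(Subgroup.normalizer (T : Set G)) = Cfsg.pCore 2 ↥(Subgroup.normalizer (T : Set G)) := by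
  have hp2 : Fact (Nat.Prime 2) := ⟨Nat.prime_two⟩
  -- a central involution of `T`
  obtain ⟨t, htT, ht2, htc⟩ : ∃ t ∈ T, orderOf t = 2 ∧ ∀ s ∈ T, s * t = t * s := by
    have hnt : Nontrivial ↥T := (Subgroup.nontrivial_iff_ne_bot T).mpr hT1
    have h1 : Nontrivial ↥(Subgroup.center ↥T) := hT.center_nontrivial
    have h2 : IsPGroup 2 ↥(Subgroup.center ↥T) := hT.to_subgroup _
    obtain ⟨n, hn, hcard⟩ := h2.nontrivial_iff_card.mp h1
    have h3 : 2 ∣ Nat.card ↥(Subgroup.center ↥T) := by
      rw [hcard]; exact dvd_pow_self 2 hn.ne'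
    obtain ⟨z, hz⟩ := exists_prime_orderOf_dvd_card' 2 h3
    refine ⟨((z : ↥T) : G), (z : ↥T).2, ?_, ?_⟩
    · rw [Subgroup.orderOf_coe, Subgroup.orderOf_coe]; exact hz
    · intro s hs
      exact congrArg Subtype.val (Subgroup.mem_center_iff.mp z.2 ⟨s, hs⟩)
  set C := Subgroup.centralizer ({t} : Set G) with hCdef
  set H := Subgroup.normalizer (T : Set G) with hH
  have hcT : Subgroup.centralizer (T : Set G) ≤ C := by
    apply Subgroup.centralizer_le
    intro x hx
    rw [Set.mem_singleton_iff] at hx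
    rw [hx]; exact htT
  have hTC : T ≤ C := by
    intro s hs
    rw [hCdef, Subgroup.mem_centralizer_singleton_iff]
    exact htc s hs
  -- properties of `C`
  have hCF := h t ht2
  have hcent : Subgroup.centralizer (Cfsg.pCore 2 ↥C : Set ↥C) ≤ Cfsg.pCore 2 ↥C := by
    have := centralizer_genFitting_le (G := ↥C)
    rwa [hCF] at this
  have hOC : Cfsg.pPrimeCore 2 ↥C = ⊥ := by
    have h1 : Cfsg.pPrimeCore 2 ↥C ⊓ Cfsg.pCore 2 ↥C = ⊥ := by
      apply Cfsg.Agent.Lib.SubgroupTools.inf_eq_bot_of_coprime'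
      exact (coprime_card_of_isPGroup (p := 2) (Cfsg.Agent.Lib.H23Basic.isPGroup_pCore 2)
        not_dvd_card_pPrimeCore).symm
    have h2 : Cfsg.pPrimeCore 2 ↥C ≤ Subgroup.centralizer (Cfsg.pCore 2 ↥C : Set ↥C) := by
      rw [le_centralizer_iff_commutator, eq_bot_iff, ← h1]
      exact Subgroup.commutator_le_inf _ _
    rw [eq_bot_iff, ← h1]
    exact le_inf le_rfl (h2.trans hcent)
  have hLC : Cfsg.pLayer 2 ↥C = ⊥ := by
    rw [pLayer_eq_layer_of_core_eq_bot hOC]
    exact (centralizer_pCore_le_iff hOC).mp hcent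
  set P := T.subgroupOf C with hP
  have hPp : IsPGroup 2 ↥P := hT.of_equiv (Subgroup.subgroupOfEquivOfLe hTC).symm
  have hPH : T ≤ H := Subgroup.le_normalizer
  have hcH : Subgroup.centralizer (T : Set G) ≤ H := centralizer_le_normalizer' T
  have hcP : ∀ x : ↥C, x ∈ Subgroup.centralizer (P : Set ↥C) →
      (x : G) ∈ Subgroup.centralizer (T : Set G) := by
    intro x hx
    rw [Subgroup.mem_centralizer_iff] at hx ⊢
    intro s hs
    exact congrArg Subtype.val (hx ⟨s, hTC hs⟩ hs)
  have hnorm : ∀ K : Subgroup G, H ≤ Subgroup.normalizer (K : Set G) →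
      Subgroup.centralizer (P : Set ↥C) ≤ Subgroup.normalizer (K.subgroupOf C : Set ↥C) := by
    intro K hK x hx
    apply Subgroup.le_normalizer_comap C.subtype
    exact hK (hcH (hcP x hx))
  have hchar : ∀ K : Subgroup ↥H, K.Normal → H ≤ Subgroup.normalizer (K.map H.subtype : Set G) := by
    intro K hK
    have h1 := Subgroup.le_normalizer_map (H := K) H.subtype
    rw [Subgroup.normalizer_eq_top, ← MonoidHom.range_eq_map, Subgroup.range_subtype] at h1
    exact h1
  -- `O_{2'}(H) = 1`
  have hOH : Cfsg.pPrimeCore 2 ↥H = ⊥ := by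
    set K := (Cfsg.pPrimeCore 2 ↥H).map H.subtype with hK
    have hKc : (Nat.card ↥K).Coprime 2 := by
      rw [hK, Subgroup.card_subtype]; exact Cfsg.Agent.Lib.H23Basic.coprime_card_pPrimeCore 2
    have hHK : H ≤ Subgroup.normalizer (K : Set G) := hchar _ inferInstance
    have hKH : K ≤ H := Subgroup.map_subtype_le _
    have hKT : K ≤ Subgroup.centralizer (T : Set G) := by
      rw [le_centralizer_iff_commutator, eq_bot_iff]
      have h1 : K ⊓ T = ⊥ := by
        apply Cfsg.Agent.Lib.SubgroupTools.inf_eq_bot_of_coprime'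
        obtain ⟨k, hk⟩ := IsPGroup.iff_card.mp hT
        rw [hk]
        exact hKc.pow_right k
      rw [← h1]
      apply le_inf
      · exact Subgroup.le_normalizer_iff_commutator_le_left.mp (Subgroup.le_normalizer.trans hHK)
      · exact Subgroup.le_normalizer_iff_commutator_le_right.mp hKH
    have hKC : K ≤ C := hKT.trans hcT
    have h1 : K.subgroupOf C ≤ Cfsg.pPrimeCore 2 ↥C := by
      refine le_pPrimeCore_of_pLayer_eq_bot hLC hPp (le_centralizer_subgroupOf hKT)
        (hnorm K hHK) ?_
      rwa [Nat.card_congr (Subgroup.subgroupOfEquivOfLe hKC).toEquiv]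
    rw [hOC, le_bot_iff] at h1
    have h2 : K = ⊥ := by
      have := Subgroup.map_subgroupOf_eq_of_le hKC
      rw [h1, Subgroup.map_bot] at this
      exact this.symm
    rwa [hK, Subgroup.map_eq_bot_iff_of_injective _ H.subtype_injective] at h2
  -- `E(H) = 1`
  have hEH : Cfsg.layer ↥H = ⊥ := by
    set E := (Cfsg.layer ↥H).map H.subtype with hE
    have hHE : H ≤ Subgroup.normalizer (E : Set G) := hchar _ inferInstance
    have hEH : E ≤ H := Subgroup.map_subtype_le _
    have hET : E ≤ Subgroup.centralizer (T : Set G) := by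
      have h1 : T.subgroupOf H ≤ Cfsg.pCore 2 ↥H :=
        Cfsg.Agent.Lib.H23Basic.le_pCore Subgroup.normal_in_normalizer
          (hT.of_equiv (Subgroup.subgroupOfEquivOfLe hPH).symm)
      have h2 : Cfsg.layer ↥H ≤ Subgroup.centralizer (T.subgroupOf H : Set ↥H) :=
        layer_le_centralizer_fitting.trans
          (Subgroup.centralizer_le (h1.trans (pCore_le_fittingSubgroup 2)))
      rw [le_centralizer_iff_commutator] at h2 ⊢
      have h3 := congrArg (Subgroup.map H.subtype) h2
      rwa [Subgroup.map_commutator, Subgroup.map_subgroupOf_eq_of_le hPH, Subgroup.map_bot] at h3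
    have hEC : E ≤ C := hET.trans hcT
    have hEperf : ⁅E, E⁆ = E := by
      rw [hE, ← Subgroup.map_commutator, layer_perfect]
    set E' := E.subgroupOf C with hE'
    have hE'map : E'.map C.subtype = E := Subgroup.map_subgroupOf_eq_of_le hEC
    have hE'perf : ⁅E', E'⁆ = E' := by
      rw [← Subgroup.map_subtype_inj, Subgroup.map_commutator, hE'map]
      exact hEperf
    have hz : ⁅E' ⊓ Cfsg.pCore 2 ↥C, E'⁆ = ⊥ := by
      set W := (E' ⊓ Cfsg.pCore 2 ↥C).map C.subtype with hW
      have hWE : W ≤ E := by rw [← hE'map]; exact Subgroup.map_mono inf_le_left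
      have hWp : IsPGroup 2 ↥W :=
        ((Cfsg.Agent.Lib.H23Basic.isPGroup_pCore 2).to_le inf_le_right).map _
      have hEW : E ≤ Subgroup.normalizer (W : Set G) := by
        have h1 : E' ≤ Subgroup.normalizer ((E' ⊓ Cfsg.pCore 2 ↥C : Subgroup ↥C) : Set ↥C) :=
          (le_inf Subgroup.le_normalizer Subgroup.le_normalizer_of_normal).trans
            Subgroup.inf_normalizer_le_normalizer_inf
        rw [← hE'map]
        exact (Subgroup.map_mono h1).trans (Subgroup.le_normalizer_map _)
      have hWH : W ≤ H := hWE.trans hEH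
      have hWL : W.subgroupOf H ≤ Cfsg.layer ↥H := by
        rw [← Subgroup.map_subtype_le_map_subtype, Subgroup.map_subgroupOf_eq_of_le hWH]
        exact hWE
      have hWs : (W.subgroupOf H).IsSubnormal := by
        refine Subgroup.IsSubnormal.step _ _ hWL (layer_normal ↥H).isSubnormal ?_
        apply Subgroup.normal_subgroupOf_of_le_normalizer
        have h1 : Cfsg.layer ↥H ≤ (Subgroup.normalizer (W : Set G)).comap H.subtype := by
          rw [← Subgroup.map_le_iff_le_comap]; exact hEW
        exact h1.trans (Subgroup.le_normalizer_comap H.subtype)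
      have hWsolv : Group.IsSolvable ↥(W.subgroupOf H) :=
        isSolvable_of_isPGroup (p := 2) (hWp.of_equiv (Subgroup.subgroupOfEquivOfLe hWH).symm)
      have h1 := layer_le_centralizer_solvable hWsolv hWs
      rw [le_centralizer_iff_commutator] at h1
      have h2 := congrArg (Subgroup.map H.subtype) h1
      rw [Subgroup.map_commutator, Subgroup.map_subgroupOf_eq_of_le hWH, Subgroup.map_bot] at h2
      rw [← Subgroup.map_subtype_inj, Subgroup.map_commutator, hE'map, Subgroup.map_bot,
        Subgroup.commutator_comm]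
      exact h2
    have h1 := eq_bot_of_perfect (p := 2) hcent hPp (le_centralizer_subgroupOf hET)
      (hnorm E hHE) hz hE'perf
    have h1' : E' = ⊥ := h1
    have h2 : E = ⊥ := by rw [← hE'map, h1', Subgroup.map_bot]
    rwa [hE, Subgroup.map_eq_bot_iff_of_injective _ H.subtype_injective] at h2
  unfold Cfsg.generalizedFittingSubgroup
  rw [hEH, bot_sup_eq]
  exact Cfsg.Agent.Lib.Fitting.fittingSubgroup_eq_pCore 2 hOH

end Cfsg.Agent.S1292
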