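import Cfsg.Statements.S1340
import Cfsg.Agent.Lib.SLQuasi
import Cfsg.Agent.Lib.H23Basic

set_option autoImplicit false
open Cfsg

namespace Cfsg.Agent.S1340

open Subgroup Lib.SLQuasi Lib.Components Matrix

/-- A quasisimple subgroup of even order normalised by `C(t)` gives a component of
`C(t)/O(C(t))`. -/
theorem hasComponent_of {X : Type*} [Group X] [Finite X] (t : X) (K : Subgroup X)
    (hKt : K ≤ centralizer {t}) (hn : ∀ g ∈ centralizer {t}, ∀ k ∈ K, g * k * g⁻¹ ∈ K)
    (hq : IsQuasisimple K) (he : Even (Nat.card K)) :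
    HasComponent (↥(centralizer ({t} : Set X)) ⧸ oddCore ↥(centralizer ({t} : Set X))) := by
  set C := centralizer ({t} : Set X) with hC
  have hq' : IsQuasisimple ↥(K.subgroupOf C) := (quasisimple_subgroupOf hKt).2 hq
  have hnor : (K.subgroupOf C).Normal := by
    refine ⟨fun k hk g => ?_⟩
    rw [mem_subgroupOf] at hk ⊢
    exact hn g g.2 k hk
  have hN : (oddCore C).Normal := inferInstance
  set f := QuotientGroup.mk' (oddCore ↥C) with hf
  refine ⟨(K.subgroupOf C).map f, ?_, ?_⟩
  · have : ((K.subgroupOf C).map f).Normal := hnor.map f (QuotientGroup.mk'_surjective _)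
    exact Subgroup.Normal.isSubnormal this
  · have hnt : Nontrivial ↥((K.subgroupOf C).map f) := by
      rw [Subgroup.nontrivial_iff_ne_bot]
      intro hb
      rw [Subgroup.map_eq_bot_iff, hf, QuotientGroup.ker_mk'] at hb
      have h1 : Odd (Nat.card ↥(oddCore C)) := Lib.H23Basic.odd_card_oddCore
      have h2 : Nat.card ↥(K.subgroupOf C) ∣ Nat.card ↥(oddCore C) := Subgroup.card_dvd_of_le hb
      have h3 : Nat.card ↥(K.subgroupOf C) = Nat.card K :=
        Nat.card_congr (Subgroup.subgroupOfEquivOfLe hKt).toEquiv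
      rw [h3] at h2
      have h4 := Odd.of_dvd_nat h1 h2
      exact (Nat.not_even_iff_odd.2 h4) he
    exact quasisimple_of_surjective hq' (f.subgroupMap (K.subgroupOf C))
      (f.subgroupMap_surjective _)

theorem result {F : Type*} [Field F] [Fintype F] [DecidableEq F] (hF : Odd (Fintype.card F)) (n : ℕ) (hn : 3 ≤ n) (h33 : ¬ (n = 3 ∧ Fintype.card F = 3)) : ∃ t : Matrix.GeneralLinearGroup (Fin n) F, orderOf t = 2 ∧ t ∉ Subgroup.center (Matrix.GeneralLinearGroup (Fin n) F) ∧ Cfsg.HasComponent (↥(Subgroup.centralizer ({t} : Set (Matrix.GeneralLinearGroup (Fin n) F))) ⧸ Cfsg.oddCore ↥(Subgroup.centralizer ({t} : Set (Matrix.GeneralLinearGroup (Fin n) F)))) := by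
  obtain ⟨m, rfl⟩ : ∃ m, n = m + 1 := ⟨n - 1, by omega⟩
  have hm : 2 ≤ m := by omega
  have h2 : (2 : F) ≠ 0 := two_ne_zero_of_odd hF
  have hq : IsQuasisimple (SpecialLinearGroup (Fin m) F) := by
    apply quasisimple_SL hm
    intro hm2
    apply exists_sq_ne_one
    subst hm2
    have h1 : 1 < Fintype.card F := Fintype.one_lt_card
    have h3 : Fintype.card F ≠ 3 := fun h => h33 ⟨rfl, h⟩
    rw [Nat.odd_iff] at hF
    omega
  -- the involution
  have hT : blk (-1 : Matrix (Fin m) (Fin m) F) 1 * blk (-1) 1 = 1 := by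
    rw [blk_mul]; simpa using blk_one (m := m) (F := F)
  let t : GeneralLinearGroup (Fin (m + 1)) F := ⟨blk (-1) 1, blk (-1) 1, hT, hT⟩
  have htv : (t : Matrix (Fin (m + 1)) (Fin (m + 1)) F) = blk (-1) 1 := rfl
  -- the embedding
  let ψ : SpecialLinearGroup (Fin m) F →* GeneralLinearGroup (Fin (m + 1)) F :=
    SpecialLinearGroup.toGL.comp embS
  have hψv : ∀ A : SpecialLinearGroup (Fin m) F,
    (ψ A : Matrix (Fin (m + 1)) (Fin (m + 1)) F) = blk (A : Matrix (Fin m) (Fin m) F) 1 := fun A => rfl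
  have hψ : Function.Injective ψ := SpecialLinearGroup.toGL_injective.comp embS_injective
  have hcent : ∀ g : GeneralLinearGroup (Fin (m + 1)) F, g ∈ centralizer {t} ↔
      ∃ A μ, (g : Matrix (Fin (m + 1)) (Fin (m + 1)) F) = blk A μ := by
    intro g
    rw [mem_centralizer_singleton_iff]
    constructor
    · intro h
      have h1 := congrArg (fun x : GeneralLinearGroup (Fin (m + 1)) F => x.val) h
      exact exists_blk_of_commute h2 h1
    · rintro ⟨A, μ, h⟩
      apply Units.ext
      simp only [Units.val_mul, h, htv]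
      exact blk_commute_neg A μ
  have hmemK : ∀ g : GeneralLinearGroup (Fin (m + 1)) F, g ∈ ψ.range ↔
      (∃ A, (g : Matrix (Fin (m + 1)) (Fin (m + 1)) F) = blk A 1) ∧
      (g : Matrix (Fin (m + 1)) (Fin (m + 1)) F).det = 1 := by
    intro g
    constructor
    · rintro ⟨A, rfl⟩
      exact ⟨⟨A.1, hψv A⟩, by rw [hψv, det_blk]; simp⟩
    · rintro ⟨⟨A, hA⟩, hd⟩
      have hdA : A.det = 1 := by rw [hA, det_blk] at hd; simpa using hd
      refine ⟨(⟨A, hdA⟩ : SpecialLinearGroup (Fin m) F), ?_⟩
      apply Units.ext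
      exact hA.symm
  have ho : orderOf t = 2 := by
    apply orderOf_eq_prime
    · rw [pow_two]
      apply Units.ext
      exact hT
    · intro h
      have h1 := congrArg (fun x : GeneralLinearGroup (Fin (m + 1)) F => x.val) h
      simp only [htv, Units.val_one, ← blk_one] at h1
      have h3 := congrFun (congrFun (blk_ext h1).1 ⟨0, by omega⟩) ⟨0, by omega⟩
      simp at h3
      exact h2 (by linear_combination -h3)
  refine ⟨t, ho, ?_, ?_⟩
  · -- t is not central
    intro hc
    rw [mem_center_iff] at hc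
    have hi : (⟨0, by omega⟩ : Fin m).castSucc ≠ Fin.last m := Fin.castSucc_ne_last _
    let g : GeneralLinearGroup (Fin (m + 1)) F :=
      SpecialLinearGroup.toGL ⟨transvection (⟨0, by omega⟩ : Fin m).castSucc (Fin.last m) 1,
        det_transvection_of_ne _ _ hi _⟩
    have h1 : g ∈ centralizer {t} := mem_centralizer_singleton_iff.2 (hc g)
    obtain ⟨A, μ, h3⟩ := (hcent g).1 h1
    have h4 : (g : Matrix (Fin (m + 1)) (Fin (m + 1)) F) =
      transvection (⟨0, by omega⟩ : Fin m).castSucc (Fin.last m) 1 := rfl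
    rw [h4] at h3
    have h5 := congrFun (congrFun h3 (⟨0, by omega⟩ : Fin m).castSucc) (Fin.last m)
    rw [blk_cl, transvection, Matrix.add_apply, Matrix.one_apply_ne hi] at h5
    simp at h5
  · apply hasComponent_of t ψ.range
    · intro x hx
      obtain ⟨⟨A, hA⟩, -⟩ := (hmemK x).1 hx
      exact (hcent x).2 ⟨A, 1, hA⟩
    · intro g hg k hk
      obtain ⟨B, μ, hB⟩ := (hcent g).1 hg
      obtain ⟨B', μ', hB'⟩ := (hcent g⁻¹).1 (inv_mem hg)
      obtain ⟨⟨A, hA⟩, hd⟩ := (hmemK k).1 hk
      have h1 : blk B μ * blk B' μ' = 1 := by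
        rw [← hB, ← hB', ← Units.val_mul, mul_inv_cancel, Units.val_one]
      have h1' := h1
      rw [blk_mul, ← blk_one] at h1'
      have h3 := (blk_ext h1').2
      refine (hmemK _).2 ⟨⟨B * A * B', ?_⟩, ?_⟩
      · rw [Units.val_mul, Units.val_mul, hB, hB', hA, blk_mul, blk_mul, mul_one, h3]
      · rw [Units.val_mul, Units.val_mul, det_mul, det_mul, hd, mul_one, ← det_mul, hB, hB', h1,
          det_one]
    · exact quasisimple_congr (MonoidHom.ofInjective hψ) hq
    · -- even order
      rw [← Nat.card_congr (MonoidHom.ofInjective hψ).toEquiv]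
      exact even_card_SL hm h2

end Cfsg.Agent.S1340
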