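import Cfsg.Statements.S4408
import Cfsg.Agent.Lib.SubgroupTools
import Cfsg.Agent.Lib.Fitting

set_option autoImplicit false
open Cfsg

namespace Cfsg.Agent.S4408

open Subgroup Cfsg.Agent.Lib Cfsg.Agent.Lib.SubgroupTools

variable {S : Type*} [Group S]

/-- eigen-elements modulo `W` for an elementary abelian 2-group. -/
theorem eigen [Finite S] (I N W : Subgroup S) (hIc : ∀ s ∈ I, ∀ u ∈ I, s * u = u * s) (hI2 : ∀ s ∈ I, s * s = 1)
    (hWN : W ≤ N) (hNW : ∀ x ∈ N, ∀ w ∈ W, x * w * x⁻¹ ∈ W) (hcomm : ∀ x ∈ N, ∀ y ∈ N, x * y * x⁻¹ * y⁻¹ ∈ W)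
    (hIN : ∀ s ∈ I, ∀ x ∈ N, s * x * s⁻¹ ∈ N) (hIW : ∀ s ∈ I, ∀ x ∈ W, s * x * s⁻¹ ∈ W)
    (x₀ : S) (hx₀ : x₀ ∈ N) (hx₀' : x₀ ∉ W) :
    ∃ x ∈ N, x ∉ W ∧ ∀ s ∈ I, s * x * s⁻¹ * x⁻¹ ∈ W ∨ s * x * s⁻¹ * x ∈ W := by
  classical
  have := Fintype.ofFinite S
  have key : ∀ T : Finset S, (∀ s ∈ T, s ∈ I) → ∃ x ∈ N, x ∉ W ∧ ∀ s ∈ T, s * x * s⁻¹ * x⁻¹ ∈ W ∨ s * x * s⁻¹ * x ∈ W := by
    intro T
    induction T using Finset.induction_on with
    | empty => intro _; exact ⟨x₀, hx₀, hx₀', by simp⟩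
    | insert s T hs ih =>
      intro hT
      obtain ⟨x, hxN, hxW, hx⟩ := ih (fun u hu => hT u (Finset.mem_insert_of_mem hu))
      have hsI : s ∈ I := hT s (Finset.mem_insert_self s T)
      have hX : s * x * s⁻¹ ∈ N := hIN s hsI x hxN
      by_cases hy : x * (s * x * s⁻¹) ∈ W
      · refine ⟨x, hxN, hxW, ?_⟩
        intro u hu
        rcases Finset.mem_insert.1 hu with rfl | hu
        · right
          have := hNW x⁻¹ (inv_mem hxN) _ hy
          have e : x⁻¹ * (x * (u * x * u⁻¹)) * x⁻¹⁻¹ = u * x * u⁻¹ * x := by group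
          rwa [e] at this
        · exact hx u hu
      · refine ⟨x * (s * x * s⁻¹), mul_mem hxN hX, hy, ?_⟩
        intro u hu
        have hss : s⁻¹ * s⁻¹ = 1 := by
          have := hI2 s hsI
          calc s⁻¹ * s⁻¹ = (s * s)⁻¹ := by group
            _ = 1 := by rw [this]; simp
        rcases Finset.mem_insert.1 hu with rfl | hu
        · left
          have hss' := hI2 u hsI
          have e : u * (x * (u * x * u⁻¹)) * u⁻¹ * (x * (u * x * u⁻¹))⁻¹ =
              (u * x * u⁻¹) * x * (u * x * u⁻¹)⁻¹ * x⁻¹ := by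
            calc u * (x * (u * x * u⁻¹)) * u⁻¹ * (x * (u * x * u⁻¹))⁻¹
                = (u * x * u⁻¹) * ((u * u) * x * (u⁻¹ * u⁻¹)) * (u * x * u⁻¹)⁻¹ * x⁻¹ := by group
              _ = (u * x * u⁻¹) * x * (u * x * u⁻¹)⁻¹ * x⁻¹ := by rw [hss', hss]; group
          rw [e]
          exact hcomm _ hX _ hxN
        · have huI : u ∈ I := hT u (Finset.mem_insert_of_mem hu)
          have hsu := hIc s hsI u huI
          have hconj : u * (x * (s * x * s⁻¹)) * u⁻¹ = (u * x * u⁻¹) * (s * (u * x * u⁻¹) * s⁻¹) := by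
            calc u * (x * (s * x * s⁻¹)) * u⁻¹ = (u * x * u⁻¹) * ((u * s) * x * (u * s)⁻¹) := by group
              _ = (u * x * u⁻¹) * ((s * u) * x * (s * u)⁻¹) := by rw [hsu]
              _ = (u * x * u⁻¹) * (s * (u * x * u⁻¹) * s⁻¹) := by group
          rcases hx u hu with h | h
          · left
            obtain ⟨w, hw⟩ : ∃ w, w = u * x * u⁻¹ * x⁻¹ := ⟨_, rfl⟩
            rw [← hw] at h
            have hux : u * x * u⁻¹ = w * x := by rw [hw]; group
            have e : u * (x * (s * x * s⁻¹)) * u⁻¹ * (x * (s * x * s⁻¹))⁻¹ = w * (x * (s * w * s⁻¹) * x⁻¹) := by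
              rw [hconj, hux]; group
            rw [e]
            exact mul_mem h (hNW x hxN _ (hIW s hsI w h))
          · right
            obtain ⟨w, hw⟩ : ∃ w, w = u * x * u⁻¹ * x := ⟨_, rfl⟩
            rw [← hw] at h
            have hux : u * x * u⁻¹ = w * x⁻¹ := by rw [hw]; group
            have e : u * (x * (s * x * s⁻¹)) * u⁻¹ * (x * (s * x * s⁻¹)) =
                w * (x⁻¹ * (s * w * s⁻¹) * x⁻¹⁻¹) * (x⁻¹ * (s * x * s⁻¹)⁻¹ * x⁻¹⁻¹ * (s * x * s⁻¹)⁻¹⁻¹) := by
              rw [hconj, hux]; group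
            rw [e]
            exact mul_mem (mul_mem h (hNW _ (inv_mem hxN) _ (hIW s hsI w h))) (hcomm _ (inv_mem hxN) _ (inv_mem hX))
  obtain ⟨x, h1, h2, h3⟩ := key (Finset.univ.filter (· ∈ I)) (by simp)
  exact ⟨x, h1, h2, fun s hs => h3 s (by simpa using hs)⟩

theorem odd_mul_self {H : Subgroup S} [Finite S] (hodd : Odd (Nat.card H)) {x : S} (hx : x ∈ H) (h : x * x = 1) : x = 1 := by
  have h1 : orderOf (⟨x, hx⟩ : H) ∣ 2 := by
    apply orderOf_dvd_of_pow_eq_one
    apply Subtype.ext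
    simpa [sq] using h
  have h2 : orderOf (⟨x, hx⟩ : H) ∣ Nat.card H := orderOf_dvd_natCard _
  have h3 : orderOf (⟨x, hx⟩ : H) = 1 := by
    rcases (Nat.dvd_prime Nat.prime_two).1 h1 with h4 | h4
    · exact h4
    · rw [h4] at h2
      rw [← Nat.not_even_iff_odd] at hodd
      exact absurd (even_iff_two_dvd.2 h2) hodd
  rw [orderOf_eq_one_iff] at h3
  exact congrArg Subtype.val h3

/-- The self-centralizing `I`-invariant abelian subgroup. -/
theorem exists_abelian [Finite S] (F I : Subgroup S) [F.Normal] (hFn : Group.IsNilpotent F)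
    (hodd : Odd (Nat.card F)) (hCF : centralizer (F : Set S) ≤ F)
    (hIc : ∀ s ∈ I, ∀ u ∈ I, s * u = u * s) (hI2 : ∀ s ∈ I, s * s = 1) :
    ∃ W : Subgroup S, W ≤ F ∧ (∀ a ∈ W, ∀ b ∈ W, a * b = b * a) ∧ (∀ s ∈ I, ∀ x ∈ W, s * x * s⁻¹ ∈ W) ∧
      ∀ t ∈ I, (∀ w ∈ W, t * w = w * t) → t = 1 := by
  have hFc : ∀ s : S, ∀ x ∈ F, s * x * s⁻¹ ∈ F := fun s x hx => Normal.conj_mem inferInstance x hx s
  obtain ⟨W, hW⟩ := (Set.toFinite {W : Subgroup S | W ≤ F ∧ (∀ a ∈ W, ∀ b ∈ W, a * b = b * a) ∧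
    (∀ s ∈ I, ∀ x ∈ W, s * x * s⁻¹ ∈ W)}).exists_maximal ⟨⊥, bot_le, by simp, by simp⟩
  obtain ⟨hWF, hWab, hWI⟩ := hW.prop
  have hself : F ⊓ centralizer (W : Set S) ≤ W := by
    by_contra hnot
    set D : Subgroup S := F ⊓ centralizer (W : Set S) with hD
    have hDF : D ≤ F := inf_le_left
    have hDc : ∀ d ∈ D, ∀ w ∈ W, w * d = d * w := fun d hd w hw => mem_centralizer_iff.1 (Subgroup.mem_inf.1 hd).2 w hw
    have hWD : W ≤ D := le_inf hWF (fun a ha => mem_centralizer_iff.2 (fun b hb => hWab b hb a ha))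
    have hDI : ∀ s ∈ I, ∀ x ∈ D, s * x * s⁻¹ ∈ D := by
      intro s hs x hx
      refine Subgroup.mem_inf.2 ⟨hFc s x (hDF hx), mem_centralizer_iff.2 ?_⟩
      intro w hw
      have h1 := hWI s⁻¹ (inv_mem hs) w hw
      rw [inv_inv] at h1
      have h2 := hDc x hx _ h1
      calc w * (s * x * s⁻¹) = s * ((s⁻¹ * w * s) * x) * s⁻¹ := by group
        _ = s * (x * (s⁻¹ * w * s)) * s⁻¹ := by rw [h2]
        _ = s * x * s⁻¹ * w := by group
    -- a central element modulo W
    obtain ⟨x₀, hx₀D, hx₀W, hx₀⟩ : ∃ x₀ ∈ D, x₀ ∉ W ∧ ∀ d ∈ D, x₀ * d * x₀⁻¹ * d⁻¹ ∈ W := by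
      have hnorm : (W.subgroupOf D).Normal := by
        constructor
        intro n hn g
        rw [mem_subgroupOf] at hn ⊢
        have := hDc g g.2 n hn
        have e : ((g * n * g⁻¹ : D) : S) = n := by
          simp only [Subgroup.coe_mul, InvMemClass.coe_inv]
          rw [← this]; group
        rw [e]; exact hn
      have hDn : Group.IsNilpotent D := Fitting.isNilpotent_of_le hDF hFn
      have hnt : Nontrivial (D ⧸ W.subgroupOf D) := by
        obtain ⟨d, hd, hdW⟩ := SetLike.not_le_iff_exists.1 hnot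
        refine ⟨⟨(QuotientGroup.mk ⟨d, hd⟩ : D ⧸ W.subgroupOf D), 1, ?_⟩⟩
        intro h
        rw [QuotientGroup.eq_one_iff, mem_subgroupOf] at h
        exact hdW h
      have hnt2 : Nontrivial (center (D ⧸ W.subgroupOf D)) :=
        (Subgroup.nontrivial_iff_ne_bot _).2 (Group.IsNilpotent.center_ne_bot _)
      obtain ⟨c, hc⟩ := exists_ne (1 : center (D ⧸ W.subgroupOf D))
      obtain ⟨x, hx⟩ := QuotientGroup.mk_surjective (c : D ⧸ W.subgroupOf D)
      refine ⟨x, x.2, ?_, ?_⟩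
      · intro h
        apply hc
        apply Subtype.ext
        rw [← hx]
        exact (QuotientGroup.eq_one_iff _).2 (mem_subgroupOf.2 h)
      · intro d hd
        have h1 := mem_center_iff.1 c.2 (QuotientGroup.mk ⟨d, hd⟩)
        rw [← hx] at h1
        have h2 : ((x * ⟨d, hd⟩ * x⁻¹ * ⟨d, hd⟩⁻¹ : D) : D ⧸ W.subgroupOf D) = 1 := by
          rw [QuotientGroup.mk_mul, QuotientGroup.mk_mul, QuotientGroup.mk_mul, ← h1, QuotientGroup.mk_inv,
            QuotientGroup.mk_inv]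
          group
        have h3 := (QuotientGroup.eq_one_iff _).1 h2
        rw [mem_subgroupOf] at h3
        simpa using h3
    have hcen : ∀ d ∈ D, ∀ w ∈ W, d * w * d⁻¹ = w := by
      intro d hd w hw
      rw [← hDc d hd w hw]; group
    let N : Subgroup S :=
      { carrier := {x | x ∈ D ∧ ∀ d ∈ D, x * d * x⁻¹ * d⁻¹ ∈ W}
        one_mem' := ⟨one_mem _, fun d _ => by simp⟩
        mul_mem' := by
          rintro x y ⟨hx, hx'⟩ ⟨hy, hy'⟩
          refine ⟨mul_mem hx hy, fun d hd => ?_⟩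
          have e : x * y * d * (x * y)⁻¹ * d⁻¹ = (x * (y * d * y⁻¹ * d⁻¹) * x⁻¹) * (x * d * x⁻¹ * d⁻¹) := by group
          rw [e, hcen x hx _ (hy' d hd)]
          exact mul_mem (hy' d hd) (hx' d hd)
        inv_mem' := by
          rintro x ⟨hx, hx'⟩
          refine ⟨inv_mem hx, fun d hd => ?_⟩
          have h1 := hx' d hd
          have h2 := hcen _ (inv_mem hx) _ (inv_mem h1)
          have e : x⁻¹ * d * x⁻¹⁻¹ * d⁻¹ = x⁻¹ * (x * d * x⁻¹ * d⁻¹)⁻¹ * x⁻¹⁻¹ := by group
          rw [e, h2]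
          exact inv_mem h1 }
    have hmemN : ∀ x, x ∈ N ↔ x ∈ D ∧ ∀ d ∈ D, x * d * x⁻¹ * d⁻¹ ∈ W := fun x => Iff.rfl
    have hND : N ≤ D := fun x hx => hx.1
    obtain ⟨x, hxN, hxW, hx⟩ := eigen I N W hIc hI2 (fun w hw => ⟨hWD hw, fun d hd => by
        have h1 := hcen d hd w⁻¹ (inv_mem hw)
        have e : w * d * w⁻¹ * d⁻¹ = w * (d * w⁻¹ * d⁻¹) := by group
        rw [e, h1, mul_inv_cancel]; exact one_mem _⟩)
      (fun x hx w hw => by rw [hcen x (hND hx) w hw]; exact hw)
      (fun x hx y hy => hx.2 y (hND hy))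
      (fun s hs x hx => ⟨hDI s hs x (hND hx), fun d hd => by
        have h1 := hDI s⁻¹ (inv_mem hs) d hd
        have h2 := hWI s hs _ (hx.2 _ h1)
        have e : s * x * s⁻¹ * d * (s * x * s⁻¹)⁻¹ * d⁻¹ = s * (x * (s⁻¹ * d * s⁻¹⁻¹) * x⁻¹ * (s⁻¹ * d * s⁻¹⁻¹)⁻¹) * s⁻¹ := by group
        rw [e]; exact h2⟩)
      hWI x₀ ⟨hx₀D, hx₀⟩ hx₀W
    -- enlarge W
    have hxD : x ∈ D := hND hxN
    have hcx : ∀ w ∈ W, ∀ y ∈ zpowers x, w * y = y * w := by
      rintro w hw _ ⟨i, rfl⟩
      have : Commute w x := hDc x hxD w hw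
      exact (this.zpow_right i).eq
    have hn : zpowers x ≤ normalizer (W : Set S) := by
      rw [zpowers_le, mem_normalizer_iff]
      intro w
      constructor
      · intro hw; rw [hcen x hxD w hw]; exact hw
      · intro hw
        have := hcen x⁻¹ (inv_mem hxD) _ hw
        have e : x⁻¹ * (x * w * x⁻¹) * x⁻¹⁻¹ = w := by group
        rw [e] at this
        rw [this]; exact hw
    have hprop : W ⊔ zpowers x ∈ {W : Subgroup S | W ≤ F ∧ (∀ a ∈ W, ∀ b ∈ W, a * b = b * a) ∧
        (∀ s ∈ I, ∀ x ∈ W, s * x * s⁻¹ ∈ W)} := by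
      refine ⟨?_, ?_, ?_⟩
      · rw [sup_le_iff, zpowers_le]; exact ⟨hWF, hDF hxD⟩
      · intro a ha b hb
        obtain ⟨w, hw, y, hy, rfl⟩ := (mem_sup_of_le_normalizer hn).1 ha
        obtain ⟨w', hw', y', hy', rfl⟩ := (mem_sup_of_le_normalizer hn).1 hb
        have hyy : y * y' = y' * y := by
          obtain ⟨i, rfl⟩ := hy
          obtain ⟨j, rfl⟩ := hy'
          simp only
          rw [← zpow_add, ← zpow_add, add_comm]
        calc w * y * (w' * y') = w * (y * w') * y' := by group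
          _ = w * (w' * y) * y' := by rw [hcx w' hw' y hy]
          _ = (w * w') * (y * y') := by group
          _ = (w' * w) * (y' * y) := by rw [hWab w hw w' hw', hyy]
          _ = w' * (w * y') * y := by group
          _ = w' * (y' * w) * y := by rw [hcx w hw y' hy']
          _ = w' * y' * (w * y) := by group
      · intro s hs z hz
        obtain ⟨w, hw, y, ⟨i, rfl⟩, rfl⟩ := (mem_sup_of_le_normalizer hn).1 hz
        have hsx : s * x * s⁻¹ ∈ W ⊔ zpowers x := by
          rcases hx s hs with h | h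
          · have e : s * x * s⁻¹ = (s * x * s⁻¹ * x⁻¹) * x := by group
            rw [e]; exact mul_mem (mem_sup_left h) (mem_sup_right (mem_zpowers x))
          · have e : s * x * s⁻¹ = (s * x * s⁻¹ * x) * x⁻¹ := by group
            rw [e]; exact mul_mem (mem_sup_left h) (mem_sup_right (inv_mem (mem_zpowers x)))
        have e : s * (w * x ^ i) * s⁻¹ = (s * w * s⁻¹) * (s * x * s⁻¹) ^ i := by
          rw [conj_zpow]; group
        simp only
        rw [e]
        exact mul_mem (mem_sup_left (hWI s hs w hw)) (zpow_mem hsx i)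
    have := hW.le_of_ge hprop le_sup_left
    exact hxW (this (mem_sup_right (mem_zpowers x)))
  refine ⟨W, hWF, hWab, hWI, ?_⟩
  intro t ht htW
  by_contra ht1
  have htt := hI2 t ht
  set C : Subgroup S := F ⊓ centralizer ({t} : Set S) with hC
  have hWC : W ≤ C := le_inf hWF (fun w hw => mem_centralizer_singleton_iff.2 (htW w hw).symm)
  have hFC : ¬ F ≤ C := by
    intro h
    apply ht1
    apply odd_mul_self hodd _ htt
    apply hCF
    rw [mem_centralizer_iff]
    intro x hx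
    exact mem_centralizer_singleton_iff.1 (Subgroup.mem_inf.1 (h hx)).2
  have hlt : C.subgroupOf F < ⊤ := by
    rw [lt_top_iff_ne_top]
    intro h
    rw [subgroupOf_eq_top] at h
    exact hFC h
  obtain ⟨k, hk, hk'⟩ := SetLike.exists_of_lt (Group.normalizerCondition_of_isNilpotent (G := F) _ hlt)
  have hkC : ∀ w ∈ C, (k : S)⁻¹ * w * k ∈ C := by
    intro w hw
    have := (mem_normalizer_iff''.1 hk ⟨w, (Subgroup.mem_inf.1 hw).1⟩).1 (mem_subgroupOf.2 hw)
    have h2 := mem_subgroupOf.1 this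
    simpa using h2
  have htC : ∀ c ∈ C, t * c * t⁻¹ = c := by
    intro c hc
    have := mem_centralizer_singleton_iff.1 (Subgroup.mem_inf.1 hc).2
    rw [← this]; group
  obtain ⟨d, hd⟩ : ∃ d, d = t * k * t⁻¹ * (k : S)⁻¹ := ⟨_, rfl⟩
  have hdW : d ∈ W := by
    apply hself
    refine Subgroup.mem_inf.2 ⟨?_, mem_centralizer_iff.2 ?_⟩
    · rw [hd]; exact mul_mem (hFc t k k.2) (inv_mem k.2)
    · intro w hw
      have h1 := htC _ (hkC w (hWC hw))
      have h2 := htC w (hWC hw)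
      have h3 : t⁻¹ * w * t = w := by
        calc t⁻¹ * w * t = t⁻¹ * (t * w * t⁻¹) * t := by rw [h2]
          _ = w := by group
      calc w * d = (t * k * t⁻¹) * ((t * ((k : S)⁻¹ * (t⁻¹ * w * t) * k) * t⁻¹)) * (k : S)⁻¹ := by rw [hd]; group
        _ = (t * k * t⁻¹) * ((t * ((k : S)⁻¹ * w * k) * t⁻¹)) * (k : S)⁻¹ := by rw [h3]
        _ = (t * k * t⁻¹) * ((k : S)⁻¹ * w * k) * (k : S)⁻¹ := by rw [h1]
        _ = d * w := by rw [hd]; group
  have htd := htC d (hWC hdW)
  have hdd : d * d = 1 := by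
    have h1 : t * k * t⁻¹ = d * k := by rw [hd]; group
    have h2 : t⁻¹ = t := by rw [inv_eq_iff_mul_eq_one]; exact htt
    have h3 : (k : S) = d * d * k := by
      calc (k : S) = (t * t) * k * (t * t)⁻¹ := by rw [htt]; group
        _ = t * (t * k * t⁻¹) * t⁻¹ := by group
        _ = t * (d * k) * t⁻¹ := by rw [h1]
        _ = (t * d * t⁻¹) * (t * k * t⁻¹) := by group
        _ = d * d * k := by rw [htd, h1]; group
    exact (mul_eq_right.1 h3.symm)
  have hd1 : d = 1 := odd_mul_self hodd (hWF hdW) hdd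
  apply hk'
  rw [mem_subgroupOf]
  refine Subgroup.mem_inf.2 ⟨k.2, mem_centralizer_singleton_iff.2 ?_⟩
  rw [hd, mul_inv_eq_one, mul_inv_eq_iff_eq_mul] at hd1
  exact hd1.symm

theorem steps [Finite S] (I W : Subgroup S) (hIc : ∀ s ∈ I, ∀ u ∈ I, s * u = u * s) (hI2 : ∀ s ∈ I, s * s = 1)
    (hWab : ∀ a ∈ W, ∀ b ∈ W, a * b = b * a) (hWI : ∀ s ∈ I, ∀ x ∈ W, s * x * s⁻¹ ∈ W)
    (hodd : Odd (Nat.card W)) (hfaith : ∀ t ∈ I, (∀ w ∈ W, t * w = w * t) → t = 1) (n : ℕ)
    (hn : Nat.card I = 2 ^ n) : ∀ k ≤ n, ∃ x : Fin k → S, (∀ i, x i ∈ W) ∧ (∀ i, (orderOf (x i)).Prime) ∧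
      (∀ i, ∀ s ∈ I, s * x i * s⁻¹ = x i ∨ s * x i * s⁻¹ = (x i)⁻¹) ∧
      Nat.card (⨆ i, zpowers (x i) : Subgroup S) = ∏ i, orderOf (x i) ∧
      Nat.card (I ⊓ centralizer ((⨆ i, zpowers (x i) : Subgroup S) : Set S) : Subgroup S) * 2 ^ k = 2 ^ n := by
  intro k
  induction k with
  | zero =>
    intro _
    refine ⟨Fin.elim0, fun i => i.elim0, fun i => i.elim0, fun i => i.elim0, ?_, ?_⟩
    · simp
    · have : (⨆ i : Fin 0, zpowers (Fin.elim0 i : S)) = ⊥ := by simp
      rw [this]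
      have h2 : I ⊓ centralizer (((⊥ : Subgroup S)) : Set S) = I := by
        rw [inf_eq_left]
        intro s _
        rw [mem_centralizer_iff]
        intro b hb
        rw [SetLike.mem_coe, mem_bot] at hb
        rw [hb]; simp
      rw [h2, hn]; simp
  | succ k ih =>
    intro hk
    obtain ⟨x, hxW, hxp, hxe, hxc, hxJ⟩ := ih (by omega)
    set B : Subgroup S := ⨆ i, zpowers (x i) with hB
    set J : Subgroup S := I ⊓ centralizer (B : Set S) with hJ
    have hJcard : Nat.card J = 2 ^ (n - k) := by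
      have : 2 ^ n = 2 ^ (n - k) * 2 ^ k := by rw [← pow_add]; congr 1; omega
      rw [this] at hxJ
      exact Nat.eq_of_mul_eq_mul_right (by positivity) hxJ
    obtain ⟨t, htJ, ht1⟩ : ∃ t ∈ J, t ≠ 1 := by
      have h1 : J ≠ ⊥ := by
        intro h
        rw [h, card_bot] at hJcard
        have : 1 < 2 ^ (n - k) := Nat.one_lt_two_pow (by omega)
        omega
      exact (Subgroup.ne_bot_iff_exists_ne_one.1 h1).elim (fun a ha => ⟨a, a.2, fun h => ha (Subtype.ext h)⟩)
    have htI := (Subgroup.mem_inf.1 htJ).1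
    have htt := hI2 t htI
    have htinv : t⁻¹ = t := by rw [inv_eq_iff_mul_eq_one]; exact htt
    have hii : t⁻¹ * t⁻¹ = 1 := by rw [htinv, htt]
    obtain ⟨w, hw, htw⟩ : ∃ w ∈ W, t * w ≠ w * t := by
      by_contra hcon
      push Not at hcon
      exact ht1 (hfaith t htI hcon)
    let N : Subgroup S :=
      { carrier := {x | x ∈ W ∧ t * x * t⁻¹ = x⁻¹}
        one_mem' := ⟨one_mem _, by simp⟩
        mul_mem' := by
          rintro x y ⟨hx, hx'⟩ ⟨hy, hy'⟩
          refine ⟨mul_mem hx hy, ?_⟩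
          calc t * (x * y) * t⁻¹ = (t * x * t⁻¹) * (t * y * t⁻¹) := by group
            _ = x⁻¹ * y⁻¹ := by rw [hx', hy']
            _ = y⁻¹ * x⁻¹ := hWab _ (inv_mem hx) _ (inv_mem hy)
            _ = (x * y)⁻¹ := by group
        inv_mem' := by
          rintro x ⟨hx, hx'⟩
          refine ⟨inv_mem hx, ?_⟩
          calc t * x⁻¹ * t⁻¹ = (t * x * t⁻¹)⁻¹ := by group
            _ = x⁻¹⁻¹ := by rw [hx'] }
    have hNW : N ≤ W := fun x hx => hx.1
    obtain ⟨y, hyN, hy1, hye⟩ := eigen I N ⊥ hIc hI2 bot_le (fun x _ w hw => by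
        rw [mem_bot] at hw ⊢
        rw [hw]; group)
      (fun x hx y hy => by
        rw [mem_bot, hWab x (hNW hx) y (hNW hy)]; group)
      (fun s hs x hx => ⟨hWI s hs x (hNW hx), by
        have h1 := hIc t htI s hs
        calc t * (s * x * s⁻¹) * t⁻¹ = (t * s) * x * (t * s)⁻¹ := by group
          _ = (s * t) * x * (s * t)⁻¹ := by rw [h1]
          _ = s * (t * x * t⁻¹) * s⁻¹ := by group
          _ = s * x⁻¹ * s⁻¹ := by rw [hx.2]
          _ = (s * x * s⁻¹)⁻¹ := by group⟩)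
      (fun s _ x hx => by
        rw [mem_bot] at hx ⊢
        rw [hx]; group) (t * w * t⁻¹ * w⁻¹) ⟨mul_mem (hWI t htI w hw) (inv_mem hw), by
          have h1 := hWab _ (hWI t htI w hw) _ (inv_mem hw)
          calc t * (t * w * t⁻¹ * w⁻¹) * t⁻¹ = (t * t) * w * (t⁻¹ * t⁻¹) * (t * w⁻¹ * t⁻¹) := by group
            _ = w * (t * w * t⁻¹)⁻¹ := by rw [hii, htt]; group
            _ = ((t * w * t⁻¹) * w⁻¹)⁻¹ := by group⟩
      (by
        rw [mem_bot, mul_inv_eq_one, mul_inv_eq_iff_eq_mul]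
        exact htw)
    rw [mem_bot] at hy1
    -- a power of prime order
    obtain ⟨m, hm⟩ : ∃ m : ℕ, (orderOf (y ^ m)).Prime := by
      have h1 : orderOf y ≠ 1 := by rwa [Ne, orderOf_eq_one_iff]
      refine ⟨orderOf y / (orderOf y).minFac, ?_⟩
      have h2 := Nat.minFac_dvd (orderOf y)
      rw [orderOf_pow_of_dvd]
      · rw [Nat.div_div_self h2 (orderOf_pos y).ne']
        exact Nat.minFac_prime h1
      · exact (Nat.div_pos (Nat.le_of_dvd (orderOf_pos y) h2) (Nat.minFac_pos _)).ne'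
      · exact Nat.div_dvd_of_dvd h2
    obtain ⟨z, hz⟩ : ∃ z, z = y ^ m := ⟨_, rfl⟩
    rw [← hz] at hm
    have hzN : z ∈ N := by rw [hz]; exact pow_mem hyN m
    have hze : ∀ s ∈ I, s * z * s⁻¹ = z ∨ s * z * s⁻¹ = z⁻¹ := by
      intro s hs
      rcases hye s hs with h | h
      · left
        rw [mem_bot, mul_inv_eq_one] at h
        rw [hz, ← conj_pow, h]
      · right
        rw [mem_bot, mul_eq_one_iff_eq_inv] at h
        rw [hz, ← conj_pow, h, inv_pow]
    have hzW : z ∈ W := hNW hzN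
    have hzt : t * z * t⁻¹ = z⁻¹ := hzN.2
    have hBW : B ≤ W := by
      rw [hB]; exact iSup_le (fun i => by rw [zpowers_le]; exact hxW i)
    have hz1 : z ≠ 1 := by
      intro h; rw [h, orderOf_one] at hm; exact Nat.not_prime_one hm
    have hzz1 : z * z ≠ 1 := fun h => hz1 (odd_mul_self hodd hzW h)
    have hsup : ⨆ i : Fin (k + 1), zpowers ((Fin.cons z x : Fin (k + 1) → S) i) = zpowers z ⊔ B := by
      apply le_antisymm
      · apply iSup_le
        intro i
        refine Fin.cases ?_ (fun j => ?_) i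
        · rw [Fin.cons_zero]; exact le_sup_left
        · rw [Fin.cons_succ]
          exact (le_iSup (fun i => zpowers (x i)) j).trans le_sup_right
      · apply sup_le
        · have := le_iSup (fun i : Fin (k + 1) => zpowers ((Fin.cons z x : Fin (k + 1) → S) i)) 0
          rwa [Fin.cons_zero] at this
        · apply iSup_le
          intro j
          have := le_iSup (fun i : Fin (k + 1) => zpowers ((Fin.cons z x : Fin (k + 1) → S) i)) j.succ
          rwa [Fin.cons_succ] at this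
    have hnorm : B ≤ normalizer (zpowers z : Set S) := by
      intro b hb
      rw [mem_normalizer_iff]
      have key : ∀ b ∈ W, ∀ u ∈ zpowers z, b * u * b⁻¹ = u := by
        intro b hb u hu
        rw [hWab b hb u ((zpowers_le.2 hzW) hu)]; group
      intro u
      constructor
      · intro hu; rw [key b (hBW hb) u hu]; exact hu
      · intro hu
        have := key b⁻¹ (inv_mem (hBW hb)) _ hu
        have e : b⁻¹ * (b * u * b⁻¹) * b⁻¹⁻¹ = u := by group
        rw [e] at this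
        rw [this]; exact hu
    have hdisj : Disjoint (zpowers z) B := by
      rw [disjoint_iff, eq_bot_iff]
      rintro u hu
      obtain ⟨⟨i, hi⟩, hu2⟩ := Subgroup.mem_inf.1 hu
      simp only at hi
      have h1 : u * t = t * u := mem_centralizer_iff.1 (Subgroup.mem_inf.1 htJ).2 u hu2
      have h2 : t * u * t⁻¹ = u⁻¹ := by
        rw [← hi, ← conj_zpow, hzt, inv_zpow]
      rw [mem_bot]
      apply odd_mul_self hodd (hBW hu2)
      have h3 : u⁻¹ = u := by
        rw [← h2, ← h1]; group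
      calc u * u = u⁻¹ * u := by rw [h3]
        _ = 1 := by group
    refine ⟨Fin.cons z x, ?_, ?_, ?_, ?_, ?_⟩
    · intro i
      refine Fin.cases ?_ (fun j => ?_) i
      · rw [Fin.cons_zero]; exact hzW
      · rw [Fin.cons_succ]; exact hxW j
    · intro i
      refine Fin.cases ?_ (fun j => ?_) i
      · rw [Fin.cons_zero]; exact hm
      · rw [Fin.cons_succ]; exact hxp j
    · intro i
      refine Fin.cases ?_ (fun j => ?_) i
      · rw [Fin.cons_zero]; exact hze
      · rw [Fin.cons_succ]; exact hxe j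
    · rw [hsup, card_sup_of_disjoint hnorm hdisj, Nat.card_zpowers, hxc, Fin.prod_univ_succ]
      simp
    · rw [hsup]
      set J' : Subgroup S := I ⊓ centralizer ((zpowers z ⊔ B : Subgroup S) : Set S) with hJ'
      have hmem : ∀ s, s ∈ J' ↔ s ∈ J ∧ s * z * s⁻¹ = z := by
        intro s
        rw [hJ', hJ, Subgroup.mem_inf, Subgroup.mem_inf, mem_centralizer_iff, mem_centralizer_iff, and_assoc]
        refine and_congr_right fun _ => ?_
        constructor
        · intro h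
          refine ⟨fun b hb => h b (mem_sup_right hb), ?_⟩
          rw [← h z (mem_sup_left (mem_zpowers z))]; group
        · rintro ⟨h1, h2⟩ b hb
          obtain ⟨u, ⟨i, rfl⟩, v, hv, rfl⟩ := (mem_sup_of_le_normalizer hnorm).1 hb
          have h3 : Commute s z := by
            rw [mul_inv_eq_iff_eq_mul] at h2; exact h2
          have h4 : s * z ^ i = z ^ i * s := (h3.zpow_right i).eq
          simp only
          calc z ^ i * v * s = z ^ i * (v * s) := by group
            _ = z ^ i * (s * v) := by rw [h1 v hv]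
            _ = (z ^ i * s) * v := by group
            _ = s * (z ^ i * v) := by rw [← h4]; group
      have hle : J' ≤ J := fun s hs => ((hmem s).1 hs).1
      have hidx : (J'.subgroupOf J).index = 2 := by
        rw [Subgroup.index_eq_two_iff]
        refine ⟨⟨t, htJ⟩, ?_⟩
        rintro ⟨b, hb⟩
        rw [mem_subgroupOf, mem_subgroupOf]
        change Xor (b * t ∈ J') (b ∈ J')
        have hbI : b ∈ I := (Subgroup.mem_inf.1 hb).1
        have hnz : z⁻¹ ≠ z := by
          intro h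
          apply hzz1
          nth_rewrite 1 [← h]
          group
        rcases hze b hbI with h | h
        · right
          refine ⟨(hmem b).2 ⟨hb, h⟩, fun h' => hnz ?_⟩
          have h2 := ((hmem _).1 h').2
          calc z⁻¹ = (b * z * b⁻¹)⁻¹ := by rw [h]
            _ = b * z⁻¹ * b⁻¹ := by group
            _ = b * (t * z * t⁻¹) * b⁻¹ := by rw [hzt]
            _ = b * t * z * (b * t)⁻¹ := by group
            _ = z := h2
        · left
          refine ⟨(hmem _).2 ⟨mul_mem hb htJ, ?_⟩, fun h' => hnz ?_⟩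
          · calc b * t * z * (b * t)⁻¹ = b * (t * z * t⁻¹) * b⁻¹ := by group
              _ = b * z⁻¹ * b⁻¹ := by rw [hzt]
              _ = (b * z * b⁻¹)⁻¹ := by group
              _ = z := by rw [h]; group
          · rw [← h]; exact ((hmem b).1 h').2
      have hcard : Nat.card J' * 2 = Nat.card J := by
        have h1 := card_mul_relIndex_of_le hle
        rw [← h1]
        congr 1
        exact hidx.symm
      rw [pow_succ', ← mul_assoc, hcard, hxJ]

/-- Let S be a finite solvable group whose Fitting subgroup F(S) has odd order, and let I be an elementary abelian 2-subgroup of S of order 2ⁿ with n ≥ 1. Then F(S) contains subgroups A₁, …, Aₙ of prime order, each normalized by I, pairwise commuting and generating a subgroup A of order |A₁|⋯|Aₙ| (their internal direct product), such that no non-identity element of I centralizes A. -/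
theorem result {S : Type*} [Group S] [Finite S]
    [Group.IsSolvable S] (hF : Odd (Nat.card ↥(Cfsg.fittingSubgroup S)))
    (I : Subgroup S) (hI : Cfsg.IsElementaryAbelian 2 I) (n : ℕ) (hn : 1 ≤ n) (hIn : Nat.card ↥I = 2 ^ n) :
    ∃ f : Fin n → Subgroup S, (∀ i, (Nat.card ↥(f i)).Prime) ∧ (∀ i, f i ≤ Cfsg.fittingSubgroup S) ∧
      (∀ i, I ≤ Subgroup.normalizer ((f i) : Set S)) ∧ (∀ i j, i ≠ j → ∀ a ∈ f i, ∀ b ∈ f j, a * b = b * a) ∧
      Nat.card ↥(⨆ i, f i) = ∏ i, Nat.card ↥(f i) ∧ I ⊓ Subgroup.centralizer ((⨆ i, f i : Subgroup S) : Set S) = ⊥ := by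
  have hFn : (fittingSubgroup S).Normal := Fitting.normal_fittingSubgroup
  have hIc : ∀ s ∈ I, ∀ u ∈ I, s * u = u * s := fun s hs u hu =>
    congrArg Subtype.val (hI.1.is_comm.comm (⟨s, hs⟩ : I) ⟨u, hu⟩)
  have hI2 : ∀ s ∈ I, s * s = 1 := fun s hs => by rw [← sq]; exact hI.2 s hs
  obtain ⟨W, hWF, hWab, hWI, hfaith⟩ := exists_abelian (fittingSubgroup S) I Fitting.isNilpotent_fittingSubgroup hF
    Fitting.centralizer_fittingSubgroup_le hIc hI2
  have hWodd : Odd (Nat.card W) := by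
    obtain ⟨k, hk⟩ := Subgroup.card_dvd_of_le hWF
    rw [hk] at hF
    exact (Nat.odd_mul.1 hF).1
  obtain ⟨x, hxW, hxp, hxe, hxc, hxJ⟩ := steps I W hIc hI2 hWab hWI hWodd hfaith n hIn n le_rfl
  refine ⟨fun i => zpowers (x i), ?_, ?_, ?_, ?_, ?_, ?_⟩
  · intro i; rw [Nat.card_zpowers]; exact hxp i
  · intro i; rw [zpowers_le]; exact hWF (hxW i)
  · intro i s hs
    rw [mem_normalizer_iff]
    have key : ∀ s ∈ I, ∀ u ∈ zpowers (x i), s * u * s⁻¹ ∈ zpowers (x i) := by
      rintro s hs _ ⟨j, rfl⟩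
      simp only
      rw [← conj_zpow]
      rcases hxe i s hs with h | h
      · rw [h]; exact zpow_mem (mem_zpowers _) j
      · rw [h]; exact zpow_mem (inv_mem (mem_zpowers _)) j
    intro u
    refine ⟨key s hs u, fun h => ?_⟩
    have := key s⁻¹ (inv_mem hs) _ h
    have e : s⁻¹ * (s * u * s⁻¹) * s⁻¹⁻¹ = u := by group
    rwa [e] at this
  · intro i j _ a ha b hb
    exact hWab a ((zpowers_le.2 (hxW i)) ha) b ((zpowers_le.2 (hxW j)) hb)
  · rw [hxc]
    simp only [Nat.card_zpowers]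
  · apply Subgroup.card_eq_one.1
    have : 0 < 2 ^ n := by positivity
    exact Nat.eq_of_mul_eq_mul_right this (by rw [hxJ, one_mul])

end Cfsg.Agent.S4408
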