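import Cfsg.Statements.S1349
import Cfsg.Agent.S4408
import Cfsg.Agent.Lib.Cores
import Cfsg.Agent.Lib.DihQuat
import Cfsg.Agent.Lib.SubgroupTools

set_option autoImplicit false
open Cfsg

namespace Cfsg.Agent.S1349

open Subgroup Pointwise Cfsg.Agent.Lib.SubgroupTools

/-- an element squaring to an element commuting with a generator of a normalized group of prime
order inverts or centralizes it -/
theorem inv_or_fix {G : Type*} [Group G] [Finite G] {a g : G} {r : ℕ} (hr : r.Prime) (hg : orderOf g = r)
    (ha2 : a * a = 1) (hn : a * g * a⁻¹ ∈ zpowers g) : a * g * a⁻¹ = g ∨ a * g * a⁻¹ = g⁻¹ := by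
  obtain ⟨k, hk⟩ := mem_zpowers_iff.mp hn
  have h1 : a * (a * g * a⁻¹) * a⁻¹ = g := by
    have : a * (a * g * a⁻¹) * a⁻¹ = (a * a) * g * (a * a)⁻¹ := by group
    rw [this, ha2]; group
  have h2 : a * (a * g * a⁻¹) * a⁻¹ = g ^ (k * k) := by
    have h3 : a * g ^ k * a⁻¹ = (a * g * a⁻¹) ^ k := by rw [conj_zpow]
    have h4 : a * (a * g * a⁻¹) * a⁻¹ = a * g ^ k * a⁻¹ := by rw [hk]
    rw [h4, h3, ← hk, ← zpow_mul]
  rw [h1] at h2
  have h3 : g ^ (k * k - 1) = 1 := by rw [zpow_sub, ← h2]; group
  have h4 : (r : ℤ) ∣ (k - 1) * (k + 1) := by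
    have h5 := orderOf_dvd_iff_zpow_eq_one.mpr h3
    rw [hg] at h5
    have h6 : (k - 1) * (k + 1) = k * k - 1 := by ring
    rw [h6]; exact h5
  rcases (Nat.prime_iff_prime_int.mp hr).dvd_or_dvd h4 with h5 | h5
  · left
    rw [← hg] at h5
    have h6 := orderOf_dvd_iff_zpow_eq_one.mp h5
    rw [zpow_sub, zpow_one, mul_inv_eq_one] at h6
    rw [← hk, h6]
  · right
    rw [← hg] at h5
    have h6 := orderOf_dvd_iff_zpow_eq_one.mp h5
    rw [zpow_add, zpow_one] at h6
    rw [← hk, eq_inv_of_mul_eq_one_left h6]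

theorem pCore_eq_bot {G : Type*} [Group G] [Finite G] (L A : Subgroup G) (hLn : L.Normal) (hL : Odd (Nat.card L))
    (hA : IsPGroup 2 A) (htop : L ⊔ A = ⊤) (hf : A ⊓ centralizer (L : Set G) = ⊥) :
    Cfsg.pCore 2 G = ⊥ := by
  have hcop : (Nat.card L).Coprime (Nat.card A) := by
    obtain ⟨k, hk⟩ := IsPGroup.iff_card.mp hA
    rw [hk]
    exact Nat.Coprime.pow_right _ (Nat.coprime_two_right.mpr hL)
  have hAL : A ≤ normalizer (L : Set G) := by rw [normalizer_eq_top_iff.mpr hLn]; exact le_top
  have hcard : Nat.card G = Nat.card L * Nat.card A := by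
    rw [← card_sup_of_coprime hAL hcop, htop, card_top]
  have hidx : ¬ 2 ∣ A.index := by
    have h1 := A.card_mul_index
    rw [hcard, mul_comm] at h1
    rw [Nat.eq_of_mul_eq_mul_right Nat.card_pos h1]
    intro h2
    exact (Nat.not_even_iff_odd.mpr hL) (even_iff_two_dvd.mpr h2)
  have h1 : Cfsg.pCore 2 G ≤ A := Cfsg.Agent.Lib.Cores.pCore_le_sylow (hA.toSylow hidx)
  have hn : (Cfsg.pCore 2 G).Normal := inferInstance
  have h2 : Cfsg.pCore 2 G ≤ centralizer (L : Set G) := by
    have h3 : ⁅Cfsg.pCore 2 G, L⁆ ≤ ⊥ := by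
      have h4 : Cfsg.pCore 2 G ⊓ L = ⊥ := by
        apply inf_eq_bot_of_coprime'
        obtain ⟨k, hk⟩ := IsPGroup.iff_card.mp (Cfsg.Agent.Lib.Cores.isPGroup_pCore 2 G)
        rw [hk]
        exact Nat.Coprime.pow_left _ (Nat.coprime_two_left.mpr hL)
      rw [← h4]
      exact commutator_le_inf _ _
    exact commutator_eq_bot_iff_le_centralizer.mp (le_bot_iff.mp h3)
  exact le_bot_iff.mp (hf ▸ le_inf h1 h2)

theorem odd_fitting {G : Type*} [Group G] [Finite G] (h : Cfsg.pCore 2 G = ⊥) :
    Odd (Nat.card (Cfsg.fittingSubgroup G)) := by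
  rw [← Nat.not_even_iff_odd, even_iff_two_dvd]
  intro h2
  have h3 := Cfsg.Agent.Lib.Cores.map_pCore_fittingSubgroup (G := G) 2
  rw [h, Subgroup.map_eq_bot_iff_of_injective _ (Cfsg.fittingSubgroup G).subtype_injective] at h3
  have hnil := Cfsg.Agent.Lib.Cores.isNilpotent_fittingSubgroup G
  obtain ⟨T⟩ : Nonempty (Sylow 2 (Cfsg.fittingSubgroup G)) := inferInstance
  have hTn : (T : Subgroup (Cfsg.fittingSubgroup G)).Normal := inferInstance
  have h4 := Cfsg.Agent.Lib.Cores.le_pCore hTn T.2
  rw [h3] at h4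
  have h5 := T.dvd_card_of_dvd_card h2
  rw [le_bot_iff.mp h4, card_bot] at h5
  omega

/-- Let G be finite, L ≤ G solvable of odd order, and A an elementary abelian 2-subgroup of order 2^d (d ≥ 1) normalizing L with C_A(L) = 1. Then there are subgroups A_1, …, A_d of A of order 2 generating A and subgroups L_1, …, L_d of L such that each A_i ⊔ L_i is dihedral of order 2 n_i with n_i odd and at least 3, and A_i ⊔ L_i commutes elementwise with A_j ⊔ L_j for i ≠ j. -/
theorem result {G : Type*} [Group G] [Finite G] (L A : Subgroup G) (hLs : Group.IsSolvable ↥L) (hLodd : Odd (Nat.card ↥L)) (hA : Cfsg.IsElementaryAbelian 2 A) (d : ℕ) (hd : 1 ≤ d) (hAd : Nat.card ↥A = 2 ^ d) (hAL : A ≤ Subgroup.normalizer (L : Set G)) (hfaith : A ⊓ Subgroup.centralizer (L : Set G) = ⊥) : ∃ (Ai : Fin d → Subgroup G) (Li : Fin d → Subgroup G) (n : Fin d → ℕ), (∀ i, Ai i ≤ A ∧ Nat.card ↥(Ai i) = 2 ∧ Li i ≤ L ∧ Odd (n i) ∧ 3 ≤ n i ∧ Nonempty (↥(Ai i ⊔ Li i) ≃* DihedralGroup (n i))) ∧ (⨆ i, Ai i) = A ∧ ∀ i j, i ≠ j → ∀ x ∈ Ai i ⊔ Li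 i, ∀ y ∈ Ai j ⊔ Li j, x * y = y * x := by
  classical
  have hAp : IsPGroup 2 A := isPGroup_of_forall_pow_eq_one hA.2
  have hAcomm : ∀ a ∈ A, ∀ b ∈ A, a * b = b * a := isMulCommutative_iff_of_setLike.mp hA.1
  set S : Subgroup G := L ⊔ A with hS
  have hLS : L ≤ S := le_sup_left
  have hAS : A ≤ S := le_sup_right
  set L' := L.subgroupOf S with hL'
  set A' := A.subgroupOf S with hA'
  have hLn : L'.Normal := normal_subgroupOf_iff_le_normalizer' (sup_le le_normalizer hAL)
  have htop : L' ⊔ A' = ⊤ := by
    apply map_injective S.subtype_injective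
    rw [_root_.Subgroup.map_sup, hL', hA', subgroupOf_map_subtype, subgroupOf_map_subtype, inf_of_le_left hLS,
      inf_of_le_left hAS, ← MonoidHom.range_eq_map, range_subtype]
  have hcL : Nat.card L' = Nat.card L := card_subgroupOf_of_le hLS
  have hcA : Nat.card A' = Nat.card A := card_subgroupOf_of_le hAS
  have hA'p : IsPGroup 2 A' := hAp.comap_of_injective _ S.subtype_injective
  have hf' : A' ⊓ centralizer (L' : Set S) = ⊥ := by
    rw [eq_bot_iff]
    intro x hx
    obtain ⟨hx1, hx2⟩ := mem_inf.mp hx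
    have h1 : (x : G) ∈ A ⊓ centralizer (L : Set G) := by
      refine mem_inf.mpr ⟨mem_subgroupOf.mp hx1, ?_⟩
      rw [mem_centralizer_iff]
      intro l hl
      have := mem_centralizer_iff.mp hx2 ⟨l, hLS hl⟩ (mem_subgroupOf.mpr hl)
      exact congrArg Subtype.val this
    rw [hfaith, mem_bot] at h1
    rw [mem_bot]; exact Subtype.ext h1
  have hcore : Cfsg.pCore 2 S = ⊥ := pCore_eq_bot L' A' hLn (by rw [hcL]; exact hLodd) hA'p htop hf'
  have hFodd := odd_fitting hcore
  have hsolL' : Group.IsSolvable L' := isSolvable_subgroupOf S hLs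
  have hAnil : Group.IsNilpotent A := hAp.isNilpotent
  have hsolS : Group.IsSolvable S := by
    have hQ : Group.IsSolvable (S ⧸ L') := by
      have hsurj : Function.Surjective ((QuotientGroup.mk' L').comp A'.subtype) := by
        rw [← MonoidHom.range_eq_top, MonoidHom.range_comp, range_subtype]
        have h1 : (L' ⊔ A').map (QuotientGroup.mk' L') = ⊤ := by
          rw [htop, ← MonoidHom.range_eq_map, MonoidHom.range_eq_top]
          exact QuotientGroup.mk'_surjective L'
        rw [_root_.Subgroup.map_sup, QuotientGroup.map_mk'_self, bot_sup_eq] at h1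
        exact h1
      have hA'n : Group.IsNilpotent A' := hA'p.isNilpotent
      exact Group.isSolvable_of_surjective hsurj
    exact Group.isSolvable_of_ker_le_range L'.subtype (QuotientGroup.mk' L')
      (by rw [QuotientGroup.ker_mk', range_subtype])
  have hA'e : Cfsg.IsElementaryAbelian 2 A' := by
    refine ⟨isMulCommutative_iff_of_setLike.mpr ?_, ?_⟩
    · intro a ha b hb
      exact Subtype.ext (hAcomm a (mem_subgroupOf.mp ha) b (mem_subgroupOf.mp hb))
    · intro a ha
      apply Subtype.ext
      simpa using hA.2 a (mem_subgroupOf.mp ha)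
  obtain ⟨f, hfp, hfF, hfn, hfc, hfcard, hfz⟩ := Cfsg.Agent.S4408.result hFodd A' hA'e d hd (by rw [hcA]; exact hAd)
  -- generators
  have hgen : ∀ i, ∃ g : S, zpowers g = f i ∧ orderOf g = Nat.card (f i) := by
    intro i
    haveI : Fact (Nat.card (f i)).Prime := ⟨hfp i⟩
    have hcyc : IsCyclic (f i) := isCyclic_of_prime_card rfl
    obtain ⟨g, hg⟩ := hcyc.exists_generator
    have h1 : zpowers (g : S) = f i := by
      apply le_antisymm (zpowers_le.mpr g.2)
      intro x hx
      obtain ⟨k, hk⟩ := mem_zpowers_iff.mp (hg ⟨x, hx⟩)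
      exact mem_zpowers_iff.mpr ⟨k, by simpa using congrArg Subtype.val hk⟩
    exact ⟨g, h1, by rw [← Nat.card_zpowers, h1]⟩
  choose g hgz hgo using hgen
  have hodd : ∀ i, Odd (Nat.card (f i)) := fun i => Odd.of_dvd_nat hFodd (card_dvd_of_le (hfF i))
  have h3 : ∀ i, 3 ≤ Nat.card (f i) := by
    intro i
    have h1 := (hfp i).two_le
    have h2 := hodd i
    rcases Nat.lt_or_ge (Nat.card (f i)) 3 with h | h
    · have : Nat.card (f i) = 2 := by omega
      rw [this] at h2
      exact absurd h2 (by decide)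
    · exact h
  have hginv : ∀ i, (g i) ≠ (g i)⁻¹ := by
    intro i h0
    have h1 : g i ^ 2 = 1 := by
      rw [pow_two]; nth_rewrite 1 [h0]; exact inv_mul_cancel _
    have h2 := Nat.le_of_dvd (by norm_num) (orderOf_dvd_of_pow_eq_one h1)
    rw [hgo i] at h2
    have := h3 i
    omega
  have hact : ∀ a ∈ A', ∀ i, a * g i * a⁻¹ = g i ∨ a * g i * a⁻¹ = (g i)⁻¹ := by
    intro a ha i
    apply inv_or_fix (hfp i) (hgo i)
    · have := hA'e.2 a ha
      rwa [pow_two] at this
    · rw [hgz i]
      exact (mem_normalizer_iff.mp (hfn i ha) _).mp (by rw [← hgz i]; exact mem_zpowers _)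
  -- the sign pattern
  let sg : A' → Set (Fin d) := fun a => {i | (a : S) * g i * (a : S)⁻¹ = g i}
  have hsginj : Function.Injective sg := by
    intro a b hab
    have h1 : (a : S) * (b : S)⁻¹ ∈ A' ⊓ centralizer ((⨆ i, f i : Subgroup S) : Set S) := by
      refine mem_inf.mpr ⟨mul_mem a.2 (inv_mem b.2), ?_⟩
      have h2 : (⨆ i, f i : Subgroup S) ≤ centralizer ({(a : S) * (b : S)⁻¹} : Set S) := by
        apply iSup_le
        intro i
        rw [← hgz i, zpowers_le, mem_centralizer_singleton_iff]
        have h4 : (a : S) * g i * (a : S)⁻¹ = (b : S) * g i * (b : S)⁻¹ := by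
          by_cases h5 : i ∈ sg a
          · have h6 : i ∈ sg b := hab ▸ h5
            exact h5.trans h6.symm
          · have h6 : i ∉ sg b := hab ▸ h5
            exact ((hact a a.2 i).resolve_left h5).trans ((hact b b.2 i).resolve_left h6).symm
        have hbb : (b : S) * b = 1 := by
          have := hA'e.2 b b.2
          rwa [pow_two] at this
        have haa : (a : S) * a = 1 := by
          have := hA'e.2 a a.2
          rwa [pow_two] at this
        have hbi : (b : S)⁻¹ = b := inv_eq_of_mul_eq_one_left hbb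
        have hai : (a : S)⁻¹ = a := inv_eq_of_mul_eq_one_left haa
        have hcab : (a : S) * b = b * a := isMulCommutative_iff_of_setLike.mp hA'e.1 a a.2 b b.2
        rw [hai, hbi] at h4
        rw [hbi]
        -- g a b = a b g
        calc g i * ((a : S) * b) = ((a : S) * a) * (g i * ((a : S) * b)) := by rw [haa, one_mul]
          _ = a * (a * g i * a) * b := by group
          _ = a * (b * g i * b) * b := by rw [h4]
          _ = a * b * g i * (b * b) := by group
          _ = a * b * g i := by rw [hbb, mul_one]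
      rw [mem_centralizer_iff]
      intro x hx
      exact mem_centralizer_singleton_iff.mp (h2 hx)
    rw [hfz, mem_bot] at h1
    exact Subtype.ext (mul_inv_eq_one.mp h1)
  have hsgbij : Function.Bijective sg := by
    haveI : Fintype A' := Fintype.ofFinite _
    rw [Fintype.bijective_iff_injective_and_card]
    refine ⟨hsginj, ?_⟩
    rw [← Nat.card_eq_fintype_card, hcA, hAd, Fintype.card_set, Fintype.card_fin]
  have hsurj : ∀ i : Fin d, ∃ a : A', sg a = {i}ᶜ := fun i => hsgbij.2 _
  choose a ha using hsurj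
  have hcom : ∀ i j, i ≠ j → ((a i : S)) * g j = g j * (a i : S) := by
    intro i j hij
    have h1 : j ∈ sg (a i) := by
      rw [ha i]
      simp only [Set.mem_compl_iff, Set.mem_singleton_iff]
      exact fun h => hij h.symm
    have h2 : (a i : S) * g j * (a i : S)⁻¹ = g j := h1
    calc (a i : S) * g j = ((a i : S) * g j * (a i : S)⁻¹) * a i := by group
      _ = g j * a i := by rw [h2]
  have hinv : ∀ i, (a i : S) * g i * (a i : S)⁻¹ = (g i)⁻¹ := by
    intro i
    apply (hact (a i) (a i).2 i).resolve_left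
    intro h1
    have h2 : i ∈ sg (a i) := h1
    rw [ha i] at h2
    exact h2 rfl
  have haa : ∀ i, (a i : S) * a i = 1 := by
    intro i
    have := hA'e.2 (a i) (a i).2
    rwa [pow_two] at this
  have hane : ∀ i, (a i : S) ≠ 1 := by
    intro i h0
    have h1 := hinv i
    rw [h0] at h1
    apply hginv i
    simpa using h1
  have hao : ∀ i, orderOf ((a i : S) : G) = 2 := by
    intro i
    rw [orderOf_coe]
    apply orderOf_eq_prime
    · rw [pow_two]; exact haa i
    · exact hane i
  have haA : ∀ i, ((a i : S) : G) ∈ A := fun i => mem_subgroupOf.mp (a i).2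
  have hgL : ∀ i, ((g i : S) : G) ∈ L := by
    intro i
    -- odd order elements of `S` lie in `L`
    have h1 : orderOf (QuotientGroup.mk' L' (g i)) ∣ Nat.card (f i) := by
      rw [← hgo i]; exact orderOf_map_dvd _ _
    have h2 : orderOf (QuotientGroup.mk' L' (g i)) ∣ Nat.card A' := by
      refine (_root_.orderOf_dvd_natCard _).trans ?_
      have h5 : Nat.card (S ⧸ L') = Nat.card A' := by
        have h6 := L'.card_mul_index
        have hcop : (Nat.card L').Coprime (Nat.card A') := by
          rw [hcL, hcA, hAd]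
          exact Nat.Coprime.pow_right _ (Nat.coprime_two_right.mpr hLodd)
        have h7 : Nat.card S = Nat.card L' * Nat.card A' := by
          rw [← card_sup_of_coprime (by rw [normalizer_eq_top_iff.mpr hLn]; exact le_top) hcop, htop, card_top]
        rw [h7] at h6
        exact Nat.eq_of_mul_eq_mul_left Nat.card_pos h6
      rw [h5]
    have h4 : orderOf (QuotientGroup.mk' L' (g i)) ∣ 1 := by
      have hcop : (Nat.card (f i)).Coprime (Nat.card A') := by
        rw [hcA, hAd]
        exact Nat.Coprime.pow_right _ (Nat.coprime_two_right.mpr (hodd i))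
      rw [← hcop]
      exact Nat.dvd_gcd h1 h2
    have h5 := orderOf_eq_one_iff.mp (Nat.dvd_one.mp h4)
    rw [← MonoidHom.mem_ker, QuotientGroup.ker_mk'] at h5
    exact mem_subgroupOf.mp h5
  have hgo' : ∀ i, orderOf ((g i : S) : G) = Nat.card (f i) := fun i => by rw [orderOf_coe, hgo i]
  refine ⟨fun i => zpowers ((a i : S) : G), fun i => zpowers ((g i : S) : G), fun i => Nat.card (f i),
    ?_, ?_, ?_⟩
  · intro i
    refine ⟨zpowers_le.mpr (haA i), by rw [Nat.card_zpowers]; exact hao i, zpowers_le.mpr (hgL i),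
      hodd i, h3 i, ?_⟩
    set D := zpowers ((a i : S) : G) ⊔ zpowers ((g i : S) : G) with hD
    have haD : ((a i : S) : G) ∈ D := mem_sup_left (mem_zpowers _)
    have hgD : ((g i : S) : G) ∈ D := mem_sup_right (mem_zpowers _)
    have hinvG : ((a i : S) : G) * ((g i : S) : G) * ((a i : S) : G)⁻¹ = ((g i : S) : G)⁻¹ :=
      congrArg (fun z : S => (z : G)) (hinv i)
    have hnorm : zpowers ((a i : S) : G) ≤ normalizer ((zpowers ((g i : S) : G) : Subgroup G) : Set G) := by
      rw [zpowers_le]
      rw [Cfsg.Agent.Lib.SubgroupTools.mem_normalizer_iff_conj_smul, conj_smul_eq_map, MonoidHom.map_zpowers]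
      have : (MulAut.conj ((a i : S) : G)).toMonoidHom ((g i : S) : G) = ((g i : S) : G)⁻¹ := hinvG
      rw [this, zpowers_inv]
    have hcard : Nat.card D = 2 * Nat.card (f i) := by
      have hcop : (Nat.card (zpowers ((g i : S) : G))).Coprime (Nat.card (zpowers ((a i : S) : G))) := by
        rw [Nat.card_zpowers, Nat.card_zpowers, hgo' i, hao i]
        exact Nat.coprime_two_right.mpr (hodd i)
      rw [hD, sup_comm, card_sup_of_coprime hnorm hcop, Nat.card_zpowers, Nat.card_zpowers, hgo' i, hao i, mul_comm]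
    apply Cfsg.Agent.Lib.DihQuat.dihedral_iso (hfp i).ne_zero (⟨((g i : S) : G), hgD⟩ : D) (⟨((a i : S) : G), haD⟩ : D)
    · rw [Subgroup.orderOf_mk]; exact hgo' i
    · apply Subtype.ext
      exact congrArg (fun z : S => (z : G)) (haa i)
    · apply Subtype.ext
      exact hinvG
    · intro h0
      have h1 : orderOf (⟨((a i : S) : G), haD⟩ : D) ∣ orderOf (⟨((g i : S) : G), hgD⟩ : D) := by
        rw [← Nat.card_zpowers, ← Nat.card_zpowers]
        exact card_dvd_of_le (zpowers_le.mpr h0)
      rw [Subgroup.orderOf_mk, Subgroup.orderOf_mk, hao i, hgo' i] at h1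
      exact (Nat.not_even_iff_odd.mpr (hodd i)) (even_iff_two_dvd.mpr h1)
    · exact hcard
  · apply le_antisymm
    · exact iSup_le (fun i => zpowers_le.mpr (haA i))
    · intro x hx
      set H := ⨆ i, zpowers ((a i : S) : G) with hH
      have hkey : ∀ T : Finset (Fin d), ∃ b : A', ((b : S) : G) ∈ H ∧ sg b = (T : Set (Fin d))ᶜ := by
        intro T
        induction T using Finset.induction_on with
        | empty =>
          refine ⟨1, H.one_mem, ?_⟩
          ext j
          simp only [Finset.coe_empty, Set.compl_empty, Set.mem_univ, iff_true]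
          show (1 : S) * g j * (1 : S)⁻¹ = g j
          group
        | insert i T hiT ih =>
          obtain ⟨b, hbH, hb⟩ := ih
          refine ⟨b * a i, H.mul_mem hbH (mem_iSup_of_mem i (mem_zpowers _)), ?_⟩
          ext j
          rw [Finset.coe_insert, Set.mem_compl_iff, Set.mem_insert_iff]
          show ((b : S) * (a i : S)) * g j * ((b : S) * (a i : S))⁻¹ = g j ↔ _
          have e : ((b : S) * (a i : S)) * g j * ((b : S) * (a i : S))⁻¹ =
            (b : S) * ((a i : S) * g j * (a i : S)⁻¹) * (b : S)⁻¹ := by group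
          rw [e]
          by_cases hji : j = i
          · subst hji
            rw [hinv j]
            have h5 : j ∈ sg b := by rw [hb]; exact hiT
            have h6 : (b : S) * g j * (b : S)⁻¹ = g j := h5
            have h7 : (b : S) * (g j)⁻¹ * (b : S)⁻¹ = (g j)⁻¹ := by
              calc (b : S) * (g j)⁻¹ * (b : S)⁻¹ = ((b : S) * g j * (b : S)⁻¹)⁻¹ := by group
                _ = (g j)⁻¹ := by rw [h6]
            rw [h7]
            simp only [true_or, not_true_eq_false, iff_false]
            exact fun h => hginv j h.symm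
          · have h5 : (a i : S) * g j * (a i : S)⁻¹ = g j := by
              rw [hcom i j (fun h => hji h.symm)]; group
            rw [h5]
            have h6 : ((b : S) * g j * (b : S)⁻¹ = g j) ↔ j ∈ sg b := Iff.rfl
            rw [h6, hb]
            simp only [Set.mem_compl_iff, Finset.mem_coe, hji, false_or]
      obtain ⟨b, hbH, hb⟩ := hkey (Finset.univ.filter (fun j => j ∉ sg ⟨⟨x, hAS hx⟩, mem_subgroupOf.mpr hx⟩))
      have h5 : sg b = sg ⟨⟨x, hAS hx⟩, mem_subgroupOf.mpr hx⟩ := by
        rw [hb]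
        ext j
        simp only [Finset.coe_filter, Finset.mem_univ, true_and, Set.mem_compl_iff, Set.mem_setOf_eq,
          not_not]
      have h6 := hsginj h5
      have h7 : ((b : S) : G) = x := congrArg (fun z : A' => ((z : S) : G)) h6
      rwa [h7] at hbH
  · intro i j hij
    have haaG : ((a i : S) : G) * ((a j : S) : G) = ((a j : S) : G) * ((a i : S) : G) :=
      hAcomm _ (haA i) _ (haA j)
    have hagG : ((a i : S) : G) * ((g j : S) : G) = ((g j : S) : G) * ((a i : S) : G) :=
      congrArg (fun z : S => (z : G)) (hcom i j hij)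
    have hgaG : ((a j : S) : G) * ((g i : S) : G) = ((g i : S) : G) * ((a j : S) : G) :=
      congrArg (fun z : S => (z : G)) (hcom j i (Ne.symm hij))
    have hggG : ((g i : S) : G) * ((g j : S) : G) = ((g j : S) : G) * ((g i : S) : G) := by
      have := hfc i j hij (g i) (by rw [← hgz i]; exact mem_zpowers _) (g j) (by rw [← hgz j]; exact mem_zpowers _)
      exact congrArg (fun z : S => (z : G)) this
    have h1 : zpowers ((a i : S) : G) ⊔ zpowers ((g i : S) : G) ≤
        centralizer (((zpowers ((a j : S) : G) ⊔ zpowers ((g j : S) : G) : Subgroup G)) : Set G) := by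
      have h2 : ∀ x : G, x * ((a j : S) : G) = ((a j : S) : G) * x → x * ((g j : S) : G) = ((g j : S) : G) * x →
          x ∈ centralizer (((zpowers ((a j : S) : G) ⊔ zpowers ((g j : S) : G) : Subgroup G)) : Set G) := by
        intro x hx1 hx2
        have h4 : zpowers ((a j : S) : G) ⊔ zpowers ((g j : S) : G) ≤ centralizer ({x} : Set G) := by
          refine sup_le (zpowers_le.mpr ?_) (zpowers_le.mpr ?_)
          · rw [mem_centralizer_singleton_iff]; exact hx1.symm
          · rw [mem_centralizer_singleton_iff]; exact hx2.symm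
        rw [mem_centralizer_iff]
        intro y hy
        exact mem_centralizer_singleton_iff.mp (h4 hy)
      refine sup_le (zpowers_le.mpr (h2 _ haaG hagG)) (zpowers_le.mpr (h2 _ hgaG.symm hggG))
    intro x hx y hy
    exact (mem_centralizer_iff.mp (h1 hx) y hy).symm

end Cfsg.Agent.S1349
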