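import Cfsg.Statements.S1614
import Cfsg.Agent.Lib.Fs14
import Cfsg.Agent.Lib.FsCore42
-- import your own Cfsg.Agent.* helpers here

set_option autoImplicit false
open Cfsg

namespace Cfsg.Agent.S1614

/-- If the commuting transpositions of one transposition generate a solvable group, a Fischer 3-transposition group is S5, S6, PSU(4, 2) or PSU(5, 2). -/
theorem result {G : Type*} [Group G] [Finite G] (hsol : ∀ N : Subgroup G, N.Normal → Group.IsSolvable ↥N → N = ⊥) (hperf : ⁅commutator G, commutator G⁆ = commutator G) {D : Set G} (hD : Cfsg.IsThreeTranspositionClass D) (x : G) (hx : x ∈ D) (hs : Group.IsSolvable ↥(Subgroup.closure {y : G | y ∈ D ∧ y ≠ x ∧ Commute x y})) : Nonempty (G ≃* Equiv.Perm (Fin 5)) ∨ Nonempty (G ≃* Equiv.Perm (Fin 6)) ∨ ∃ (F : Type) (_ : Field F) (_ : Fintype F), Fintype.card F = 4 ∧ (Nonempty (G ≃* Cfsg.PSU 4 F 2) ∨ Nonempty (G ≃* Cfsg.PSU 5 F 2)) := by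
  have hgrp : IsThreeTranspositionGroup D := ⟨hD.1, fun g d hd => Cfsg.Agent.Lib.FischerHyp.class_conj hD g hd, hD.2.2⟩
  refine Cfsg.Agent.Lib.Fs14.main14 hsol hperf hD hx hs ?_
  intro hcore
  have hZ : Subgroup.center G = ⊥ := hsol _ inferInstance
    (Group.isSolvable_of_comm (fun a b => Subtype.ext (Subgroup.mem_center_iff.1 a.2 b.1).symm))
  have hne : (Cfsg.Agent.Lib.ThreeRank3.Dd D x).Nonempty := by
    by_contra hne
    rw [Set.not_nonempty_iff_eq_empty] at hne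
    apply hcore
    intro g _
    have hg : g = 1 := by
      have h3 : Subgroup.closure (Cfsg.Agent.Lib.ThreeRank3.Dd D x) = ⊥ := by rw [hne, Subgroup.closure_empty]
      apply Subtype.ext
      have h4 : (g : G) ∈ (⊥ : Subgroup G) := h3 ▸ g.2
      exact Subgroup.mem_bot.1 h4
    rw [hg]; exact one_mem _
  obtain ⟨y, hy⟩ := hne
  have hprim := Cfsg.Agent.Lib.FischerHyp.primitive hsol hperf hD ⟨x, hx, y, hy.1, hy.2.1.symm⟩
  rcases Cfsg.Agent.Lib.FsPol.core hgrp hprim hx hcore with ⟨h1, h2, h3⟩ | ⟨F, i1, i2, V, i3, i4, i5, H, Φ, k0, k1, k2, k3, k4, k5, k6, k7, k8, k9, k10⟩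
  · exact Or.inl (Cfsg.Agent.Lib.FisEnd.spHyp_of_rows hgrp hZ h1 h2 h3)
  · obtain ⟨Φ', h'⟩ := Cfsg.Agent.Lib.FisEnd.uHyp_of_points hgrp hZ k0 H k1 k2 k3 k4 k5 Φ k6 k7 k8 k9 k10
    exact Or.inr ⟨F, i1, i2, _, Φ', h'⟩

end Cfsg.Agent.S1614
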