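import Cfsg.Statements.S1652
import Cfsg.Agent.Lib.SL16ASM
import Cfsg.Agent.Lib.SL16NV1
import Cfsg.Agent.Lib.SL16NV2
import Cfsg.Agent.Lib.SL16TV
import Cfsg.Agent.Lib.SL16TW
import Cfsg.Agent.Lib.SL16ENT

set_option autoImplicit false
open Cfsg

namespace Cfsg.Agent.S1652

/-- A group of J₃ type contains SL(2,16):2: let a finite simple group have a single conjugacy class of involutions and an involution t whose centraliser C has a normal extraspecial subgroup Q of order 32 with no elementary abelian subgroup of order 8, whose centraliser in C lies in Q, with C / Q isomorphic to the alternating group of degree 5. Then some subgroup H has a normal subgroup of index 2 isomorphic to the special linear group of dimension 2 over a field with 16 elements. -/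
theorem result {G : Type*} [Group G] [Finite G] [IsSimpleGroup G] (t : G) (ht : orderOf t = 2) (Q : Subgroup (Subgroup.centralizer ({t} : Set G))) [Q.Normal] (hQ : Cfsg.IsExtraspecial 2 Q) (hcard : Nat.card Q = 32) (hminus : ∀ E : Subgroup Q, Cfsg.IsElementaryAbelian 2 E → Nat.card E ≤ 2 ^ 2) (h2c : Subgroup.centralizer (Q : Set (Subgroup.centralizer ({t} : Set G))) ≤ Q) (e : (Subgroup.centralizer ({t} : Set G)) ⧸ Q ≃* alternatingGroup (Fin 5)) (hone : ∀ x y : G, orderOf x = 2 → orderOf y = 2 → IsConj x y) : ∃ (H : Subgroup G) (N : Subgroup H) (K : Type) (_ : Field K) (_ : Fintype K), N.Normal ∧ N.index = 2 ∧ Fintype.card K = 16 ∧ Nonempty (N ≃* Matrix.SpecialLinearGroup (Fin 2) K) := by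
  obtain ⟨S, h1⟩ := Lib.SL16.ent t ht Q hQ hcard hminus h2c e hone
  obtain ⟨V, x, y, i, cardV, hV2, hx, hy, hi, hxy, ix, iy, hxV, hyV, hiV, fx, fy⟩ := Lib.SL16.nv1 S h1
  obtain ⟨j, hj, jx, jy, ij⟩ := Lib.SL16.nv2 S h1 hx hy hi hxy ix iy
  obtain ⟨t0, t0V, t01, t0i, htq, htq', hty⟩ := Lib.SL16.tv S h1 cardV hV2 hy hi iy hyV hiV fy
  obtain ⟨k, hk⟩ := Lib.SL16.tw S h1 hy hi iy hj jy ij (hV2 _ t0V) t0i htq htq' hty
  refine Lib.SL16.asm cardV hV2 hx hy hi hxy ix iy hxV hyV hiV fx fy hj jx jy ij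
    (Lib.SL16.conj_zpow_mem hy hyV k t0 t0V) ?_ hk
  intro h
  apply t01
  have h2 : t0 = (y ^ k)⁻¹ * (y ^ k * t0 * (y ^ k)⁻¹) * y ^ k := by group
  rw [h2, h]; group

end Cfsg.Agent.S1652

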