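import Cfsg.Statements.S1723
import Cfsg.Agent.Lib.JTw20

set_option autoImplicit false
open Cfsg

namespace Cfsg.Agent.S1723

open Cfsg.Agent.Lib Cfsg.Agent.Lib.JTw in
/-- Sylow 3-structure of a group of Hall–Janko type (large-extraspecial hypothesis with Q of order 32, quotient Ω⁻(4, 2), z not weakly closed in Q, more than one class of involutions): a Sylow 3-subgroup P is extraspecial of order 27, its normaliser has order 216, and the elements of order 3 form exactly two conjugacy classes. -/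
theorem result {G : Type*} [Group G] [Finite G] (z : G) (hz : orderOf z = 2) (Q : Subgroup (Subgroup.centralizer ({z} : Set G))) [Q.Normal] (hF : Cfsg.generalizedFittingSubgroup (Subgroup.centralizer ({z} : Set G)) = Q) (hQ : Cfsg.IsExtraspecial 2 Q) (hcard : Nat.card Q = 2 ^ 5) (e : (Subgroup.centralizer ({z} : Set G)) ⧸ Q ≃* Cfsg.Omega (ZMod 2) (Cfsg.quadFormMinus 1 (ZMod 2) 1 1)) (hnwc : ∃ g : G, (∃ hq : g * z * g⁻¹ ∈ Subgroup.centralizer ({z} : Set G), (⟨g * z * g⁻¹, hq⟩ : Subgroup.centralizer ({z} : Set G)) ∈ Q) ∧ g * z * g⁻¹ ≠ z) (hcl : ∃ x y : G, orderOf x = 2 ∧ orderOf y = 2 ∧ ¬ IsConj x y) (P : Sylow 3 G) : Cfsg.IsExtraspecial 3 (P : Subgroup G) ∧ Nat.card P = 27 ∧ Nat.card (Subgroup.normalizer ((P : Subgroup G) : Set G)) = 216 ∧ ∃ a b : G, orderOf a = 3 ∧ orderOf b = 3 ∧ ¬ IsConj a b ∧ ∀ c : G, orderOf c = 3 → IsConj c a ∨ IsConj c b := by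
  have : Fact (Nat.Prime 3) := ⟨by norm_num⟩
  obtain ⟨S, hS⟩ := exists_setup z hz Q hF hQ hcard e hnwc
  obtain ⟨t, K, k⟩ := exists_KK S hcl
  obtain ⟨ω, dω⟩ := k.exists_om
  obtain ⟨P0, d⟩ := dω.exists_sy
  have h27 : Nat.card P = 27 := k.card_P3 P
  obtain ⟨g, hg⟩ := MulAction.exists_smul_eq G P0 P
  have hP : (P : Subgroup G) = (P0 : Subgroup G).map (MulAut.conj g).toMonoidHom := by rw [← hg]; rfl
  refine ⟨?_, h27, ?_, ?_⟩
  · apply GESGroup.extraspecial_cube (p := 3) (by rw [h27]; norm_num)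
    intro h
    apply d.nonab
    intro x y
    have hx : g * (x : G) * g⁻¹ ∈ (P : Subgroup G) := by rw [hP]; exact ⟨x, x.2, rfl⟩
    have hy : g * (y : G) * g⁻¹ ∈ (P : Subgroup G) := by rw [hP]; exact ⟨y, y.2, rfl⟩
    have h1 := congrArg Subtype.val (h ⟨_, hx⟩ ⟨_, hy⟩)
    have h2 : (g * (x : G) * g⁻¹) * (g * (y : G) * g⁻¹) = (g * (y : G) * g⁻¹) * (g * (x : G) * g⁻¹) := h1
    rw [← cj_mul, ← cj_mul] at h2
    exact Subtype.ext (cj_inj h2)
  · rw [← d.card_N, hP]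
    have h2 : Subgroup.normalizer (((P0 : Subgroup G).map (MulAut.conj g).toMonoidHom : Subgroup G) : Set G) =
        (Subgroup.normalizer ((P0 : Subgroup G) : Set G)).map (MulAut.conj g).toMonoidHom := by
      symm
      exact Subgroup.map_equiv_normalizer_eq _ (MulAut.conj g)
    rw [h2, JTwA6.card_map_conj]
  · obtain ⟨σ, hσ, hσT⟩ := d.T3_ex
    refine ⟨ω, σ, d.o3, hσT.ord, d.not_conj hσT, ?_⟩
    intro c hc
    obtain ⟨h, hh⟩ := sylow_conj_mem (p := 3) (n := 1) P0 (by rw [hc, pow_one])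
    by_cases hz' : h * c * h⁻¹ ∈ Subgroup.zpowers ω
    · left
      rcases mem_zpowers_three (pow3 d.o3) hz' with h1 | h1 | h1
      · exact absurd (cj_eq_one.1 h1) (ne_one3 hc)
      · exact isConj_iff.2 ⟨h, h1⟩
      · obtain ⟨x, hx⟩ := d.z3.inverted
        refine IsConj.trans (isConj_iff.2 ⟨h, h1⟩) (IsConj.symm (isConj_iff.2 ⟨x, hx⟩))
    · right
      have h1 := d.T3_of hh (by rw [_root_.conj_pow, pow3 hc]; group) hz'
      obtain ⟨x, hx⟩ := h1.conj_all hσT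
      exact isConj_iff.2 ⟨x * h, by rw [cj_cj]; exact hx⟩

end Cfsg.Agent.S1723
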