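import Cfsg.Statements.S1915
import Cfsg.Agent.Lib.H46Gamma
import Cfsg.Agent.Lib.Layer

set_option autoImplicit false
open Cfsg

namespace Cfsg.Agent.S1915

open Subgroup Cfsg.Agent.Lib in
theorem three_le {G : Type*} [Group G] [Finite G] {E : Subgroup G} {z w : G} (hz : z ∈ E) (hw : w ∈ E) (hz1 : z ≠ 1)
    (hw1 : w ≠ 1) (hzw : z ≠ w) : 2 < Nat.card E := by
  classical
  have hf : ({1, ⟨z, hz⟩, ⟨w, hw⟩} : Finset E).card = 3 := by
    rw [Finset.card_insert_of_notMem, Finset.card_insert_of_notMem, Finset.card_singleton]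
    · simp only [Finset.mem_singleton]
      exact fun h => hzw (congrArg Subtype.val h)
    · simp only [Finset.mem_insert, Finset.mem_singleton, not_or]
      exact ⟨fun h => hz1 (congrArg Subtype.val h).symm, fun h => hw1 (congrArg Subtype.val h).symm⟩
  let _ := Fintype.ofFinite E
  have := Finset.card_le_univ ({1, ⟨z, hz⟩, ⟨w, hw⟩} : Finset E)
  rw [hf, ← Nat.card_eq_fintype_card] at this
  omega

/-- Let A be a semisimple subgroup (A = E(A)) of a finite group and U a Klein four-group normalizing A. If the subgroup of A generated by the normalizers N_A(V) of the nontrivial subgroups V of U has 2-rank exactly 1, then A has 2-rank exactly 1. -/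
theorem result {G : Type*} [Group G] [Finite G] (A : Subgroup G) (hA : Cfsg.layer ↥A = ⊤)
    (U : Subgroup G) (hU : IsKleinFour U) (hUA : U ≤ Subgroup.normalizer (A : Set G))
    (hΓ : Cfsg.PRankLE 2 1 ↥(⨆ V : {V : Subgroup G // V ≤ U ∧ V ≠ ⊥}, A ⊓ Subgroup.normalizer ((V : Subgroup G) : Set G)) ∧
      ¬ Cfsg.PRankLE 2 0 ↥(⨆ V : {V : Subgroup G // V ≤ U ∧ V ≠ ⊥}, A ⊓ Subgroup.normalizer ((V : Subgroup G) : Set G))) :
    Cfsg.PRankLE 2 1 A ∧ ¬ Cfsg.PRankLE 2 0 A := by
  open Subgroup Cfsg.Agent.Lib in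
  classical
  have : Fact (Nat.Prime 2) := ⟨Nat.prime_two⟩
  set Γ : Subgroup G := ⨆ V : {V : Subgroup G // V ≤ U ∧ V ≠ ⊥}, A ⊓ Subgroup.normalizer ((V : Subgroup G) : Set G)
    with hΓdef
  have hΓA : Γ ≤ A := iSup_le fun V => inf_le_left
  refine ⟨?_, fun h => hΓ.2 (PGroupRank.PRankLE.of_le h hΓA)⟩
  have hAA : ⁅A, A⁆ = A := by
    have h1 := Cfsg.Agent.Lib.Layer.layer_perfect ↥A
    rw [hA] at h1
    have h2 := congrArg (Subgroup.map A.subtype) h1
    rw [Subgroup.map_commutator] at h2
    rwa [← MonoidHom.range_eq_map, Subgroup.range_subtype] at h2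
  set K : Subgroup G := A ⊔ U with hK
  have hAK : A ≤ K := le_sup_left
  have hUK : U ≤ K := le_sup_right
  have hn : (A.subgroupOf K).Normal := normal_subgroupOf_of_le_normalizer (sup_le le_normalizer hUA)
  have hU' : IsKleinFour (U.subgroupOf K) := by
    have e := subgroupOfEquivOfLe hUK
    exact ⟨(Nat.card_congr e.toEquiv).trans IsKleinFour.card_four,
      (Monoid.exponent_eq_of_mulEquiv e).trans IsKleinFour.exponent_two⟩
  have hLp : A.subgroupOf K ≤ ⁅A.subgroupOf K, A.subgroupOf K⁆ := by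
    rw [← Subgroup.map_le_map_iff_of_injective K.subtype_injective, Subgroup.map_commutator,
      Subgroup.map_subgroupOf_eq_of_le hAK, hAA]
  have key := H46Gamma.core (A.subgroupOf K) hn hLp (U.subgroupOf K) hU' (by
    intro u hu hu1 z w hz hw hz2 hw2 hz1 hw1 hzw hzwc huz huw
    have hne : zpowers (u : G) ≠ ⊥ := by
      rw [Ne, zpowers_eq_bot]
      exact fun h => hu1 (Subtype.ext h)
    have hle : A ⊓ Subgroup.normalizer ((zpowers (u : G) : Subgroup G) : Set G) ≤ Γ :=
      le_iSup (fun V : {V : Subgroup G // V ≤ U ∧ V ≠ ⊥} => A ⊓ Subgroup.normalizer ((V : Subgroup G) : Set G))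
        ⟨zpowers (u : G), (zpowers_le).2 hu, hne⟩
    have hcn : ∀ x : K, u * x = x * u → (x : G) ∈ Subgroup.normalizer ((zpowers (u : G) : Subgroup G) : Set G) := by
      intro x hx
      apply Subgroup.centralizer_le_normalizer
      rw [mem_centralizer_iff]
      intro y hy
      obtain ⟨k, rfl⟩ := mem_zpowers_iff.1 hy
      have : Commute (u : G) (x : G) := congrArg Subtype.val hx
      exact this.zpow_left k
    have hzΓ : (z : G) ∈ Γ := hle ⟨hz, hcn z huz⟩
    have hwΓ : (w : G) ∈ Γ := hle ⟨hw, hcn w huw⟩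
    have h1 : (w : G) * z = z * w := congrArg Subtype.val hzwc.symm
    have hz2' : (z : G) * z = 1 := congrArg Subtype.val hz2
    have hw2' : (w : G) * w = 1 := congrArg Subtype.val hw2
    have h2 := PGroupRank.pRankLE_subgroup_iff.1 hΓ.1 (NormalFour.four (z : G) w hz2' hw2' h1) (by
      rintro x (rfl | rfl | rfl | rfl)
      · exact Γ.one_mem
      · exact hzΓ
      · exact hwΓ
      · exact Γ.mul_mem hwΓ hzΓ) ⟨NormalFour.four_isMulCommutative, by
        have h6 : (w : G) * z * (w * z) = 1 := by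
          calc (w : G) * z * (w * z) = w * (z * w) * z := by group
            _ = (w * w) * (z * z) := by rw [← h1]; group
            _ = 1 := by rw [hz2', hw2', one_mul]
        rintro x (rfl | rfl | rfl | rfl)
        · exact one_pow 2
        · rw [pow_two]; exact hz2'
        · rw [pow_two]; exact hw2'
        · rw [pow_two]; exact h6⟩
    have h3 := three_le (E := NormalFour.four (z : G) w hz2' hw2' h1) (z := z) (w := w) (Or.inr (Or.inl rfl))
      (Or.inr (Or.inr (Or.inl rfl))) (fun h => hz1 (Subtype.ext h)) (fun h => hw1 (Subtype.ext h))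
      (fun h => hzw (Subtype.ext h))
    rw [pow_one] at h2
    omega)
  exact (PGroupRank.pRankLE_congr (subgroupOfEquivOfLe hAK)).1 key

end Cfsg.Agent.S1915
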