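import Cfsg.Statements.S1921
import Cfsg.Agent.Lib.Components

set_option autoImplicit false
open Cfsg

namespace Cfsg.Agent.S1921

/-- Let a be an involution of a finite group H and L a component of H with a L a⁻¹ ≠ L; put M = ⟨L, aLa⁻¹⟩ and let J be the subgroup generated by the elements x · a x a⁻¹ with x ∈ L (the diagonal). Then every element of M outside J·Z(M) generates M together with J. -/
theorem result {H : Type*} [Group H] [Finite H] (a : H) (ha : orderOf a = 2) (L : Subgroup H) (hL : Cfsg.IsComponent L)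
    (hLa : L.map (MulAut.conj a).toMonoidHom ≠ L) (x : H) (hxM : x ∈ L ⊔ L.map (MulAut.conj a).toMonoidHom)
    (hxJ : x ∉ Subgroup.closure {y : H | ∃ l ∈ L, y = l * (a * l * a⁻¹)} ⊔
      ((L ⊔ L.map (MulAut.conj a).toMonoidHom) ⊓ Subgroup.centralizer ((L ⊔ L.map (MulAut.conj a).toMonoidHom : Subgroup H) : Set H))) :
    Subgroup.closure {y : H | ∃ l ∈ L, y = l * (a * l * a⁻¹)} ⊔ Subgroup.zpowers x = L ⊔ L.map (MulAut.conj a).toMonoidHom := by
  classical
  set σ : H →* H := (MulAut.conj a).toMonoidHom with hσ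
  have hσa : ∀ l : H, σ l = a * l * a⁻¹ := fun l => rfl
  set La : Subgroup H := L.map σ with hLadef
  have hLaC : Cfsg.IsComponent La := Cfsg.Agent.Lib.Components.isComponent_conj a hL
  have hcomm : L ≤ Subgroup.centralizer (La : Set H) := by
    refine Cfsg.Agent.Lib.Components.components_commute hL hLaC ?_
    exact fun h => hLa h.symm
  set J : Subgroup H := Subgroup.closure {y : H | ∃ l ∈ L, y = l * (a * l * a⁻¹)} with hJ
  have hcomm' : ∀ l ∈ L, ∀ m ∈ La, m * l = l * m := by
    intro l hl m hm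
    exact (Subgroup.mem_centralizer_iff.mp (hcomm hl)) m hm
  have hJm : ∀ l ∈ L, l * σ l ∈ J := fun l hl => Subgroup.subset_closure ⟨l, hl, rfl⟩
  have hJle : J ≤ L ⊔ La := by
    rw [hJ, Subgroup.closure_le]
    rintro y ⟨l, hl, rfl⟩
    exact (L ⊔ La).mul_mem (le_sup_left (a := L) hl) (le_sup_right (a := L) (Subgroup.mem_map_of_mem σ hl))
  obtain ⟨l, hl, m', hm', hx⟩ := (Cfsg.Agent.Lib.Components.mem_sup_of_commute hcomm).mp hxM
  obtain ⟨m, hm, rfl⟩ := hm'
  set y := l * m⁻¹ with hy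
  have hyL : y ∈ L := L.mul_mem hl (L.inv_mem hm)
  set K := J ⊔ Subgroup.zpowers x with hK
  have hxK : x ∈ K := le_sup_right (a := J) (Subgroup.mem_zpowers x)
  have hJK : J ≤ K := le_sup_left
  have hxy : x = y * (m * σ m) := by rw [← hx, hy]; group
  have hyK : y ∈ K := by
    have : y = x * (m * σ m)⁻¹ := by rw [hxy]; group
    rw [this]
    exact K.mul_mem hxK (K.inv_mem (hJK (hJm m hm)))
  have hnc : ∃ g ∈ L, g * y ≠ y * g := by
    by_contra hcon
    push Not at hcon
    apply hxJ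
    rw [hxy, show y * (m * σ m) = (m * σ m) * ((m * σ m)⁻¹ * y * (m * σ m)) by group]
    have hyc : y ∈ Subgroup.centralizer ((L ⊔ La : Subgroup H) : Set H) := by
      rw [Subgroup.mem_centralizer_iff]
      intro h hh
      obtain ⟨u, hu, v, hv, rfl⟩ := (Cfsg.Agent.Lib.Components.mem_sup_of_commute hcomm).mp hh
      rw [mul_assoc, hcomm' y hyL v hv, ← mul_assoc, hcon u hu, mul_assoc]
    have hmM : m * σ m ∈ L ⊔ La := hJle (hJm m hm)
    have e1 : (m * σ m)⁻¹ * y * (m * σ m) = y := by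
      have := (Subgroup.mem_centralizer_iff.mp hyc) _ hmM
      rw [mul_assoc, ← this]; group
    rw [e1]
    refine Subgroup.mul_mem _ (le_sup_left (a := J) (hJm m hm)) (Subgroup.mem_sup_right ⟨?_, hyc⟩)
    exact le_sup_left (a := L) hyL
  have hLK : L ≤ K := by
    have hN : ((K ⊓ L).subgroupOf L).Normal := by
      constructor
      rintro ⟨n, hn⟩ hnN ⟨g, hg⟩
      rw [Subgroup.mem_subgroupOf] at hnN ⊢
      simp only [Subgroup.coe_mul, Subgroup.coe_inv] at hnN ⊢
      refine ⟨?_, L.mul_mem (L.mul_mem hg hn) (L.inv_mem hg)⟩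
      have e : g * n * g⁻¹ = (g * σ g) * n * (g * σ g)⁻¹ := by
        have hc := hcomm' n hn (σ g) (Subgroup.mem_map_of_mem σ hg)
        rw [mul_assoc g (σ g) n, hc]; group
      rw [e]
      exact K.mul_mem (K.mul_mem (hJK (hJm g hg)) hnN.1) (K.inv_mem (hJK (hJm g hg)))
    rcases Cfsg.Agent.Lib.Components.normal_le_center_or_eq_top hL.2 ((K ⊓ L).subgroupOf L) with h | h
    · exfalso
      obtain ⟨g, hg, hgy⟩ := hnc
      have : (⟨y, hyL⟩ : L) ∈ Subgroup.center L := h (by
        rw [Subgroup.mem_subgroupOf]; exact ⟨hyK, hyL⟩)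
      rw [Subgroup.mem_center_iff] at this
      have := congrArg Subtype.val (this ⟨g, hg⟩)
      exact hgy this
    · intro g hg
      have : (⟨g, hg⟩ : L) ∈ (K ⊓ L).subgroupOf L := by rw [h]; trivial
      rw [Subgroup.mem_subgroupOf] at this
      exact this.1
  apply le_antisymm
  · rw [hK, sup_le_iff]
    exact ⟨hJle, by rw [Subgroup.zpowers_le]; exact hxM⟩
  · rw [sup_le_iff]
    refine ⟨hLK, ?_⟩
    rintro _ ⟨g, hg, rfl⟩
    have : σ g = g⁻¹ * (g * σ g) := by group
    rw [this]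
    exact K.mul_mem (K.inv_mem (hLK hg)) (hJK (hJm g hg))

end Cfsg.Agent.S1921
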