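import Cfsg.Statements.S1922
import Cfsg.Agent.Lib.H32Invol
import Cfsg.Agent.Lib.H32Cores

set_option autoImplicit false
open Cfsg

namespace Cfsg.Agent.S1922

open Cfsg.Agent.Lib.H32Basic Cfsg.Agent.Lib.H32Invol Cfsg.Agent.Lib.H32Cores

/-- For an involution `z` fixing exactly one point of `G/H`: if the centralizers of the products `zt` are in `H`,
then `z z'` has odd order for every conjugate `z'` outside `H`. -/
theorem odd_prod {G : Type*} [Group G] [Finite G] (z : G) (hz : orderOf z = 2) (H : Subgroup G)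
    (hA : ∀ t : G, IsConj z t → t ≠ z → t * z = z * t → Subgroup.centralizer ({z * t} : Set G) ≤ H)
    (z' : G) (hz' : IsConj z z') (hz'H : z' ∉ H) : Odd (orderOf (z * z')) := by
  have hz2 : z ^ 2 = 1 := by rw [← hz, pow_orderOf_eq_one]
  have hz'2 : z' ^ 2 = 1 := by
    obtain ⟨c, rfl⟩ := isConj_iff.mp hz'
    rw [conj_pow, hz2]; group
  rw [← Nat.not_even_iff_odd]
  intro he
  obtain ⟨k, hk, h1, h2⟩ := exists_invol_of_even hz2 hz'2 he
  set u : G := (z * z') ^ k with hu
  have hconj : IsConj z (u * z) := by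
    rcases Nat.even_or_odd' k with ⟨l, hl | hl⟩
    · rw [isConj_iff]
      refine ⟨(z * z') ^ l, ?_⟩
      rw [conj_pow_invol hz2 hz'2, hu, hl]
    · refine hz'.trans ?_
      have h3 : IsConj z' (z * z' * z⁻¹) := isConj_iff.mpr ⟨z, rfl⟩
      refine h3.trans ?_
      rw [isConj_iff]
      refine ⟨(z * z') ^ l, ?_⟩
      have hzi : z⁻¹ = z := by rw [inv_eq_iff_mul_eq_one, ← pow_two]; exact hz2
      calc (z * z') ^ l * (z * z' * z⁻¹) * ((z * z') ^ l)⁻¹
          = (z * z') ^ l * (z * z' * z) * ((z * z') ^ l)⁻¹ := by rw [hzi]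
        _ = ((z * z') ^ l * (z * z')) * z * ((z * z') ^ l)⁻¹ := by group
        _ = ((z * z') * (z * z') ^ l) * z * ((z * z') ^ l)⁻¹ := by rw [← pow_succ, ← pow_succ']
        _ = (z * z') * ((z * z') ^ l * z * ((z * z') ^ l)⁻¹) := by group
        _ = (z * z') * ((z * z') ^ (2 * l) * z) := by rw [conj_pow_invol hz2 hz'2]
        _ = (z * z') ^ (2 * l + 1) * z := by rw [pow_succ']; group
        _ = u * z := by rw [hu, hl]
  have hne : u * z ≠ z := by
    intro h
    have : u = 1 := by
      calc u = u * z * z⁻¹ := by group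
        _ = 1 := by rw [h]; group
    rw [this, orderOf_one] at hk
    omega
  have hcomm : (u * z) * z = z * (u * z) := by
    rw [← mul_assoc z u z, ← h1.eq]
  have h4 := hA (u * z) hconj hne hcomm
  have h5 : z * (u * z) = u := by
    rw [← hcomm, mul_assoc, ← pow_two, hz2, mul_one]
  rw [h5] at h4
  exact hz'H (h4 (Subgroup.mem_centralizer_singleton_iff.mpr h2.symm.eq))

/-- Let z be an involution of a finite group G and H a proper subgroup such that z lies in gHg⁻¹ exactly when g ∈ H. Then the following are equivalent: (1) for every conjugate t ≠ z of z commuting with z, the product zt lies in gHg⁻¹ exactly when g ∈ H; (2) z lies in the centre of some Sylow 2-subgroup of G, and for every conjugate t ≠ z of z commuting with z, the centralizer of zt is contained in H. -/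
theorem result {G : Type*} [Group G] [Finite G] (z : G) (hz : orderOf z = 2) (H : Subgroup G) (hH : H ≠ ⊤)
    (h0 : ∀ g : G, z ∈ H.map (MulAut.conj g).toMonoidHom ↔ g ∈ H) :
    (∀ t : G, IsConj z t → t ≠ z → t * z = z * t → ∀ g : G, z * t ∈ H.map (MulAut.conj g).toMonoidHom ↔ g ∈ H) ↔
      ((∃ P : Sylow 2 G, z ∈ (Subgroup.center ↥(P : Subgroup G)).map (P : Subgroup G).subtype) ∧
        ∀ t : G, IsConj z t → t ≠ z → t * z = z * t → Subgroup.centralizer ({z * t} : Set G) ≤ H) := by
  have hz2 : z ^ 2 = 1 := by rw [← hz, pow_orderOf_eq_one]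
  have hzz : z * z = 1 := by rw [← pow_two]; exact hz2
  have hzi : z⁻¹ = z := by rw [inv_eq_iff_mul_eq_one]; exact hzz
  have hF : ∀ g : G, g⁻¹ * z * g ∈ H ↔ g ∈ H := by
    intro g
    rw [← mem_map_conj_iff]
    exact h0 g
  have hzH : z ∈ H := by
    have := (hF 1).mpr H.one_mem
    simpa using this
  have hCz : Subgroup.centralizer ({z} : Set G) ≤ H := by
    intro g hg
    rw [Subgroup.mem_centralizer_singleton_iff] at hg
    rw [← hF]
    have : g⁻¹ * z * g = z := by rw [mul_assoc, ← hg]; group
    rw [this]; exact hzH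
  constructor
  · intro h1
    have hA : ∀ t : G, IsConj z t → t ≠ z → t * z = z * t → Subgroup.centralizer ({z * t} : Set G) ≤ H := by
      intro t ht htz htc g hg
      rw [Subgroup.mem_centralizer_singleton_iff] at hg
      rw [← h1 t ht htz htc, mem_map_conj_iff]
      have : g⁻¹ * (z * t) * g = z * t := by rw [mul_assoc, ← hg]; group
      rw [this]
      exact H.mul_mem hzH (hCz (Subgroup.mem_centralizer_singleton_iff.mpr htc))
    refine ⟨?_, hA⟩
    obtain ⟨g0, hg0⟩ : ∃ g0 : G, g0 ∉ H := by
      by_contra hcon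
      push Not at hcon
      exact hH (eq_top_iff.mpr fun x _ => hcon x)
    -- the set A
    have hcardA : Nat.card {c : G // IsConj z c ∧ g0⁻¹ * c ∈ H} = Nat.card {a : G // IsConj z a ∧ a ∈ H} := by
      -- first bijection to B
      have e1 : Nat.card {b : G // IsConj z b ∧ g0⁻¹ * b * g0 ∈ H} = Nat.card {a : G // IsConj z a ∧ a ∈ H} := by
        apply Nat.card_congr
        refine Equiv.subtypeEquiv (MulAut.conj g0⁻¹).toEquiv ?_
        intro b
        have hb : (MulAut.conj g0⁻¹).toEquiv b = g0⁻¹ * b * g0 := by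
          show (MulAut.conj g0⁻¹) b = _
          rw [MulAut.conj_apply, inv_inv]
        rw [hb]
        constructor
        · rintro ⟨h2, h3⟩
          exact ⟨h2.trans (isConj_iff.mpr ⟨g0⁻¹, by rw [inv_inv]⟩), h3⟩
        · rintro ⟨h2, h3⟩
          exact ⟨h2.trans (isConj_iff.mpr ⟨g0, by group⟩), h3⟩
      rw [← e1]
      apply Nat.card_congr
      refine Equiv.ofBijective (fun c => ⟨c.1 * z * c.1⁻¹, isConj_iff.mpr ⟨c.1, rfl⟩, ?_⟩) ⟨?_, ?_⟩
      · obtain ⟨c, hc1, hc2⟩ := c
        have : g0⁻¹ * (c * z * c⁻¹) * g0 = (g0⁻¹ * c) * z * (g0⁻¹ * c)⁻¹ := by group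
        show g0⁻¹ * (c * z * c⁻¹) * g0 ∈ H
        rw [this]
        exact H.mul_mem (H.mul_mem hc2 hzH) (H.inv_mem hc2)
      · rintro ⟨c, hc1, hc2⟩ ⟨d, hd1, hd2⟩ hcd
        have hcd' : c * z * c⁻¹ = d * z * d⁻¹ := congrArg Subtype.val hcd
        have hc22 : c * c = 1 := by
          obtain ⟨x, rfl⟩ := isConj_iff.mp hc1
          calc x * z * x⁻¹ * (x * z * x⁻¹) = x * (z * z) * x⁻¹ := by group
            _ = 1 := by rw [hzz]; group
        have hd22 : d * d = 1 := by
          obtain ⟨x, rfl⟩ := isConj_iff.mp hd1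
          calc x * z * x⁻¹ * (x * z * x⁻¹) = x * (z * z) * x⁻¹ := by group
            _ = 1 := by rw [hzz]; group
        have hci : c⁻¹ = c := by rw [inv_eq_iff_mul_eq_one]; exact hc22
        have hdi : d⁻¹ = d := by rw [inv_eq_iff_mul_eq_one]; exact hd22
        rw [hci, hdi] at hcd'
        have hcH : c ∉ H := by
          intro h; apply hg0
          have : g0 = c * (g0⁻¹ * c)⁻¹ := by group
          rw [this]; exact H.mul_mem h (H.inv_mem hc2)
        have hdH : d ∉ H := by
          intro h; apply hg0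
          have : g0 = d * (g0⁻¹ * d)⁻¹ := by group
          rw [this]; exact H.mul_mem h (H.inv_mem hd2)
        have ho1 := odd_prod z hz H hA c hc1 hcH
        have ho2 := odd_prod z hz H hA d hd1 hdH
        have hsq : (z * c) ^ 2 = (z * d) ^ 2 := by
          rw [pow_two, pow_two]
          calc z * c * (z * c) = z * (c * z * c) := by group
            _ = z * (d * z * d) := by rw [hcd']
            _ = z * d * (z * d) := by group
        -- z*c and z*d are both powers of the common square with odd orders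
        have hcomm1 : ∃ m : ℕ, ((z * c) ^ 2) ^ m = z * c := by
          obtain ⟨m, hm⟩ := ho1
          refine ⟨m + 1, ?_⟩
          rw [← pow_mul]
          have : 2 * (m + 1) = orderOf (z * c) + 1 := by omega
          rw [this, pow_succ, pow_orderOf_eq_one, one_mul]
        have hord : orderOf ((z * c) ^ 2) = orderOf (z * c) := by
          apply Nat.Coprime.orderOf_pow
          exact ho1.coprime_two_right
        have hord2 : orderOf ((z * d) ^ 2) = orderOf (z * d) := by
          apply Nat.Coprime.orderOf_pow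
          exact ho2.coprime_two_right
        have hoo : orderOf (z * c) = orderOf (z * d) := by
          rw [← hord, ← hord2, hsq]
        obtain ⟨m, hm⟩ := ho1
        have e1 : z * c = ((z * c) ^ 2) ^ (m + 1) := by
          rw [← pow_mul]
          have : 2 * (m + 1) = orderOf (z * c) + 1 := by omega
          rw [this, pow_succ, pow_orderOf_eq_one, one_mul]
        have e2 : z * d = ((z * d) ^ 2) ^ (m + 1) := by
          rw [← pow_mul]
          have : 2 * (m + 1) = orderOf (z * d) + 1 := by omega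
          rw [this, pow_succ, pow_orderOf_eq_one, one_mul]
        have e3 : z * c = z * d := by rw [e1, e2, hsq]
        exact Subtype.ext (mul_left_cancel e3)
      · rintro ⟨b, hb1, hb2⟩
        have hbH : b ∉ H := by
          intro h
          -- b = x z x⁻¹ ∈ H → x ∈ H ; g0⁻¹ b g0 ∈ H → ...
          obtain ⟨x, hx⟩ := isConj_iff.mp hb1
          have hx1 : x⁻¹ ∈ H := by
            rw [← hF]
            have : x⁻¹⁻¹ * z * x⁻¹ = b := by rw [← hx]; group
            rw [this]; exact h
          have hx2 : x⁻¹ * g0 ∈ H := by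
            rw [← hF]
            have : (x⁻¹ * g0)⁻¹ * z * (x⁻¹ * g0) = g0⁻¹ * b * g0 := by rw [← hx]; group
            rw [this]; exact hb2
          apply hg0
          have : g0 = (x⁻¹)⁻¹ * (x⁻¹ * g0) := by group
          rw [this]; exact H.mul_mem (H.inv_mem hx1) hx2
        have ho := odd_prod z hz H hA b hb1 hbH
        have hb22 : b ^ 2 = 1 := by
          obtain ⟨x, rfl⟩ := isConj_iff.mp hb1
          rw [conj_pow, hz2]; group
        obtain ⟨k, hk⟩ := conj_of_odd hz2 hb22 ho
        -- c = (z b)^k z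
        have hcz : (z * b) ^ k * z * z * ((z * b) ^ k * z)⁻¹ = b := by
          calc (z * b) ^ k * z * z * ((z * b) ^ k * z)⁻¹ = (z * b) ^ k * z * (z * z⁻¹) * ((z * b) ^ k)⁻¹ := by group
            _ = (z * b) ^ k * z * ((z * b) ^ k)⁻¹ := by group
            _ = b := hk
        have hconj : IsConj z ((z * b) ^ k * z) := by
          -- find j with 2 j ≡ k mod order
          obtain ⟨n, hn⟩ := ho
          rw [isConj_iff]
          refine ⟨(z * b) ^ (k * (n + 1)), ?_⟩
          rw [conj_pow_invol hz2 hb22]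
          congr 1
          have : 2 * (k * (n + 1)) = orderOf (z * b) * k + k := by rw [hn]; ring
          rw [this, pow_add, pow_mul, pow_orderOf_eq_one, one_pow, one_mul]
        have hmem : g0⁻¹ * ((z * b) ^ k * z) ∈ H := by
          set c : G := (z * b) ^ k * z with hc
          have : (g0⁻¹ * c)⁻¹ ∈ H := by
            have h3 : c⁻¹ * g0 ∈ H := by
              rw [← hF]
              have : (c⁻¹ * g0)⁻¹ * z * (c⁻¹ * g0) = g0⁻¹ * (c * z * c⁻¹) * g0 := by group
              rw [this, hcz]; exact hb2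
            have : (g0⁻¹ * c)⁻¹ = c⁻¹ * g0 := by group
            rw [this]; exact h3
          have h4 := H.inv_mem this
          rwa [inv_inv] at h4
        exact ⟨⟨(z * b) ^ k * z, hconj, hmem⟩, Subtype.ext hcz⟩
    -- odd
    have hoddI : Odd (Nat.card {c : G // IsConj z c ∧ g0⁻¹ * c ∈ H}) := by
      have hne : Nonempty {c : G // IsConj z c ∧ g0⁻¹ * c ∈ H} := by
        have : 0 < Nat.card {c : G // IsConj z c ∧ g0⁻¹ * c ∈ H} := by
          rw [hcardA]
          have : Nonempty {a : G // IsConj z a ∧ a ∈ H} := ⟨⟨z, IsConj.refl z, hzH⟩⟩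
          exact Nat.card_pos
        exact (Nat.card_pos_iff.mp this).1
      obtain ⟨⟨c0, hc01, hc02⟩⟩ := hne
      have sq : ∀ c : G, IsConj z c → c * c = 1 := by
        intro c hc
        obtain ⟨x, rfl⟩ := isConj_iff.mp hc
        calc x * z * x⁻¹ * (x * z * x⁻¹) = x * (z * z) * x⁻¹ := by group
          _ = 1 := by rw [hzz]; group
      have cinv : ∀ c : G, IsConj z c → c⁻¹ = c := fun c hc => by
        rw [inv_eq_iff_mul_eq_one]; exact sq c hc
      have flip : ∀ c : G, IsConj z c → g0⁻¹ * c ∈ H → c * g0 ∈ H := by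
        intro c hc h
        have h2 := H.inv_mem h
        have : (g0⁻¹ * c)⁻¹ = c * g0 := by rw [mul_inv_rev, cinv c hc, inv_inv]
        rw [this] at h2; exact h2
      have hf : ∀ c : G, IsConj z c → g0⁻¹ * c ∈ H → IsConj z (c0 * c * c0⁻¹) ∧ g0⁻¹ * (c0 * c * c0⁻¹) ∈ H := by
        intro c hc h
        refine ⟨hc.trans (isConj_iff.mpr ⟨c0, rfl⟩), ?_⟩
        have : g0⁻¹ * (c0 * c * c0⁻¹) = (g0⁻¹ * c0) * (c * g0) * (g0⁻¹ * c0⁻¹) := by group
        rw [this, cinv c0 hc01]
        exact H.mul_mem (H.mul_mem hc02 (flip c hc h)) hc02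
      apply odd_card_of_involutive (fun c : {c : G // IsConj z c ∧ g0⁻¹ * c ∈ H} =>
        ⟨c0 * c.1 * c0⁻¹, hf c.1 c.2.1 c.2.2⟩) ?_ ⟨c0, hc01, hc02⟩ ?_
      · rintro ⟨c, hc1, hc2⟩
        apply Subtype.ext
        show c0 * (c0 * c * c0⁻¹) * c0⁻¹ = c
        calc c0 * (c0 * c * c0⁻¹) * c0⁻¹ = (c0 * c0) * c * (c0 * c0)⁻¹ := by group
          _ = c := by rw [sq c0 hc01]; group
      · rintro ⟨c, hc1, hc2⟩
        constructor
        · intro h
          have hcomm : c0 * c * c0⁻¹ = c := congrArg Subtype.val h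
          apply Subtype.ext
          show c = c0
          by_contra hne
          obtain ⟨x, hx⟩ := isConj_iff.mp hc01
          -- t = x⁻¹ c x
          have ht1 : IsConj z (x⁻¹ * c * x) := hc1.trans (isConj_iff.mpr ⟨x⁻¹, by group⟩)
          have ht2 : x⁻¹ * c * x ≠ z := by
            intro h2
            apply hne
            rw [← hx, ← h2]; group
          have hcc : c0 * c = c * c0 := by
            calc c0 * c = c0 * c * c0⁻¹ * c0 := by group
              _ = c * c0 := by rw [hcomm]
          have hz' : z = x⁻¹ * c0 * x := by rw [← hx]; group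
          have ht3 : x⁻¹ * c * x * z = z * (x⁻¹ * c * x) := by
            calc x⁻¹ * c * x * z = x⁻¹ * (c * c0) * x := by rw [hz']; group
              _ = x⁻¹ * (c0 * c) * x := by rw [hcc]
              _ = z * (x⁻¹ * c * x) := by rw [hz']; group
          have h5 := h1 (x⁻¹ * c * x) ht1 ht2 ht3
          have hzt : z * (x⁻¹ * c * x) = x⁻¹ * (c0 * c) * x := by rw [hz']; group
          have h6 : x⁻¹ ∈ H := by
            rw [← h5, mem_map_conj_iff, hzt]
            have : x⁻¹⁻¹ * (x⁻¹ * (c0 * c) * x) * x⁻¹ = (c0 * g0) * (g0⁻¹ * c) := by group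
            rw [this]
            exact H.mul_mem (flip c0 hc01 hc02) hc2
          have h7 : x⁻¹ * g0 ∈ H := by
            rw [← h5, mem_map_conj_iff, hzt]
            have : (x⁻¹ * g0)⁻¹ * (x⁻¹ * (c0 * c) * x) * (x⁻¹ * g0) = (g0⁻¹ * c0) * (c * g0) := by group
            rw [this]
            exact H.mul_mem hc02 (flip c hc1 hc2)
          apply hg0
          have : g0 = (x⁻¹)⁻¹ * (x⁻¹ * g0) := by group
          rw [this]; exact H.mul_mem (H.inv_mem h6) h7
        · intro h
          have h' : c = c0 := congrArg Subtype.val h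
          subst h'
          apply Subtype.ext
          show c * c * c⁻¹ = c
          group
    have hoddA : Odd (Nat.card {a : G // IsConj z a ∧ a ∈ H}) := by rw [← hcardA]; exact hoddI
    have hoddH : Odd H.index := by
      have hf : Function.Involutive (fun q : G ⧸ H => z • q) := by
        intro q
        show z • (z • q) = q
        rw [smul_smul, hzz, one_smul]
      apply odd_card_of_involutive (fun q : G ⧸ H => z • q) hf ((1 : G) : G ⧸ H)
      intro q
      induction q using QuotientGroup.induction_on with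
      | H g =>
        show ((z * g : G) : G ⧸ H) = (g : G ⧸ H) ↔ _
        rw [QuotientGroup.eq, QuotientGroup.eq]
        have : (z * g)⁻¹ * g = g⁻¹ * z * g := by rw [mul_inv_rev, hzi]
        rw [this, hF, mul_one, inv_mem_iff]
    have hidx : ¬ 2 ∣ (Subgroup.centralizer ({z} : Set G)).index := by
      rw [← Subgroup.relIndex_mul_index hCz]
      have hrel : (Subgroup.centralizer ({z} : Set G)).relIndex H = Nat.card {a : G // IsConj z a ∧ a ∈ H} := by
        have h2 : (Subgroup.centralizer ({z} : Set G)).relIndex H = (Subgroup.centralizer ({(⟨z, hzH⟩ : H)} : Set H)).index := by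
          rw [Subgroup.relIndex]
          congr 1
          ext x
          rw [Subgroup.mem_subgroupOf, Subgroup.mem_centralizer_singleton_iff, Subgroup.mem_centralizer_singleton_iff]
          constructor
          · intro h; exact Subtype.ext h
          · intro h; exact congrArg H.subtype h
        rw [h2, ← card_conj_eq_index]
        apply Nat.card_congr
        refine ⟨fun y => ⟨y.1, ?_, y.1.2⟩, fun a => ⟨⟨a.1, a.2.2⟩, ?_⟩, fun y => rfl, fun a => rfl⟩
        · obtain ⟨c, hc⟩ := isConj_iff.mp y.2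
          exact isConj_iff.mpr ⟨c, congrArg H.subtype hc⟩
        · obtain ⟨c, hc⟩ := isConj_iff.mp a.2.1
          have hcH : c⁻¹ ∈ H := by
            rw [← hF]
            have : c⁻¹⁻¹ * z * c⁻¹ = a.1 := by rw [← hc]; group
            rw [this]; exact a.2.2
          have hcH' : c ∈ H := by have := H.inv_mem hcH; rwa [inv_inv] at this
          exact isConj_iff.mpr ⟨⟨c, hcH'⟩, Subtype.ext hc⟩
      rw [hrel]
      have hodd := hoddA.mul hoddH
      rw [← even_iff_two_dvd]
      exact Nat.not_even_iff_odd.mpr hodd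
    exact exists_sylow_center z ⟨1, by rw [pow_one]; exact hz2⟩ hidx
  · rintro ⟨⟨P, hP⟩, hA⟩ t ht htz htc g
    have hPz : ∀ x ∈ (P : Subgroup G), x * z = z * x := by
      intro x hx
      obtain ⟨z', hz', hzz'⟩ := hP
      have h1 := Subgroup.mem_center_iff.mp hz' ⟨x, hx⟩
      have h2 := congrArg (P : Subgroup G).subtype h1
      rw [map_mul, map_mul, hzz'] at h2
      exact h2
    have hPH : (P : Subgroup G) ≤ H := fun x hx => hCz (Subgroup.mem_centralizer_singleton_iff.mpr (hPz x hx))
    have htH : t ∈ H := hCz (Subgroup.mem_centralizer_singleton_iff.mpr htc)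
    have ht2 : t * t = 1 := by
      obtain ⟨x, rfl⟩ := isConj_iff.mp ht
      calc x * z * x⁻¹ * (x * z * x⁻¹) = x * (z * z) * x⁻¹ := by group
        _ = 1 := by rw [hzz]; group
    rw [mem_map_conj_iff]
    constructor
    · intro hw
      have hwp : ∃ k : ℕ, (g⁻¹ * (z * t) * g) ^ 2 ^ k = 1 := by
        refine ⟨1, ?_⟩
        rw [pow_one, pow_two]
        calc g⁻¹ * (z * t) * g * (g⁻¹ * (z * t) * g) = g⁻¹ * (z * (t * z) * t) * g := by group
          _ = g⁻¹ * ((z * z) * (t * t)) * g := by rw [htc]; group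
          _ = 1 := by rw [hzz, ht2]; group
      obtain ⟨h, hh, hhP⟩ := exists_conj_mem_sylow_of_le P H hPH _ hw hwp
      have h1 := hPz _ hhP
      -- k = g h⁻¹
      have h2 : (g * h⁻¹) * z * (g * h⁻¹)⁻¹ ∈ H := by
        apply hA t ht htz htc
        rw [Subgroup.mem_centralizer_singleton_iff]
        calc (g * h⁻¹) * z * (g * h⁻¹)⁻¹ * (z * t) = (g * h⁻¹) * (z * (h * (g⁻¹ * (z * t) * g) * h⁻¹)) * (g * h⁻¹)⁻¹ := by group
          _ = (g * h⁻¹) * (h * (g⁻¹ * (z * t) * g) * h⁻¹ * z) * (g * h⁻¹)⁻¹ := by rw [h1]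
          _ = z * t * ((g * h⁻¹) * z * (g * h⁻¹)⁻¹) := by group
      have h3 : (g * h⁻¹)⁻¹ ∈ H := by
        rw [← hF]
        have : (g * h⁻¹)⁻¹⁻¹ * z * (g * h⁻¹)⁻¹ = (g * h⁻¹) * z * (g * h⁻¹)⁻¹ := by group
        rw [this]; exact h2
      have : g = ((g * h⁻¹)⁻¹)⁻¹ * h := by group
      rw [this]
      exact H.mul_mem (H.inv_mem h3) hh
    · intro hg
      exact H.mul_mem (H.mul_mem (H.inv_mem hg) (H.mul_mem hzH htH)) hg

end Cfsg.Agent.S1922
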