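import Cfsg.Statements.S2029
import Cfsg.Agent.Lib.KMason5

set_option autoImplicit false
open Cfsg

namespace Cfsg.Agent.S2029

open Subgroup in
/-- Let p be an odd prime and G a finite group that is both of local characteristic p (p divides its order and every p-local subgroup N satisfies C_N(O_p(N)) ≤ O_p(N)) and of characteristic 2 type (even order and every 2-local subgroup M satisfies C_M(O_2(M)) ≤ O_2(M)). Then every 2-local subgroup of G has p-rank at most 2. -/
theorem result {G : Type*} [Group G] [Finite G] (p : ℕ) [Fact p.Prime] (hp : p ≠ 2) (hGp : Cfsg.IsOfLocalCharacteristic p G) (hG2 : Cfsg.IsCharacteristicTwoType G) : Cfsg.TwoLocalPRankLE p 2 G := by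
  have hpr : Fact p.Prime := inferInstance
  rintro H ⟨Q, hQ, hQ1, rfl⟩ A hAc hAp
  by_contra hcon
  have hcon' : p ^ 2 < Nat.card A := not_le.1 hcon
  have hA : IsElementaryAbelian p A := ⟨hAc, hAp⟩
  have hE := Lib.ThompsonJ.elemAb_map (normalizer (Q : Set G)).subtype hA
  have hcard : Nat.card (A.map (normalizer (Q : Set G)).subtype) = Nat.card A :=
    card_map_of_injective (subtype_injective _)
  have hAg : IsPGroup p A := Lib.ThompsonJ.elemAb_isPGroup hA
  obtain ⟨n, hn⟩ := hAg.exists_card_eq
  have h3 : p ^ 3 ≤ Nat.card A := by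
    rw [hn] at hcon' ⊢
    have := (Nat.pow_lt_pow_iff_right hpr.out.one_lt).1 hcon'
    exact Nat.pow_le_pow_right hpr.out.pos this
  refine Lib.KMason.main hp hGp.2 hG2.2 hQ hQ1 hE (map_subtype_le _) ?_
  rw [hcard]
  exact h3

end Cfsg.Agent.S2029
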