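import Cfsg.Statements.S2081
import Cfsg.Agent.Lib.H92TyM
import Cfsg.Agent.Lib.FiAutD73
import Cfsg.Agent.Lib.FiIso22

set_option autoImplicit false
open Cfsg

namespace Cfsg.Agent.S2081

/-- The outer automorphism group of the Fischer group Fi₂₄′ (the commutator subgroup of the presented group Fi₂₄) has order 2. -/
theorem result : Nat.card (Cfsg.Out Cfsg.Spor.Fi24') = 2 := by
  haveI := Cfsg.Agent.Lib.Fi24Ord.finG
  exact Cfsg.Agent.Lib.FiGlue.out24 Cfsg.Agent.Lib.FiIso22.psu62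
    (Cfsg.Agent.Lib.H92TyM.group_of_class Cfsg.Agent.Lib.H92TyM.m24.1) Cfsg.Agent.Lib.H92TyM.m24.2.1
    Cfsg.Agent.Lib.H92TyM.m24.2.2

end Cfsg.Agent.S2081
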