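import Cfsg.Statements.S2083
import Cfsg.Agent.Lib.ThFin
import Cfsg.Agent.Lib.H72ThK

set_option autoImplicit false
open Cfsg

namespace Cfsg.Agent.S2083

/-- The outer automorphism group of the Thompson group (the finitely presented group of the definitions) is trivial: every automorphism is inner. -/
theorem result : Nat.card (Cfsg.Out Cfsg.Spor.Th) = 1 := by
  haveI := Cfsg.Agent.Lib.ThFin.finite
  obtain ⟨c, h0, h1, h2⟩ := Cfsg.Agent.Lib.ThFin.exists_c
  exact Cfsg.Agent.Lib.H72ThK.card_out Cfsg.Agent.Lib.ThFin.rho_inj Cfsg.Agent.Lib.ThFin.index_P c h0 h1 h2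

end Cfsg.Agent.S2083
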