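import Cfsg.Statements.S2113
import Cfsg.Agent.Lib.H26ReeU
import Cfsg.Agent.Lib.H26ReeMult
import Cfsg.Agent.Lib.H26Eight
import Cfsg.Agent.S1156
import Cfsg.Agent.S1157
import Cfsg.Agent.S1152

set_option autoImplicit false
open Cfsg

namespace Cfsg.Agent.S2113

open Cfsg.Lie Cfsg.Agent.Lib Cfsg.Agent.Lib.TwG2 Cfsg.Agent.Lib.ChevBruhat Subgroup

section

variable {K : Type*} [Field K] [Fintype K] {m : ℕ} (hK : Fintype.card K = 3 ^ (2 * m + 1))

local notation "R" => twistedG2 K (3 ^ m)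
local notation "BB" => (Subgroup.subgroupOf (chevG2.borelSubgroup K ⊓ R) R)

/-- unipotent elements in the Borel subgroup -/
noncomputable def uB (K : Type*) [Field K] [Fintype K] (m : ℕ) (t u v : K) :
    ((chevG2.borelSubgroup K ⊓ twistedG2 K (3 ^ m)).subgroupOf (twistedG2 K (3 ^ m))) :=
  ⟨⟨UU (3 ^ m) t u v, mem_UU _ _ _ _⟩, (ReeQ.mem_sub _ _ _).2 (borel_U TwG2.G (UU_memU _ _ _ _))⟩

/-- torus elements in the Borel subgroup -/
noncomputable def hB (s : Kˣ) : BB :=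
  ⟨⟨th (3 ^ m) (s : K), th_mem hK s.ne_zero⟩, (ReeQ.mem_sub _ _ _).2 (borel_H TwG2.G (th_memH hK s.ne_zero))⟩

include hK in
theorem uB_mul (t u v t' u' v' : K) : uB K m t u v * uB K m t' u' v' =
    uB K m (t + t') (u + u' - (t' ^ 3 ^ m) ^ 3 * t)
      (v + v' - t' * u + (t' ^ 3 ^ m) ^ 3 * t * t' - (t' ^ 3 ^ m) ^ 3 * t ^ 2) :=
  Subtype.ext (Subtype.ext (H26Ree.UU_mul hK t u v t' u' v'))

theorem hB_mul (s t : Kˣ) : hB hK s * hB hK t = hB hK (s * t) :=
  Subtype.ext (Subtype.ext (th_mul (T hK) _ s.ne_zero t.ne_zero))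

theorem hB_conj (s : Kˣ) (t u v : K) : hB hK s * uB K m t u v * (hB hK s)⁻¹ =
    uB K m ((((s : K) ^ 3 ^ m) ^ 3)⁻¹ * (s : K) ^ 2 * t) (((s : K) ^ 3 ^ m) ^ 3 * (s : K)⁻¹ * u) (s * v) :=
  Subtype.ext (Subtype.ext (th_UU hK s.ne_zero t u v))

theorem hB_all (g : BB) : ∃ s t u v, g = hB hK s * uB K m t u v := by
  obtain ⟨t, u, v, s, hs, h⟩ := ReeQ.borel_form hK (m := m) (g := ((g : R) : GL chevG2.Idx K))
    ⟨(ReeQ.mem_sub _ _ _).1 g.2, (g : R).2⟩
  set s' : Kˣ := Units.mk0 s hs with hs'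
  have h1 : g = uB K m t u v * hB hK s' := Subtype.ext (Subtype.ext h)
  have h2 := hB_conj hK s'⁻¹ t u v
  have h3 : (hB hK s')⁻¹ = hB hK s'⁻¹ := by
    rw [inv_eq_iff_mul_eq_one, hB_mul, mul_inv_cancel]
    exact Subtype.ext (Subtype.ext (th_one hK))
  have h4 : g = hB hK s' * (hB hK s'⁻¹ * uB K m t u v * (hB hK s'⁻¹)⁻¹) := by
    rw [h1, ← h3]; group
  rw [h2] at h4
  exact ⟨_, _, _, _, h4⟩

include hK in
theorem index_B : ¬ 3 ∣ (Subgroup.index BB) := by
  have h1 := TwG2.card_Γ hK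
  have h2 : Nat.card BB = _ := (ReeQ.card_subgroupOf _ _).trans (ReeQ.card_Borel hK)
  have h3 := (BB).card_mul_index
  rw [h1, h2] at h3
  have hq : 27 ^ 0 < (3 : ℕ) ^ (2 * m + 1) := by
    rw [pow_zero]; exact Nat.one_lt_pow (by omega) (by norm_num)
  have h4 := Nat.eq_of_mul_eq_mul_left (Nat.mul_pos (by positivity) (by omega)) h3
  rw [h4]
  intro h5
  have h6 : 3 ∣ (3 ^ (2 * m + 1)) ^ 3 := dvd_pow (dvd_pow_self 3 (by omega)) (by norm_num)
  have := (Nat.dvd_add_right h6).1 h5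
  norm_num at this

include hK in
theorem three_part (hm : 1 ≤ m) : SchurSylow.PStemDvd 3 R 1 := by
  refine SchurSylow.PStemDvd.of_index (index_B hK) ?_
  intro Γ _ _ σ hσ hp
  have hc3 := TwG2.char3 hK
  have h3 : (3 : K) = 0 := by exact_mod_cast CharP.cast_eq_zero K 3
  have hφ : ∀ x : K, iterateFrobenius K 3 (m + 1) x = x ^ 3 ^ (m + 1) := fun x => rfl
  have hφ' : ∀ x : K, iterateFrobenius K 3 (m + 1) x = (x ^ 3 ^ m) ^ 3 := fun x => by
    rw [hφ, pow_succ, pow_mul]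
  have := H26ReeMult.core (iterateFrobenius K 3 (m + 1)) h3 (fun x => by
      rw [hφ' ((iterateFrobenius K 3 (m + 1)) x), hφ' x, TwG2.hT hK]) (uB K m) (hB hK)
    (fun t u v t' u' v' => by rw [uB_mul hK]; simp only [hφ'])
    (fun s t => hB_mul hK s t) (fun s t u v => by rw [hB_conj hK]; simp only [hφ'])
    (hB_all hK) (N := 3 ^ (m + 1)) (by
      calc 9 = 3 ^ 2 := by norm_num
        _ ≤ 3 ^ (m + 1) := Nat.pow_le_pow_right (by norm_num) (by omega)) (by rw [hK]; ring) hφ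
    (fun a ha => by
      obtain ⟨s, hs, h | h⟩ := TwG2.sq_or hK a ha
      · exact ⟨s, hs, Or.inl h⟩
      · exact ⟨s, hs, Or.inr h⟩) σ hσ hp
  rw [this, card_bot]

include hK in
theorem two_part (hm : 1 ≤ m) : SchurSylow.PStemDvd 2 R 1 := by
  obtain ⟨S⟩ : Nonempty (Sylow 2 R) := inferInstance
  have hc : Nat.card S = 8 := (TwG2.sylow2 hK S).1
  have hsq := (TwG2.sylow2 hK S).2
  have h1 := S1157.result hm hK S
  have : Fact (Nat.Prime 7) := ⟨by norm_num⟩
  have : Fact (Nat.Prime 2) := ⟨Nat.prime_two⟩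
  obtain ⟨g, hg⟩ := exists_prime_orderOf_dvd_card' (G := normalizer ((S : Subgroup R) : Set R)) 7 (by
    rw [h1.2]; norm_num)
  have hg7 : (g : R) ^ 7 = 1 := by
    have := pow_orderOf_eq_one g
    rw [hg] at this
    simpa using congrArg Subtype.val this
  refine H26Eight.pStemDvd_two (S := (S : Subgroup R)) S.not_dvd_index hc hsq hg7
    (fun x hx => (mem_normalizer_iff.1 g.2 x).1 hx) ?_
  by_contra hcon
  push Not at hcon
  have h2 : (g : R) ∈ centralizer ((S : Subgroup R) : Set R) := by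
    rw [mem_centralizer_iff]
    intro x hx
    have := hcon x hx
    rw [mul_inv_eq_iff_eq_mul] at this
    exact this.symm
  rw [h1.1] at h2
  have h3 : (⟨(g : R), h2⟩ : (S : Subgroup R)) ^ 8 = 1 := by rw [← hc]; exact pow_card_eq_one'
  have h4 : (g : R) ^ 8 = 1 := by simpa using congrArg Subtype.val h3
  have h5 : (g : R) = 1 := by
    rw [pow_succ, hg7, one_mul] at h4; exact h4
  have h6 : g = 1 := Subtype.ext h5
  rw [h6, orderOf_one] at hg
  norm_num at hg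

end

/-- Schur multipliers of the small Ree groups: for q = 3^(2m+1) with m ≥ 1 the Schur multiplier of ²G₂(q) is trivial (here the Schur multiplier is described through stem extensions, as in the definitions). -/
theorem result {K : Type*} [Field K] [Fintype K] {m : ℕ} (hm : 1 ≤ m) (hK : Fintype.card K = 3 ^ (2 * m + 1)) : Cfsg.HasCyclicSchurMultiplier ↥(Cfsg.Lie.twistedG2 K (3 ^ m)) 1 := by
  refine Lib.SchurSylow.hasTrivial_of_stemDvd (Lib.SchurSylow.StemDvd.of_forall fun p hp => ?_)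
  by_cases h2 : p = 2
  · subst h2; exact two_part hK hm
  by_cases h3 : p = 3
  · subst h3; exact three_part hK hm
  have : Fact p.Prime := ⟨hp⟩
  have hp3 : 3 < p := by
    have := hp.two_le
    omega
  obtain ⟨P⟩ : Nonempty (Sylow p ↥(Cfsg.Lie.twistedG2 K (3 ^ m))) := inferInstance
  have hP : ¬ p ∣ (P : Subgroup ↥(Cfsg.Lie.twistedG2 K (3 ^ m))).index := P.not_dvd_index
  refine Lib.SchurSylow.PStemDvd.of_index hP ?_
  have := S1156.result hm hK hp3 P
  exact Lib.SchurSylow.stemDvd_of_isCyclic.pStemDvd p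

end Cfsg.Agent.S2113
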