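import Cfsg.Statements.S2131
import Cfsg.Agent.Lib.JOneCent
import Cfsg.Agent.Lib.Pres235
import Cfsg.Agent.Lib.OutBound

set_option autoImplicit false
open Cfsg

namespace Cfsg.Agent.S2131

open Cfsg.Agent.Lib.JOne Cfsg.Agent.Lib.Pres235

def wa : List Bool := [true, false, false, true, false, true, true, true, false, false, false, true, true]

def wb : List Bool := [true, false, false, true, true, true, false, true, true, true, true, false, false, false, true]

/-- the involution -/
noncomputable def t : W := ev (we 1)

theorem t_sq : t * t = 1 := by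
  apply cd_inj
  rw [cd_mul, t, cd_ev, cd_one]
  decide +kernel

theorem t_ne : t ≠ 1 := by
  intro h
  have := congrArg cd h
  rw [t, cd_ev, cd_one] at this
  exact absurd this (by decide +kernel)

theorem a_comm : ev wa * t = t * ev wa := by
  apply cd_inj
  rw [cd_mul, cd_mul, t, cd_ev, cd_ev]
  decide +kernel

theorem b_comm : ev wb * t = t * ev wb := by
  apply cd_inj
  rw [cd_mul, cd_mul, t, cd_ev, cd_ev]
  decide +kernel

theorem a_pow : (ev wa) ^ 3 = 1 := by
  apply cd_inj
  rw [cd_pow, cd_ev, cd_one]
  decide +kernel

theorem b_pow : (ev wb) ^ 5 = 1 := by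
  apply cd_inj
  rw [cd_pow, cd_ev, cd_one]
  decide +kernel

theorem ab_pow : (ev wa * ev wb) ^ 2 = 1 := by
  apply cd_inj
  rw [cd_pow, cd_mul, cd_ev, cd_ev, cd_one]
  decide +kernel

theorem a_ne : ev wa ≠ 1 := by
  intro h
  have := congrArg cd h
  rw [cd_ev, cd_one] at this
  exact absurd this (by decide +kernel)

/-- the centralizer -/
abbrev C : Subgroup W := Subgroup.centralizer ({t} : Set W)

/-- first generator -/
noncomputable def aC : C := ⟨ev wa, by rw [Subgroup.mem_centralizer_singleton_iff]; exact a_comm⟩

/-- second generator -/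
noncomputable def bC : C := ⟨ev wb, by rw [Subgroup.mem_centralizer_singleton_iff]; exact b_comm⟩

theorem aC_val : (aC : W) = ev wa := rfl

theorem aC_ne : aC ≠ 1 := by
  intro h
  have h1 : (aC : W) = ((1 : C) : W) := congrArg _ h
  rw [aC_val, OneMemClass.coe_one] at h1
  exact a_ne h1

/-- the embedding of `A₅` -/
theorem exists_phi : ∃ f : alternatingGroup (Fin 5) →* C, Function.Injective f := by
  obtain ⟨e, he0, he1⟩ := Cfsg.Agent.Lib.Pres235.equiv
  have ha : aC ^ 3 = 1 := Subtype.ext a_pow
  have hb : bC ^ 5 = 1 := Subtype.ext b_pow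
  have hab : (aC * bC) ^ 2 = 1 := Subtype.ext ab_pow
  let g : PresentedGroup rels →* C := PresentedGroup.toGroup (f := ![aC, bC]) (by
    rintro r (rfl | rfl | rfl)
    · simpa using ha
    · simpa using hb
    · simpa using hab)
  have g0 : g (PresentedGroup.of 0) = aC := by simp [g]
  let f : alternatingGroup (Fin 5) →* C := g.comp e.symm.toMonoidHom
  refine ⟨f, ?_⟩
  have hs := alternatingGroup.isSimpleGroup (α := Fin 5) (by simp)
  rw [← MonoidHom.ker_eq_bot_iff]
  rcases IsSimpleGroup.eq_bot_or_eq_top_of_normal f.ker inferInstance with h | h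
  · exact h
  · exfalso
    have h1 : f (e (PresentedGroup.of 0)) = 1 := by
      have : e (PresentedGroup.of 0) ∈ f.ker := by rw [h]; exact Subgroup.mem_top _
      exact this
    have h2 : f (e (PresentedGroup.of 0)) = g (e.symm (e (PresentedGroup.of 0))) := rfl
    rw [e.symm_apply_apply, g0] at h2
    exact aC_ne (h2.symm.trans h1)

/-- the subgroup of order two -/
noncomputable def tC : C := ⟨t, by rw [Subgroup.mem_centralizer_singleton_iff]⟩

theorem tC_sq : tC * tC = 1 := Subtype.ext t_sq

/-- the map from the group of order two given by an element of square one -/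
noncomputable def homTwo {G : Type*} [Group G] (c : G) (hc : c * c = 1) : Multiplicative (ZMod 2) →* G where
  toFun m := if Multiplicative.toAdd m = 0 then 1 else c
  map_one' := by simp
  map_mul' := by
    intro x y
    have h : ∀ x y : ZMod 2, (if x + y = 0 then (1 : G) else c) = (if x = 0 then 1 else c) * (if y = 0 then 1 else c) := by
      intro x y
      have hx : ∀ x : ZMod 2, x = 0 ∨ x = 1 := by decide
      have h11 : (1 : ZMod 2) + 1 = 0 := by decide
      have h10 : (1 : ZMod 2) ≠ 0 := by decide
      rcases hx x with rfl | rfl <;> rcases hx y with rfl | rfl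
      · simp
      · simp
      · simp
      · rw [h11, if_pos rfl, if_neg h10, hc]
    exact h _ _

theorem homTwo_apply {G : Type*} [Group G] (c : G) (hc : c * c = 1) (m : Multiplicative (ZMod 2)) :
    homTwo c hc m = if Multiplicative.toAdd m = 0 then 1 else c := rfl

noncomputable def fz : Multiplicative (ZMod 2) →* C := homTwo tC tC_sq

/-- The Janko group J₁ (the group generated by two explicit 7 × 7 matrices over the integers modulo 11) has an involution whose centraliser is isomorphic to the direct product of a group of order 2 with the alternating group of degree 5. -/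
theorem result : ∃ t : ↥Cfsg.Spor.J1, orderOf t = 2 ∧ Nonempty (↥(Subgroup.centralizer ({t} : Set ↥Cfsg.Spor.J1)) ≃* Multiplicative (ZMod 2) × ↥(alternatingGroup (Fin 5))) := by
  refine ⟨t, orderOf_eq_prime (by rw [pow_two]; exact t_sq) t_ne, ?_⟩
  obtain ⟨f, hf⟩ := exists_phi
  have hcomm : ∀ c : C, Commute tC c := by
    intro c
    apply Subtype.ext
    exact (Subgroup.mem_centralizer_singleton_iff.1 c.2).symm
  let ψ : Multiplicative (ZMod 2) × alternatingGroup (Fin 5) →* C := MonoidHom.noncommCoprod fz f (by
    intro m n
    rw [fz, homTwo_apply]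
    split
    · exact Commute.one_left _
    · exact hcomm _)
  have hψ : ∀ m s, ψ (m, s) = fz m * f s := fun m s => rfl
  have hs := alternatingGroup.isSimpleGroup (α := Fin 5) (by simp)
  have hZ : Subgroup.center (alternatingGroup (Fin 5)) = ⊥ :=
    Cfsg.Agent.Lib.OutBound.center_eq_bot ⟨px, py, by decide⟩
  have hinj : Function.Injective ψ := by
    rw [injective_iff_map_eq_one]
    rintro ⟨m, s⟩ h
    rw [hψ] at h
    have hm : fz m = if Multiplicative.toAdd m = 0 then 1 else tC := homTwo_apply _ _ _
    by_cases h0 : Multiplicative.toAdd m = 0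
    · rw [hm, if_pos h0, one_mul] at h
      have h1 : s = 1 := hf (h.trans (map_one f).symm)
      have h2 : m = 1 := h0
      rw [h1, h2]; rfl
    · exfalso
      rw [hm, if_neg h0] at h
      have h1 : f s = tC := by
        have h3 : tC * f s = tC * tC := h.trans tC_sq.symm
        exact mul_left_cancel h3
      have h2 : s ∈ Subgroup.center (alternatingGroup (Fin 5)) := by
        rw [Subgroup.mem_center_iff]
        intro g
        apply hf
        rw [map_mul, map_mul, h1]
        exact (hcomm (f g)).symm
      rw [hZ, Subgroup.mem_bot] at h2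
      rw [h2, map_one] at h1
      exact t_ne (congrArg Subtype.val h1).symm
  have hcard : Nat.card (Multiplicative (ZMod 2) × alternatingGroup (Fin 5)) = 120 := by
    rw [Nat.card_prod]
    have h1 : Nat.card (Multiplicative (ZMod 2)) = 2 := Nat.card_zmod 2
    have h2 : Nat.card (alternatingGroup (Fin 5)) = 60 := by
      rw [Nat.card_eq_fintype_card]; rfl
    rw [h1, h2]
  have hb : Function.Bijective ψ := by
    rw [Nat.bijective_iff_injective_and_card]
    refine ⟨hinj, le_antisymm (Nat.card_le_card_of_injective _ hinj) ?_⟩
    rw [hcard]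
    exact card_cent_inv
  exact ⟨(MulEquiv.ofBijective ψ hb).symm⟩

end Cfsg.Agent.S2131
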