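import Cfsg.Statements.S2220
import Cfsg.Agent.Lib.H82K9Char
import Cfsg.Agent.Lib.H82K9Red
import Cfsg.Agent.Lib.H15SX
import Cfsg.Agent.Lib.H15NUM1
import Cfsg.Agent.Lib.H15SI
import Cfsg.Agent.Lib.H15N5

set_option autoImplicit false
open Cfsg

namespace Cfsg.Agent.S2220

open Cfsg.Agent.Lib.H15S

theorem fin {G : Type*} [Group G] [Finite G] [IsSimpleGroup G] (hG : ¬ IsMulCommutative G)
    (q a b : ℕ) (hq : q.Prime) (hq2 : q ≠ 2) (hq3 : q ≠ 3) (hcard : Nat.card G = 9 * 2 ^ a * q ^ b)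
    (R : Sylow 3 G) (hR : ∀ k ∈ (R : Subgroup G), k ≠ 1 → Subgroup.centralizer ({k} : Set G) = R)
    (hHK : Cfsg.Agent.Lib.H15S.HK G) (hR9 : Nat.card R = 9) (h3 : ∀ k ∈ (R : Subgroup G), k ^ 3 = 1)
    (hone : ∀ k k' : G, orderOf k = 3 → orderOf k' = 3 → IsConj k k') : False := by
  obtain ⟨ι, fι, v, d, T, T', v0, s8, s1, m9, d1, dq, sq, Tq, T2, Tx, Ty, hN⟩ :=
    Cfsg.Agent.Lib.H82K9.char_data hG q a b hq hq2 hq3 hcard R hR9 hR h3 hone
  obtain ⟨k0, hk0⟩ : ∃ k : R, k ≠ 1 := by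
    have : Nontrivial R := by rw [← Finite.one_lt_card_iff_nontrivial, hR9]; norm_num
    exact exists_ne 1
  obtain ⟨k, hkR⟩ := k0
  have hk1 : k ≠ 1 := fun h => hk0 (Subtype.ext h)
  haveI : Fact (Nat.Prime 3) := ⟨Nat.prime_three⟩
  have hk : orderOf k = 3 := orderOf_eq_prime (h3 k hkR) hk1
  have hki : orderOf k⁻¹ = 3 := by rw [orderOf_inv, hk]
  have h72 := Cfsg.Agent.Lib.H15SX.X72 hHK hq hq2 hq3 hcard
  have ha : 3 ≤ a := by
    have h8 : 2 ^ 3 ∣ 2 ^ a * q ^ b := by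
      rw [← Nat.div_add_mod (2 ^ a * q ^ b) 72, h72]
      exact ⟨9 * (2 ^ a * q ^ b / 72) + 1, by ring⟩
    have hc : Nat.Coprime (2 ^ 3) (q ^ b) := by
      apply Nat.Coprime.pow
      exact (Nat.coprime_primes Nat.prime_two hq).2 (Ne.symm hq2)
    have h9 := hc.dvd_of_dvd_mul_right h8
    exact (Nat.pow_dvd_pow_iff_le_right (by norm_num)).1 h9
  have hb := Cfsg.Agent.Lib.H15SI.bound hG hHK hq hq2 hq3 ha hcard hk
  have hND : NumData v d T T' q a b
      (Nat.card {p : G × G // orderOf p.1 = 3 ∧ orderOf p.2 = 3 ∧ p.1 * p.2 = k⁻¹}) :=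
    { hq := hq, q2 := hq2, q3 := hq3, v0 := v0, s8 := s8, s1 := s1, m9 := m9, d1 := d1, dq := dq, sq := sq
      Tq := Tq, T2 := T2, Tx := Tx, Ty := Ty, hN := hN k⁻¹ hki
      N1 := by
        haveI : Nonempty {p : G × G // orderOf p.1 = 3 ∧ orderOf p.2 = 3 ∧ p.1 * p.2 = k⁻¹} :=
          ⟨⟨(k, k), hk, hk, by
            show k * k = k⁻¹
            have h := h3 k hkR
            rw [eq_inv_iff_mul_eq_one, ← h]; rw [pow_succ, pow_two]⟩⟩
        exact Nat.card_pos }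
  exact Cfsg.Agent.Lib.H15N2.num_search hND (Cfsg.Agent.Lib.H15SNUM1.num_region hND) h72 hb

/-- Let G be a non-abelian finite simple group of order 9·2ᵃ·qᵇ for a prime q other than 2 and 3, and suppose a Sylow 3-subgroup R of G is strongly self-centralizing: C_G(k) = R for every nonidentity k ∈ R. Then G is isomorphic to the alternating group of degree 6, to PSL(2,8) or to PSL(2,17). -/
theorem result {G : Type*} [Group G] [Finite G] [IsSimpleGroup G] (hG : ¬ IsMulCommutative G)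
    (q a b : ℕ) (hq : q.Prime) (hq2 : q ≠ 2) (hq3 : q ≠ 3) (hcard : Nat.card G = 9 * 2 ^ a * q ^ b)
    (R : Sylow 3 G) (hR : ∀ k ∈ (R : Subgroup G), k ≠ 1 → Subgroup.centralizer ({k} : Set G) = R) :
    Nonempty (G ≃* ↥(alternatingGroup (Fin 6))) ∨
      (∃ (F : Type) (_ : Field F) (_ : Fintype F), Fintype.card F = 8 ∧
        Nonempty (G ≃* Matrix.ProjectiveSpecialLinearGroup (Fin 2) F)) ∨
      Nonempty (G ≃* Matrix.ProjectiveSpecialLinearGroup (Fin 2) (ZMod 17)) :=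
  Cfsg.Agent.Lib.H82K9R.red hG q a b hq hq2 hq3 hcard R hR
    (fun hHK hR9 h3 hone => fin hG q a b hq hq2 hq3 hcard R hR hHK hR9 h3 hone)

end Cfsg.Agent.S2220
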