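import Cfsg.Statements.S2228
import Cfsg.Agent.Lib.J3PAsm
import Cfsg.Agent.Lib.J3Syl3
-- import your own Cfsg.Agent.* helpers here

set_option autoImplicit false
open Cfsg

namespace Cfsg.Agent.S2228

/-- Let G be a finite simple group in which all involutions are conjugate and the centralizer of an involution has a normal extraspecial subgroup of order 32 complemented by a subgroup isomorphic to the alternating group of degree 5 (a group of J₃-type). Then a Sylow 19-subgroup of G is self-centralizing with normalizer-quotient cyclic of order 9, and a Sylow 17-subgroup is self-centralizing with normalizer-quotient cyclic of order 8. -/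
theorem result {G : Type*} [Group G] [Finite G] [IsSimpleGroup G]
    (hone : ∀ x y : G, orderOf x = 2 → orderOf y = 2 → IsConj x y)
    (t : G) (ht : orderOf t = 2) (E A : Subgroup ↥(Subgroup.centralizer ({t} : Set G))) [E.Normal]
    (hE : Cfsg.IsExtraspecial 2 ↥E) (hE32 : Nat.card ↥E = 32) (hEA : E.IsComplement' A)
    (eA : ↥A ≃* ↥(alternatingGroup (Fin 5))) :
    (∀ X : Sylow 19 G, Subgroup.centralizer ((X : Subgroup G) : Set G) = X ∧
        ∃ h : ((X : Subgroup G).subgroupOf (Subgroup.normalizer ((X : Subgroup G) : Set G))).Normal,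
          IsCyclic (↥(Subgroup.normalizer ((X : Subgroup G) : Set G)) ⧸ (X : Subgroup G).subgroupOf _) ∧
          Nat.card (↥(Subgroup.normalizer ((X : Subgroup G) : Set G)) ⧸ (X : Subgroup G).subgroupOf _) = 9) ∧
    (∀ Y : Sylow 17 G, Subgroup.centralizer ((Y : Subgroup G) : Set G) = Y ∧
        ∃ h : ((Y : Subgroup G).subgroupOf (Subgroup.normalizer ((Y : Subgroup G) : Set G))).Normal,
          IsCyclic (↥(Subgroup.normalizer ((Y : Subgroup G) : Set G)) ⧸ (Y : Subgroup G).subgroupOf _) ∧
          Nat.card (↥(Subgroup.normalizer ((Y : Subgroup G) : Set G)) ⧸ (Y : Subgroup G).subgroupOf _) = 8) := by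
  let e : (Subgroup.centralizer ({t} : Set G)) ⧸ E ≃* alternatingGroup (Fin 5) :=
    (Subgroup.IsComplement'.QuotientMulEquiv hEA.symm).trans eA
  obtain ⟨hm, h2c⟩ := Cfsg.Agent.Lib.J3P.entry hone t ht E hE32 hE e
  obtain ⟨S, hS⟩ := Cfsg.Agent.Lib.JTw.exists_setup' t ht E hE hE32 hm h2c e
  have h1 : Cfsg.Agent.Lib.J3P.One S := by
    intro y hy hy1
    have h2 : orderOf y = 2 := orderOf_eq_prime (by rw [pow_two, hy]) hy1
    have h3 : orderOf S.z = 2 := by rw [hS]; exact ht
    exact hone _ _ h3 h2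
  have hcard : Nat.card G = 50232960 := Cfsg.Agent.Lib.J3P.order_one S h1
  obtain ⟨⟨x, y, j, i, h⟩, -⟩ := Cfsg.Agent.Lib.J3P.exists_five S h1
  exact Cfsg.Agent.Lib.J3Syl.final hcard (fun s hs => Cfsg.Agent.Lib.J3Syl.inv_cent S h1 hs)
    (fun u hu => Cfsg.Agent.Lib.J3Syl.five_cent h (by rw [hcard]; norm_num) hu)
    (fun q s hq hs hqs => Cfsg.Agent.Lib.J3Syl.three_cent S h1 h hq hs hqs)

end Cfsg.Agent.S2228
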