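import Cfsg.Statements.S2247
import Cfsg.Agent.Lib.SuzukiMax

set_option autoImplicit false
open Cfsg

namespace Cfsg.Agent.S2247

/-- In the Suzuki group with q = 2^(2m+1), m ≥ 1 (realised as the stabiliser in SL₄ of the Suzuki–Tits ovoid), the normalizer of a Sylow 2-subgroup P is a maximal subgroup and is the only maximal subgroup containing P. -/
theorem result {F : Type*} [Field F] [Fintype F] {m : ℕ} (hm : 1 ≤ m) (hF : Fintype.card F = 2 ^ (2 * m + 1)) (P : Sylow 2 ↥(Cfsg.Sz F m)) :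
    IsCoatom (Subgroup.normalizer ((P : Subgroup ↥(Cfsg.Sz F m)) : Set ↥(Cfsg.Sz F m))) ∧
    ∀ M : Subgroup ↥(Cfsg.Sz F m), IsCoatom M → (P : Subgroup ↥(Cfsg.Sz F m)) ≤ M → M = Subgroup.normalizer ((P : Subgroup ↥(Cfsg.Sz F m)) : Set ↥(Cfsg.Sz F m)) := by
  have : CharP F 2 := Cfsg.Agent.Lib.SuzukiFin.charTwo hF
  have hθ := Cfsg.Agent.Lib.SuzukiFin.th_sq hF
  have hne := Cfsg.Agent.Lib.SuzukiFin.th_ne hm hF
  have hSz := Cfsg.Agent.Lib.SuzukiFin.Sz_eq (F := F) m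
  generalize Cfsg.Sz F m = X at P hSz ⊢
  subst hSz
  obtain ⟨p, hp⟩ := Cfsg.Agent.Lib.SuzukiPts.sylow_eq _ hθ hne P
  rw [hp, Cfsg.Agent.Lib.SuzukiPts.normalizer_Up]
  exact ⟨Cfsg.Agent.Lib.SuzukiMax.stab_coatom _ hθ hne p,
    fun M hM h => Cfsg.Agent.Lib.SuzukiMax.unique_max _ hθ hne hM h⟩

end Cfsg.Agent.S2247
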