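import Mathlib
import Cfsg.Statements.S2271

set_option autoImplicit false
open Cfsg

namespace Cfsg.Agent.S2271

open Equiv Finset

variable {n : ℕ}

/-- number of fixed points -/
def F (σ : Perm (Fin n)) : ℕ := (univ.filter (fun x => σ x = x)).card

theorem F_eq (σ : Perm (Fin n)) : Nat.card (Function.fixedPoints ⇑σ) = F σ := by
  rw [Nat.card_eq_card_toFinset]
  unfold F
  congr 1
  ext x
  simp [Function.mem_fixedPoints, Function.IsFixedPt]

theorem F_conj (σ τ : Perm (Fin n)) : F (τ * σ * τ⁻¹) = F σ := by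
  unfold F
  refine Finset.card_bij' (fun x _ => τ⁻¹ x) (fun x _ => τ x) ?_ ?_ ?_ ?_
  · intro x hx
    rw [mem_filter] at hx ⊢
    refine ⟨mem_univ _, ?_⟩
    rw [Perm.eq_inv_iff_eq]
    exact hx.2
  · intro x hx
    rw [mem_filter] at hx ⊢
    refine ⟨mem_univ _, ?_⟩
    show τ (σ (τ⁻¹ (τ x))) = τ x
    rw [← Perm.mul_apply τ⁻¹, inv_mul_cancel, Perm.one_apply, hx.2]
  · intro x _; simp
  · intro x _; simp

theorem F_comm (σ τ : Perm (Fin n)) : F (σ * τ) = F (τ * σ) := by
  have : τ * σ = τ * (σ * τ) * τ⁻¹ := by group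
  rw [this, F_conj]

/-- even extension -/
theorem even_ext {ι : Type*} [Fintype ι] (f g : ι → Fin n) (hf : Function.Injective f)
    (hg : Function.Injective g) (hc : Fintype.card ι + 2 ≤ n) :
    ∃ σ : Perm (Fin n), σ ∈ alternatingGroup (Fin n) ∧ ∀ i, σ (f i) = g i := by
  classical
  obtain ⟨σ, hσ⟩ := Equiv.Perm.exists_extending_pair f g hf hg
  have hσ' : ∀ i, σ (f i) = g i := hσ
  rcases Int.units_eq_one_or (Perm.sign σ) with h | h
  · exact ⟨σ, Perm.mem_alternatingGroup.2 h, hσ'⟩
  · have h2 : 1 < (univ.image g)ᶜ.card := by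
      rw [card_compl, Fintype.card_fin, card_image_of_injective _ hg, card_univ]; omega
    obtain ⟨x, hx, y, hy, hxy⟩ := Finset.one_lt_card.1 h2
    refine ⟨swap x y * σ, ?_, ?_⟩
    · rw [Perm.mem_alternatingGroup, Perm.sign_mul, Perm.sign_swap hxy, h]; rfl
    · intro i
      rw [Perm.mul_apply, hσ']
      apply swap_apply_of_ne_of_ne
      · rintro rfl
        simp at hx
      · rintro rfl
        simp at hy

abbrev A (n : ℕ) := alternatingGroup (Fin n)

theorem cnt2 (hn : 5 ≤ n) {x y u v : Fin n} (hxy : x ≠ y) (huv : u ≠ v) :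
    n * (n - 1) * (univ.filter (fun g : A n => (g : Perm (Fin n))⁻¹ x = u ∧ (g : Perm (Fin n))⁻¹ y = v)).card =
      Fintype.card (A n) := by
  classical
  let N : Fin n × Fin n → Finset (A n) := fun p =>
    univ.filter (fun g : A n => (g : Perm (Fin n))⁻¹ x = p.1 ∧ (g : Perm (Fin n))⁻¹ y = p.2)
  have hconst : ∀ p ∈ (univ : Finset (Fin n)).offDiag, (N p).card = (N (u, v)).card := by
    rintro ⟨u', v'⟩ hp
    have huv' : u' ≠ v' := (mem_offDiag.1 hp).2.2
    obtain ⟨h, hh, hhi⟩ := even_ext (ι := Fin 2) ![u', v'] ![u, v]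
      (by intro i j; fin_cases i <;> fin_cases j <;> simp [huv', huv'.symm])
      (by intro i j; fin_cases i <;> fin_cases j <;> simp [huv, huv.symm]) (by simp; omega)
    have h0 := hhi 0
    have h1 := hhi 1
    simp only [Matrix.cons_val_zero, Matrix.cons_val_one] at h0 h1
    refine Finset.card_bij' (fun g _ => g * (⟨h, hh⟩ : A n)⁻¹) (fun g _ => g * (⟨h, hh⟩ : A n)) ?_ ?_ ?_ ?_
    · intro g hg
      simp only [N, mem_filter, mem_univ, true_and] at hg ⊢
      constructor
      · show ((g : Perm (Fin n)) * h⁻¹)⁻¹ x = u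
        rw [mul_inv_rev, inv_inv, Perm.mul_apply, hg.1, h0]
      · show ((g : Perm (Fin n)) * h⁻¹)⁻¹ y = v
        rw [mul_inv_rev, inv_inv, Perm.mul_apply, hg.2, h1]
    · intro g hg
      simp only [N, mem_filter, mem_univ, true_and] at hg ⊢
      constructor
      · show ((g : Perm (Fin n)) * h)⁻¹ x = u'
        rw [mul_inv_rev, Perm.mul_apply, hg.1, ← h0, ← Perm.mul_apply h⁻¹, inv_mul_cancel, Perm.one_apply]
      · show ((g : Perm (Fin n)) * h)⁻¹ y = v'
        rw [mul_inv_rev, Perm.mul_apply, hg.2, ← h1, ← Perm.mul_apply h⁻¹, inv_mul_cancel, Perm.one_apply]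
    · intro g _; simp
    · intro g _; simp
  have hsum : ∑ p ∈ (univ : Finset (Fin n)).offDiag, (N p).card = Fintype.card (A n) := by
    rw [← card_biUnion]
    · rw [← card_univ]
      congr 1
      ext g
      simp only [N, mem_biUnion, mem_filter, mem_univ, true_and, mem_offDiag, iff_true]
      refine ⟨((g : Perm (Fin n))⁻¹ x, (g : Perm (Fin n))⁻¹ y), ?_, rfl, rfl⟩
      intro h
      exact hxy ((g : Perm (Fin n))⁻¹.injective h)
    · intro p _ q _ hpq
      rw [Function.onFun, disjoint_left]
      intro g hg hg'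
      simp only [N, mem_filter, mem_univ, true_and] at hg hg'
      apply hpq
      ext1
      · exact hg.1.symm.trans hg'.1
      · exact hg.2.symm.trans hg'.2
  rw [sum_congr rfl hconst, sum_const, smul_eq_mul, offDiag_card, card_univ, Fintype.card_fin] at hsum
  rw [← hsum]
  congr 1
  cases n with
  | zero => omega
  | succ m => simp [Nat.succ_mul, Nat.mul_succ]

theorem cnt1 (hn : 5 ≤ n) (x u : Fin n) :
    n * (univ.filter (fun g : A n => (g : Perm (Fin n))⁻¹ x = u)).card = Fintype.card (A n) := by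
  classical
  let N : Fin n → Finset (A n) := fun p => univ.filter (fun g : A n => (g : Perm (Fin n))⁻¹ x = p)
  have hconst : ∀ p ∈ (univ : Finset (Fin n)), (N p).card = (N u).card := by
    rintro u' hp
    obtain ⟨h, hh, hhi⟩ := even_ext (ι := Fin 1) ![u'] ![u]
      (by intro i j _; exact Subsingleton.elim _ _)
      (by intro i j _; exact Subsingleton.elim _ _) (by simp; omega)
    have h0 := hhi 0
    simp only [Matrix.cons_val_zero] at h0
    refine Finset.card_bij' (fun g _ => g * (⟨h, hh⟩ : A n)⁻¹) (fun g _ => g * (⟨h, hh⟩ : A n)) ?_ ?_ ?_ ?_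
    · intro g hg
      simp only [N, mem_filter, mem_univ, true_and] at hg ⊢
      show ((g : Perm (Fin n)) * h⁻¹)⁻¹ x = u
      rw [mul_inv_rev, inv_inv, Perm.mul_apply, hg, h0]
    · intro g hg
      simp only [N, mem_filter, mem_univ, true_and] at hg ⊢
      show ((g : Perm (Fin n)) * h)⁻¹ x = u'
      rw [mul_inv_rev, Perm.mul_apply, hg, ← h0, ← Perm.mul_apply h⁻¹, inv_mul_cancel, Perm.one_apply]
    · intro g _; simp
    · intro g _; simp
  have hsum : ∑ p ∈ (univ : Finset (Fin n)), (N p).card = Fintype.card (A n) := by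
    rw [← card_biUnion]
    · rw [← card_univ]
      congr 1
      ext g
      simp only [N, mem_biUnion, mem_filter, mem_univ, true_and, iff_true]
      exact ⟨(g : Perm (Fin n))⁻¹ x, rfl⟩
    · intro p _ q _ hpq
      rw [Function.onFun, disjoint_left]
      intro g hg hg'
      simp only [N, mem_filter, mem_univ, true_and] at hg hg'
      exact hpq (hg.symm.trans hg')
  rw [sum_congr rfl hconst, sum_const, smul_eq_mul, card_univ, Fintype.card_fin] at hsum
  exact hsum

theorem average (hn : 5 ≤ n) (a b : Perm (Fin n)) (c : ℕ)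
    (hc : ∀ g ∈ alternatingGroup (Fin n), F (g * a * g⁻¹ * b) = c) :
    n * (n - 1) * c = (n - 1) * (F a * F b) + (n - F a) * (n - F b) := by
  classical
  have hpos : 0 < Fintype.card (A n) := Fintype.card_pos
  have h1 : ∑ g : A n, F ((g : Perm (Fin n)) * a * (g : Perm (Fin n))⁻¹ * b) = Fintype.card (A n) * c := by
    rw [sum_congr rfl (fun (g : A n) _ => hc (g : Perm (Fin n)) g.property), sum_const, card_univ, smul_eq_mul]
  have h2 : ∑ g : A n, F ((g : Perm (Fin n)) * a * (g : Perm (Fin n))⁻¹ * b) =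
      ∑ x : Fin n, (univ.filter (fun g : A n => a ((g : Perm (Fin n))⁻¹ (b x)) = (g : Perm (Fin n))⁻¹ x)).card := by
    unfold F
    simp only [card_filter]
    rw [sum_comm]
    refine sum_congr rfl fun x _ => sum_congr rfl fun g _ => ?_
    have : ((g : Perm (Fin n)) * a * (g : Perm (Fin n))⁻¹ * b) x = x ↔
        a ((g : Perm (Fin n))⁻¹ (b x)) = (g : Perm (Fin n))⁻¹ x := by
      simp only [Perm.mul_apply]
      rw [Perm.eq_inv_iff_eq]
    simp only [this]
  -- fixed points of b
  have h3 : ∀ x, b x = x → n * (univ.filter (fun g : A n => a ((g : Perm (Fin n))⁻¹ (b x)) =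
      (g : Perm (Fin n))⁻¹ x)).card = F a * Fintype.card (A n) := by
    intro x hx
    rw [hx]
    have : (univ.filter (fun g : A n => a ((g : Perm (Fin n))⁻¹ x) = (g : Perm (Fin n))⁻¹ x)) =
        (univ.filter (fun u => a u = u)).biUnion
          (fun u => univ.filter (fun g : A n => (g : Perm (Fin n))⁻¹ x = u)) := by
      ext g
      simp
    rw [this, card_biUnion, mul_sum, sum_congr rfl (fun u _ => cnt1 hn x u), sum_const, smul_eq_mul]
    · rfl
    · intro p _ q _ hpq
      rw [Function.onFun, disjoint_left]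
      intro g hg hg'
      simp only [mem_filter, mem_univ, true_and] at hg hg'
      exact hpq (hg.symm.trans hg')
  have hFle : ∀ σ : Perm (Fin n), F σ ≤ n := fun σ => by
    unfold F
    refine (card_filter_le _ _).trans ?_
    simp
  have hFc : ∀ σ : Perm (Fin n), (univ.filter (fun x => ¬ σ x = x)).card = n - F σ := by
    intro σ
    have := Finset.card_filter_add_card_filter_not (s := (univ : Finset (Fin n))) (fun x => σ x = x)
    rw [card_univ, Fintype.card_fin] at this
    unfold F
    omega
  have h4 : ∀ x, ¬ b x = x → n * (n - 1) * (univ.filter (fun g : A n => a ((g : Perm (Fin n))⁻¹ (b x)) =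
      (g : Perm (Fin n))⁻¹ x)).card = (n - F a) * Fintype.card (A n) := by
    intro x hx
    have : (univ.filter (fun g : A n => a ((g : Perm (Fin n))⁻¹ (b x)) = (g : Perm (Fin n))⁻¹ x)) =
        (univ.filter (fun u => ¬ a u = u)).biUnion
          (fun u => univ.filter (fun g : A n => (g : Perm (Fin n))⁻¹ (b x) = u ∧
            (g : Perm (Fin n))⁻¹ x = a u)) := by
      ext g
      simp only [mem_filter, mem_univ, true_and, mem_biUnion]
      constructor
      · intro h
        refine ⟨(g : Perm (Fin n))⁻¹ (b x), ?_, rfl, h.symm⟩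
        intro h5
        rw [h] at h5
        exact hx ((g : Perm (Fin n))⁻¹.injective h5.symm)
      · rintro ⟨u, hu, h5, h6⟩
        rw [h5, h6]
    have e2 : ∀ u ∈ univ.filter (fun u => ¬ a u = u), n * (n - 1) *
        (univ.filter (fun g : A n => (g : Perm (Fin n))⁻¹ (b x) = u ∧
            (g : Perm (Fin n))⁻¹ x = a u)).card = Fintype.card (A n) := by
      intro u hu
      exact cnt2 hn hx (fun h => (mem_filter.1 hu).2 h.symm)
    rw [this, card_biUnion, mul_sum, sum_congr rfl e2, sum_const, smul_eq_mul, hFc]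
    intro p _ q _ hpq
    rw [Function.onFun, disjoint_left]
    intro g hg hg'
    simp only [mem_filter, mem_univ, true_and] at hg hg'
    exact hpq (hg.1.symm.trans hg'.1)
  have h5 : n * (n - 1) * (Fintype.card (A n) * c) =
      ((n - 1) * (F a * F b) + (n - F a) * (n - F b)) * Fintype.card (A n) := by
    rw [← h1, h2, mul_sum, ← Finset.sum_filter_add_sum_filter_not univ (fun x => b x = x)]
    have e1 : ∀ x ∈ univ.filter (fun x => b x = x), n * (n - 1) * (univ.filter (fun g : A n =>
        a ((g : Perm (Fin n))⁻¹ (b x)) = (g : Perm (Fin n))⁻¹ x)).card =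
        (n - 1) * (F a * Fintype.card (A n)) := by
      intro x hx
      rw [← h3 x (mem_filter.1 hx).2]; ring
    rw [sum_congr rfl e1, sum_congr rfl (fun x hx => h4 x (mem_filter.1 hx).2), sum_const, sum_const,
      smul_eq_mul, smul_eq_mul, hFc]
    show F b * _ + _ = _
    ring
  have h6 : Fintype.card (A n) * (n * (n - 1) * c) =
      Fintype.card (A n) * ((n - 1) * (F a * F b) + (n - F a) * (n - F b)) := by
    linarith [h5]
  exact Nat.eq_of_mul_eq_mul_left hpos h6

theorem F_le_of_ne_one {σ : Perm (Fin n)} (h : σ ≠ 1) : F σ + 2 ≤ n := by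
  have h1 := Perm.two_le_card_support_of_ne_one h
  have h2 := Finset.card_filter_add_card_filter_not (s := (univ : Finset (Fin n))) (fun x => σ x = x)
  rw [card_univ, Fintype.card_fin] at h2
  have h3 : σ.support = univ.filter (fun x => ¬ σ x = x) := by
    ext x; simp
  rw [h3] at h1
  unfold F
  omega

theorem card_moved (σ : Perm (Fin n)) : (univ.filter (fun x => ¬ σ x = x)).card + F σ = n := by
  have h2 := Finset.card_filter_add_card_filter_not (s := (univ : Finset (Fin n))) (fun x => σ x = x)
  rw [card_univ, Fintype.card_fin] at h2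
  unfold F
  omega

theorem two_arcs {σ : Perm (Fin n)} (h : F σ + 4 ≤ n) : ∃ x y : Fin n, Function.Injective ![x, σ x, y, σ y] := by
  classical
  have h1 := card_moved σ
  have h2 : (univ.filter (fun x => ¬ σ x = x)).Nonempty := by
    rw [← card_pos]; omega
  obtain ⟨x, hx⟩ := h2
  have h3 : ((univ.filter (fun x => ¬ σ x = x)) \ {x, σ x, σ⁻¹ x}).Nonempty := by
    rw [← card_pos]
    have h4 := Finset.le_card_sdiff ({x, σ x, σ⁻¹ x} : Finset (Fin n)) (univ.filter (fun x => ¬ σ x = x))
    have h5 : ({x, σ x, σ⁻¹ x} : Finset (Fin n)).card ≤ 3 := Finset.card_le_three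
    omega
  obtain ⟨y, hy⟩ := h3
  rw [mem_sdiff, mem_filter] at hy
  simp only [mem_univ, true_and, mem_insert, mem_singleton, not_or] at hy
  obtain ⟨hy0, hy1, hy2, hy3⟩ := hy
  have hx0 : ¬ σ x = x := (mem_filter.1 hx).2
  have a1 : ¬ σ y = x := fun h => hy3 (Perm.eq_inv_iff_eq.2 h)
  have a2 : ¬ σ y = σ x := fun h => hy1 (σ.injective h)
  refine ⟨x, y, ?_⟩
  intro i j
  fin_cases i <;> fin_cases j <;> simp [hx0, hy0, hy1, hy2, a1, a2, Ne.symm hx0, Ne.symm hy0, Ne.symm hy1,
    Ne.symm hy2, Ne.symm a1, Ne.symm a2, eq_comm]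

theorem exists_odd_comm {σ : Perm (Fin 5)} (h : F σ = 1) :
    ∃ s : Perm (Fin 5), Perm.sign s = -1 ∧ s * σ = σ * s := by
  have h1 := card_moved σ
  have h3 : σ.support = univ.filter (fun x => ¬ σ x = x) := by
    ext x; simp
  have h4 : σ.support.card = 4 := by rw [h3]; omega
  have h5 : σ.cycleType.sum = 4 := by rw [Perm.sum_cycleType, h4]
  have h6 : ∀ k ∈ σ.cycleType, 2 ≤ k := fun k hk => Perm.two_le_of_mem_cycleType hk
  rcases Int.units_eq_one_or (Perm.sign σ) with hs | hs
  · have h7 := Perm.sign_of_cycleType σ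
    rw [hs, h5] at h7
    have h8 : 2 * Multiset.card σ.cycleType ≤ 4 := by
      rw [← h5]
      have := Multiset.card_nsmul_le_sum h6
      simpa [mul_comm] using this
    have h9 : Multiset.card σ.cycleType ≠ 1 := by
      intro h9; rw [h9] at h7; exact absurd h7 (by decide)
    have h10 : Multiset.card σ.cycleType ≠ 0 := by
      intro h10
      rw [Multiset.card_eq_zero] at h10
      rw [h10] at h5
      simp at h5
    have h11 : Multiset.card σ.cycleType = 2 := by omega
    obtain ⟨p, q, hpq⟩ := Multiset.card_eq_two.1 h11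
    have hp := h6 p (by rw [hpq]; simp)
    have hq := h6 q (by rw [hpq]; simp)
    rw [hpq] at h5
    simp at h5
    obtain rfl : p = 2 := by omega
    obtain rfl : q = 2 := by omega
    have h12 : σ ^ 2 = 1 := by
      rw [← orderOf_dvd_iff_pow_eq_one, ← Perm.lcm_cycleType, hpq]
      decide
    have h13 : (univ.filter (fun x => ¬ σ x = x)).Nonempty := by
      rw [← card_pos]; omega
    obtain ⟨x, hx⟩ := h13
    have hx0 : ¬ σ x = x := (mem_filter.1 hx).2
    refine ⟨swap x (σ x), Perm.sign_swap (Ne.symm hx0), ?_⟩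
    have h14 : σ (σ x) = x := by
      rw [← Perm.mul_apply, ← sq, h12, Perm.one_apply]
    rw [Equiv.mul_swap_eq_swap_mul, h14, swap_comm]
  · exact ⟨σ, hs, rfl⟩

theorem main_le (hn : 5 ≤ n) {a b : Perm (Fin n)} (hb : b ≠ 1) (c : ℕ)
    (hc : ∀ g ∈ alternatingGroup (Fin n), F (g * a * g⁻¹ * b) = c) (hle : F a ≤ F b) : False := by
  classical
  have havg := average hn a b c hc
  have hFb := F_le_of_ne_one hb
  have hint : ((n : ℤ) - 1) * c = F a * F b - F a - F b + n := by
    have h1 : ((n * (n - 1) * c : ℕ) : ℤ) = (((n - 1) * (F a * F b) + (n - F a) * (n - F b) : ℕ) : ℤ) := by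
      rw [havg]
    rw [Nat.cast_add, Nat.cast_mul, Nat.cast_mul, Nat.cast_mul, Nat.cast_mul, Nat.cast_mul,
      Nat.cast_sub (show 1 ≤ n by omega), Nat.cast_sub (show F a ≤ n by omega),
      Nat.cast_sub (show F b ≤ n by omega), Nat.cast_one] at h1
    have hn0 : (n : ℤ) ≠ 0 := by exact_mod_cast (by omega : n ≠ 0)
    apply mul_left_cancel₀ hn0
    linear_combination h1
  -- a useful criterion
  have crit : ∀ (g : Perm (Fin n)) (x : Fin n), a (g⁻¹ (b x)) = g⁻¹ x → (g * a * g⁻¹ * b) x = x := by
    intro g x h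
    simp only [Perm.mul_apply]
    rw [h, ← Perm.mul_apply, mul_inv_cancel, Perm.one_apply]
  have two : ∀ (g : Perm (Fin n)) (x y : Fin n), x ≠ y → a (g⁻¹ (b x)) = g⁻¹ x → a (g⁻¹ (b y)) = g⁻¹ y →
      2 ≤ F (g * a * g⁻¹ * b) := by
    intro g x y hxy h1 h2
    have : ({x, y} : Finset (Fin n)).card = 2 := card_pair hxy
    rw [← this]
    apply card_le_card
    intro z hz
    rw [mem_insert, mem_singleton] at hz
    rw [mem_filter]
    refine ⟨mem_univ _, ?_⟩
    rcases hz with rfl | rfl
    · exact crit g _ h1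
    · exact crit g _ h2
  rcases Nat.lt_or_ge (F a) 1 with h0 | h1
  · -- F a = 0
    have ha0 : F a = 0 := by omega
    rw [ha0] at hint
    push_cast at hint
    have hcpos : 1 ≤ c := by
      by_contra h
      obtain rfl : c = 0 := by omega
      push_cast at hint
      omega
    have hFb1 : F b = 1 := by
      rcases Nat.lt_or_ge (F b) 1 with h | h
      · exfalso
        have hb0 : F b = 0 := by omega
        rw [hb0] at hint
        push_cast at hint
        have h2 : c = 1 ∨ 2 ≤ c := by omega
        rcases h2 with rfl | h2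
        · push_cast at hint; omega
        · have : (2 : ℤ) ≤ c := by exact_mod_cast h2
          have hn' : (5 : ℤ) ≤ n := by exact_mod_cast hn
          nlinarith
      · by_contra hne
        have h2 : (2 : ℤ) ≤ F b := by exact_mod_cast (by omega : 2 ≤ F b)
        have h3 : (1 : ℤ) ≤ c := by exact_mod_cast hcpos
        have hn' : (5 : ℤ) ≤ n := by exact_mod_cast hn
        nlinarith
    have hc1 : c = 1 := by
      rw [hFb1] at hint
      push_cast at hint
      have hn' : (5 : ℤ) ≤ n := by exact_mod_cast hn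
      have h3 : ((n : ℤ) - 1) * (c - 1) = 0 := by linear_combination hint
      rcases mul_eq_zero.1 h3 with h4 | h4
      · omega
      · omega
    obtain ⟨p1, p2, hp⟩ := two_arcs (σ := a) (by omega)
    obtain ⟨x1, x2, hx⟩ := two_arcs (σ := b) (by omega)
    have hx' : Function.Injective ![b x1, x1, b x2, x2] := by
      intro i j hij
      have h10 : x1 ≠ b x1 := fun h => by have := hx (show ![x1, b x1, x2, b x2] 0 = ![x1, b x1, x2, b x2] 1 from h); revert this; decide
      have h12 : x1 ≠ x2 := fun h => by have := hx (show ![x1, b x1, x2, b x2] 0 = ![x1, b x1, x2, b x2] 2 from h); revert this; decide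
      have h13 : x1 ≠ b x2 := fun h => by have := hx (show ![x1, b x1, x2, b x2] 0 = ![x1, b x1, x2, b x2] 3 from h); revert this; decide
      have h22 : b x1 ≠ x2 := fun h => by have := hx (show ![x1, b x1, x2, b x2] 1 = ![x1, b x1, x2, b x2] 2 from h); revert this; decide
      have h23 : b x1 ≠ b x2 := fun h => by have := hx (show ![x1, b x1, x2, b x2] 1 = ![x1, b x1, x2, b x2] 3 from h); revert this; decide
      have h33 : x2 ≠ b x2 := fun h => by have := hx (show ![x1, b x1, x2, b x2] 2 = ![x1, b x1, x2, b x2] 3 from h); revert this; decide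
      revert hij
      fin_cases i <;> fin_cases j <;> simp [h10, h12, h13, h22, h23, h33, h10.symm, h12.symm, h13.symm,
        h22.symm, h23.symm, h33.symm]
    have hx12 : x1 ≠ x2 := fun h => by have := hx (show ![x1, b x1, x2, b x2] 0 = ![x1, b x1, x2, b x2] 2 from h); revert this; decide
    have fin : ∀ g : Perm (Fin n), (∀ i, g (![p1, a p1, p2, a p2] i) = ![b x1, x1, b x2, x2] i) →
        2 ≤ F (g * a * g⁻¹ * b) := by
      intro g hg
      have g0 : g p1 = b x1 := hg 0
      have g1 : g (a p1) = x1 := hg 1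
      have g2 : g p2 = b x2 := hg 2
      have g3 : g (a p2) = x2 := hg 3
      apply two g x1 x2 hx12
      · rw [← g0, ← Perm.mul_apply g⁻¹, inv_mul_cancel, Perm.one_apply, Perm.eq_inv_iff_eq, g1]
      · rw [← g2, ← Perm.mul_apply g⁻¹, inv_mul_cancel, Perm.one_apply, Perm.eq_inv_iff_eq, g3]
    rcases Nat.lt_or_ge n 6 with h6 | h6
    · obtain rfl : n = 5 := by omega
      obtain ⟨σ, hσ⟩ := Equiv.Perm.exists_extending_pair _ _ hp hx'
      have h7 := fin σ hσ
      rcases Int.units_eq_one_or (Perm.sign σ) with hs | hs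
      · have := hc σ (Perm.mem_alternatingGroup.2 hs)
        omega
      · obtain ⟨s, hs1, hs2⟩ := exists_odd_comm hFb1
        have h8 := hc (s * σ) (Perm.mem_alternatingGroup.2 (by rw [Perm.sign_mul, hs, hs1]; rfl))
        have h9 : s * σ * a * (s * σ)⁻¹ * b = s * (σ * a * σ⁻¹ * b) * s⁻¹ := by
          have : b = s * b * s⁻¹ := by rw [hs2]; group
          calc s * σ * a * (s * σ)⁻¹ * b = s * σ * a * σ⁻¹ * s⁻¹ * b := by group
            _ = s * σ * a * σ⁻¹ * s⁻¹ * (s * b * s⁻¹) := by rw [← this]
            _ = _ := by group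
        rw [h9, F_conj] at h8
        omega
    · obtain ⟨σ, hσ1, hσ⟩ := even_ext _ _ hp hx' (by simp; omega)
      have h7 := fin σ hσ
      have := hc σ hσ1
      omega
  · rcases Nat.lt_or_ge (F a) 2 with h2 | h2
    · -- F a = 1
      have ha1 : F a = 1 := by omega
      have hc1 : c = 1 := by
        rw [ha1] at hint
        push_cast at hint
        have hn' : (5 : ℤ) ≤ n := by exact_mod_cast hn
        have h3 : ((n : ℤ) - 1) * (c - 1) = 0 := by linear_combination hint
        rcases mul_eq_zero.1 h3 with h4 | h4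
        · omega
        · omega
      -- fixed points and moved points
      have hma := card_moved a
      have hmb := card_moved b
      obtain ⟨u', hu'⟩ : (univ.filter (fun x => ¬ a x = x)).Nonempty := by rw [← card_pos]; omega
      obtain ⟨x, hx⟩ : (univ.filter (fun x => ¬ b x = x)).Nonempty := by rw [← card_pos]; omega
      obtain ⟨w', hw'⟩ : (univ.filter (fun x => a x = x)).Nonempty := by
        rw [← card_pos]
        have : (univ.filter (fun x => a x = x)).card = F a := rfl
        omega
      obtain ⟨w, hw⟩ : (univ.filter (fun x => b x = x)).Nonempty := by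
        rw [← card_pos]
        have : (univ.filter (fun x => b x = x)).card = F b := rfl
        omega
      have hu0 : ¬ a u' = u' := (mem_filter.1 hu').2
      have hx0 : ¬ b x = x := (mem_filter.1 hx).2
      have hw0' : a w' = w' := (mem_filter.1 hw').2
      have hw0 : b w = w := (mem_filter.1 hw).2
      have e1 : w' ≠ u' := by rintro rfl; exact hu0 hw0'
      have e2 : w' ≠ a u' := by
        intro h
        apply e1
        apply a.injective
        rw [hw0', ← h]
      have e3 : w ≠ x := by rintro rfl; exact hx0 hw0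
      have e4 : w ≠ b x := by
        intro h
        apply e3
        apply b.injective
        rw [hw0, ← h]
      obtain ⟨g, hg1, hg⟩ := even_ext (ι := Fin 3) ![u', a u', w'] ![b x, x, w]
        (by intro i j; fin_cases i <;> fin_cases j <;>
              simp [hu0, Ne.symm hu0, e1, e1.symm, e2, e2.symm])
        (by intro i j; fin_cases i <;> fin_cases j <;>
              simp [hx0, Ne.symm hx0, e3, e3.symm, e4, e4.symm]) (by simp; omega)
      have g0 : g u' = b x := hg 0
      have g1 : g (a u') = x := hg 1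
      have g2 : g w' = w := hg 2
      have h7 : 2 ≤ F (g * a * g⁻¹ * b) := by
        apply two g x w e3.symm
        · rw [← g0, ← Perm.mul_apply g⁻¹, inv_mul_cancel, Perm.one_apply, Perm.eq_inv_iff_eq, g1]
        · rw [hw0]
          have : g⁻¹ w = w' := by rw [← g2, ← Perm.mul_apply g⁻¹, inv_mul_cancel, Perm.one_apply]
          rw [this, hw0']
      have := hc g hg1
      omega
    · -- F a ≥ 2
      obtain ⟨T', hT', hT'c⟩ := Finset.exists_subset_card_eq (s := univ.filter (fun x => b x = x)) (n := F a) hle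
      obtain ⟨σ, hσ⟩ := Equiv.Perm.exists_map_finset_eq (univ.filter (fun x => a x = x)) T' (by rw [hT'c]; rfl)
      have fin : ∀ g : Perm (Fin n), (∀ x ∈ T', a (g⁻¹ x) = g⁻¹ x) → F a ≤ F (g * a * g⁻¹ * b) := by
        intro g hg
        rw [← hT'c]
        apply card_le_card
        intro x hx
        rw [mem_filter]
        refine ⟨mem_univ _, crit g x ?_⟩
        rw [(mem_filter.1 (hT' hx)).2]
        exact hg x hx
      have hσ' : ∀ x ∈ T', a (σ⁻¹ x) = σ⁻¹ x := by
        intro x hx
        rw [← hσ, mem_map] at hx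
        obtain ⟨y, hy, rfl⟩ := hx
        have : σ⁻¹ (σ.toEmbedding y) = y := by
          show σ⁻¹ (σ y) = y
          rw [← Perm.mul_apply, inv_mul_cancel, Perm.one_apply]
        rw [this]
        exact (mem_filter.1 hy).2
      have hex : ∃ g ∈ alternatingGroup (Fin n), ∀ x ∈ T', a (g⁻¹ x) = g⁻¹ x := by
        rcases Int.units_eq_one_or (Perm.sign σ) with hs | hs
        · exact ⟨σ, Perm.mem_alternatingGroup.2 hs, hσ'⟩
        · obtain ⟨s1, hs1, s2, hs2, hs12⟩ := Finset.one_lt_card.1
            (show 1 < (univ.filter (fun x => a x = x)).card from h2)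
          refine ⟨σ * swap s1 s2, Perm.mem_alternatingGroup.2 (by
            rw [Perm.sign_mul, hs, Perm.sign_swap hs12]; rfl), ?_⟩
          intro x hx
          rw [mul_inv_rev, swap_inv, Perm.mul_apply]
          have h8 := hσ' x hx
          have hs1' := (mem_filter.1 hs1).2
          have hs2' := (mem_filter.1 hs2).2
          by_cases e1 : σ⁻¹ x = s1
          · rw [e1, swap_apply_left, hs2']
          · by_cases e2 : σ⁻¹ x = s2
            · rw [e2, swap_apply_right, hs1']
            · rw [swap_apply_of_ne_of_ne e1 e2, h8]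
      obtain ⟨g, hg1, hg2⟩ := hex
      have h9 := fin g hg2
      rw [hc g hg1] at h9
      have h10 : (F a : ℤ) ≤ c := by exact_mod_cast h9
      have h11 : (2 : ℤ) ≤ F a := by exact_mod_cast h2
      have h12 : (F b : ℤ) + 2 ≤ n := by exact_mod_cast hFb
      have h13 : (F a : ℤ) ≤ F b := by exact_mod_cast hle
      nlinarith

/-- Let n ≥ 5 and let a, b be non-identity permutations in the symmetric group S_n. Then the number of fixed points is not constant on the set of products a′b′ with a′ conjugate to a and b′ conjugate to b under the alternating group: there are even permutations g₁, h₁, g₂, h₂ such that (g₁ a g₁⁻¹)(h₁ b h₁⁻¹) and (g₂ a g₂⁻¹)(h₂ b h₂⁻¹) have different numbers of fixed points. -/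
theorem result (n : ℕ) (hn : 5 ≤ n) (a b : Equiv.Perm (Fin n)) (ha : a ≠ 1) (hb : b ≠ 1) :
    ∃ g₁ h₁ g₂ h₂ : Equiv.Perm (Fin n), g₁ ∈ alternatingGroup (Fin n) ∧ h₁ ∈ alternatingGroup (Fin n) ∧ g₂ ∈ alternatingGroup (Fin n) ∧ h₂ ∈ alternatingGroup (Fin n) ∧
      Nat.card (Function.fixedPoints ⇑(g₁ * a * g₁⁻¹ * (h₁ * b * h₁⁻¹))) ≠
        Nat.card (Function.fixedPoints ⇑(g₂ * a * g₂⁻¹ * (h₂ * b * h₂⁻¹))) := by
  by_contra hcon
  push Not at hcon
  have h1 : (1 : Equiv.Perm (Fin n)) ∈ alternatingGroup (Fin n) := one_mem _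
  have key : ∀ g₁ ∈ alternatingGroup (Fin n), ∀ h₁ ∈ alternatingGroup (Fin n),
      F (g₁ * a * g₁⁻¹ * (h₁ * b * h₁⁻¹)) = F (a * b) := by
    intro g₁ hg₁ h₁ hh₁
    have := hcon g₁ h₁ 1 1 hg₁ hh₁ h1 h1
    rw [F_eq, F_eq] at this
    simpa using this
  rcases le_total (F a) (F b) with h | h
  · refine main_le hn hb (F (a * b)) ?_ h
    intro g hg
    have := key g hg 1 h1
    simpa using this
  · refine main_le hn ha (F (a * b)) ?_ h
    intro g hg
    have := key 1 h1 g hg
    rw [F_comm] at this
    simpa using this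

end Cfsg.Agent.S2271
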