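import Cfsg.Statements.S2272

set_option autoImplicit false
open Cfsg

namespace Cfsg.Agent.S2272

open Matrix

variable {F : Type*} [Field F] {d : ℕ}

/-- rank one matrix acts -/
theorem vmv_mulVec (x ψ w : Fin d → F) : vecMulVec x ψ *ᵥ w = (ψ ⬝ᵥ w) • x := by
  rw [vecMulVec_mulVec]; simp

theorem sandwich (x ψ : Fin d → F) (M : Matrix (Fin d) (Fin d) F) :
    vecMulVec x ψ * M * vecMulVec x ψ = (ψ ⬝ᵥ (M *ᵥ x)) • vecMulVec x ψ := by
  rw [Matrix.mul_assoc, mul_vecMulVec, vecMulVec_mul_vecMulVec, vecMulVec_smul]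

theorem sq_zero (x ψ : Fin d → F) (h : ψ ⬝ᵥ x = 0) : vecMulVec x ψ * vecMulVec x ψ = 0 := by
  rw [vecMulVec_mul_vecMulVec, h, zero_smul]; ext; simp [vecMulVec_apply]

/-- the transvection as an element of `SL`. -/
noncomputable def tv (x ψ : Fin d → F) (h : ψ ⬝ᵥ x = 0) : SpecialLinearGroup (Fin d) F :=
  ⟨1 + vecMulVec x ψ, by
    have h1 := det_one_add_replicateCol_mul_replicateRow (ι := Unit) x ψ
    rw [h, add_zero] at h1
    rw [← h1]
    congr 1
    rw [vecMulVec_eq Unit]⟩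

theorem tv_coe (x ψ : Fin d → F) (h : ψ ⬝ᵥ x = 0) :
    ((tv x ψ h : SpecialLinearGroup (Fin d) F) : Matrix (Fin d) (Fin d) F) = 1 + vecMulVec x ψ := rfl

theorem tv_inv_coe (x ψ : Fin d → F) (h : ψ ⬝ᵥ x = 0) :
    (((tv x ψ h)⁻¹ : SpecialLinearGroup (Fin d) F) : Matrix (Fin d) (Fin d) F) = 1 - vecMulVec x ψ := by
  have h0 : ψ ⬝ᵥ (-x) = 0 := by simp [h]
  have h1 : tv x ψ h * tv (-x) ψ h0 = 1 := by
    apply Subtype.ext
    show (1 + vecMulVec x ψ) * (1 + vecMulVec (-x) ψ) = 1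
    rw [neg_vecMulVec, Matrix.mul_add, Matrix.add_mul, Matrix.add_mul, Matrix.mul_neg, Matrix.mul_neg, sq_zero x ψ h]
    simp
  have h2 := inv_eq_of_mul_eq_one_right h1
  rw [h2, tv_coe, neg_vecMulVec, sub_eq_add_neg]

theorem exists_vec {W : Submodule F (Fin d → F)} {x : Fin d → F} (hx : x ∉ W) :
    ∃ ψ : Fin d → F, ψ ⬝ᵥ x = 1 ∧ ∀ w ∈ W, ψ ⬝ᵥ w = 0 := by
  obtain ⟨f, hf1, hf2⟩ := Submodule.exists_dual_map_eq_bot_of_notMem hx inferInstance
  have key : ∀ v : Fin d → F, (fun i => f (Pi.single i 1)) ⬝ᵥ v = f v := by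
    intro v
    conv_rhs => rw [show v = ∑ i, v i • (Pi.single i (1 : F) : Fin d → F) by
      ext j; simp [Finset.sum_apply, Pi.single_apply]]
    rw [map_sum]
    simp only [map_smul, smul_eq_mul, dotProduct]
    exact Finset.sum_congr rfl fun i _ => mul_comm _ _
  refine ⟨(f x)⁻¹ • (fun i => f (Pi.single i 1)), ?_, ?_⟩
  · rw [smul_dotProduct, key, smul_eq_mul, inv_mul_cancel₀ hf1]
  · intro w hw
    rw [smul_dotProduct, key]
    have : f w ∈ W.map f := Submodule.mem_map_of_mem hw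
    rw [hf2, Submodule.mem_bot] at this
    rw [this, smul_zero]

theorem exists_not_mem (hd : 3 ≤ d) (a b : Fin d → F) : ∃ x : Fin d → F, x ∉ Submodule.span F {a, b} := by
  by_contra hcon
  push Not at hcon
  have h1 : Submodule.span F ({a, b} : Set (Fin d → F)) = ⊤ := by
    rw [eq_top_iff]; intro x _; exact hcon x
  classical
  have h2 := finrank_span_finset_le_card (R := F) ({a, b} : Finset (Fin d → F))
  have h3 : ({a, b} : Finset (Fin d → F)).card ≤ 2 := Finset.card_le_two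
  have h4 : Module.finrank F (Submodule.span F (({a, b} : Finset (Fin d → F)) : Set (Fin d → F))) = d := by
    rw [Finset.coe_pair, h1, finrank_top, Module.finrank_fin_fun]
  change Module.finrank F (Submodule.span F (({a, b} : Finset (Fin d → F)) : Set (Fin d → F))) ≤ _ at h2
  rw [h4] at h2
  omega

theorem exists_moved (A : Matrix (Fin d) (Fin d) F) (hA : ∀ c : F, A ≠ c • (1 : Matrix (Fin d) (Fin d) F)) :
    ∃ y : Fin d → F, y ≠ 0 ∧ A *ᵥ y ∉ Submodule.span F {y} := by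
  by_contra hcon
  push Not at hcon
  obtain ⟨a, ha⟩ := (Matrix.toLin' A).exists_eq_smul_id_of_forall_notLinearIndependent fun (v : Fin d → F) ↦ by
    by_cases hv : v = 0
    · simp [hv, linearIndependent_fin2]
    · rw [LinearIndependent.pair_iff' hv]
      have := hcon v hv
      rw [Submodule.mem_span_singleton] at this
      obtain ⟨c, hc⟩ := this
      intro h
      exact h c (by rw [hc]; rfl)
  apply hA a
  have h2 := congrArg LinearMap.toMatrix' ha
  rw [LinearMap.toMatrix'_toLin'] at h2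
  rw [h2, map_smul, LinearMap.toMatrix'_one]

/-- the closure property -/
def Inv (S : Submodule F (Matrix (Fin d) (Fin d) F)) : Prop :=
  ∀ (x ψ : Fin d → F), ψ ⬝ᵥ x = 0 → ∀ M ∈ S, (1 + vecMulVec x ψ) * M * (1 - vecMulVec x ψ) ∈ S

theorem Inv.comm {S : Submodule F (Matrix (Fin d) (Fin d) F)} (hS : Inv S) {x ψ : Fin d → F} (h : ψ ⬝ᵥ x = 0)
    {M : Matrix (Fin d) (Fin d) F} (hM : M ∈ S) :
    vecMulVec x (ψ ᵥ* M) - vecMulVec (M *ᵥ x) ψ - (ψ ⬝ᵥ (M *ᵥ x)) • vecMulVec x ψ ∈ S := by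
  have h1 := S.sub_mem (hS x ψ h M hM) hM
  convert h1 using 1
  rw [Matrix.add_mul, Matrix.mul_sub, Matrix.mul_one, Matrix.one_mul, Matrix.add_mul, sandwich, mul_vecMulVec,
    vecMulVec_mul]
  abel

theorem Inv.step1 {S : Submodule F (Matrix (Fin d) (Fin d) F)} (hS : Inv S) {A : Matrix (Fin d) (Fin d) F}
    (hA : A ∈ S) {y θ : Fin d → F} (hAy : A *ᵥ y ∉ Submodule.span F {y}) (h1 : θ ⬝ᵥ y = 0)
    (h2 : θ ⬝ᵥ (A *ᵥ y) = 0) : vecMulVec y θ ∈ S := by
  obtain ⟨θ', h3, h4⟩ := exists_vec hAy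
  have h5 : θ' ⬝ᵥ y = 0 := h4 y (Submodule.mem_span_singleton_self y)
  have h6 := hS.comm h1 hA
  rw [h2, zero_smul, sub_zero] at h6
  have h7 := hS.comm h5 h6
  have h8 : θ' ᵥ* (vecMulVec y (θ ᵥ* A) - vecMulVec (A *ᵥ y) θ) = - θ := by
    rw [vecMul_sub, vecMul_vecMulVec, vecMul_vecMulVec, h5, h3]; simp
  have h9 : (vecMulVec y (θ ᵥ* A) - vecMulVec (A *ᵥ y) θ) *ᵥ y = 0 := by
    rw [sub_mulVec, vmv_mulVec, vmv_mulVec, h1, ← dotProduct_mulVec, h2]; simp
  rw [h8, h9] at h7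
  have h10 : vecMulVec y (-θ) - vecMulVec (0 : Fin d → F) θ' - (θ' ⬝ᵥ (0 : Fin d → F)) • vecMulVec y θ' =
      - vecMulVec y θ := by
    rw [vecMulVec_neg]; ext i j; simp [vecMulVec_apply]
  rw [h10] at h7
  exact (S.neg_mem_iff).mp h7

theorem Inv.step2 {S : Submodule F (Matrix (Fin d) (Fin d) F)} (hS : Inv S) {y θ y' : Fin d → F}
    (hM : vecMulVec y θ ∈ S) (hy : y ≠ 0) (h2 : θ ⬝ᵥ y' = 0) : vecMulVec y' θ ∈ S := by
  by_cases h : y ∈ Submodule.span F {y'}
  · by_cases h0 : y' = 0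
    · rw [h0]; convert S.zero_mem using 1; ext; simp [vecMulVec_apply]
    · obtain ⟨c, hc⟩ := Submodule.mem_span_singleton.mp h
      have hc0 : c ≠ 0 := by rintro rfl; apply hy; rw [← hc]; simp
      have : y' = c⁻¹ • y := by rw [← hc, smul_smul, inv_mul_cancel₀ hc0, one_smul]
      rw [this, smul_vecMulVec]
      exact S.smul_mem _ hM
  · obtain ⟨θ', h3, h4⟩ := exists_vec h
    have h5 : θ' ⬝ᵥ y' = 0 := h4 y' (Submodule.mem_span_singleton_self y')
    have h6 := hS.comm h5 hM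
    have h8 : θ' ᵥ* (vecMulVec y θ) = θ := by
      rw [vecMul_vecMulVec, h3, one_smul]
    have h9 : (vecMulVec y θ) *ᵥ y' = 0 := by
      rw [vmv_mulVec, h2, zero_smul]
    rw [h8, h9] at h6
    have h10 : vecMulVec y' θ - vecMulVec (0 : Fin d → F) θ' - (θ' ⬝ᵥ (0 : Fin d → F)) • vecMulVec y' θ' =
        vecMulVec y' θ := by
      ext i j; simp [vecMulVec_apply]
    rwa [h10] at h6

theorem exists_vec' {W : Submodule F (Fin d → F)} {x : Fin d → F} (hx : x ∉ W) :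
    ∃ ψ : Fin d → F, x ⬝ᵥ ψ = 1 ∧ ∀ w ∈ W, w ⬝ᵥ ψ = 0 := by
  obtain ⟨ψ, h1, h2⟩ := exists_vec hx
  exact ⟨ψ, by rw [dotProduct_comm]; exact h1, fun w hw => by rw [dotProduct_comm]; exact h2 w hw⟩

theorem Inv.step3 {S : Submodule F (Matrix (Fin d) (Fin d) F)} (hS : Inv S) {y θ θ' : Fin d → F}
    (hM : vecMulVec y θ ∈ S) (hθ : θ ≠ 0) (h2 : θ' ⬝ᵥ y = 0) : vecMulVec y θ' ∈ S := by
  by_cases h : θ ∈ Submodule.span F {θ'}
  · by_cases h0 : θ' = 0
    · rw [h0]; convert S.zero_mem using 1; ext; simp [vecMulVec_apply]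
    · obtain ⟨c, hc⟩ := Submodule.mem_span_singleton.mp h
      have hc0 : c ≠ 0 := by rintro rfl; apply hθ; rw [← hc]; simp
      have : θ' = c⁻¹ • θ := by rw [← hc, smul_smul, inv_mul_cancel₀ hc0, one_smul]
      rw [this, vecMulVec_smul]
      exact S.smul_mem _ hM
  · obtain ⟨y', h3, h4⟩ := exists_vec' h
    have h5 : θ' ⬝ᵥ y' = 0 := h4 θ' (Submodule.mem_span_singleton_self θ')
    have h6 := hS.comm h5 hM
    have h8 : θ' ᵥ* (vecMulVec y θ) = 0 := by
      rw [vecMul_vecMulVec, h2, zero_smul]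
    have h9 : (vecMulVec y θ) *ᵥ y' = y := by
      rw [vmv_mulVec, h3, one_smul]
    rw [h8, h9] at h6
    have h10 : vecMulVec y' (0 : Fin d → F) - vecMulVec y θ' - (θ' ⬝ᵥ y) • vecMulVec y' θ' =
        - vecMulVec y θ' := by
      rw [h2]; ext i j; simp [vecMulVec_apply]
    rw [h10] at h6
    exact (S.neg_mem_iff).mp h6

theorem Inv.all {S : Submodule F (Matrix (Fin d) (Fin d) F)} (hd : 3 ≤ d) (hS : Inv S)
    {A : Matrix (Fin d) (Fin d) F} (hA : A ∈ S)
    (hAns : ∀ c : F, A ≠ c • (1 : Matrix (Fin d) (Fin d) F)) {x ψ : Fin d → F} (h : ψ ⬝ᵥ x = 0) :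
    vecMulVec x ψ ∈ S := by
  obtain ⟨y, hy, hAy⟩ := exists_moved A hAns
  obtain ⟨w, hw⟩ := exists_not_mem hd y (A *ᵥ y)
  obtain ⟨θ, hθ1, hθ2⟩ := exists_vec hw
  have e1 : θ ⬝ᵥ y = 0 := hθ2 y (Submodule.subset_span (by simp))
  have e2 : θ ⬝ᵥ (A *ᵥ y) = 0 := hθ2 _ (Submodule.subset_span (by simp))
  have hθ0 : θ ≠ 0 := by rintro rfl; simp at hθ1
  have m1 := hS.step1 hA hAy e1 e2
  -- vector killed by both θ and ψ
  obtain ⟨v, hv⟩ := exists_not_mem hd θ ψ
  obtain ⟨y', hy'1, hy'2⟩ := exists_vec' hv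
  have e3 : θ ⬝ᵥ y' = 0 := hy'2 θ (Submodule.subset_span (by simp))
  have e4 : ψ ⬝ᵥ y' = 0 := hy'2 ψ (Submodule.subset_span (by simp))
  have hy'0 : y' ≠ 0 := by rintro rfl; simp at hy'1
  have m2 := hS.step2 m1 hy e3
  have m3 := hS.step3 m2 hθ0 e4
  exact hS.step2 m3 hy'0 h

/-- the span of the conjugates -/
def sp (A : SpecialLinearGroup (Fin d) F) : Submodule F (Matrix (Fin d) (Fin d) F) :=
  Submodule.span F {M | ∃ g : SpecialLinearGroup (Fin d) F, M = ((g * A * g⁻¹ : SpecialLinearGroup (Fin d) F) : Matrix (Fin d) (Fin d) F)}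

theorem sp_inv (A : SpecialLinearGroup (Fin d) F) : Inv (sp A) := by
  intro x ψ h M hM
  refine Submodule.span_induction (p := fun M _ => (1 + vecMulVec x ψ) * M * (1 - vecMulVec x ψ) ∈ sp A)
    ?_ ?_ ?_ ?_ hM
  · rintro M ⟨g, rfl⟩
    apply Submodule.subset_span
    refine ⟨tv x ψ h * g, ?_⟩
    rw [← tv_coe x ψ h, ← tv_inv_coe x ψ h, ← Matrix.SpecialLinearGroup.coe_mul, ← Matrix.SpecialLinearGroup.coe_mul]
    congr 1
    show tv x ψ h * (g * A * g⁻¹) * (tv x ψ h)⁻¹ = tv x ψ h * g * A * (tv x ψ h * g)⁻¹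
    rw [_root_.mul_inv_rev]; simp only [mul_assoc]
  · simp
  · intro M N _ _ h1 h2
    rw [Matrix.mul_add, Matrix.add_mul]; exact Submodule.add_mem _ h1 h2
  · intro c M _ h1
    rw [Matrix.mul_smul, Matrix.smul_mul]; exact Submodule.smul_mem _ _ h1

theorem trace_values (hd : 3 ≤ d) (A B : SpecialLinearGroup (Fin d) F)
    (hA : ∀ c : F, (A : Matrix (Fin d) (Fin d) F) ≠ c • (1 : Matrix (Fin d) (Fin d) F))
    (hB : ∀ c : F, (B : Matrix (Fin d) (Fin d) F) ≠ c • (1 : Matrix (Fin d) (Fin d) F)) (r : F) :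
    ∃ g : SpecialLinearGroup (Fin d) F,
      Matrix.trace ((g * A * g⁻¹ * B : SpecialLinearGroup (Fin d) F) : Matrix (Fin d) (Fin d) F) = r := by
  obtain ⟨v, hv0, hBv⟩ := exists_moved _ hB
  obtain ⟨x, hx⟩ := exists_not_mem hd v ((B : Matrix (Fin d) (Fin d) F) *ᵥ v)
  obtain ⟨φ, hφ1, hφ2⟩ := exists_vec hx
  have e1 : φ ⬝ᵥ v = 0 := hφ2 v (Submodule.subset_span (by simp))
  have e2 : φ ⬝ᵥ ((B : Matrix (Fin d) (Fin d) F) *ᵥ v) = 0 := hφ2 _ (Submodule.subset_span (by simp))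
  -- find conjugate with nonzero commutator value
  have hex : ∃ g : SpecialLinearGroup (Fin d) F,
      φ ⬝ᵥ ((((g * A * g⁻¹ : SpecialLinearGroup (Fin d) F) : Matrix (Fin d) (Fin d) F) * (B : Matrix (Fin d) (Fin d) F) -
        (B : Matrix (Fin d) (Fin d) F) * ((g * A * g⁻¹ : SpecialLinearGroup (Fin d) F) : Matrix (Fin d) (Fin d) F)) *ᵥ v) ≠ 0 := by
    by_contra hcon
    push Not at hcon
    have hall : ∀ M ∈ sp A, φ ⬝ᵥ ((M * (B : Matrix (Fin d) (Fin d) F) - (B : Matrix (Fin d) (Fin d) F) * M) *ᵥ v) = 0 := by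
      intro M hM
      refine Submodule.span_induction
        (p := fun M _ => φ ⬝ᵥ ((M * (B : Matrix (Fin d) (Fin d) F) - (B : Matrix (Fin d) (Fin d) F) * M) *ᵥ v) = 0)
        ?_ ?_ ?_ ?_ hM
      · rintro M ⟨g, rfl⟩; exact hcon g
      · simp
      · intro M N _ _ h1 h2
        rw [show (M + N) * (B : Matrix (Fin d) (Fin d) F) - (B : Matrix (Fin d) (Fin d) F) * (M + N) =
          (M * (B : Matrix (Fin d) (Fin d) F) - (B : Matrix (Fin d) (Fin d) F) * M) +
          (N * (B : Matrix (Fin d) (Fin d) F) - (B : Matrix (Fin d) (Fin d) F) * N) by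
            rw [Matrix.add_mul, Matrix.mul_add]; abel, add_mulVec, dotProduct_add, h1, h2, add_zero]
      · intro c M _ h1
        rw [show (c • M) * (B : Matrix (Fin d) (Fin d) F) - (B : Matrix (Fin d) (Fin d) F) * (c • M) =
          c • (M * (B : Matrix (Fin d) (Fin d) F) - (B : Matrix (Fin d) (Fin d) F) * M) by
            rw [Matrix.smul_mul, Matrix.mul_smul, smul_sub], smul_mulVec, dotProduct_smul, h1, smul_zero]
    -- choose ψ
    have hBv' : (B : Matrix (Fin d) (Fin d) F) *ᵥ v ∉ Submodule.span F {v, x} := by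
      intro h
      rw [Submodule.mem_span_pair] at h
      obtain ⟨a, b, hab⟩ := h
      by_cases hb : b = 0
      · apply hBv
        rw [Submodule.mem_span_singleton]
        exact ⟨a, by rw [← hab, hb]; simp⟩
      · apply hx
        rw [Submodule.mem_span_pair]
        refine ⟨-(b⁻¹ * a), b⁻¹, ?_⟩
        rw [← hab, smul_add, smul_smul, smul_smul, inv_mul_cancel₀ hb, neg_smul, one_smul]
        abel
    obtain ⟨ψ, hψ1, hψ2⟩ := exists_vec hBv'
    have f1 : ψ ⬝ᵥ v = 0 := hψ2 v (Submodule.subset_span (by simp))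
    have f2 : ψ ⬝ᵥ x = 0 := hψ2 x (Submodule.subset_span (by simp))
    have hmem : vecMulVec x ψ ∈ sp A := by
      refine (sp_inv A).all hd (A := (A : Matrix (Fin d) (Fin d) F)) ?_ hA f2
      apply Submodule.subset_span
      exact ⟨1, by simp⟩
    have h3 := hall _ hmem
    rw [sub_mulVec, ← mulVec_mulVec, ← mulVec_mulVec, vmv_mulVec, vmv_mulVec, hψ1, f1] at h3
    simp [hφ1] at h3
  obtain ⟨g, hg⟩ := hex
  set M : Matrix (Fin d) (Fin d) F := ((g * A * g⁻¹ : SpecialLinearGroup (Fin d) F) : Matrix (Fin d) (Fin d) F) with hM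
  set Bm : Matrix (Fin d) (Fin d) F := (B : Matrix (Fin d) (Fin d) F) with hBm
  set δ : F := φ ⬝ᵥ ((M * Bm - Bm * M) *ᵥ v) with hδ
  set s : F := (r - Matrix.trace (M * Bm)) / δ with hs
  have hsφ : φ ⬝ᵥ (s • v) = 0 := by rw [dotProduct_smul, e1, smul_zero]
  refine ⟨tv (s • v) φ hsφ * g, ?_⟩
  have h4 : ((tv (s • v) φ hsφ * g * A * (tv (s • v) φ hsφ * g)⁻¹ * B : SpecialLinearGroup (Fin d) F) :
      Matrix (Fin d) (Fin d) F) = (1 + vecMulVec (s • v) φ) * M * (1 - vecMulVec (s • v) φ) * Bm := by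
    rw [show tv (s • v) φ hsφ * g * A * (tv (s • v) φ hsφ * g)⁻¹ * B =
      tv (s • v) φ hsφ * (g * A * g⁻¹) * (tv (s • v) φ hsφ)⁻¹ * B by group]
    rw [Matrix.SpecialLinearGroup.coe_mul, Matrix.SpecialLinearGroup.coe_mul, Matrix.SpecialLinearGroup.coe_mul, tv_coe, tv_inv_coe]
  rw [h4]
  have h5 : (1 + vecMulVec (s • v) φ) * M * (1 - vecMulVec (s • v) φ) * Bm =
      M * Bm + s • (vecMulVec v φ * (M * Bm) - M * (vecMulVec v φ * Bm)) -
        (s * s * (φ ⬝ᵥ (M *ᵥ v))) • (vecMulVec v φ * Bm) := by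
    have := sandwich (s • v) φ M
    rw [Matrix.add_mul, Matrix.mul_sub, Matrix.mul_one, Matrix.one_mul, Matrix.add_mul, this]
    rw [smul_vecMulVec, mulVec_smul, dotProduct_smul]
    simp only [Matrix.add_mul, Matrix.sub_mul, Matrix.smul_mul, Matrix.mul_smul, smul_sub, smul_smul, smul_eq_mul,
      Matrix.mul_assoc]
    rw [show s * (φ ⬝ᵥ (M *ᵥ v)) * s = s * s * (φ ⬝ᵥ (M *ᵥ v)) by ring]
    abel
  rw [h5, Matrix.trace_sub, Matrix.trace_add, Matrix.trace_smul, Matrix.trace_smul, Matrix.trace_sub]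
  have h6 : Matrix.trace (vecMulVec v φ * Bm) = 0 := by
    rw [Matrix.trace_mul_comm, mul_vecMulVec, Matrix.trace_vecMulVec, dotProduct_comm, e2]
  have h7 : Matrix.trace (vecMulVec v φ * (M * Bm)) = φ ⬝ᵥ ((M * Bm) *ᵥ v) := by
    rw [Matrix.trace_mul_comm, mul_vecMulVec, Matrix.trace_vecMulVec, dotProduct_comm]
  have h8 : Matrix.trace (M * (vecMulVec v φ * Bm)) = φ ⬝ᵥ ((Bm * M) *ᵥ v) := by
    rw [← Matrix.mul_assoc, Matrix.trace_mul_comm, ← Matrix.mul_assoc, mul_vecMulVec, Matrix.trace_vecMulVec,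
      dotProduct_comm]
  rw [h6, h7, h8, smul_zero, sub_zero, ← dotProduct_sub, ← sub_mulVec, ← hδ, smul_eq_mul, hs,
    div_mul_cancel₀ _ hg]
  ring


/-- Let F be a finite field and d ≥ 3, and let a, b be non-identity elements of PSL_d(F). Then the product of the conjugacy classes of a and b is not a single conjugacy class: there are conjugates a′ of a and b′ of b such that a′b′ is not conjugate to ab. -/
theorem result {F : Type*} [Field F] [Fintype F] (d : ℕ) (hd : 3 ≤ d)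
    (a b : Matrix.ProjectiveSpecialLinearGroup (Fin d) F) (ha : a ≠ 1) (hb : b ≠ 1) :
    ∃ g h : Matrix.ProjectiveSpecialLinearGroup (Fin d) F, ¬ IsConj (a * b) (g * a * g⁻¹ * (h * b * h⁻¹)) := by
  classical
  obtain ⟨A, rfl⟩ := QuotientGroup.mk_surjective a
  obtain ⟨B, rfl⟩ := QuotientGroup.mk_surjective b
  have hns : ∀ A : SpecialLinearGroup (Fin d) F, ((A : Matrix.ProjectiveSpecialLinearGroup (Fin d) F) ≠ 1) →
      ∀ c : F, (A : Matrix (Fin d) (Fin d) F) ≠ c • (1 : Matrix (Fin d) (Fin d) F) := by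
    intro A hA c hc
    apply hA
    rw [QuotientGroup.eq_one_iff, Matrix.SpecialLinearGroup.mem_center_iff]
    refine ⟨c, ?_, ?_⟩
    · have := A.2
      rw [hc, det_smul, det_one, mul_one] at this
      exact this
    · rw [hc]; ext i j; simp [Matrix.diagonal_apply, Matrix.one_apply]
  by_contra hcon
  push Not at hcon
  have key : ∀ g : SpecialLinearGroup (Fin d) F,
      Matrix.trace ((g * A * g⁻¹ * B : SpecialLinearGroup (Fin d) F) : Matrix (Fin d) (Fin d) F) = 0 ↔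
      Matrix.trace ((A * B : SpecialLinearGroup (Fin d) F) : Matrix (Fin d) (Fin d) F) = 0 := by
    intro g
    have h1 := hcon (g : Matrix.ProjectiveSpecialLinearGroup (Fin d) F) 1
    rw [isConj_iff] at h1
    obtain ⟨c, hc⟩ := h1
    obtain ⟨C, rfl⟩ := QuotientGroup.mk_surjective c
    have h2 : ((C * (A * B) * C⁻¹ : SpecialLinearGroup (Fin d) F) : Matrix.ProjectiveSpecialLinearGroup (Fin d) F) =
        ((g * A * g⁻¹ * B : SpecialLinearGroup (Fin d) F) : Matrix.ProjectiveSpecialLinearGroup (Fin d) F) := by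
      simpa using! hc
    have h3 := QuotientGroup.eq.mp h2
    rw [Matrix.SpecialLinearGroup.mem_center_iff] at h3
    obtain ⟨r, hr, hr2⟩ := h3
    have hr0 : r ≠ 0 := by
      rintro rfl
      rw [zero_pow (by simp; omega)] at hr
      exact zero_ne_one hr
    have h4 : ((g * A * g⁻¹ * B : SpecialLinearGroup (Fin d) F) : Matrix (Fin d) (Fin d) F) =
        r • ((C * (A * B) * C⁻¹ : SpecialLinearGroup (Fin d) F) : Matrix (Fin d) (Fin d) F) := by
      have h5 : (g * A * g⁻¹ * B : SpecialLinearGroup (Fin d) F) =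
          (C * (A * B) * C⁻¹) * ((C * (A * B) * C⁻¹)⁻¹ * (g * A * g⁻¹ * B)) := by group
      rw [h5, Matrix.SpecialLinearGroup.coe_mul, ← hr2]
      ext i j
      simp [Matrix.mul_apply, Matrix.diagonal_apply, mul_comm]
    have h6 : Matrix.trace ((C * (A * B) * C⁻¹ : SpecialLinearGroup (Fin d) F) : Matrix (Fin d) (Fin d) F) =
        Matrix.trace ((A * B : SpecialLinearGroup (Fin d) F) : Matrix (Fin d) (Fin d) F) := by
      rw [Matrix.SpecialLinearGroup.coe_mul, Matrix.trace_mul_comm, ← Matrix.SpecialLinearGroup.coe_mul]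
      congr 2
      rw [← mul_assoc, inv_mul_cancel, one_mul]
    rw [h4, Matrix.trace_smul, h6, smul_eq_mul, mul_eq_zero]
    constructor
    · rintro (h | h)
      · exact absurd h hr0
      · exact h
    · intro h; exact Or.inr h
  obtain ⟨g0, hg0⟩ := trace_values hd A B (hns A ha) (hns B hb) 0
  obtain ⟨g1, hg1⟩ := trace_values hd A B (hns A ha) (hns B hb) 1
  have h1 := (key g0).mp hg0
  have h2 := (key g1).mpr h1
  rw [hg1] at h2
  exact one_ne_zero h2


end Cfsg.Agent.S2272
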