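import Cfsg.Statements.S2276
import Cfsg.Agent.Lib.H53FreeG

set_option autoImplicit false
open Cfsg

namespace Cfsg.Agent.S2276

/-- Let n ≥ 5, p ≥ 3 a prime, and u, w non-identity elements of p-power order in the alternating group A_n. Then there is g ∈ A_n such that u·(g w g⁻¹) does not have p-power order and ⟨u, g w g⁻¹⟩ is not solvable. -/
theorem result (n : ℕ) (hn : 5 ≤ n) (p : ℕ) (hp : p.Prime) (hp3 : 3 ≤ p) (u w : alternatingGroup (Fin n)) (hu : u ≠ 1) (hw : w ≠ 1)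
    (hu' : ∃ k : ℕ, orderOf u = p ^ k) (hw' : ∃ k : ℕ, orderOf w = p ^ k) :
    ∃ g : alternatingGroup (Fin n), (¬ ∃ k : ℕ, orderOf (u * (g * w * g⁻¹)) = p ^ k) ∧
      ¬ Group.IsSolvable ↥(Subgroup.closure ({u, g * w * g⁻¹} : Set (alternatingGroup (Fin n)))) := by
  obtain ⟨a, ha⟩ := hu'
  obtain ⟨b, hb⟩ := hw'
  obtain ⟨g, hg, h1, h2⟩ := Cfsg.Agent.Lib.H53Free.main (α := Fin n) (u := (u : Equiv.Perm (Fin n)))
    (w := (w : Equiv.Perm (Fin n))) (a := a) (b := b) hp hp3 (by rw [Fintype.card_fin]; exact hn)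
    (by rw [Subgroup.orderOf_coe]; exact ha) (by rw [Subgroup.orderOf_coe]; exact hb)
    (fun h => hu (Subtype.ext h)) (fun h => hw (Subtype.ext h))
  refine ⟨⟨g, Equiv.Perm.mem_alternatingGroup.2 hg⟩, ?_, ?_⟩
  · rintro ⟨k, hk⟩
    apply h1
    refine ⟨k, ?_⟩
    rw [← Subgroup.orderOf_coe] at hk
    exact hk
  · intro hs
    apply h2
    have h3 : (Subgroup.closure ({u, (⟨g, Equiv.Perm.mem_alternatingGroup.2 hg⟩ : alternatingGroup (Fin n)) * w *
        (⟨g, Equiv.Perm.mem_alternatingGroup.2 hg⟩ : alternatingGroup (Fin n))⁻¹} : Set (alternatingGroup (Fin n)))).map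
        (alternatingGroup (Fin n)).subtype =
        Subgroup.closure ({(u : Equiv.Perm (Fin n)), g * (w : Equiv.Perm (Fin n)) * g⁻¹} : Set (Equiv.Perm (Fin n))) := by
      rw [MonoidHom.map_closure, Set.image_pair]; rfl
    rw [← h3]
    exact Group.isSolvable_of_surjective (f := (alternatingGroup (Fin n)).subtype.subgroupMap _)
      (MonoidHom.subgroupMap_surjective _ _)

end Cfsg.Agent.S2276
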