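import Cfsg.Statements.S2357
import Cfsg.Agent.Lib.ReeY

set_option autoImplicit false
open Cfsg

namespace Cfsg.Agent.S2357

/-- Let R be the small Ree group over the field with q = 3^(2m+1) ≥ 27 elements and write φ for Euler's totient function. Then R has exactly q²(q²−q+1) involutions, (q²−1)(q³+1) elements of order 3, and q²(q−1)(q³+1) elements of order 6 and as many of order 9; for i > 2 dividing q−1 it has φ(i)q³(q³+1)/2 elements of order i; for i > 1 dividing (q+1)/4 it has φ(i)q³(q−1)(q²−q+1)/6 elements of order i and φ(i)q³(q−1)(q²−q+1)/2 elements of order 2i; and for i > 1 dividing q − 3^(m+1) + 1 (respectively q + 3^(m+1) + 1) it has φ(i)q³(q²−1)(q + 3^(m+1) + 1)/6 (respectively φ(i)q³(q²−1)(q − 3^(m+1) + 1)/6) elements of order i. -/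
theorem result {K : Type*} [Field K] [Fintype K] {m : ℕ} (hm : 1 ≤ m)
    (hK : Fintype.card K = 3 ^ (2 * m + 1)) :
    Nat.card {g : ↥(Cfsg.Lie.twistedG2 K (3 ^ m)) // orderOf g = 2} = (3 ^ (2 * m + 1)) ^ 2 * ((3 ^ (2 * m + 1)) ^ 2 - 3 ^ (2 * m + 1) + 1) ∧
    Nat.card {g : ↥(Cfsg.Lie.twistedG2 K (3 ^ m)) // orderOf g = 3} = ((3 ^ (2 * m + 1)) ^ 2 - 1) * ((3 ^ (2 * m + 1)) ^ 3 + 1) ∧
    Nat.card {g : ↥(Cfsg.Lie.twistedG2 K (3 ^ m)) // orderOf g = 6} = (3 ^ (2 * m + 1)) ^ 2 * (3 ^ (2 * m + 1) - 1) * ((3 ^ (2 * m + 1)) ^ 3 + 1) ∧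
    Nat.card {g : ↥(Cfsg.Lie.twistedG2 K (3 ^ m)) // orderOf g = 9} = (3 ^ (2 * m + 1)) ^ 2 * (3 ^ (2 * m + 1) - 1) * ((3 ^ (2 * m + 1)) ^ 3 + 1) ∧
    (∀ i : ℕ, 2 < i → i ∣ 3 ^ (2 * m + 1) - 1 →
      2 * Nat.card {g : ↥(Cfsg.Lie.twistedG2 K (3 ^ m)) // orderOf g = i} = Nat.totient i * (3 ^ (2 * m + 1)) ^ 3 * ((3 ^ (2 * m + 1)) ^ 3 + 1)) ∧
    (∀ i : ℕ, 1 < i → i ∣ (3 ^ (2 * m + 1) + 1) / 4 →
      6 * Nat.card {g : ↥(Cfsg.Lie.twistedG2 K (3 ^ m)) // orderOf g = i} =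
          Nat.totient i * (3 ^ (2 * m + 1)) ^ 3 * (3 ^ (2 * m + 1) - 1) * ((3 ^ (2 * m + 1)) ^ 2 - 3 ^ (2 * m + 1) + 1) ∧
        2 * Nat.card {g : ↥(Cfsg.Lie.twistedG2 K (3 ^ m)) // orderOf g = 2 * i} =
          Nat.totient i * (3 ^ (2 * m + 1)) ^ 3 * (3 ^ (2 * m + 1) - 1) * ((3 ^ (2 * m + 1)) ^ 2 - 3 ^ (2 * m + 1) + 1)) ∧
    (∀ i : ℕ, 1 < i → i ∣ 3 ^ (2 * m + 1) - 3 ^ (m + 1) + 1 →
      6 * Nat.card {g : ↥(Cfsg.Lie.twistedG2 K (3 ^ m)) // orderOf g = i} =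
        Nat.totient i * (3 ^ (2 * m + 1)) ^ 3 * ((3 ^ (2 * m + 1)) ^ 2 - 1) * (3 ^ (2 * m + 1) + 3 ^ (m + 1) + 1)) ∧
    (∀ i : ℕ, 1 < i → i ∣ 3 ^ (2 * m + 1) + 3 ^ (m + 1) + 1 →
      6 * Nat.card {g : ↥(Cfsg.Lie.twistedG2 K (3 ^ m)) // orderOf g = i} =
        Nat.totient i * (3 ^ (2 * m + 1)) ^ 3 * ((3 ^ (2 * m + 1)) ^ 2 - 1) * (3 ^ (2 * m + 1) - 3 ^ (m + 1) + 1)) := by
  have D := Cfsg.Agent.Lib.ReeQ.rd hK hm
  have hpos : 0 < 3 ^ (2 * m + 1) := by positivity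
  have h2 := (Cfsg.Agent.Lib.ReeQ.rd hK hm).card_inv
  have h3 := (Cfsg.Agent.Lib.ReeQ.rd hK hm).card_three (Cfsg.Agent.Lib.ReeY.rd_c3 hK hm)
  have h6 := (Cfsg.Agent.Lib.ReeQ.rd hK hm).card_six (Cfsg.Agent.Lib.ReeY.rd_nine hK hm) (Cfsg.Agent.Lib.ReeY.rd_c3 hK hm)
  have h9 := (Cfsg.Agent.Lib.ReeQ.rd hK hm).card_nine (Cfsg.Agent.Lib.ReeY.rd_nine hK hm) (Cfsg.Agent.Lib.ReeY.rd_c3 hK hm)
  have hs := fun i => (Cfsg.Agent.Lib.ReeQ.rd hK hm).card_split (i := i)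
  have hq := fun i => (Cfsg.Agent.Lib.ReeQ.rd hK hm).card_quarter (i := i)
  have hq2 := fun i => (Cfsg.Agent.Lib.ReeQ.rd hK hm).card_quarter_two (i := i)
  have hG := (Cfsg.Agent.Lib.ReeQ.rd hK hm).card_G'
  rw [hK] at h2 h3 h6 h9 hs hq hq2 hG
  obtain ⟨A₁, A₂, t₁, t₂, hA₁, hA₂⟩ := (Cfsg.Agent.Lib.ReeQ.rd hK hm).tor_Q _ (Cfsg.Agent.Lib.ReeP.rho_inj hK hm)
  have hprod := (Cfsg.Agent.Lib.ReeQ.rd hK hm).prod_Q _ (Cfsg.Agent.Lib.ReeP.rho_inj hK hm)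
  have hsq : (3 ^ (2 * m + 1) - 1) * (3 ^ (2 * m + 1) + 1) = (3 ^ (2 * m + 1)) ^ 2 - 1 := by
    obtain ⟨k, hk⟩ : ∃ k, 3 ^ (2 * m + 1) = k + 1 := ⟨3 ^ (2 * m + 1) - 1, by omega⟩
    rw [hk, Nat.add_sub_cancel]
    have : (k + 1) ^ 2 = k * (k + 1 + 1) + 1 := by ring
    rw [this, Nat.add_sub_cancel]
  rw [hsq, ← hprod] at hG
  refine ⟨?_, h3, h6, h9, hs, fun i hi hd => ⟨hq i hi hd, hq2 i hi hd⟩, ?_, ?_⟩
  · rw [← h2]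
    apply Nat.card_congr
    apply Equiv.subtypeEquivRight
    intro g
    constructor
    · intro h
      refine ⟨?_, ?_⟩
      · rintro rfl; rw [orderOf_one] at h; omega
      · rw [← pow_two, ← h]; exact pow_orderOf_eq_one g
    · rintro ⟨h1, h2⟩
      exact orderOf_eq_prime (by rw [pow_two]; exact h2) h1
  · intro i hi hd
    have h := t₁.tor.count hi (by rw [hA₁]; exact hd)
    rw [hG] at h
    have hp : 0 < 3 ^ (2 * m + 1) - 3 ^ (m + 1) + 1 := by omega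
    apply Nat.eq_of_mul_eq_mul_right hp
    calc 6 * Nat.card {g : ↥(Cfsg.Lie.twistedG2 K (3 ^ m)) // orderOf g = i} * (3 ^ (2 * m + 1) - 3 ^ (m + 1) + 1)
        = Nat.card {g : ↥(Cfsg.Lie.twistedG2 K (3 ^ m)) // orderOf g = i} * (6 * (3 ^ (2 * m + 1) - 3 ^ (m + 1) + 1)) := by ring
      _ = _ := h
      _ = _ := by ring
  · intro i hi hd
    have h := t₂.tor.count hi (by rw [hA₂]; exact hd)
    rw [hG] at h
    have hp : 0 < 3 ^ (2 * m + 1) + 3 ^ (m + 1) + 1 := by omega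
    apply Nat.eq_of_mul_eq_mul_right hp
    calc 6 * Nat.card {g : ↥(Cfsg.Lie.twistedG2 K (3 ^ m)) // orderOf g = i} * (3 ^ (2 * m + 1) + 3 ^ (m + 1) + 1)
        = Nat.card {g : ↥(Cfsg.Lie.twistedG2 K (3 ^ m)) // orderOf g = i} * (6 * (3 ^ (2 * m + 1) + 3 ^ (m + 1) + 1)) := by ring
      _ = _ := h
      _ = _ := by ring

end Cfsg.Agent.S2357
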