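import Cfsg.Statements.S2359
import Cfsg.Agent.Lib.ReeQ
import Cfsg.Agent.Lib.ReeR

set_option autoImplicit false
open Cfsg

namespace Cfsg.Agent.S2359

/-- Let R be the small Ree group over the field with q = 3^(2m+1) ≥ 27 elements. If H is a cyclic subgroup of R of order (q−1)/2, then the centralizer of H in R is cyclic of order q−1, and every non-trivial subgroup of H has the same centralizer as H. If H is a cyclic subgroup of order (q+1)/4, then the centralizer of H is abelian of order q+1 with no element of order 4 (so it is the direct product of H and a group of order 4 whose non-identity elements all have order 2), and every non-trivial subgroup of H has the same centralizer as H. -/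
theorem result {K : Type*} [Field K] [Fintype K] {m : ℕ} (hm : 1 ≤ m)
    (hK : Fintype.card K = 3 ^ (2 * m + 1)) (H : Subgroup ↥(Cfsg.Lie.twistedG2 K (3 ^ m))) (hH : IsCyclic H) :
    (Nat.card H = (3 ^ (2 * m + 1) - 1) / 2 →
      IsCyclic ↥(Subgroup.centralizer (H : Set ↥(Cfsg.Lie.twistedG2 K (3 ^ m)))) ∧
        Nat.card ↥(Subgroup.centralizer (H : Set ↥(Cfsg.Lie.twistedG2 K (3 ^ m)))) = 3 ^ (2 * m + 1) - 1 ∧
        ∀ A : Subgroup ↥(Cfsg.Lie.twistedG2 K (3 ^ m)), A ≤ H → A ≠ ⊥ →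
          Subgroup.centralizer (A : Set ↥(Cfsg.Lie.twistedG2 K (3 ^ m))) = Subgroup.centralizer (H : Set ↥(Cfsg.Lie.twistedG2 K (3 ^ m)))) ∧
    (Nat.card H = (3 ^ (2 * m + 1) + 1) / 4 →
      IsMulCommutative ↥(Subgroup.centralizer (H : Set ↥(Cfsg.Lie.twistedG2 K (3 ^ m)))) ∧
        Nat.card ↥(Subgroup.centralizer (H : Set ↥(Cfsg.Lie.twistedG2 K (3 ^ m)))) = 3 ^ (2 * m + 1) + 1 ∧
        (∀ x ∈ Subgroup.centralizer (H : Set ↥(Cfsg.Lie.twistedG2 K (3 ^ m))), orderOf x ≠ 4) ∧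
        ∀ A : Subgroup ↥(Cfsg.Lie.twistedG2 K (3 ^ m)), A ≤ H → A ≠ ⊥ →
          Subgroup.centralizer (A : Set ↥(Cfsg.Lie.twistedG2 K (3 ^ m))) = Subgroup.centralizer (H : Set ↥(Cfsg.Lie.twistedG2 K (3 ^ m)))) := by
  have h27 : 27 ≤ 3 ^ (2 * m + 1) := Cfsg.Agent.Lib.ReeA.pow_ge hm
  have hcomm : ∀ B : Subgroup ↥(Cfsg.Lie.twistedG2 K (3 ^ m)), IsCyclic B → ∀ a ∈ B, ∀ b ∈ B, a * b = b * a := by
    intro B hB a ha b hb
    letI := hB.commGroup
    exact congrArg Subtype.val (mul_comm (⟨a, ha⟩ : B) ⟨b, hb⟩)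
  have gen : ∀ (Y A : Subgroup ↥(Cfsg.Lie.twistedG2 K (3 ^ m))) (w c : ℕ), Cfsg.Agent.Lib.ReeA.RD.Tor m Y A w c →
      Nat.card H = Nat.card Y → ∃ g : ↥(Cfsg.Lie.twistedG2 K (3 ^ m)),
        Cfsg.Agent.Lib.ReeT.Torus H (A.map (MulAut.conj g).toMonoidHom) w := by
    intro Y A w c t hc
    obtain ⟨g, hg⟩ := t.tor.conj_sub_eq (B := Y) (C := H) (hcomm Y t.tor.cyc) (hcomm H hH) hc.symm dvd_rfl
    refine ⟨g, ?_⟩
    rw [hg]
    exact t.tor.map g
  constructor
  · intro hc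
    obtain ⟨Y, A, t, hY, hA⟩ := (Cfsg.Agent.Lib.ReeQ.rd hK hm).tor_H
    obtain ⟨g, hg⟩ := gen Y A _ _ t (hc.trans hY.symm)
    have hne : H ≠ ⊥ := by
      intro h
      rw [h, Subgroup.card_bot] at hc
      omega
    have hce := hg.cent_eq le_rfl hne
    have e := Subgroup.equivMapOfInjective A (MulAut.conj g).toMonoidHom (MulAut.conj g).injective
    refine ⟨?_, ?_, ?_⟩
    · rw [hce]
      haveI : IsCyclic A := by rw [hA]; exact (Cfsg.Agent.Lib.ReeQ.rd hK hm).cyc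
      exact isCyclic_of_surjective e (MulEquiv.surjective _)
    · rw [hce, Nat.card_congr e.toEquiv.symm, t.card, hY]
      have := Cfsg.Agent.Lib.ReeA.pow_mod m
      omega
    · intro A₀ h0 h1
      rw [hce]; exact hg.cent_eq h0 h1
  · intro hc
    obtain ⟨x, hx⟩ := (Cfsg.Agent.Lib.ReeQ.rd hK hm).exists_E
    obtain ⟨Y, A, t, hY, hA, -⟩ := (Cfsg.Agent.Lib.ReeQ.rd hK hm).tor_E hx
    obtain ⟨g, hg⟩ := gen Y A _ _ t (hc.trans hY.symm)
    have hne : H ≠ ⊥ := by
      intro h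
      rw [h, Subgroup.card_bot] at hc
      omega
    have hce := hg.cent_eq le_rfl hne
    have e := Subgroup.equivMapOfInjective A (MulAut.conj g).toMonoidHom (MulAut.conj g).injective
    refine ⟨?_, ?_, ?_, ?_⟩
    · rw [hce]
      exact ⟨⟨fun a b => Subtype.ext (hg.comm a.1 a.2 b.1 b.2)⟩⟩
    · rw [hce, Nat.card_congr e.toEquiv.symm, t.card, hY]
      have := Cfsg.Agent.Lib.ReeA.pow_mod m
      omega
    · rw [hce]
      rintro _ ⟨a, ha, rfl⟩ h4
      have h5 : orderOf a = 4 := by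
        rw [← h4]; exact ((MulAut.conj g).orderOf_eq a).symm
      have h6 : Odd (orderOf (a * a)) := by
        apply (Cfsg.Agent.Lib.ReeQ.rd hK hm).E_sq_odd hx
        rw [hA] at ha
        exact (Subgroup.mem_centralizer_iff.mp ha x rfl).symm
      rw [← pow_two, orderOf_pow, h5] at h6
      exact absurd h6 (by decide)
    · intro A₀ h0 h1
      rw [hce]; exact hg.cent_eq h0 h1

end Cfsg.Agent.S2359
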