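import Cfsg.Statements.S2362
import Cfsg.Agent.Lib.OddOrthB67
import Cfsg.Agent.Lib.SympSpec2
import Cfsg.Agent.Lib.ClOmega

set_option autoImplicit false
open Cfsg

namespace Cfsg.Agent.S2362

open Module Cfsg.Agent.Lib Cfsg.Agent.Lib.Quad

/-- an element of order `p (q^{n-1} + 1)` in `PSp_{2n}(q)`. -/
theorem exists_psp {F : Type*} [Field F] [Fintype F] (h2 : (2 : F) ≠ 0) (p : ℕ) [hp : Fact p.Prime] [CharP F p]
    (d : ℕ) (hd : 1 ≤ d) : ∃ g : Cfsg.PSp (d + 1) F, orderOf g = p * (Nat.card F ^ d + 1) := by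
  classical
  obtain ⟨K, _, _, _, hK, z, hz, hzo, -⟩ := PSLTypes.exists_ext F (2 * d) (by omega)
  have hfd : FiniteDimensional F K := Module.finite_of_finrank_pos (by omega)
  have hcard : Nat.card K = (Nat.card F ^ d) ^ 2 := by
    have h1 := Module.natCard_eq_pow_finrank (K := F) (V := K)
    rw [h1, hK, ← pow_mul, mul_comm]
  let τ' : K ≃ₐ[F] K := (FiniteField.frobeniusAlgEquivOfAlgebraic F K) ^ d
  have hτ' : ∀ x, τ' x = x ^ (Nat.card F ^ d) := by
    intro x
    have h1 : ⇑τ' = (⇑(FiniteField.frobeniusAlgEquivOfAlgebraic F K))^[d] := AlgEquiv.coe_pow _ _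
    rw [h1, FiniteField.coe_frobeniusAlgEquivOfAlgebraic_iterate, Nat.card_eq_fintype_card]
  let τ : K →+* K := (τ' : K →+* K)
  have hτ : ∀ x, τ x = x ^ (Nat.card F ^ d) := hτ'
  have hq : 1 < Nat.card F := Finite.one_lt_card
  have hqd : 1 < Nat.card F ^ d := Nat.one_lt_pow (by omega) hq
  obtain ⟨g, hg1, hg2⟩ := SympSpec.exists_field_regular (F := F) (n := d + 1) p h2 τ (fun c => AlgEquiv.commutes τ' c)
    (by
      intro x
      have hfK := Fintype.ofFinite K
      rw [hτ, hτ, ← pow_mul, ← pow_two, ← hcard, Nat.card_eq_fintype_card]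
      exact FiniteField.pow_card x)
    (by
      refine ⟨z, fun h => ?_⟩
      rw [hτ] at h
      have h3 : z ^ (Nat.card F ^ d - 1) = 1 := by
        apply Units.ext
        push_cast
        have h4 : (z : K) ^ (Nat.card F ^ d - 1) * z = 1 * z := by
          rw [← pow_succ, Nat.sub_add_cancel hqd.le, h, one_mul]
        exact mul_right_cancel₀ z.ne_zero h4
      have h4 := orderOf_dvd_of_pow_eq_one h3
      rw [hzo] at h4
      have h5 := Nat.le_of_dvd (by omega) h4
      have h6 : Nat.card F ^ d < Nat.card F ^ (2 * d) := Nat.pow_lt_pow_right hq (by omega)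
      omega)
    (by rw [hK]; omega) (Nat.card F ^ d) hcard hτ
  have hp1 : p ∣ orderOf g := by
    have := hg2 0 (by rw [hK, pow_zero]; omega)
    simpa using this
  obtain ⟨f, hf0, hqf⟩ : ∃ f : ℕ, 0 < f ∧ Nat.card F = p ^ f := by
    obtain ⟨n, _, hn⟩ := FiniteField.card F p
    exact ⟨n, n.pos, by rw [Nat.card_eq_fintype_card, hn]⟩
  have hcop : Nat.Coprime p (Nat.card F ^ d + 1) := by
    rw [Nat.Prime.coprime_iff_not_dvd hp.out]
    intro h
    have h3 : p ∣ Nat.card F ^ d := by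
      rw [hqf, ← pow_mul]
      exact dvd_pow_self p (by have := Nat.mul_pos hf0 (by omega : 0 < d); omega)
    exact hp.out.one_lt.ne' (Nat.dvd_one.1 ((Nat.dvd_add_right h3).1 h))
  obtain ⟨k, hk⟩ := hcop.mul_dvd_of_dvd_of_dvd hp1 hg1
  have hfin : Finite (Cfsg.PSp (d + 1) F) := inferInstance
  have hk0 : k ≠ 0 := by
    rintro rfl
    rw [mul_zero] at hk
    exact (orderOf_pos g).ne' hk
  refine ⟨g ^ k, ?_⟩
  rw [orderOf_pow_of_dvd hk0 (Dvd.intro_left _ hk.symm), hk, Nat.mul_div_cancel _ (Nat.pos_of_ne_zero hk0)]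

theorem center_omega_trivial {F : Type*} [Field F] [Fintype F] (h2 : (2 : F) ≠ 0) (m : ℕ) (hm : 3 ≤ m)
    (x : Cfsg.Omega F ⇑(quadOdd m F)) (hx : x ∈ Subgroup.center (Cfsg.Omega F ⇑(quadOdd m F))) : x = 1 := by
  classical
  have hQ : Nd (quadOdd m F) := nd_quadOdd h2
  have hneg : (LinearEquiv.neg F : (Unit ⊕ (Fin m ⊕ Fin m) → F) ≃ₗ[F] _) ∉ Om (quadOdd m F) := by
    rw [hQ.neg_mem_Om_iff h2 (Pi.basisFun F _), finrank_odd]
    rintro ⟨h, -⟩
    rw [Nat.even_add_one] at h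
    exact h ⟨m, by ring⟩
  have hcard := ClOmega.card_center_of_not_mem hQ (hQ.R_eq_O (genHyp_of_two_ne_zero h2)) (ClOmega.frame_of_HP (hpOdd m)) hm
    (fun _ => hneg)
  have hsub : Subsingleton (Subgroup.center (Om (quadOdd m F))) := (Nat.card_eq_one_iff_unique.1 hcard).1
  let e := ClOmega.omEquiv (quadOdd m F)
  have hx' : e x ∈ Subgroup.center (Om (quadOdd m F)) := by
    rw [Subgroup.mem_center_iff] at hx ⊢
    intro y
    obtain ⟨y, rfl⟩ := e.surjective y
    rw [← map_mul, ← map_mul, hx y]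
  have h1 : (⟨e x, hx'⟩ : Subgroup.center (Om (quadOdd m F))) = 1 := Subsingleton.elim _ _
  have h3 : e x = 1 := congrArg Subtype.val h1
  exact (MulEquiv.map_eq_one_iff e).1 h3

/-- Let F be a finite field of odd order and n ≥ 3. The simple orthogonal group PΩ(2n+1, F) (type B_n) and the projective symplectic group PSp(2n, F) (type C_n), which have the same order, do not have the same set of element orders. -/
theorem result {F : Type*} [Field F] [Fintype F] (hodd : Odd (Fintype.card F)) (n : ℕ) (hn : 3 ≤ n) :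
    Set.range (orderOf : Cfsg.POmega F (Cfsg.quadFormOdd n F) → ℕ) ≠ Set.range (orderOf : Cfsg.PSp n F → ℕ) := by
  classical
  intro heq
  have h2 : (2 : F) ≠ 0 := Quad.two_ne_zero_of_odd rfl hodd
  obtain ⟨p, hchar⟩ := CharP.exists F
  have hp0 : p ≠ 0 := CharP.char_ne_zero_of_finite F p
  have hpp : Fact p.Prime := ⟨(CharP.char_is_prime_or_zero F p).resolve_right hp0⟩
  obtain ⟨d, rfl⟩ : ∃ d, n = d + 1 := ⟨n - 1, by omega⟩
  obtain ⟨g, hg⟩ := exists_psp h2 p d (by omega)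
  have hmem : orderOf g ∈ Set.range (orderOf : Cfsg.POmega F (Cfsg.quadFormOdd (d + 1) F) → ℕ) := by
    rw [heq]; exact ⟨g, rfl⟩
  obtain ⟨x, hx⟩ := hmem
  obtain ⟨y, rfl⟩ := QuotientGroup.mk_surjective x
  have hy : orderOf y = p * (Nat.card F ^ d + 1) := by
    rw [← hg, ← hx]
    refine (orderOf_injective (QuotientGroup.mk' (Subgroup.center (Cfsg.Omega F (Cfsg.quadFormOdd (d + 1) F)))) ?_ y).symm
    rw [injective_iff_map_eq_one]
    intro a ha
    have h5 := (QuotientGroup.eq_one_iff a).1 ha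
    exact center_omega_trivial h2 (d + 1) hn a h5
  let e : ↥(Cfsg.Omega F (Cfsg.quadFormOdd (d + 1) F)) ≃* ↥(Om (quadOdd (d + 1) F)) := ClOmega.omEquiv (quadOdd (d + 1) F)
  have h3 : orderOf (e y) = p * (Nat.card F ^ d + 1) := by
    rw [← hy]
    exact MulEquiv.orderOf_eq e y
  have h4 : orderOf (((e y : ↥(Om (quadOdd (d + 1) F))) : (Unit ⊕ (Fin (d + 1) ⊕ Fin (d + 1)) → F) ≃ₗ[F] (Unit ⊕ (Fin (d + 1) ⊕ Fin (d + 1)) → F))) =
      p * (Nat.card F ^ d + 1) := by
    rw [← h3]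
    exact Subgroup.orderOf_coe _
  exact OddOrth67.no_element (nd_quadOdd h2) h2 (by omega) (by rw [finrank_odd]; ring) (e y).2 h4

end Cfsg.Agent.S2362
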