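import Cfsg.Statements.S2418
import Cfsg.Agent.Lib.CoxCent

set_option autoImplicit false
set_option maxRecDepth 1000000
open Cfsg

namespace Cfsg.Agent.S2418
open Cfsg.Lie Cfsg.Agent.Lib Cfsg.Agent.Lib.CoxCent Cfsg.Agent.Lib.CoxRootData

/-- a parent function from a list -/
def par (D : ChevalleyDatum) (h : 0 < D.rank) (l : List ℕ) (j : Fin D.rank) : Fin D.rank := ⟨l.getD j 0 % D.rank, Nat.mod_lt _ h⟩

theorem mB2 : ChkM chevB2 := by unfold ChkM; decide +kernel
theorem mG2 : ChkM chevG2 := by unfold ChkM; decide +kernel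
theorem mD4 : ChkM chevD4 := by unfold ChkM; decide +kernel
theorem mF4 : ChkM chevF4 := by unfold ChkM; decide +kernel
theorem mE6 : ChkM chevE6 := by unfold ChkM; decide +kernel
theorem mE7 : ChkM chevE7 := by unfold ChkM; decide +kernel
theorem mE8 : ChkM chevE8 := by unfold ChkM; decide +kernel

theorem cB2 : Conn chevB2 (par chevB2 (by decide) [0, 0]) := by unfold Conn; decide +kernel
theorem cG2 : Conn chevG2 (par chevG2 (by decide) [0, 0]) := by unfold Conn; decide +kernel
theorem cD4 : Conn chevD4 (par chevD4 (by decide) [0, 0, 1, 1]) := by unfold Conn; decide +kernel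
theorem cF4 : Conn chevF4 (par chevF4 (by decide) [0, 0, 1, 2]) := by unfold Conn; decide +kernel
theorem cE6 : Conn chevE6 (par chevE6 (by decide) [0, 3, 0, 2, 3, 4]) := by unfold Conn; decide +kernel
theorem cE7 : Conn chevE7 (par chevE7 (by decide) [0, 3, 0, 2, 3, 4, 5]) := by unfold Conn; decide +kernel
theorem cE8 : Conn chevE8 (par chevE8 (by decide) [0, 3, 0, 2, 3, 4, 5, 6]) := by unfold Conn; decide +kernel

theorem kB2 : ∀ j : Fin chevB2.rank, (stepC chevB2)^[2] (chevB2.simple j) = chevB2.neg (chevB2.simple j) := by decide +kernel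
theorem kG2 : ∀ j : Fin chevG2.rank, (stepC chevG2)^[3] (chevG2.simple j) = chevG2.neg (chevG2.simple j) := by decide +kernel
theorem kD4 : ∀ j : Fin chevD4.rank, (stepC chevD4)^[3] (chevD4.simple j) = chevD4.neg (chevD4.simple j) := by decide +kernel
theorem kF4 : ∀ j : Fin chevF4.rank, (stepC chevF4)^[6] (chevF4.simple j) = chevF4.neg (chevF4.simple j) := by decide +kernel
theorem kE7 : ∀ j : Fin chevE7.rank, (stepC chevE7)^[9] (chevE7.simple j) = chevE7.neg (chevE7.simple j) := by decide +kernel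
theorem kE8 : ∀ j : Fin chevE8.rank, (stepC chevE8)^[15] (chevE8.simple j) = chevE8.neg (chevE8.simple j) := by decide +kernel

local instance : NeZero chevE6.rank := ⟨by decide⟩

def w0 : List (Fin chevE6.rank) := [0, 1, 2, 0, 3, 1, 2, 0, 3, 2, 4, 3, 1, 2, 0, 3, 2, 4, 3, 1, 5, 4, 3, 1, 2, 0, 3, 2, 4, 3, 1, 5, 4, 3, 2, 0]

theorem kE6 : (∀ j : Fin chevE6.rank, chevE6.nroots / 2 ≤ chevE6.neg (w0.foldr (fun (i : Fin chevE6.rank) (a : ℕ) => chevE6.reflectRoot i a) (chevE6.simple j))) ∧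
    w0.foldr (fun (i : Fin chevE6.rank) (a : ℕ) => chevE6.reflectRoot i a) (chevE6.simple (0 : Fin chevE6.rank)) ≠ chevE6.neg (chevE6.simple (0 : Fin chevE6.rank)) := by decide +kernel

/-- For the Coxeter groups of types B₂, G₂, D₄, F₄, E₇, E₈ the centre has order 2 (the element acting as −1 on the root system) and is generated by a power of the Coxeter element `s₁ s₂ ⋯ s_l`; the Coxeter group of type E₆ has trivial centre. -/
theorem result (c : (Σ n : ℕ, CoxeterMatrix (Fin n)) × ℕ)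
    (hc : c ∈ [(⟨2, CoxeterMatrix.B 2⟩, 2), (⟨2, CoxeterMatrix.G₂⟩, 2), (⟨4, Cfsg.Lie.coxeterD4⟩, 2), (⟨4, CoxeterMatrix.F₄⟩, 2),
      (⟨6, CoxeterMatrix.E₆⟩, 1), (⟨7, CoxeterMatrix.E₇⟩, 2), (⟨8, CoxeterMatrix.E₈⟩, 2)]) :
    Nat.card (Subgroup.center c.1.2.Group) = c.2 ∧
      Subgroup.center c.1.2.Group ≤ Subgroup.zpowers ((List.finRange c.1.1).map c.1.2.simple).prod := by
  simp only [List.mem_cons, List.not_mem_nil, or_false] at hc
  rcases hc with rfl | rfl | rfl | rfl | rfl | rfl | rfl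
  · exact center_two ChevOkB2.good faithfulB2 mB2 cB2 2 kB2 (by decide)
  · exact center_two ChevOkG2.good faithfulG2 mG2 cG2 3 kG2 (by decide)
  · exact center_two ChevOkD4.good faithfulD4 mD4 cD4 3 kD4 (by decide)
  · exact center_two ChevOkF4.good faithfulF4 mF4 cF4 6 kF4 (by decide)
  · exact center_one ChevOkE6.good faithfulE6 mE6 cE6 w0 kE6.1 0 kE6.2
  · exact center_two ChevOkE7.good faithfulE7 mE7 cE7 9 kE7 (by decide)
  · exact center_two ChevOkE8.good faithfulE8 mE8 cE8 15 kE8 (by decide)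

end Cfsg.Agent.S2418
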