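import Cfsg.Statements.S2474
import Cfsg.Agent.Lib.OrthSympD67
import Cfsg.Agent.Lib.SympOrthB67
import Cfsg.Agent.S2362

set_option autoImplicit false
open Cfsg

namespace Cfsg.Agent.S2474

open Module Cfsg.Agent.Lib Cfsg.Agent.Lib.Quad

theorem cases_of {p r s : ℕ} (hp : p.Prime) (hp2 : p ≠ 2) (hr : r.Prime) (hs : s.Prime) (hrs : r ≠ s) :
    (Odd (r * s) ∧ ¬ p ∣ r * s) ∨ (∃ s', s'.Prime ∧ s' ≠ p ∧ s' ≠ 2 ∧ r * s = p * s') ∨
      (∃ r', r'.Prime ∧ r' ≠ p ∧ r' ≠ 2 ∧ r * s = 2 * r') ∨ r * s = 2 * p := by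
  by_cases h1 : r = 2
  · by_cases h2 : s = p
    · right; right; right; rw [h1, h2]
    · right; right; left; exact ⟨s, hs, h2, by omega, by rw [h1]⟩
  by_cases h2 : s = 2
  · by_cases h3 : r = p
    · right; right; right; rw [h2, h3, mul_comm]
    · right; right; left; exact ⟨r, hr, h3, h1, by rw [h2, mul_comm]⟩
  by_cases h3 : r = p
  · right; left; exact ⟨s, hs, by omega, h2, by rw [h3]⟩
  by_cases h4 : s = p
  · right; left; exact ⟨r, hr, h3, h1, by rw [h4, mul_comm]⟩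
  left
  refine ⟨(hr.odd_of_ne_two h1).mul (hs.odd_of_ne_two h2), fun h => ?_⟩
  rcases (Nat.Prime.dvd_mul hp).1 h with h5 | h5
  · exact h3 ((Nat.prime_dvd_prime_iff_eq hp hr).1 h5).symm
  · exact h4 ((Nat.prime_dvd_prime_iff_eq hp hs).1 h5).symm

theorem alt_B {F : Type*} [Field F] (n : ℕ) : SympOrth67.Alt (SympMat.B n F) where
  alt x := SympMat.sympForm_self x
  nd x hx := SympMat.eq_zero_of_sympForm hx

theorem dir1 {F : Type*} [Field F] [Fintype F] (h2 : (2 : F) ≠ 0) (n : ℕ) (hn : 3 ≤ n) (r s : ℕ)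
    (hr : r.Prime) (hs : s.Prime) (hrs : r ≠ s)
    (h : r * s ∈ Set.range (orderOf : Cfsg.POmega F (Cfsg.quadFormOdd n F) → ℕ)) :
    r * s ∈ Set.range (orderOf : Cfsg.PSp n F → ℕ) := by
  classical
  obtain ⟨p, hchar⟩ := CharP.exists F
  have hp0 : p ≠ 0 := CharP.char_ne_zero_of_finite F p
  have hpp : Fact p.Prime := ⟨(CharP.char_is_prime_or_zero F p).resolve_right hp0⟩
  have hp2 : p ≠ 2 := by
    rintro rfl
    exact h2 (by exact_mod_cast CharP.cast_eq_zero F 2)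
  suffices hsuff : ∃ g : Cfsg.PSp n F, r * s ∣ orderOf g by
    obtain ⟨g, k, hk⟩ := hsuff
    have hfin : Finite (Cfsg.PSp n F) := inferInstance
    have hk0 : k ≠ 0 := by
      rintro rfl
      rw [mul_zero] at hk
      exact (orderOf_pos g).ne' hk
    refine ⟨g ^ k, ?_⟩
    rw [orderOf_pow_of_dvd hk0 (Dvd.intro_left _ hk.symm), hk, Nat.mul_div_cancel _ (Nat.pos_of_ne_zero hk0)]
  obtain ⟨x, hx⟩ := h
  obtain ⟨y, rfl⟩ := QuotientGroup.mk_surjective x
  have hy : orderOf y = r * s := by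
    rw [← hx]
    refine (orderOf_injective (QuotientGroup.mk' (Subgroup.center (Cfsg.Omega F (Cfsg.quadFormOdd n F)))) ?_ y).symm
    rw [injective_iff_map_eq_one]
    intro a ha
    have h5 := (QuotientGroup.eq_one_iff a).1 ha
    exact S2362.center_omega_trivial h2 n hn a h5
  let e : ↥(Cfsg.Omega F (Cfsg.quadFormOdd n F)) ≃* ↥(Om (quadOdd n F)) := ClOmega.omEquiv (quadOdd n F)
  have h3 : orderOf (e y) = r * s := by
    rw [← hy]
    exact MulEquiv.orderOf_eq e y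
  obtain ⟨t, htOm, ht⟩ : ∃ t ∈ Om (quadOdd n F), orderOf t = r * s :=
    ⟨_, (e y).2, by rw [← h3]; exact Subgroup.orderOf_coe _⟩
  have hQ : Nd (quadOdd n F) := nd_quadOdd h2
  have hV : finrank F (Unit ⊕ (Fin n ⊕ Fin n) → F) = 2 * n + 1 := by rw [finrank_odd]
  have htO := Om_le htOm
  rcases cases_of hpp.out hp2 hr hs hrs with ⟨h4, h5⟩ | ⟨s', hs', h4, h5, h6⟩ | ⟨r', hr', h4, h5, h6⟩ | h4
  · have hN : ((orderOf t : ℕ) : F) ≠ 0 := by
      rw [ht]
      intro h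
      exact h5 ((CharP.cast_eq_zero_iff F p _).1 h)
    obtain ⟨g, hg⟩ := OrthSymp67.caseA (p := p) hQ h2 (by omega) hV htO (by rw [ht]; exact h4) hN
    exact ⟨g, by rw [← ht]; exact hg⟩
  · obtain ⟨g, hg⟩ := OrthSymp67.caseA' (p := p) hQ h2 (by omega) hV htO hs' h4 h5 (by rw [ht, h6])
    exact ⟨g, by rw [h6]; exact hg⟩
  · obtain ⟨g, hg⟩ := OrthSymp67.caseB (p := p) hQ h2 (by omega) hV htOm hr' h4 h5 (by rw [ht, h6])
    exact ⟨g, by rw [h6]; exact hg⟩
  · obtain ⟨g, hg1, hg2⟩ := SympSpec.exists_neg_regular (F := F) (n := n) p h2 (by omega)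
    refine ⟨g, ?_⟩
    rw [h4]
    apply Nat.Coprime.mul_dvd_of_dvd_of_dvd
    · exact (Nat.coprime_primes Nat.prime_two hpp.out).2 hp2.symm
    · exact hg1
    · have := hg2 0 (by rw [pow_zero]; omega)
      simpa using this

theorem dir2 {F : Type*} [Field F] [Fintype F] (h2 : (2 : F) ≠ 0) (n : ℕ) (hn : 3 ≤ n) (r s : ℕ)
    (hr : r.Prime) (hs : s.Prime) (hrs : r ≠ s)
    (h : r * s ∈ Set.range (orderOf : Cfsg.PSp n F → ℕ)) :
    r * s ∈ Set.range (orderOf : Cfsg.POmega F (Cfsg.quadFormOdd n F) → ℕ) := by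
  classical
  obtain ⟨p, hchar⟩ := CharP.exists F
  have hp0 : p ≠ 0 := CharP.char_ne_zero_of_finite F p
  have hpp : Fact p.Prime := ⟨(CharP.char_is_prime_or_zero F p).resolve_right hp0⟩
  have hp2 : p ≠ 2 := by
    rintro rfl
    exact h2 (by exact_mod_cast CharP.cast_eq_zero F 2)
  have hQ : Nd (quadOdd n F) := nd_quadOdd h2
  have hV' : finrank F (Unit ⊕ (Fin n ⊕ Fin n) → F) = 2 * n + 1 := by rw [finrank_odd]
  suffices hsuff : ∃ g ∈ Om (quadOdd n F), orderOf g = r * s by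
    obtain ⟨g, hg, hgo⟩ := hsuff
    rw [← hgo]
    exact OrthEmb67.mem_range_of_Om n hg (S2362.center_omega_trivial h2 n hn)
  obtain ⟨g, hg⟩ := h
  obtain ⟨T0, hT0, ⟨T', hT'⟩, hk⟩ := SympSpec.exists_isom g
  have hT0inj : Function.Injective T0 := by
    rw [← LinearMap.ker_eq_bot, LinearMap.ker_eq_bot']
    intro x hx
    apply (alt_B n).nd
    intro y
    have h3 := hT0 x y
    rw [hx] at h3
    show sympForm n F x y = 0
    rw [← h3]
    exact LinearMap.map_zero₂ (SympMat.B n F) _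
  let T : (Fin n ⊕ Fin n → F) ≃ₗ[F] (Fin n ⊕ Fin n → F) := LinearEquiv.ofInjectiveEndo T0 hT0inj
  have hTT : ((T : (Fin n ⊕ Fin n → F) →ₗ[F] (Fin n ⊕ Fin n → F)) : Module.End F (Fin n ⊕ Fin n → F)) = T0 := by
    ext x
    rfl
  have hTI : SympOrth67.Iso (SympMat.B n F) T := fun x y => hT0 x y
  have hkk : ∀ k, (∃ c : F, ∀ x, (T ^ k) x = c • x) ↔ r * s ∣ k := by
    intro k
    rw [← hg, orderOf_dvd_iff_pow_eq_one, hk]
    apply exists_congr
    intro c
    constructor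
    · intro h
      ext1 x
      rw [← hTT]
      apply LinearMap.ext
      intro y
      show (((T : (Fin n ⊕ Fin n → F) →ₗ[F] (Fin n ⊕ Fin n → F)) : Module.End F (Fin n ⊕ Fin n → F)) ^ k) _ = _
      rw [OrthSymp67.end_pow, h]; rfl
    · intro h x
      rw [← OrthSymp67.end_pow, hTT, h]; rfl
  have hV : finrank F (Fin n ⊕ Fin n → F) = 2 * n := by
    rw [Module.finrank_fintype_fun_eq_card, Fintype.card_sum, Fintype.card_fin]; ring
  have hnt : Nontrivial (Fin n ⊕ Fin n → F) := by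
    apply Module.nontrivial_of_finrank_pos (R := F); omega
  rcases cases_of hpp.out hp2 hr hs hrs with ⟨h4, h5⟩ | ⟨s', hs', h4, h5, h6⟩ | ⟨r', hr', h4, h5, h6⟩ | h4
  · obtain ⟨T1, hT1, hT1o⟩ := SympOrth67.exists_odd_lift (alt_B n) hTI h4 hkk
    have hN : ((orderOf T1 : ℕ) : F) ≠ 0 := by
      rw [hT1o]
      intro h
      exact h5 ((CharP.cast_eq_zero_iff F p _).1 h)
    obtain ⟨g, hg, hgo⟩ := SympOrth67.caseA (alt_B n) h2 hV hQ hV' hT1 (by rw [hT1o]; exact h4) hN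
    exact ⟨g, hg, hgo.trans hT1o⟩
  · have hodd : Odd (r * s) := by
      rw [h6]; exact (hpp.out.odd_of_ne_two hp2).mul (hs'.odd_of_ne_two h5)
    obtain ⟨T1, hT1, hT1o⟩ := SympOrth67.exists_odd_lift (alt_B n) hTI hodd hkk
    obtain ⟨g, hg, hgo⟩ := SympOrth67.caseA' (p := p) (alt_B n) h2 hV hQ hV' hT1 hs' h4 h5 (hT1o.trans h6)
    exact ⟨g, hg, hgo.trans h6.symm⟩
  · obtain ⟨g, hg, hgo⟩ := SympOrth67.caseB (p := p) (alt_B n) h2 (by omega) hV hQ hV' hTI hr' h4 h5 (by rw [← h6]; exact hkk)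
    exact ⟨g, hg, hgo.trans h6.symm⟩
  · obtain ⟨g, hg, hgo⟩ := SympOrth67.caseC (p := p) h2 hQ (by rw [hV']; omega)
    exact ⟨g, hg, hgo.trans h4.symm⟩

/-- For q odd and n ≥ 3 the simple groups PΩ(2n+1,q) and PSp(2n,q) (which have the same order but different sets of element orders) have the same prime graph: for all distinct primes r, s, one of them has an element of order r·s if and only if the other does. -/
theorem result {F : Type*} [Field F] [Fintype F] (hodd : Odd (Fintype.card F)) (n : ℕ) (hn : 3 ≤ n) (r s : ℕ) (hr : r.Prime) (hs : s.Prime) (hrs : r ≠ s) :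
    (r * s ∈ Set.range (orderOf : Cfsg.POmega F (Cfsg.quadFormOdd n F) → ℕ)) ↔ (r * s ∈ Set.range (orderOf : Cfsg.PSp n F → ℕ)) := by
  have h2 : (2 : F) ≠ 0 := Quad.two_ne_zero_of_odd rfl hodd
  exact ⟨dir1 h2 n hn r s hr hs hrs, dir2 h2 n hn r s hr hs hrs⟩

end Cfsg.Agent.S2474
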