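import Cfsg.Statements.S2495
import Cfsg.Agent.S2904
import Cfsg.Agent.Lib.SingerOrd
import Cfsg.Agent.Lib.SingerArith
import Cfsg.Agent.Lib.PSLSpectrum

set_option autoImplicit false
open Cfsg

namespace Cfsg.Agent.S2495

open Module Polynomial Cfsg.Agent.Lib.SingerOrd Cfsg.Agent.Lib.SingerArith Cfsg.Agent.Lib.PSLSpectrum Cfsg.Agent.Lib.PSLTypes

section
variable {F : Type*} [Field F] [Fintype F] {K : Type*} [Field K] [Algebra F K] [Finite K]

theorem mem_iff {Q : ℕ} (hQ : Fintype.card F = Q) (z : Kˣ) (t k : ℕ) :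
    (∃ c : F, ((z ^ t : Kˣ) : K) ^ k = algebraMap F K c) ↔ orderOf z ∣ t * k * (Q - 1) := by
  have hQ1 : 1 < Q := by rw [← hQ]; exact Fintype.one_lt_card
  rw [orderOf_dvd_iff_pow_eq_one]
  constructor
  · rintro ⟨c, hc⟩
    have hc0 : c ≠ 0 := by
      rintro rfl
      rw [map_zero] at hc
      exact (pow_ne_zero k (z ^ t).ne_zero) hc
    have h1 : c ^ (Q - 1) = 1 := by rw [← hQ]; exact FiniteField.pow_card_sub_one_eq_one c hc0
    apply Units.ext
    rw [pow_mul, pow_mul, Units.val_pow_eq_pow_val, Units.val_pow_eq_pow_val, hc, ← map_pow, h1, map_one, Units.val_one]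
  · intro h
    have h2 : ((z ^ t : Kˣ) : K) ^ k = ((z ^ (t * k) : Kˣ) : K) := by rw [pow_mul, Units.val_pow_eq_pow_val (z ^ t) k]
    obtain ⟨c, hc⟩ := Cfsg.Agent.Lib.UnSpec.mem_range_of_pow (F := F) (((z ^ t : Kˣ) : K) ^ k) (by
      rw [h2, hQ, ← Units.val_pow_eq_pow_val]
      congr 1
      have : Q = (Q - 1) + 1 := by omega
      rw [this, pow_succ, ← pow_mul, h, one_mul])
    exact ⟨c, hc.symm⟩

end

theorem result' {F : Type*} [Field F] [Fintype F] {q : ℕ} (hF : Fintype.card F = q) (hodd : Odd q)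
    {m : ℕ} (hm : 2 ≤ m) :
    (∃ g : Matrix.ProjectiveSpecialLinearGroup (Fin (2 * m)) F, orderOf g = q ^ m + 1) ↔
      Nat.gcd (2 * m) (q - 1) ∣ m := by
  have hq : 1 < q := by rw [← hF]; exact Fintype.one_lt_card
  have hFn : Nat.card F = q := by rw [Nat.card_eq_fintype_card, hF]
  obtain ⟨K, _, _, _, hK, z, hz, hzo, hzn⟩ := exists_ext F (2 * m) (by omega)
  rw [hFn] at hzo
  obtain ⟨A, hA1, hA2⟩ := exists_geom q hq.le m
  have hApos : 0 < A := by
    rcases Nat.eq_zero_or_pos A with h | h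
    · rw [h, zero_mul] at hA1
      have := Nat.one_lt_pow (by omega : m ≠ 0) hq
      omega
    · exact h
  have hzo' : orderOf z = A * (q - 1) * (q ^ m + 1) := by
    rw [hzo, two_mul, pow_add]
    have : q ^ m * q ^ m = A * (q - 1) * (q ^ m + 1) + 1 := by
      nth_rewrite 1 [hA1]; rw [add_mul, one_mul, mul_add, mul_one]
      nth_rewrite 2 [hA1]; ring
    rw [this]; simp
  set d := Nat.gcd (2 * m) (q - 1) with hd
  have hdq : d ∣ q - 1 := Nat.gcd_dvd_right _ _
  have hdpos : 0 < d := Nat.gcd_pos_of_pos_left _ (by omega)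
  have hM : A * (q ^ m + 1) ≡ 2 * m [MOD (q - 1)] := by
    have h1 : q ^ m ≡ 1 [MOD (q - 1)] := by
      rw [hA1]
      have := Nat.ModEq.add_right 1 ((Nat.modEq_zero_iff_dvd).2 (dvd_mul_left (q - 1) A))
      simpa using this
    calc A * (q ^ m + 1) ≡ m * (1 + 1) [MOD (q - 1)] := hA2.mul (h1.add_right 1)
      _ = 2 * m := by ring
  obtain ⟨e, he⟩ := hdq
  have hnorm : orderOf (Units.map (Algebra.norm F (S := K)) z) = q - 1 := by
    rw [orderOf_eq_card_of_forall_mem_zpowers hzn, Nat.card_units, hFn]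
  have hnorm' : ∀ t : ℕ, Algebra.norm F ((z ^ t : Kˣ) : K) = 1 ↔ (q - 1) ∣ t := by
    intro t
    rw [← hnorm, orderOf_dvd_iff_pow_eq_one, ← map_pow, Units.ext_iff]
    rfl
  constructor
  · rintro ⟨g, hg⟩
    obtain ⟨T, hdet, hT⟩ := exists_end g
    obtain ⟨r, hr, hrd, hrk⟩ := Cfsg.Agent.S2904.result q (2 * m) hq (by omega) (by
      rintro ⟨rfl, _⟩
      exact absurd hodd (by decide)) (by rintro ⟨h, _⟩; omega)
    have : Fact r.Prime := ⟨hr⟩
    have hrq : r ∣ q ^ m + 1 := by
      have h1 : q ^ (2 * m) - 1 = (A * (q - 1)) * (q ^ m + 1) := by rw [← hzo, hzo']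
      rw [h1] at hrd
      rcases (Nat.Prime.dvd_mul hr).1 hrd with h | h
      · exfalso
        apply hrk m (by omega) (by omega)
        rw [hA1]; simpa using h
      · exact h
    have hr0 : (r : F) ≠ 0 := by
      intro h
      obtain ⟨c, hc⟩ := hrd
      have hq0 : ((q : ℕ) : F) = 0 := by rw [← hF]; exact Nat.cast_card_eq_zero F
      have h1 : ((q ^ (2 * m) - 1 + 1 : ℕ) : F) = 1 := by
        rw [hc]; push_cast; rw [h]; ring
      rw [Nat.sub_add_cancel (Nat.one_le_pow _ _ (by omega))] at h1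
      push_cast at h1
      rw [hq0, zero_pow (by omega)] at h1
      exact zero_ne_one h1
    obtain ⟨N, hN⟩ := hrq
    have hNpos : 0 < N := by
      rcases Nat.eq_zero_or_pos N with h | h
      · rw [h, mul_zero] at hN; omega
      · exact h
    obtain ⟨c, hc⟩ := (hT (q ^ m + 1)).1 (by rw [← hg]; exact pow_orderOf_eq_one g)
    have hdet0 : LinearMap.det (T ^ (q ^ m + 1)) = 1 := by rw [map_pow, hdet, one_pow]
    have hc0 : c ≠ 0 := by
      rintro rfl
      rw [hc, zero_smul] at hdet0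
      rw [LinearMap.det_zero, finrank_fin_fun, zero_pow (by omega)] at hdet0
      exact zero_ne_one hdet0
    obtain ⟨b, hb⟩ : ∃ b : Fˣ, b ^ r = Units.mk0 c hc0 := by
      have hcop : (Nat.card Fˣ).Coprime r := by
        rw [Nat.card_units, hFn, Nat.coprime_comm, Nat.Prime.coprime_iff_not_dvd hr]
        have := hrk 1 (by norm_num) (by omega)
        rwa [pow_one] at this
      exact ⟨(powCoprime hcop).symm (Units.mk0 c hc0), (powCoprime hcop).apply_symm_apply _⟩
    set S : End F (Fin (2 * m) → F) := ((b⁻¹ : Fˣ) : F) • T ^ N with hS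
    have hSr : S ^ r = 1 := by
      rw [hS, _root_.smul_pow, ← pow_mul, mul_comm N r, ← hN, hc, smul_smul]
      have : (((b⁻¹ : Fˣ) : F)) ^ r * c = 1 := by
        have h1 : (b : F) ^ r = c := by
          have := congrArg (fun u : Fˣ => (u : F)) hb
          simpa using this
        rw [← h1, ← mul_pow, Units.inv_mul, one_pow]
      rw [this, one_smul]
    have hS1 : S ≠ 1 := by
      intro h
      have h1 : T ^ N = (b : F) • (1 : End F (Fin (2 * m) → F)) := by
        rw [← h, hS, smul_smul, Units.mul_inv, one_smul]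
      have h2 : g ^ N = 1 := (hT N).2 ⟨b, h1⟩
      have h3 := Nat.le_of_dvd hNpos (orderOf_dvd_of_pow_eq_one h2)
      rw [hg, hN] at h3
      have := hr.two_le
      nlinarith
    have : Nontrivial (Fin (2 * m) → F) := by
      have : Nonempty (Fin (2 * m)) := ⟨⟨0, by omega⟩⟩
      infer_instance
    have hfin : finrank F (Fin (2 * m) → F) = 2 * m := by simp
    obtain ⟨f, hf, hfd, hfT⟩ := exists_irreducible (T := T) (by
      intro U hU
      apply invariant_trivial (r := r) (S := S) _ hr0 hSr hS1 U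
      · intro u hu
        have : ∀ k : ℕ, (T ^ k) u ∈ U := by
          intro k
          induction k with
          | zero => simpa using hu
          | succ k ih => rw [pow_succ', Module.End.mul_apply]; exact hU _ ih
        rw [hS, LinearMap.smul_apply]
        exact U.smul_mem _ (this N)
      · intro k hk1 hk2
        rw [hFn]
        rw [hfin] at hk2
        exact hrk k hk1 hk2)
    rw [hfin] at hfd
    obtain ⟨α, hα, hαi⟩ := Cfsg.Agent.Lib.UnSpec.exists_root_in f hf (hK.trans hfd.symm)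
    have hnα : Algebra.norm F α = 1 := by
      rw [← Cfsg.Agent.Lib.UnSpec.det_eq_norm T f hf (hfd.trans hfin.symm) hfT (hK.trans hfin.symm) α hα, hdet]
    have hα0 : α ≠ 0 := by
      rintro rfl
      rw [Algebra.norm_zero] at hnα
      exact zero_ne_one hnα
    obtain ⟨t, ht⟩ : ∃ t : ℕ, z ^ t = Units.mk0 α hα0 := by
      have := hz (Units.mk0 α hα0)
      rw [← mem_powers_iff_mem_zpowers] at this
      exact this
    have htα : ((z ^ t : Kˣ) : K) = α := by rw [ht]; rfl
    have hqt : (q - 1) ∣ t := (hnorm' t).1 (by rw [htα, hnα])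
    obtain ⟨s, hs⟩ := hqt
    have hdM : d ∣ A * (q ^ m + 1) := (hM.dvd_iff (Nat.gcd_dvd_right _ _)).2 (Nat.gcd_dvd_left _ _)
    obtain ⟨M', hM'⟩ := hdM
    have hgM : g ^ M' = 1 := by
      obtain ⟨c', hc'⟩ := (mem_iff hF z t M').2 (by
        rw [hzo', hs]
        refine ⟨s * e, ?_⟩
        calc (q - 1) * s * M' * (q - 1) = (q - 1) * s * M' * (d * e) := by rw [← he]
          _ = (q - 1) * (d * M') * (s * e) := by ring
          _ = (q - 1) * (A * (q ^ m + 1)) * (s * e) := by rw [← hM']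
          _ = _ := by ring)
      rw [htα] at hc'
      have h1 := (hαi M' c').1 hc'
      have h2 : f ∣ X ^ M' - C c' := by
        rw [← AdjoinRoot.mk_eq_zero, map_sub, map_pow, AdjoinRoot.mk_X, AdjoinRoot.mk_C, h1]
        exact sub_self _
      obtain ⟨g', hg'⟩ := h2
      have h3 : aeval T (X ^ M' - C c') = 0 := by rw [hg', map_mul, hfT, zero_mul]
      rw [map_sub, map_pow, aeval_X, aeval_C, sub_eq_zero] at h3
      exact (hT M').2 ⟨c', by rw [h3, Algebra.algebraMap_eq_smul_one]⟩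
    have h4 := orderOf_dvd_of_pow_eq_one hgM
    rw [hg] at h4
    have h5 : d * (q ^ m + 1) ∣ A * (q ^ m + 1) := by rw [hM']; exact Nat.mul_dvd_mul_left d h4
    have h6 : d ∣ A := Nat.dvd_of_mul_dvd_mul_right (by omega) h5
    exact (hA2.dvd_iff (Nat.gcd_dvd_right _ _)).1 h6
  · intro hdm
    have hdA : d ∣ A := (hA2.dvd_iff (Nat.gcd_dvd_right _ _)).2 hdm
    obtain ⟨A', hA'⟩ := hdA
    have hA'pos : 0 < A' := by
      rcases Nat.eq_zero_or_pos A' with h | h
      · rw [h, mul_zero] at hA'; omega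
      · exact h
    have hcop : Nat.Coprime (q ^ m + 1) e := by
      have h1 : d * Nat.gcd (q ^ m + 1) e ∣ q - 1 := by
        rw [he]; exact Nat.mul_dvd_mul_left d (Nat.gcd_dvd_right _ _)
      have h2 : d * Nat.gcd (q ^ m + 1) e ∣ A * (q ^ m + 1) :=
        mul_dvd_mul ⟨A', hA'⟩ (Nat.gcd_dvd_left _ _)
      have h3 : d * Nat.gcd (q ^ m + 1) e ∣ 2 * m := (hM.dvd_iff h1).1 h2
      have h4 : d * Nat.gcd (q ^ m + 1) e ∣ d := Nat.dvd_gcd h3 h1
      have h5 : d * Nat.gcd (q ^ m + 1) e ∣ d * 1 := by rwa [mul_one]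
      exact Nat.dvd_one.1 (Nat.dvd_of_mul_dvd_mul_left hdpos h5)
    set t := (q - 1) * A' with ht
    obtain ⟨g, hg⟩ := exists_psl hK (Algebra.lmul F K ((z ^ t : Kˣ) : K)) (by
      have h := (hnorm' t).2 (dvd_mul_right _ _)
      rw [Algebra.norm_apply] at h
      exact h)
    refine ⟨g, ?_⟩
    have key : ∀ k : ℕ, g ^ k = 1 ↔ (q ^ m + 1) ∣ k := by
      intro k
      rw [hg]
      simp only [lmul_pow_eq_smul_one_iff]
      rw [mem_iff hF, hzo', ht]
      have hqpos : 0 < q - 1 := by omega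
      have e1 : (q - 1) * A' * k * (q - 1) = ((q - 1) * A' * d) * (e * k) := by
        nth_rewrite 2 [he]; ring
      have e2 : A * (q - 1) * (q ^ m + 1) = ((q - 1) * A' * d) * (q ^ m + 1) := by
        rw [hA']; ring
      rw [e1, e2, Nat.mul_dvd_mul_iff_left (by positivity)]
      exact ⟨fun h => hcop.dvd_of_dvd_mul_left h, fun h => h.mul_left e⟩
    exact Nat.dvd_antisymm (orderOf_dvd_of_pow_eq_one ((key _).2 dvd_rfl)) ((key _).1 (pow_orderOf_eq_one g))

/-- Let q be an odd prime power, n ≥ 4 even, and L = PSL(n,q). Then L has an element of order q^(n/2) + 1 if and only if the 2-part of n exceeds the 2-part of q − 1. -/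
theorem result {F : Type*} [Field F] [Fintype F] {q : ℕ} (hF : Fintype.card F = q) (hodd : Odd q)
    {n : ℕ} (hn : 4 ≤ n) (heven : Even n) :
    (∃ g : Matrix.ProjectiveSpecialLinearGroup (Fin n) F, orderOf g = q ^ (n / 2) + 1) ↔
      padicValNat 2 (q - 1) < padicValNat 2 n := by
  obtain ⟨m, rfl⟩ := heven
  have hq : 1 < q := by rw [← hF]; exact Fintype.one_lt_card
  rw [← two_mul, Nat.mul_div_cancel_left _ (by norm_num), result' hF hodd (by omega),
    gcd_dvd_iff (by omega) (by omega)]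

end Cfsg.Agent.S2495
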