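import Cfsg.Statements.S2496
import Cfsg.Agent.S2904
import Cfsg.Agent.Lib.UnSinger

set_option autoImplicit false
open Cfsg

namespace Cfsg.Agent.S2496

open Module Polynomial Cfsg.Agent.Lib.HermAlg Cfsg.Agent.Lib.ClUnitary Cfsg.Agent.Lib.HermMat Cfsg.Agent.Lib.UnSpec
open Cfsg.Agent.Lib.SingerOrd Cfsg.Agent.Lib.UnSinger Cfsg.Agent.Lib.SingerArith

universe u

theorem exists_alt (q m : ℕ) : ∃ a : ℤ, (q : ℤ) ^ m = a * (q + 1) + (-1) ^ m ∧ (q + 1 : ℤ) ∣ a + (-1) ^ m * m := by
  induction m with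
  | zero => exact ⟨0, by simp, by simp⟩
  | succ m ih =>
    obtain ⟨a, h1, h2⟩ := ih
    refine ⟨q * a + (-1) ^ m, ?_, ?_⟩
    · rw [pow_succ, h1, pow_succ]; ring
    · have h3 : (q : ℤ) * a + (-1) ^ m + (-1) ^ (m + 1) * ((m + 1 : ℕ) : ℤ) = (q + 1) * a - (a + (-1) ^ m * m) := by
        push_cast; ring
      rw [h3]
      exact dvd_sub (dvd_mul_right _ _) h2

/-- the number -/
def ell (q m : ℕ) : ℕ := if Even m then q ^ m + 1 else q ^ m - 1

theorem ell_cast (q m : ℕ) (hq : 1 ≤ q) : ((ell q m : ℕ) : ℤ) = (q : ℤ) ^ m + (-1) ^ m := by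
  unfold ell
  split_ifs with h
  · push_cast; rw [h.neg_one_pow]
  · rw [Nat.not_even_iff_odd] at h
    rw [Nat.cast_sub (Nat.one_le_pow _ _ hq), h.neg_one_pow]
    push_cast; ring

theorem exists_arith (q m : ℕ) (hq : 2 ≤ q) (hm : 2 ≤ m) : ∃ A : ℕ, 0 < A ∧ q ^ (2 * m) - 1 = A * (q + 1) * ell q m ∧
    (∀ d, d ∣ q + 1 → (d ∣ A ↔ d ∣ m)) ∧ (∀ d, d ∣ q + 1 → (d ∣ A * ell q m ↔ d ∣ 2 * m)) := by
  obtain ⟨a, h1, h2⟩ := exists_alt q m
  have hpow : (1 : ℤ) < (q : ℤ) ^ m := by
    have := Nat.one_lt_pow (n := m) (by omega) (by omega : 1 < q)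
    exact_mod_cast this
  have hsq : ((-1 : ℤ) ^ m) * (-1) ^ m = 1 := by rw [← mul_pow]; simp
  have hle : ((-1 : ℤ) ^ m) ≤ 1 := by
    rcases neg_one_pow_eq_or ℤ m with h | h <;> rw [h]; norm_num
  have hapos : 0 < a := by
    have : 0 < a * (q + 1) := by linarith
    exact pos_of_mul_pos_left this (by positivity)
  obtain ⟨A, rfl⟩ := Int.eq_ofNat_of_zero_le hapos.le
  have hℓ := ell_cast q m (by omega)
  refine ⟨A, by exact_mod_cast hapos, ?_, ?_, ?_⟩
  · have : ((q ^ (2 * m) - 1 : ℕ) : ℤ) = ((A * (q + 1) * ell q m : ℕ) : ℤ) := by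
      rw [Nat.cast_sub (Nat.one_le_pow _ _ (by omega))]
      push_cast
      rw [hℓ, two_mul, pow_add]
      have h3 : (q : ℤ) ^ m * (q : ℤ) ^ m - 1 = ((q : ℤ) ^ m - (-1) ^ m) * ((q : ℤ) ^ m + (-1) ^ m) := by
        linear_combination hsq
      rw [h3]
      congr 1
      linear_combination h1
    exact_mod_cast this
  · intro d hd
    have hd' : (d : ℤ) ∣ (A : ℤ) + (-1) ^ m * m := (by exact_mod_cast hd : (d : ℤ) ∣ (q + 1 : ℤ)).trans h2
    have e1 : (d : ℤ) ∣ (-1 : ℤ) ^ m * m ↔ (d : ℤ) ∣ (m : ℤ) := by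
      rcases neg_one_pow_eq_or ℤ m with h | h <;> rw [h]
      · rw [one_mul]
      · rw [neg_one_mul, dvd_neg]
    rw [← Int.natCast_dvd_natCast, ← Int.natCast_dvd_natCast, ← e1]
    exact ⟨fun h => (dvd_add_right h).1 hd', fun h => (dvd_add_left h).1 hd'⟩
  · intro d hd
    have hdq : (d : ℤ) ∣ (q + 1 : ℤ) := by exact_mod_cast hd
    have h3 : (d : ℤ) ∣ (A : ℤ) * ((q : ℤ) ^ m + (-1) ^ m) + 2 * m := by
      have e2 : (A : ℤ) * ((q : ℤ) ^ m + (-1) ^ m) + 2 * m =
        (A : ℤ) * (A : ℤ) * (q + 1) + 2 * (-1) ^ m * ((A : ℤ) + (-1) ^ m * m) := by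
        rw [h1]; linear_combination (-2 * (m : ℤ)) * hsq
      rw [e2]
      exact dvd_add (hdq.mul_left _) ((hdq.trans h2).mul_left _)
    rw [← Int.natCast_dvd_natCast, ← Int.natCast_dvd_natCast]
    push_cast
    rw [hℓ]
    exact ⟨fun h => (dvd_add_right h).1 h3, fun h => (dvd_add_left h).1 h3⟩

theorem exists_prime (q m : ℕ) (hq : 2 ≤ q) (hodd : Odd q) (hm : 2 ≤ m) : ∃ r : ℕ, r.Prime ∧ r ∣ ell q m ∧
    (∀ k, 0 < k → k < m → ¬ r ∣ (q ^ 2) ^ k - 1) ∧ (∀ d, Odd d → ¬ r ∣ q ^ d + 1) ∧ ¬ r ∣ q + 1 := by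
  have hdvd2 : ∀ r d : ℕ, r ∣ q ^ d + 1 → r ∣ q ^ (2 * d) - 1 := by
    intro r d h
    have : q ^ (2 * d) - 1 = (q ^ d + 1) * (q ^ d - 1) := by
      rw [two_mul, pow_add, ← Nat.sq_sub_sq (q ^ d) 1]; simp [sq]
    rw [this]; exact h.mul_right _
  have hgcd : ∀ r a b : ℕ, r ∣ q ^ a - 1 → r ∣ q ^ b - 1 → r ∣ q ^ Nat.gcd a b - 1 := by
    intro r a b h1 h2
    rw [← Nat.pow_sub_one_gcd_pow_sub_one]; exact Nat.dvd_gcd h1 h2
  rcases Nat.even_or_odd m with he | ho
  · obtain ⟨r, hr, hrd, hrk⟩ := Cfsg.Agent.S2904.result q (2 * m) (by omega) (by omega) (by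
      rintro ⟨rfl, _⟩; exact absurd hodd (by decide)) (by rintro ⟨h, _⟩; omega)
    have h1 : r ∣ q ^ m + 1 := by
      have h2 : q ^ (2 * m) - 1 = (q ^ m + 1) * (q ^ m - 1) := by
        rw [two_mul, pow_add, ← Nat.sq_sub_sq (q ^ m) 1]; simp [sq]
      rw [h2] at hrd
      rcases (Nat.Prime.dvd_mul hr).1 hrd with h | h
      · exact h
      · exact absurd h (hrk m (by omega) (by omega))
    have hod : ∀ d, Odd d → ¬ r ∣ q ^ d + 1 := by
      intro d hd h
      have h3 := hgcd r _ _ (hdvd2 r d h) hrd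
      have h4 : Nat.gcd (2 * d) (2 * m) = 2 * m := by
        by_contra hne
        have h5 : Nat.gcd (2 * d) (2 * m) ≤ 2 * m := Nat.gcd_le_right _ (by omega)
        have h6 : 0 < Nat.gcd (2 * d) (2 * m) := Nat.gcd_pos_of_pos_right _ (by omega)
        exact hrk _ h6 (lt_of_le_of_ne h5 hne) h3
      have h5 : 2 * m ∣ 2 * d := h4 ▸ Nat.gcd_dvd_left _ _
      have h6 : m ∣ d := Nat.dvd_of_mul_dvd_mul_left (by norm_num) h5
      have h7 : 2 ∣ d := he.two_dvd.trans h6
      rw [Nat.odd_iff] at hd; omega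
    refine ⟨r, hr, by unfold ell; rw [if_pos he]; exact h1, ?_, hod, ?_⟩
    · intro k hk1 hk2
      rw [← pow_mul]
      exact hrk _ (by omega) (by omega)
    · have := hod 1 odd_one
      rwa [pow_one] at this
  · have hm3 : 3 ≤ m := by
      rcases ho with ⟨j, rfl⟩; omega
    obtain ⟨r, hr, hrd, hrk⟩ := Cfsg.Agent.S2904.result q m (by omega) (by omega) (by
      rintro ⟨rfl, _⟩; exact absurd hodd (by decide)) (by rintro ⟨h, _⟩; omega)
    have hr2 : r ≠ 2 := by
      rintro rfl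
      apply hrk 1 (by norm_num) (by omega)
      rw [pow_one]
      obtain ⟨j, rfl⟩ := hodd
      exact ⟨j, by omega⟩
    have hod : ∀ d, Odd d → ¬ r ∣ q ^ d + 1 := by
      intro d hd h
      have h3 := hgcd r _ _ (hdvd2 r d h) hrd
      have h4 : Nat.gcd (2 * d) m = m := by
        by_contra hne
        have h5 : Nat.gcd (2 * d) m ≤ m := Nat.gcd_le_right _ (by omega)
        have h6 : 0 < Nat.gcd (2 * d) m := Nat.gcd_pos_of_pos_right _ (by omega)
        exact hrk _ h6 (lt_of_le_of_ne h5 hne) h3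
      have h5 : m ∣ 2 * d := h4 ▸ Nat.gcd_dvd_left _ _
      have h6 : m ∣ d := (Nat.coprime_two_right.2 ho).dvd_of_dvd_mul_left h5
      obtain ⟨j, rfl⟩ := h6
      have h7 : r ∣ q ^ (m * j) - 1 := by
        rw [pow_mul]
        exact hrd.trans (by simpa using Nat.sub_dvd_pow_sub_pow (q ^ m) 1 j)
      have h8 : r ∣ 2 := by
        have h9 := Nat.dvd_sub h h7
        have h10 : 1 ≤ q ^ (m * j) := Nat.one_le_pow _ _ (by omega)
        have : q ^ (m * j) + 1 - (q ^ (m * j) - 1) = 2 := by omega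
        rwa [this] at h9
      exact hr2 ((Nat.prime_dvd_prime_iff_eq hr Nat.prime_two).1 h8)
    refine ⟨r, hr, by unfold ell; rw [if_neg (by rwa [Nat.not_even_iff_odd])]; exact hrd, ?_, hod, ?_⟩
    · intro k hk1 hk2 h
      rw [← pow_mul] at h
      have h3 := hgcd r _ _ h hrd
      have h4 : Nat.gcd (2 * k) m ∣ k := by
        have h5 : Nat.Coprime (Nat.gcd (2 * k) m) 2 := (Nat.coprime_two_right.2 ho).coprime_dvd_left (Nat.gcd_dvd_right _ _)
        exact h5.dvd_of_dvd_mul_left (Nat.gcd_dvd_left _ _)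
      have h5 := Nat.le_of_dvd hk1 h4
      exact hrk _ (Nat.gcd_pos_of_pos_right _ (by omega)) (by omega) h3
    · have := hod 1 odd_one
      rwa [pow_one] at this

theorem pow_sq_eq {K : Type*} [Monoid K] (β : K) (q : ℕ) (hq : 1 ≤ q) (h1 : β ^ (q + 1) = 1) : β ^ (q ^ 2) = β := by
  obtain ⟨t, rfl⟩ : ∃ t, q = t + 1 := ⟨q - 1, by omega⟩
  rw [show (t + 1) ^ 2 = (t + 1 + 1) * t + 1 by ring, pow_succ, pow_mul, h1, one_pow, one_mul]

theorem exists_finite_order {F : Type*} [Field F] [Finite F] {V : Type*} [AddCommGroup V] [Module F V] [FiniteDimensional F V]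
    (T : Module.End F V) (hT : LinearMap.det T = 1) : ∃ N, T ^ (N + 1) = 1 := by
  have hfinV : Finite V := Module.finite_of_finite F
  have hfin : Finite (Module.End F V) := Finite.of_injective (fun f : Module.End F V => (f : V → V)) DFunLike.coe_injective
  have hu : IsUnit T := by
    rw [LinearMap.isUnit_iff_isUnit_det, hT]; exact isUnit_one
  obtain ⟨u, rfl⟩ := hu
  refine ⟨orderOf u - 1, ?_⟩
  rw [Nat.sub_add_cancel (orderOf_pos u), ← Units.val_pow_eq_pow_val, pow_orderOf_eq_one, Units.val_one]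

theorem sq_sub_one' (q : ℕ) (hq : 1 ≤ q) : q ^ 2 - 1 = (q - 1) * (q + 1) := by
  obtain ⟨t, rfl⟩ : ∃ t, q = t + 1 := ⟨q - 1, by omega⟩
  have : (t + 1) ^ 2 = t * (t + 1 + 1) + 1 := by ring
  rw [this]; simp

theorem result' {F : Type u} [Field F] [Fintype F] {q : ℕ} (hF : Fintype.card F = q ^ 2) (hodd : Odd q)
    {m : ℕ} (hm : 2 ≤ m) :
    (∃ g : Cfsg.PSU (2 * m) F q, orderOf g = ell q m) ↔ Nat.gcd (2 * m) (q + 1) ∣ m := by
  obtain ⟨p, hp⟩ := CharP.exists F
  have hpf : Fact p.Prime := ⟨CharP.char_is_prime F p⟩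
  have hq2 : 2 ≤ q := two_le_q hF
  have hFn : Nat.card F = q ^ 2 := by rw [Nat.card_eq_fintype_card, hF]
  obtain ⟨A, hApos, hA1, hA2, hA3⟩ := exists_arith q m hq2 hm
  obtain ⟨K, _, _, _, hK, z, hz, hzo, hw⟩ := Cfsg.Agent.Lib.PSLTypes.exists_ext F m (by omega)
  have hfd : FiniteDimensional F K := Module.finite_of_finrank_pos (by omega)
  rw [hFn, ← pow_mul, hA1] at hzo
  set w := Units.map (Algebra.norm F (S := K)) z with hwdef
  have hwo : orderOf w = (q - 1) * (q + 1) := by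
    rw [orderOf_eq_card_of_forall_mem_zpowers hw, Nat.card_units, hFn, sq_sub_one' q (by omega)]
  set d := Nat.gcd (2 * m) (q + 1) with hd
  have hdq : d ∣ q + 1 := Nat.gcd_dvd_right _ _
  have hdpos : 0 < d := Nat.gcd_pos_of_pos_left _ (by omega)
  obtain ⟨e', he'⟩ := id hdq
  have hB := isHerm_hermForm (n := 2 * m) hF
  have hin : ∀ x : Kˣ, x ^ (q + 1) = 1 → ∃ c : F, algebraMap F K c = x ∧ c * c ^ q = 1 := by
    intro x hx
    obtain ⟨c, hc⟩ := mem_range_of_pow (F := F) (x : K) (by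
      rw [hF, ← Units.val_pow_eq_pow_val, pow_sq_eq x q (by omega) hx])
    refine ⟨c, hc, ?_⟩
    apply (algebraMap F K).injective
    rw [← pow_succ', map_pow, hc, ← Units.val_pow_eq_pow_val, hx, Units.val_one, map_one]
  constructor
  · rintro ⟨g, hg⟩
    obtain ⟨r, hr, hrℓ, hrk, hrod, hrq⟩ := exists_prime q m hq2 hodd hm
    have hrf : Fact r.Prime := ⟨hr⟩
    have hℓpos : 0 < ell q m := by rw [← hg]; exact orderOf_pos g
    obtain ⟨T, hT, hdet, hgT⟩ := exists_isom hF (by omega) g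
    obtain ⟨N, hN⟩ := exists_finite_order T hdet
    have hrd : r ∣ q ^ (2 * m) - 1 := by rw [hA1]; exact hrℓ.mul_left _
    have hr0 : (r : F) ≠ 0 := by
      intro h
      obtain ⟨c, hc⟩ := hrd
      have hq0 : ((q ^ 2 : ℕ) : F) = 0 := by rw [← hF]; exact Nat.cast_card_eq_zero F
      have h1 : ((q ^ (2 * m) - 1 + 1 : ℕ) : F) = 1 := by
        rw [hc]; push_cast; rw [h]; ring
      rw [Nat.sub_add_cancel (Nat.one_le_pow _ _ (by omega)), pow_mul, Nat.cast_pow, hq0, zero_pow (by omega)] at h1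
      exact zero_ne_one h1
    have hrp : r ≠ p := by
      rintro rfl
      exact hr0 (CharP.cast_eq_zero F r)
    obtain ⟨j, hj⟩ := hrℓ
    obtain ⟨c0, hc0⟩ := (hgT (ell q m)).1 (by rw [← hg]; exact pow_orderOf_eq_one g)
    have hc0q : c0 ^ (q + 1) = 1 := by
      have hTk : ∀ (k : ℕ) x y, hermForm (2 * m) F q ((T ^ k) x) ((T ^ k) y) = hermForm (2 * m) F q x y := by
        intro k
        induction k with
        | zero => intro x y; rfl
        | succ k ih => intro x y; rw [pow_succ, Module.End.mul_apply, Module.End.mul_apply, ih, hT]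
      have : Nonempty (Fin (2 * m)) := ⟨⟨0, by omega⟩⟩
      obtain ⟨v, hv⟩ := exists_aniso hF hB
      have h1 := hTk (ell q m) v v
      rw [hc0, LinearMap.smul_apply, Module.End.one_apply, hermForm_smul_left, hermForm_smul_right, ← mul_assoc] at h1
      have h2 : c0 * c0 ^ q = 1 := mul_right_cancel₀ hv (h1.trans (one_mul _).symm)
      rw [pow_succ', h2]
    -- the element of order r
    have hSr : (T ^ (j * (q + 1))) ^ r = 1 := by
      rw [← pow_mul, show j * (q + 1) * r = (r * j) * (q + 1) by ring, ← hj, pow_mul, hc0, _root_.smul_pow, one_pow, hc0q,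
        one_smul]
    have hS1 : T ^ (j * (q + 1)) ≠ 1 := by
      intro h
      have h1 : g ^ (j * (q + 1)) = 1 := (hgT _).2 ⟨1, by rw [h, one_smul]⟩
      have h2 := orderOf_dvd_of_pow_eq_one h1
      have hjpos : 0 < j := by
        rcases Nat.eq_zero_or_pos j with h | h
        · rw [h, mul_zero] at hj; omega
        · exact h
      rw [hg, hj, mul_comm r j, Nat.mul_dvd_mul_iff_left hjpos] at h2
      exact hrq h2
    obtain ⟨e, f, hf, hfd', he, heT, hadj, hTf⟩ := exists_half p hF hr0 hrp (m := m) (by omega) (by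
      intro k hk1 hk2; rw [hFn]; exact hrk k hk1 hk2) hrod (Fin (2 * m) → F) _ hB T (by simp) hT N hN _ hSr hS1
    have hadj' : ∀ x y, hermForm (2 * m) F q ((1 - e) x) y = hermForm (2 * m) F q x (e y) := by
      intro x y
      rw [LinearMap.sub_apply, hB.sub_left, hadj, LinearMap.sub_apply, hB.sub_right, Module.End.one_apply, Module.End.one_apply,
        sub_sub_cancel]
    have he'e : (1 - e) * e = 0 := by rw [sub_mul, one_mul, he, sub_self]
    have hW : finrank F (LinearMap.range e) = m := by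
      have h1 : 2 * finrank F (LinearMap.range e) ≤ finrank F (Fin (2 * m) → F) := by
        apply dim_le_of_isotropic hB
        rintro _ ⟨x, rfl⟩ _ ⟨y, rfl⟩
        rw [hadj, ← Module.End.mul_apply, he'e, LinearMap.zero_apply, hB.zero_right]
      have h2 : 2 * finrank F (LinearMap.ker e) ≤ finrank F (Fin (2 * m) → F) := by
        apply dim_le_of_isotropic hB
        intro x hx y hy
        rw [LinearMap.mem_ker] at hx hy
        have h3 : x = (1 - e) x := by rw [LinearMap.sub_apply, hx, sub_zero]; rfl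
        rw [h3, hadj', hy, hB.zero_right]
      have h3 := finrank_idem e he
      rw [finrank_fintype_fun_eq_card, Fintype.card_fin] at h1 h2 h3
      omega
    have hinv : ∀ x ∈ LinearMap.range e, T x ∈ LinearMap.range e := by
      rintro _ ⟨x, rfl⟩
      exact ⟨T x, by rw [← Module.End.mul_apply, heT, Module.End.mul_apply]⟩
    set S := T.restrict hinv with hSdef
    have hS : ∀ x, (S x : Fin (2 * m) → F) = T x := fun x => rfl
    have hSf : aeval S f = 0 := by
      apply LinearMap.ext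
      rintro ⟨_, x, rfl⟩
      apply Subtype.ext
      rw [coe_aeval_restrict T _ S hS]
      show (aeval T f) (e x) = 0
      rw [← Module.End.mul_apply, hTf, LinearMap.zero_apply]
    obtain ⟨α, hαf, hαroot⟩ := exists_root_in (K := K) f hf (by rw [hK, hfd'])
    have hαn := det_eq_norm S f hf (by rw [hfd', hW]) hSf (by rw [hK, hW]) α hαf
    obtain ⟨hS0, hSq⟩ := half_det hF T e hT N hN hdet he heT hadj S hS
    rw [hαn] at hS0 hSq
    have hα0 : α ≠ 0 := by
      rintro rfl
      rw [Algebra.norm_zero] at hS0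
      exact hS0 rfl
    obtain ⟨t, ht⟩ : ∃ t : ℕ, z ^ t = Units.mk0 α hα0 := by
      have := hz (Units.mk0 α hα0)
      rw [← mem_powers_iff_mem_zpowers] at this
      exact this
    have hwt : w ^ (t * (q - 1)) = 1 := by
      have h1 : w ^ t = Units.mk0 (Algebra.norm F α) hS0 := by
        rw [hwdef, ← map_pow, ht]
        apply Units.ext
        rfl
      rw [pow_mul, h1]
      apply Units.ext
      rw [Units.val_pow_eq_pow_val, Units.val_mk0, Units.val_one]
      apply mul_right_cancel₀ hS0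
      rw [← pow_succ, Nat.sub_add_cancel (by omega), hSq, one_mul]
    obtain ⟨s, hs⟩ : q + 1 ∣ t := by
      have h1 := orderOf_dvd_of_pow_eq_one hwt
      rw [hwo, mul_comm t] at h1
      exact Nat.dvd_of_mul_dvd_mul_left (by omega) h1
    have hdM : d ∣ A * ell q m := (hA3 d hdq).2 (Nat.gcd_dvd_left _ _)
    obtain ⟨M', hM'⟩ := hdM
    have hαM : (z ^ t) ^ M' ^ 1 * 1 = (z ^ t) ^ M' := by simp
    obtain ⟨c, hc, hcc⟩ := hin ((z ^ t) ^ M') (by
      rw [← pow_mul, ← pow_mul, ← orderOf_dvd_iff_pow_eq_one, hzo, hs]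
      refine ⟨s * e', ?_⟩
      calc (q + 1) * s * (M' * (q + 1)) = (d * e') * s * (M' * (q + 1)) := by rw [← he']
        _ = (d * M') * (q + 1) * (s * e') := by ring
        _ = (A * ell q m) * (q + 1) * (s * e') := by rw [hM']
        _ = A * (q + 1) * ell q m * (s * e') := by ring)
    rw [ht, Units.val_pow_eq_pow_val, Units.val_mk0] at hc
    have h10 := (hαroot _ _).mp hc.symm
    have h11 := pow_of_root p T e f 1 M' 0 _ (by rw [pow_one, hTf]) h10 (by rw [pow_zero])
    rw [pow_zero, mul_one, pow_one] at h11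
    have h12 := scalar_of_half hF T e hT N hN heT hadj _ _ hcc h11
    have h4 := orderOf_dvd_of_pow_eq_one ((hgT M').2 ⟨c, h12⟩)
    rw [hg] at h4
    have h5 : d * ell q m ∣ A * ell q m := by rw [hM']; exact Nat.mul_dvd_mul_left d h4
    exact (hA2 d hdq).1 (Nat.dvd_of_mul_dvd_mul_right hℓpos h5)
  · intro hdm
    have hdA : d ∣ A := (hA2 d hdq).2 hdm
    obtain ⟨A', hA'⟩ := hdA
    have hA'pos : 0 < A' := by
      rcases Nat.eq_zero_or_pos A' with h | h
      · rw [h, mul_zero] at hA'; omega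
      · exact h
    have hcop : Nat.Coprime (ell q m) e' := by
      have h1 : d * Nat.gcd (ell q m) e' ∣ q + 1 := by
        rw [he']; exact Nat.mul_dvd_mul_left d (Nat.gcd_dvd_right _ _)
      have h2 : d * Nat.gcd (ell q m) e' ∣ A * ell q m :=
        mul_dvd_mul ⟨A', hA'⟩ (Nat.gcd_dvd_left _ _)
      have h3 : d * Nat.gcd (ell q m) e' ∣ 2 * m := (hA3 _ h1).1 h2
      have h4 : d * Nat.gcd (ell q m) e' ∣ d := Nat.dvd_gcd h3 h1
      have h5 : d * Nat.gcd (ell q m) e' ∣ d * 1 := by rwa [mul_one]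
      exact Nat.dvd_one.1 (Nat.dvd_of_mul_dvd_mul_left hdpos h5)
    obtain ⟨θ, hθq, hθ, hθ'⟩ := exists_theta p hF (K := K)
    obtain ⟨star', l', hSA', hstar'⟩ := isSA_swap (F := F) (K := K) (σ := frob hF) (ε := 1) (frob_frob hF) (by simp)
      (θ : K →+* K) (θ.symm : K →+* K) hθ hθ' (fun x => θ.apply_symm_apply x) (fun x => θ.symm_apply_apply x)
    set y : Kˣ := z ^ ((q + 1) * A') with hy
    have hθy0 : θ (y : K) ≠ 0 := by
      rw [hθq]; exact pow_ne_zero _ y.ne_zero
    have hynorm : (Algebra.norm F (y : K)) ^ q = Algebra.norm F (y : K) := by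
      have h1 : Algebra.norm F (y : K) = ((w ^ ((q + 1) * A') : Fˣ) : F) := by
        rw [hwdef, ← map_pow]; rfl
      rw [h1, ← Units.val_pow_eq_pow_val]
      congr 1
      have h2 : (w ^ ((q + 1) * A')) ^ (q - 1) = 1 := by
        rw [← pow_mul, show (q + 1) * A' * (q - 1) = ((q - 1) * (q + 1)) * A' by ring, ← hwo, pow_mul,
          pow_orderOf_eq_one, one_pow]
      calc (w ^ ((q + 1) * A')) ^ q = (w ^ ((q + 1) * A')) ^ (q - 1) * w ^ ((q + 1) * A') := by
            rw [← pow_succ, Nat.sub_add_cancel (by omega)]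
        _ = w ^ ((q + 1) * A') := by rw [h2, one_mul]
    obtain ⟨s, hs⟩ := exists_of_sa (n := 2 * m) hF (by omega) hSA' (by rw [finrank_prod, hK]; ring) ((y : K), (θ (y : K))⁻¹) (by
        rw [hstar']
        apply Prod.ext
        · show (y : K) * θ.symm ((θ (y : K))⁻¹) = 1
          rw [map_inv₀, RingEquiv.symm_apply_apply, mul_inv_cancel₀ y.ne_zero]
        · show (θ (y : K))⁻¹ * θ (y : K) = 1
          exact inv_mul_cancel₀ hθy0) (by
        rw [norm_prod', hθq, ← inv_pow, map_pow]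
        have h1 : Algebra.norm F (y : K) * Algebra.norm F ((y : K)⁻¹) = 1 := by
          rw [← map_mul, mul_inv_cancel₀ y.ne_zero, map_one]
        nth_rw 1 [← hynorm]
        rw [← mul_pow, h1, one_pow])
    refine ⟨s, ?_⟩
    have key : ∀ k : ℕ, s ^ k = 1 ↔ ell q m ∣ k := by
      intro k
      have e1 : s ^ k = 1 ↔ y ^ (k * (q + 1)) = 1 := by
        rw [hs]
        constructor
        · rintro ⟨c, hc⟩
          have hc1 : (y : K) ^ k = algebraMap F K c := congrArg Prod.fst hc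
          have hc2 : ((θ (y : K))⁻¹) ^ k = algebraMap F K c := congrArg Prod.snd hc
          apply Units.ext
          rw [Units.val_pow_eq_pow_val, Units.val_one, pow_mul, pow_succ', ← hθq ((y : K) ^ k), map_pow]
          rw [hc1, ← hc2, ← mul_pow, inv_mul_cancel₀ hθy0, one_pow]
        · intro h
          obtain ⟨c, hc, hcc⟩ := hin (y ^ k) (by rw [← pow_mul, h])
          refine ⟨c, ?_⟩
          rw [Units.val_pow_eq_pow_val] at hc
          apply Prod.ext
          · exact hc.symm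
          · show ((θ (y : K))⁻¹) ^ k = algebraMap F K c
            rw [hθq, inv_pow, ← pow_mul, mul_comm q k, pow_mul, ← hc, ← map_pow, ← map_inv₀]
            congr 1
            exact inv_eq_of_mul_eq_one_left hcc
      rw [e1, hy, ← pow_mul, ← orderOf_dvd_iff_pow_eq_one, hzo]
      have e2 : (q + 1) * A' * (k * (q + 1)) = (d * A' * (q + 1)) * (e' * k) := by
        nth_rewrite 2 [he']; ring
      have e3 : A * (q + 1) * ell q m = (d * A' * (q + 1)) * ell q m := by
        rw [hA']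
      rw [e2, e3, Nat.mul_dvd_mul_iff_left (by positivity)]
      exact ⟨fun h => hcop.dvd_of_dvd_mul_left h, fun h => h.mul_left e'⟩
    exact Nat.dvd_antisymm (orderOf_dvd_of_pow_eq_one ((key _).2 dvd_rfl)) ((key _).1 (pow_orderOf_eq_one s))

/-- Let q be an odd prime power, n ≥ 4 even, and U = PSU(n,q) (realised over the field with q² elements). Then U has an element of order q^(n/2) + (−1)^(n/2) — that is, q^(n/2) + 1 when n/2 is even and q^(n/2) − 1 when n/2 is odd — if and only if the 2-part of n exceeds the 2-part of q + 1. -/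
theorem result {F : Type*} [Field F] [Fintype F] {q : ℕ} (hF : Fintype.card F = q ^ 2) (hodd : Odd q)
    {n : ℕ} (hn : 4 ≤ n) (heven : Even n) :
    (∃ g : Cfsg.PSU n F q, orderOf g = if Even (n / 2) then q ^ (n / 2) + 1 else q ^ (n / 2) - 1) ↔
      padicValNat 2 (q + 1) < padicValNat 2 n := by
  obtain ⟨m, rfl⟩ := heven
  rw [← two_mul, Nat.mul_div_cancel_left _ (by norm_num)]
  have h := result' hF hodd (m := m) (by omega)
  unfold ell at h
  rw [h, gcd_dvd_iff (by omega) (by omega)]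

end Cfsg.Agent.S2496
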