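import Cfsg.Statements.S2517
import Cfsg.Agent.Lib.SpecQ67
import Cfsg.Agent.Lib.OrthStd67
import Cfsg.Agent.S2362

set_option autoImplicit false
open Cfsg

namespace Cfsg.Agent.S2517

open Module Cfsg.Agent.Lib Cfsg.Agent.Lib.Quad Cfsg.Agent.Lib.SpecA67 Cfsg.Agent.Lib.QuadD67

/-- orders in a semidirect product with an isometry group -/
theorem sd {F : Type*} [Field F] [Finite F] {V : Type*} [AddCommGroup V] [Module F V] [FiniteDimensional F V] {Q : QuadraticForm F V}
    (h2 : (2 : F) ≠ 0) (hQ : Nd Q) (p : ℕ) [hp : Fact p.Prime] [CharP F p] {H : Type*} [Group H] (φ : H →* MulAut (Multiplicative V))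
    (ρ : H →* (V ≃ₗ[F] V)) (hφ : ∀ h v, φ h (Multiplicative.ofAdd v) = Multiplicative.ofAdd (ρ h v)) (hρ : Function.Injective ρ)
    (hrange : ∀ t, IsPar h2 hQ t 1 ↔ ∃ h, ρ h = t) (n : ℕ) :
    n ∈ Set.range (orderOf : Multiplicative V ⋊[φ] H → ℕ) ↔ Good h2 p hQ n := by
  classical
  have hVf : Finite V := Module.finite_of_finite F
  have hGf : Finite (V ≃ₗ[F] V) := Finite.of_injective (fun e : V ≃ₗ[F] V => (e : V → V)) DFunLike.coe_injective
  have hpow : ∀ (g : H) (n : ℕ) (v : V), ((⟨Multiplicative.ofAdd v, g⟩ : Multiplicative V ⋊[φ] H) ^ n) =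
      ⟨Multiplicative.ofAdd (∑ i ∈ Finset.range n, ((ρ g) ^ i) v), g ^ n⟩ := by
    intro g n v
    induction n with
    | zero => simp
    | succ n ih =>
      rw [pow_succ', ih]
      apply SemidirectProduct.ext
      · rw [SemidirectProduct.mul_left]
        show Multiplicative.ofAdd v * φ g (Multiplicative.ofAdd _) = _
        rw [hφ, Finset.sum_range_succ', ← ofAdd_add]
        congr 1
        rw [pow_zero, LinearEquiv.coe_one, id_eq, add_comm]
        congr 1
        rw [map_sum]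
        apply Finset.sum_congr rfl
        intro i _
        rw [pow_succ', LinearEquiv.mul_apply]
      · rw [SemidirectProduct.mul_right, pow_succ']
  have hord : ∀ g : H, orderOf (ρ g) = orderOf g := fun g => orderOf_injective ρ hρ g
  have key : ∀ (g : H) (v : V), orderOf (⟨Multiplicative.ofAdd v, g⟩ : Multiplicative V ⋊[φ] H) =
      if ∑ i ∈ Finset.range (orderOf g), ((ρ g) ^ i) v = 0 then orderOf g else p * orderOf g := by
    intro g v
    have hk : 0 < orderOf g := by rw [← hord]; exact orderOf_pos _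
    set x : Multiplicative V ⋊[φ] H := ⟨Multiplicative.ofAdd v, g⟩ with hx
    have h5 : orderOf g ∣ orderOf x := by
      apply orderOf_dvd_of_pow_eq_one
      have := congrArg SemidirectProduct.right (pow_orderOf_eq_one x)
      rw [hpow] at this
      exact this
    split_ifs with hS
    · apply Nat.dvd_antisymm _ h5
      apply orderOf_dvd_of_pow_eq_one
      rw [hpow, hS, pow_orderOf_eq_one]; rfl
    · have h1 : x ^ (orderOf g) ≠ 1 := by
        intro h
        rw [hpow] at h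
        have := congrArg SemidirectProduct.left h
        exact hS this
      have h2 : x ^ (p * orderOf g) = 1 := by
        rw [mul_comm, pow_mul, hpow, pow_orderOf_eq_one]
        have h3 : ∀ w : V, (⟨Multiplicative.ofAdd w, 1⟩ : Multiplicative V ⋊[φ] H) = SemidirectProduct.inl (Multiplicative.ofAdd w) :=
          fun w => rfl
        rw [h3, ← map_pow, ← ofAdd_nsmul]
        have h4 : p • (∑ i ∈ Finset.range (orderOf g), ((ρ g) ^ i) v) = 0 := by
          rw [← Nat.cast_smul_eq_nsmul F, CharP.cast_eq_zero, zero_smul]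
        rw [h4, ofAdd_zero, map_one]
      obtain ⟨d, hd⟩ := h5
      have h6 := orderOf_dvd_of_pow_eq_one h2
      rw [hd, mul_comm p] at h6
      have h7 : d ∣ p := Nat.dvd_of_mul_dvd_mul_left hk h6
      rcases (Nat.dvd_prime hp.1).mp h7 with h8 | h8
      · exfalso
        apply h1
        rw [← orderOf_dvd_iff_pow_eq_one, hd, h8, mul_one]
      · rw [hd, h8, mul_comm]
  constructor
  · rintro ⟨⟨v, g⟩, rfl⟩
    refine ⟨ρ g, (hrange _).2 ⟨g, rfl⟩, ?_⟩
    have h1 := key g (Multiplicative.toAdd v)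
    have h3 : (⟨v, g⟩ : Multiplicative V ⋊[φ] H) = ⟨Multiplicative.ofAdd (Multiplicative.toAdd v), g⟩ := rfl
    rw [h3, h1, hord]
    split_ifs with hS
    · left; rfl
    · right; exact ⟨rfl, _, hS⟩
  · rintro ⟨t, ht, h⟩
    obtain ⟨g, rfl⟩ := (hrange t).1 ht
    rw [hord] at h
    rcases h with h | ⟨h, v, hv⟩
    · refine ⟨⟨Multiplicative.ofAdd 0, g⟩, ?_⟩
      rw [key g 0, if_pos (by simp), h]
    · refine ⟨⟨Multiplicative.ofAdd v, g⟩, ?_⟩
      rw [key g v, if_neg hv, h]

/-- Let F be a finite field of odd order q, let Ω₉ be the simple orthogonal group PΩ(9, F), and let Ω₈⁻ be the commutator subgroup of the isometry group of a minus-type non-singular quadratic form on V = F⁸ (the simple group PΩ⁻(8, F), acting on its natural module V). Then Ω₉ and the semidirect product V ⋊ Ω₈⁻ have exactly the same set of element orders. -/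
theorem result {F : Type*} [Field F] [Fintype F] (hF : Odd (Fintype.card F)) (a b : F)
    (hab : ∀ z₁ z₂ : F, z₁ ^ 2 + a * z₁ * z₂ + b * z₂ ^ 2 = 0 → z₁ = 0 ∧ z₂ = 0) :
    Set.range (orderOf : Cfsg.POmega F (Cfsg.quadFormOdd 4 F) → ℕ) =
      Set.range (orderOf :
        (Multiplicative (((Fin 3 ⊕ Fin 3) ⊕ Fin 2) → F)) ⋊[
          (MulAutMultiplicative (((Fin 3 ⊕ Fin 3) ⊕ Fin 2) → F)).symm.toMonoidHom.comp
           ((DistribMulAction.toAddAut (LinearMap.GeneralLinearGroup F (((Fin 3 ⊕ Fin 3) ⊕ Fin 2) → F))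
              (((Fin 3 ⊕ Fin 3) ⊕ Fin 2) → F)).comp
            (Matrix.GeneralLinearGroup.toLin.toMonoidHom.comp
              ((Cfsg.isometryGroup F (Cfsg.quadFormMinus 3 F a b)).subtype.comp
                (Cfsg.Omega F (Cfsg.quadFormMinus 3 F a b)).subtype)))]
          ↥(Cfsg.Omega F (Cfsg.quadFormMinus 3 F a b)) → ℕ) := by
  classical
  have h2 : (2 : F) ≠ 0 := ClUtil.odd_card_iff_two_ne_zero.1 hF
  obtain ⟨p, hchar⟩ := CharP.exists F
  have hp0 : p ≠ 0 := CharP.char_ne_zero_of_finite F p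
  have hpp : Fact p.Prime := ⟨(CharP.char_is_prime_or_zero F p).resolve_right hp0⟩
  have hp2 : p ≠ 2 := by
    rintro rfl
    exact h2 (by exact_mod_cast CharP.cast_eq_zero F 2)
  have hodd : Odd p := hpp.1.odd_of_ne_two hp2
  have hQ9 : Nd (quadOdd 4 F) := nd_quadOdd h2
  have hV9 : finrank F (Unit ⊕ (Fin 4 ⊕ Fin 4) → F) = 9 := by rw [finrank_odd]
  have hQ8 : Nd (quadMinus 3 F a b) := nd_quadMinus (disc_ne_zero_of_anisotropic hab)
  have hV8 : finrank F ((Fin 3 ⊕ Fin 3) ⊕ Fin 2 → F) = 8 := by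
    rw [Module.finrank_fintype_fun_eq_card]; simp
  have hD8 : D (quadMinus 3 F a b) = -(Nat.card F : ℤ) ^ 4 := OrthR67.D_quadMinus 3 hab
  have hsd := sd h2 hQ8 p (H := ↥(Cfsg.Omega F (Cfsg.quadFormMinus 3 F a b)))
    ((MulAutMultiplicative (((Fin 3 ⊕ Fin 3) ⊕ Fin 2) → F)).symm.toMonoidHom.comp
           ((DistribMulAction.toAddAut (LinearMap.GeneralLinearGroup F (((Fin 3 ⊕ Fin 3) ⊕ Fin 2) → F))
              (((Fin 3 ⊕ Fin 3) ⊕ Fin 2) → F)).comp
            (Matrix.GeneralLinearGroup.toLin.toMonoidHom.comp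
              ((Cfsg.isometryGroup F (Cfsg.quadFormMinus 3 F a b)).subtype.comp
                (Cfsg.Omega F (Cfsg.quadFormMinus 3 F a b)).subtype))))
    ((Om (quadMinus 3 F a b)).subtype.comp (ClOmega.omEquiv (quadMinus 3 F a b)).toMonoidHom)
    (fun h v => rfl)
    ((Subgroup.subtype_injective _).comp (ClOmega.omEquiv (quadMinus 3 F a b)).injective)
    (fun t => by
      rw [← mem_Om_iff_par hQ8]
      constructor
      · intro ht
        obtain ⟨h, hh⟩ := (ClOmega.omEquiv (quadMinus 3 F a b)).surjective ⟨t, ht⟩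
        exact ⟨h, congrArg Subtype.val hh⟩
      · rintro ⟨h, rfl⟩
        exact (ClOmega.omEquiv (quadMinus 3 F a b) h).2)
  ext n
  rw [hsd n]
  constructor
  · rintro ⟨x, rfl⟩
    obtain ⟨y, rfl⟩ := QuotientGroup.mk_surjective x
    have hy : orderOf (QuotientGroup.mk' (Subgroup.center (Cfsg.Omega F (Cfsg.quadFormOdd 4 F))) y) = orderOf y := by
      refine orderOf_injective (QuotientGroup.mk' (Subgroup.center (Cfsg.Omega F (Cfsg.quadFormOdd 4 F)))) ?_ y
      rw [injective_iff_map_eq_one]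
      intro a ha
      have h5 := (QuotientGroup.eq_one_iff a).1 ha
      exact S2362.center_omega_trivial h2 4 (by norm_num) a h5
    let e : ↥(Cfsg.Omega F (Cfsg.quadFormOdd 4 F)) ≃* ↥(Om (quadOdd 4 F)) := ClOmega.omEquiv (quadOdd 4 F)
    have h3 : orderOf (e y) = orderOf y := MulEquiv.orderOf_eq e y
    have h4 : orderOf ((e y : ↥(Om (quadOdd 4 F))) : (Unit ⊕ (Fin 4 ⊕ Fin 4) → F) ≃ₗ[F] (Unit ⊕ (Fin 4 ⊕ Fin 4) → F)) = orderOf (e y) :=
      Subgroup.orderOf_coe _
    have h6 := good_of_nine (h2 := h2) (p := p) hodd hQ8 hV8 hD8 hQ9 hV9 ((mem_Om_iff_par (h2 := h2) hQ9).1 (e y).2)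
    rw [h4, h3, ← hy] at h6
    exact h6
  · intro h
    obtain ⟨x, hx, hxo⟩ := nine_of_good (p := p) hodd hQ8 hV8 hQ9 hV9 h
    rw [← hxo]
    exact OrthEmb67.mem_range_of_Om 4 hx (S2362.center_omega_trivial h2 4 (by norm_num))

end Cfsg.Agent.S2517
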