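import Cfsg.Statements.S2530
import Mathlib

set_option autoImplicit false
open Cfsg

namespace Cfsg.Agent.S2530

section bound

variable {W : Type*} [Group W] (s : ℕ → W)

/-- the subgroup generated by the first `n` generators -/
def Gp (n : ℕ) : Subgroup W := Subgroup.closure {x | ∃ i < n, x = s i}

theorem mem_Gp {n i : ℕ} (h : i < n) : s i ∈ Gp s n := Subgroup.subset_closure ⟨i, h, rfl⟩

/-- the coset representatives -/
def w (n : ℕ) : ℕ → W
  | 0 => 1
  | (j + 1) => w n j * s (n - j)

variable {s} {N : ℕ} (hsq : ∀ i < N, s i * s i = 1) (hcomm : ∀ i j, i + 2 ≤ j → j < N → s i * s j = s j * s i)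
  (hbraid : ∀ i, i + 1 < N → s i * s (i + 1) * s i = s (i + 1) * s i * s (i + 1))

include hcomm in
theorem w_comm {n : ℕ} (hn : n < N) : ∀ j i, i + j < n → w s n j * s i = s i * w s n j := by
  intro j
  induction j with
  | zero => intro i _; rw [w, one_mul, mul_one]
  | succ j ih =>
    intro i hi
    rw [w, mul_assoc, ← hcomm i (n - j) (by omega) (by omega), ← mul_assoc, ih i (by omega), mul_assoc]

include hcomm hbraid in
theorem w_shift {n : ℕ} (hn : n < N) : ∀ j ≤ n + 1, ∀ i, n + 2 ≤ i + j → i ≤ n → w s n j * s i = s (i - 1) * w s n j := by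
  intro j
  induction j with
  | zero => intro _ i h1 h2; omega
  | succ j ih =>
    intro hj i hi hin
    rcases Nat.eq_or_lt_of_le hi with h | h
    · -- i = n - j + 1
      obtain ⟨l, rfl⟩ : ∃ l, j = l + 1 := ⟨j - 1, by omega⟩
      obtain ⟨a, ha⟩ : ∃ a, n - (l + 1) = a := ⟨_, rfl⟩
      have hia : i = a + 1 := by omega
      have hnl : n - l = a + 1 := by omega
      rw [w, w, ha, hnl, hia, Nat.add_sub_cancel]
      have hb := hbraid a (by omega)
      have hc := w_comm hcomm hn l a (by omega)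
      calc w s n l * s (a + 1) * s a * s (a + 1) = w s n l * (s (a + 1) * s a * s (a + 1)) := by simp only [mul_assoc]
        _ = w s n l * (s a * s (a + 1) * s a) := by rw [hb]
        _ = (w s n l * s a) * s (a + 1) * s a := by simp only [mul_assoc]
        _ = s a * (w s n l * s (a + 1) * s a) := by rw [hc]; simp only [mul_assoc]
    · have hc := hcomm (n - j) i (by omega) (by omega)
      rw [w, mul_assoc, hc, ← mul_assoc, ih (by omega) i (by omega) hin, mul_assoc]

include hsq hcomm hbraid in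
theorem mul_gen {n : ℕ} (hn : n < N) (j : ℕ) (hj : j ≤ n + 1) (i : ℕ) (hi : i ≤ n) :
    ∃ g ∈ Gp s n, ∃ j' ≤ n + 1, w s n j * s i = g * w s n j' := by
  rcases Nat.lt_or_ge (i + j) n with h1 | h1
  · exact ⟨s i, mem_Gp s (by omega), j, hj, w_comm hcomm hn j i h1⟩
  rcases Nat.eq_or_lt_of_le h1 with h2 | h2
  · refine ⟨1, one_mem _, j + 1, by omega, ?_⟩
    rw [one_mul, w]
    congr 2; omega
  rcases Nat.eq_or_lt_of_le (show n + 1 ≤ i + j from h2) with h3 | h3
  · obtain ⟨l, rfl⟩ : ∃ l, j = l + 1 := ⟨j - 1, by omega⟩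
    refine ⟨1, one_mem _, l, by omega, ?_⟩
    have : n - l = i := by omega
    rw [one_mul, w, this, mul_assoc, hsq i (by omega), mul_one]
  · exact ⟨s (i - 1), mem_Gp s (by omega), j, hj, w_shift hcomm hbraid hn j hj i h3 hi⟩

include hsq hcomm hbraid in
theorem exists_rep {n : ℕ} (hn : n < N) (x : W) (hx : x ∈ Gp s (n + 1)) :
    ∃ g ∈ Gp s n, ∃ j ≤ n + 1, x = g * w s n j := by
  unfold Gp at hx
  induction hx using Subgroup.closure_induction_right with
  | one => exact ⟨1, one_mem _, 0, by omega, by rw [w, mul_one]⟩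
  | mul_right x hx y hy ih =>
    obtain ⟨i, hi, rfl⟩ := hy
    obtain ⟨g, hg, j, hj, rfl⟩ := ih
    obtain ⟨g', hg', j', hj', h⟩ := mul_gen hsq hcomm hbraid hn j hj i (by omega)
    exact ⟨g * g', mul_mem hg hg', j', hj', by rw [mul_assoc, h, mul_assoc]⟩
  | mul_inv_cancel x hx y hy ih =>
    obtain ⟨i, hi, rfl⟩ := hy
    obtain ⟨g, hg, j, hj, rfl⟩ := ih
    have hinv : (s i)⁻¹ = s i := inv_eq_of_mul_eq_one_left (hsq i (by omega))
    obtain ⟨g', hg', j', hj', h⟩ := mul_gen hsq hcomm hbraid hn j hj i (by omega)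
    exact ⟨g * g', mul_mem hg hg', j', hj', by rw [hinv, mul_assoc, h, mul_assoc]⟩

include hsq hcomm hbraid in
theorem card_Gp : ∀ n ≤ N, Finite (Gp s n) ∧ Nat.card (Gp s n) ≤ (n + 1).factorial := by
  intro n
  induction n with
  | zero =>
    intro _
    have h1 : Gp s 0 = ⊥ := by
      rw [Gp, Subgroup.closure_eq_bot_iff]
      rintro x ⟨i, hi, -⟩
      omega
    rw [h1]
    exact ⟨inferInstance, by simp⟩
  | succ n ih =>
    intro hn
    obtain ⟨hfin, hcard⟩ := ih (by omega)
    let f : Gp s n × Fin (n + 2) → W := fun p => (p.1 : W) * w s n p.2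
    have hsub : ((Gp s (n + 1) : Subgroup W) : Set W) ⊆ Set.range f := by
      intro x hx
      obtain ⟨g, hg, j, hj, rfl⟩ := exists_rep hsq hcomm hbraid (show n < N by omega) x hx
      exact ⟨(⟨g, hg⟩, ⟨j, by omega⟩), rfl⟩
    have hfr : (Set.range f).Finite := Set.finite_range f
    refine ⟨(hfr.subset hsub).to_subtype, ?_⟩
    calc Nat.card (Gp s (n + 1)) = Set.ncard ((Gp s (n + 1) : Subgroup W) : Set W) := rfl
      _ ≤ Set.ncard (Set.range f) := Set.ncard_le_ncard hsub hfr
      _ ≤ Nat.card (Gp s n × Fin (n + 2)) := by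
        rw [← Set.image_univ, ← Set.ncard_univ]
        exact Set.ncard_image_le Set.finite_univ
      _ = Nat.card (Gp s n) * (n + 2) := by rw [Nat.card_prod, Nat.card_fin]
      _ ≤ (n + 1).factorial * (n + 2) := Nat.mul_le_mul_right _ hcard
      _ = (n + 1 + 1).factorial := by rw [Nat.factorial_succ (n + 1), mul_comm]

end bound

theorem simple_rel (n : ℕ) (i j : Fin n) : ((CoxeterMatrix.A n).simple i * (CoxeterMatrix.A n).simple j) ^ (CoxeterMatrix.A n i j) = 1 :=
  (CoxeterMatrix.A n).toCoxeterSystem.simple_mul_simple_pow i j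

theorem finite_card (n : ℕ) : Finite (CoxeterMatrix.A n).Group ∧ Nat.card (CoxeterMatrix.A n).Group ≤ (n + 1).factorial := by
  let M := CoxeterMatrix.A n
  let cs := M.toCoxeterSystem
  let s : ℕ → M.Group := fun i => if h : i < n then cs.simple ⟨i, h⟩ else 1
  have hs : ∀ i (h : i < n), s i = cs.simple ⟨i, h⟩ := fun i h => dif_pos h
  have hsq : ∀ i < n, s i * s i = 1 := by
    intro i hi
    rw [hs i hi]; exact cs.simple_mul_simple_self _
  have hM : ∀ i j (hi : i < n) (hj : j < n), (s i * s j) ^ (M ⟨i, hi⟩ ⟨j, hj⟩) = 1 := by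
    intro i j hi hj
    rw [hs i hi, hs j hj]
    exact cs.simple_mul_simple_pow _ _
  have hcomm : ∀ i j, i + 2 ≤ j → j < n → s i * s j = s j * s i := by
    intro i j hij hj
    have h1 := hM i j (by omega) hj
    have h2 : M ⟨i, by omega⟩ ⟨j, hj⟩ = 2 := by
      show (if (⟨i, _⟩ : Fin n) = ⟨j, _⟩ then 1 else (if j + 1 = i ∨ i + 1 = j then 3 else 2)) = 2
      rw [if_neg (by intro h; have := congrArg Fin.val h; simp at this; omega), if_neg (by omega)]
    rw [h2, pow_two] at h1
    have h3 : (s i * s j) = (s i * s j)⁻¹ := eq_inv_of_mul_eq_one_left h1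
    rw [mul_inv_rev, inv_eq_of_mul_eq_one_left (hsq i (by omega)), inv_eq_of_mul_eq_one_left (hsq j hj)] at h3
    exact h3
  have hbraid : ∀ i, i + 1 < n → s i * s (i + 1) * s i = s (i + 1) * s i * s (i + 1) := by
    intro i hi
    have h1 := hM i (i + 1) (by omega) hi
    have h2 : M ⟨i, by omega⟩ ⟨i + 1, hi⟩ = 3 := by
      show (if (⟨i, _⟩ : Fin n) = ⟨i + 1, _⟩ then 1 else (if i + 1 + 1 = i ∨ i + 1 = i + 1 then 3 else 2)) = 3
      rw [if_neg (by intro h; have := congrArg Fin.val h; simp at this), if_pos (Or.inr rfl)]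
    rw [h2, pow_succ, pow_two] at h1
    have h3 : s i * s (i + 1) * s i * (s (i + 1) * s i * s (i + 1)) = 1 := by
      rw [← h1]; simp only [mul_assoc]
    have h4 := eq_inv_of_mul_eq_one_left h3
    rw [h4, mul_inv_rev, mul_inv_rev, inv_eq_of_mul_eq_one_left (hsq i (by omega)), inv_eq_of_mul_eq_one_left (hsq (i + 1) hi), mul_assoc]
  obtain ⟨hfin, hcard⟩ := card_Gp hsq hcomm hbraid n le_rfl
  have htop : Gp s n = ⊤ := by
    rw [eq_top_iff, ← cs.subgroup_closure_range_simple, Subgroup.closure_le]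
    rintro _ ⟨i, rfl⟩
    rw [← hs i.1 i.2]
    exact mem_Gp s i.2
  rw [htop] at hfin hcard
  constructor
  · exact Finite.of_equiv _ Subgroup.topEquiv.toEquiv
  · rwa [Nat.card_congr Subgroup.topEquiv.toEquiv] at hcard

theorem liftable (n : ℕ) : (CoxeterMatrix.A n).IsLiftable (fun i : Fin n => Equiv.swap i.castSucc i.succ) := by
  intro i j
  show (Equiv.swap i.castSucc i.succ * Equiv.swap j.castSucc j.succ) ^
    (if i = j then 1 else (if (j : ℕ) + 1 = i ∨ (i : ℕ) + 1 = j then 3 else 2)) = 1
  by_cases hij : i = j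
  · rw [if_pos hij, hij, pow_one, Equiv.swap_mul_self]
  rw [if_neg hij]
  by_cases h3 : (j : ℕ) + 1 = i ∨ (i : ℕ) + 1 = j
  · rw [if_pos h3]
    rcases h3 with h | h
    · have h1 : j.succ = i.castSucc := Fin.ext h
      have hne1 : i.succ ≠ i.castSucc := (Fin.castSucc_lt_succ).ne'
      have hne2 : j.castSucc ≠ i.castSucc := by
        intro h2; exact hij (Fin.castSucc_injective _ h2).symm
      have hne3 : i.succ ≠ j.castSucc := by
        intro h2
        have := congrArg Fin.val h2
        simp at this; omega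
      have h4 := Equiv.Perm.isThreeCycle_swap_mul_swap_same (a := i.castSucc) (b := i.succ) (c := j.castSucc) hne1.symm hne2.symm hne3
      rw [h1, Equiv.swap_comm j.castSucc, ← h4.orderOf, pow_orderOf_eq_one]
    · have h1 : i.succ = j.castSucc := Fin.ext h
      have hne1 : i.castSucc ≠ j.castSucc := by
        intro h2; exact hij (Fin.castSucc_injective _ h2)
      have hne2 : j.succ ≠ j.castSucc := (Fin.castSucc_lt_succ).ne'
      have hne3 : i.castSucc ≠ j.succ := by
        intro h2
        have := congrArg Fin.val h2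
        simp at this; omega
      have h4 := Equiv.Perm.isThreeCycle_swap_mul_swap_same (a := j.castSucc) (b := i.castSucc) (c := j.succ) hne1.symm hne2.symm hne3
      rw [h1, Equiv.swap_comm i.castSucc, ← h4.orderOf, pow_orderOf_eq_one]
  · rw [if_neg h3]
    push Not at h3
    have hd : Equiv.Perm.Disjoint (Equiv.swap i.castSucc i.succ) (Equiv.swap j.castSucc j.succ) := by
      rw [Equiv.Perm.disjoint_iff_disjoint_support, Equiv.Perm.support_swap (Fin.castSucc_lt_succ).ne,
        Equiv.Perm.support_swap (Fin.castSucc_lt_succ).ne, Finset.disjoint_left]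
      intro a ha hb
      rw [Finset.mem_insert, Finset.mem_singleton] at ha hb
      have hij' : (i : ℕ) ≠ j := fun h => hij (Fin.ext h)
      rcases ha with rfl | rfl <;> rcases hb with h | h <;> have h5 := congrArg Fin.val h <;> simp at h5 <;> omega
    rw [hd.commute.mul_pow, pow_two, pow_two, Equiv.swap_mul_self, Equiv.swap_mul_self, one_mul]

/-- The Coxeter presentation of the symmetric group: for every n, the symmetric group on n+1 letters is the Coxeter group of type A_n with the adjacent transpositions (i, i+1) as simple reflections; that is, it is presented by generators r_1, …, r_n subject to r_i² = 1, (r_i r_j)² = 1 for |i − j| > 1 and (r_i r_{i+1})³ = 1, with r_i mapping to (i, i+1). -/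
theorem result (n : ℕ) :
    ∃ cs : CoxeterSystem (CoxeterMatrix.A n) (Equiv.Perm (Fin (n + 1))), ∀ i : Fin n, cs.simple i = Equiv.swap i.castSucc i.succ := by
  let cs₀ := (CoxeterMatrix.A n).toCoxeterSystem
  let φ : (CoxeterMatrix.A n).Group →* Equiv.Perm (Fin (n + 1)) := cs₀.lift ⟨_, liftable n⟩
  have hφ : ∀ i, φ (cs₀.simple i) = Equiv.swap i.castSucc i.succ := fun i => cs₀.lift_apply_simple (liftable n) i
  have hsurj : Function.Surjective φ := by
    rw [← MonoidHom.range_eq_top, eq_top_iff]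
    have h1 : Subgroup.closure (Set.range fun i : Fin n => Equiv.swap i.castSucc i.succ) = ⊤ :=
      Subgroup.closure_eq_top_of_mclosure_eq_top (Equiv.Perm.mclosure_swap_castSucc_succ n)
    rw [← h1, Subgroup.closure_le]
    rintro _ ⟨i, rfl⟩
    exact ⟨cs₀.simple i, hφ i⟩
  obtain ⟨hfin, hcard⟩ := finite_card n
  have hbij : Function.Bijective φ := by
    rw [Nat.bijective_iff_surjective_and_card]
    refine ⟨hsurj, ?_⟩
    apply le_antisymm
    · rw [Nat.card_perm, Nat.card_fin]; exact hcard
    · exact Nat.card_le_card_of_surjective φ hsurj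
  refine ⟨cs₀.map (MulEquiv.ofBijective φ hbij), ?_⟩
  intro i
  rw [CoxeterSystem.map_simple]
  exact hφ i

end Cfsg.Agent.S2530
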