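import Cfsg.Statements.S2652
import Cfsg.Agent.Lib.Fi23Nrm2

set_option autoImplicit false
open Cfsg

namespace Cfsg.Agent.S2652

open Cfsg.Agent.Lib.Fi23Nrm Cfsg.Agent.Lib.Fi23Out Cfsg.Agent.Lib.TransLanes

/-- Let T be a Sylow 2-subgroup of the Fischer group Fi₂₃ (the finitely presented group `Spor.Fi23`; T has order 2¹⁸). Then every elementary abelian subgroup of Fi₂₃ contained in T and normal in T has order at most 2¹¹, and there is exactly one such subgroup of order 2¹¹. -/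
theorem result
    (T : Sylow 2 Cfsg.Spor.Fi23) :
    (∀ A : Subgroup Cfsg.Spor.Fi23, A ≤ T → (A.subgroupOf T).Normal → Cfsg.IsElementaryAbelian 2 A →
        Nat.card A ≤ 2 ^ 11) ∧
    ∃! A : Subgroup Cfsg.Spor.Fi23, A ≤ T ∧ (A.subgroupOf T).Normal ∧ Cfsg.IsElementaryAbelian 2 A ∧
        Nat.card A = 2 ^ 11 := by
  obtain ⟨φ, H, C, -⟩ := exists_ctx
  obtain ⟨-, hcard, -⟩ := Cfsg.Agent.Lib.Fi23Ord.main
  have hfin : Finite GF := Nat.finite_of_card_ne_zero (by rw [hcard]; norm_num)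
  have D := dat C hcard
  have hE := D.card_E
  have hN : Nat.card (NN C) = 2 ^ 11 := (chain C hcard).2.1
  refine Cfsg.Agent.Lib.GolaySyl.final (G := GF) (E := EE φ) (N := NN C) (s := 18) (r := 79695)
    (m := 15600091832325) (NN_le C) (by rw [hE]; norm_num) ?_ ?_ (fun e he n hn => NN_conj C he hn) hN ?_ ?_ T
  · rw [hcard]; norm_num
  · norm_num
  · refine ⟨⟨⟨?_⟩⟩, ?_⟩
    · rintro ⟨a, ha⟩ ⟨b, hb⟩
      exact Subtype.ext (NN_comm C ha hb)
    · intro a ha
      rw [pow_two]; exact NN_sq C ha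
  · intro A hA h1 h2 h3
    have k1 : ∀ n ∈ (NN C).subgroupOf (EE φ), ∀ a ∈ A.subgroupOf (EE φ), n * a * n⁻¹ ∈ A.subgroupOf (EE φ) :=
      fun n hn a ha => h1 _ hn _ ha
    have k2 : ∀ a ∈ A.subgroupOf (EE φ), ∀ b ∈ A.subgroupOf (EE φ), a * b = b * a :=
      fun a ha b hb => Subtype.ext (h2 _ ha _ hb)
    have k3 : ∀ a ∈ A.subgroupOf (EE φ), a * a = 1 := fun a ha => Subtype.ext (h3 _ ha)
    rcases D.main1 k1 k2 k3 with h | h
    · left
      intro a ha
      exact h (show (⟨a, hA ha⟩ : EE φ) ∈ A.subgroupOf (EE φ) from ha)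
    · right
      rwa [Nat.card_congr (Subgroup.subgroupOfEquivOfLe hA).toEquiv] at h

end Cfsg.Agent.S2652
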