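import Cfsg.Statements.S2753
import Cfsg.Agent.Lib.H34FZ
import Cfsg.Agent.Lib.H34FAT

set_option autoImplicit false
universe u
open Cfsg

namespace Cfsg.Agent.S2753

/-- Glauberman's 2-factorization Theorem: let G be a finite group with C_G(O₂(G)) ≤ O₂(G) in which the symmetric group of degree 4 is not involved and every non-abelian composition factor is a Suzuki group Sz(2^(2n+1)) or a group PSL₂(3^(2n+1)). Then for a Sylow 2-subgroup S, G = C(Z(S)) N(J_e(S)) = C(Z(S)) N(Ĵ(S)) = C(Ω₁(Z(Ĵ(S)))) N(J_e(S)), where J_e(S) is the Thompson subgroup generated by the elementary abelian subgroups of largest order and Ĵ(S) the subgroup generated by the E-subgroups of S containing J_e(S); each product is written elementwise. -/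
theorem result {G : Type u} [Group G] [Finite G] (hchar : Subgroup.centralizer (Cfsg.pCore 2 G : Set G) ≤ Cfsg.pCore 2 G) (hfree : ¬ Cfsg.Involves (Equiv.Perm (Fin 4)) G) (hc : Cfsg.IsCompositionKGroupWith Cfsg.IsSuzukiOrPSL2OddPowerThree G) (S : Sylow 2 G) : (∀ g : G, ∃ c ∈ Subgroup.centralizer ((((S : Subgroup G) ⊓ Subgroup.centralizer ((S : Subgroup G) : Set G)) : Subgroup G) : Set G), ∃ n ∈ Subgroup.normalizer (((Cfsg.thompsonSubgroupOf 2 (S : Subgroup G)) : Subgroup G) : Set G), g = c * n) ∧ (∀ g : G, ∃ c ∈ Subgroup.centralizer ((((S : Subgroup G) ⊓ Subgroup.centralizer ((S : Subgroup G) : Set G)) : Subgroup G) : Set G), ∃ n ∈ Subgroup.normalizer ((((Cfsg.jHat ↥(S : Subgroup G)).map (S : Subgroup G).subtype) : Subgroup G) : Set G), g = c * n) ∧ (∀ g : G, ∃ c ∈ Subgroup.centralizer ((Cfsg.omegaOne 2 (((Cfsg.jHat ↥(S : Subgroup G)).map (S : Subgroup G).subtype) ⊓ Subgroup.centralizer (((Cfsg.jHat ↥(S : Subgroup G)).map (S : Subgroup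 G).subtype) : Set G))) : Set G), ∃ n ∈ Subgroup.normalizer (((Cfsg.thompsonSubgroupOf 2 (S : Subgroup G)) : Subgroup G) : Set G), g = c * n) := by
  have hS := Cfsg.Agent.Lib.LocBase.isSyl_top S
  have hth : Cfsg.thompsonSubgroupOf 2 (S : Subgroup G) = Cfsg.Agent.Lib.SfThomp.JJ (S : Subgroup G) :=
    Cfsg.Agent.Lib.H34FE.thompson_eq (S : Subgroup G)
  rw [hth]
  refine ⟨fun g => ?_, fun g => ?_, fun g => ?_⟩
  · obtain ⟨c, hcc, n, _, hn, e⟩ := Cfsg.Agent.Lib.H34FZ.parts12 hchar hfree hc hS g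
    exact ⟨c, hcc, n, hn, e⟩
  · obtain ⟨c, hcc, n, hn, _, e⟩ := Cfsg.Agent.Lib.H34FZ.parts12 hchar hfree hc hS g
    exact ⟨c, hcc, n, hn, e⟩
  · exact Cfsg.Agent.Lib.H34FZ.part3 (S := (S : Subgroup G)) (fun D hDS hSD hDe hP g =>
      Cfsg.Agent.Lib.H34FAT.thmB hchar hfree hS
        (fun H hSH => Cfsg.Agent.Lib.H34FK.compK_over hc hS hSH) hDS hSD hDe hP g) g

end Cfsg.Agent.S2753
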