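import Cfsg.Statements.S2765
import Cfsg.Agent.Lib.QmB11

set_option autoImplicit false
open Cfsg

namespace Cfsg.Agent.S2765

open Cfsg.Agent.Lib.QmCore

/-- In the same pushing-up situation (G finite, C_G(O_p(G)) ≤ O_p(G), G/K ≅ PSL₂(p^n) with n ≥ 1, a Sylow p-subgroup S in exactly one maximal subgroup, no nontrivial characteristic subgroup of S normal in G), one of the following holds: (I) S has nilpotency class 2, exponent 4 if p = 2 and exponent p otherwise, and G has exactly one noncentral chief factor inside O_p(G); or (II) p = 3, S has class 3 and exponent 9, and G has exactly two noncentral chief factors inside O_p(G). 'Exactly one' is phrased as: some noncentral chief factor U/W inside O_p(G) with G acting hypercentrally on W and on O_p(G)/U; 'exactly two' analogously with a chain. -/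
theorem result {G : Type*} [Group G] [Finite G] {p : ℕ} [Fact p.Prime] (S : Sylow p G) (hE₁ : Subgroup.centralizer (Cfsg.pCore p G : Set G) ≤ Cfsg.pCore p G) (hE₂ : ∃! M : Subgroup G, IsCoatom M ∧ (S : Subgroup G) ≤ M) (K : Subgroup G) [K.Normal] (F : Type) [Field F] [Fintype F] (n : ℕ) (hn : 1 ≤ n) (hF : Fintype.card F = p ^ n) (hE₃ : Nonempty (G ⧸ K ≃* Matrix.ProjectiveSpecialLinearGroup (Fin 2) F)) (hd : ∀ T : Subgroup ↥(S : Subgroup G), T ≠ ⊥ → T.Characteristic → ¬ (T.map (S : Subgroup G).subtype).Normal) : ((S : Subgroup G).lowerCentralSeries 2 = ⊥ ∧ (S : Subgroup G).lowerCentralSeries 1 ≠ ⊥ ∧ (p = 2 → Monoid.exponent ↥(S : Subgroup G) = 4) ∧ (p ≠ 2 → Monoid.exponent ↥(S : Subgroup G) = p) ∧ (∃ U W : Subgroup G, W ≤ U ∧ U ≤ (Cfsg.pCore p G) ∧ Cfsg.IsChiefFactor U W ∧ ¬ ⁅U, (⊤ : Subgroup G)⁆ ≤ W ∧ (∃ k : ℕ, Cfsg.iterCommutator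 W ⊤ k = ⊥) ∧ (∃ k : ℕ, Cfsg.iterCommutator (Cfsg.pCore p G) ⊤ k ≤ U))) ∨ (p = 3 ∧ (S : Subgroup G).lowerCentralSeries 3 = ⊥ ∧ (S : Subgroup G).lowerCentralSeries 2 ≠ ⊥ ∧ Monoid.exponent ↥(S : Subgroup G) = 9 ∧ (∃ U₁ W₁ U₂ W₂ : Subgroup G, W₁ ≤ U₁ ∧ U₁ ≤ W₂ ∧ W₂ ≤ U₂ ∧ U₂ ≤ (Cfsg.pCore p G) ∧ Cfsg.IsChiefFactor U₁ W₁ ∧ Cfsg.IsChiefFactor U₂ W₂ ∧ ¬ ⁅U₁, (⊤ : Subgroup G)⁆ ≤ W₁ ∧ ¬ ⁅U₂, (⊤ : Subgroup G)⁆ ≤ W₂ ∧ (∃ k : ℕ, Cfsg.iterCommutator W₁ ⊤ k = ⊥) ∧ (∃ k : ℕ, Cfsg.iterCommutator W₂ ⊤ k ≤ U₁) ∧ (∃ k : ℕ, Cfsg.iterCommutator (Cfsg.pCore p G) ⊤ k ≤ U₂))) := by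
  haveI : CharP F p := Cfsg.Agent.Lib.NatSL2.charP_of_card hF
  obtain ⟨M, φ, hP, -⟩ := PU.mk' S hE₂ K hE₃
  obtain ⟨hf, h1 | ⟨hp3, r⟩⟩ := pushing_up iR_inj hP hE₁ (hd_of_char hd)
  · obtain ⟨n', hn', hnV⟩ := h1
    have r := b1_res iR_inj hP hf hE₁ (hd_of_char hd) hn' hnV
    obtain ⟨N, hN, -⟩ := r.nh
    have hzn := zz_normal hf
    obtain ⟨hc1, hc2⟩ := N.chief inf_le_left hf.norm hzn
    exact Or.inl ⟨r.cls, r.ncls, r.exp2, r.exp, PU.VZ S, PU.zz S, inf_le_left, hf.loc.VQ, hc1, hc2, ⟨1, r.it1⟩, ⟨2, r.it2⟩⟩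
  · right
    obtain ⟨N, hN⟩ := r.nh
    have hzn := zz_normal hf
    obtain ⟨hc1, hc2⟩ := N.chief inf_le_left hf.norm hzn
    obtain ⟨Y, D, hVD, hDY, hYQ, hDn, hYn, ⟨N'⟩, hi1, hi2⟩ := r.chain
    obtain ⟨hc3, hc4⟩ := N'.chief hDY hYn hDn
    exact ⟨hp3, r.cls, r.ncls, r.exp, PU.VZ S, PU.zz S, Y, D, inf_le_left, hVD, hDY, hYQ, hc1, hc3, hc2, hc4, ⟨1, r.it1⟩,
      ⟨1, hi1⟩, ⟨3, hi2⟩⟩

end Cfsg.Agent.S2765
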