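import Cfsg.Statements.S2803
import Cfsg.Agent.Lib.LocTrace

set_option autoImplicit false
open Cfsg

namespace Cfsg.Agent.S2803

open Subgroup Cfsg.Agent.Lib.LocBase Cfsg.Agent.Lib.PIrred Cfsg.Agent.Lib.PReduced Cfsg.Agent.Lib.LocTrace
open scoped commutatorElement


/-- Let L be a finite group and p a prime with C_L(O_p(L)) ≤ O_p(L), T a Sylow p-subgroup, and Y the largest p-reduced normal subgroup of L. Put T_L = C_T(Y) and L_T = N_L(T_L). Then L = L_T · C_L(Y) (elementwise), T_L = O_p(L_T), and Y = Ω₁(Z(T_L)). -/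
theorem result {L : Type*} [Group L] [Finite L] {p : ℕ} [Fact p.Prime] (hchar : Subgroup.centralizer (Cfsg.pCore p L : Set L) ≤ Cfsg.pCore p L) (T : Sylow p L) (Y : Subgroup L) (hY : (Cfsg.IsPReducedNormal p Y ∧ ∀ V : Subgroup L, Cfsg.IsPReducedNormal p V → V ≤ Y)) (TL : Subgroup L) (hTL : TL = (T : Subgroup L) ⊓ Subgroup.centralizer (Y : Set L)) : (∀ g : L, ∃ a ∈ Subgroup.normalizer (TL : Set L), ∃ c ∈ Subgroup.centralizer (Y : Set L), g = a * c) ∧ (Cfsg.pCore p ↥(Subgroup.normalizer (TL : Set L))).map (Subgroup.normalizer (TL : Set L)).subtype = TL ∧ Y = Cfsg.omegaOne p (TL ⊓ Subgroup.centralizer (TL : Set L)) := by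
  have hL : IsCharP p (⊤ : Subgroup L) := isCharP_top.mpr hchar
  have hT := isSyl_top T
  have hY1 : PRed p Y ⊤ := pRed_top_iff.mpr hY.1
  have hYeq : Cfsg.largestPReducedOf p (⊤ : Subgroup L) = Y :=
    largestPReducedOf_eq hY1 (fun V hV => hY.2 V (pRed_top_iff.mp hV))
  subst hTL
  refine ⟨?_, ?_, ?_⟩
  · intro g
    have h1 : IsSyl p ((T : Subgroup L) ⊓ Subgroup.centralizer (Y : Set L)) (⊤ ⊓ Subgroup.centralizer (Y : Set L)) :=
      isSyl_TL hT hY1.norm
    rw [top_inf_eq] at h1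
    obtain ⟨n, hn, y, hy, e⟩ := h1.frattini (H := ⊤) le_top (le_normalizer_centralizer hY1.norm) (mem_top g⁻¹)
    refine ⟨y⁻¹, Subgroup.inv_mem _ hy.2, n⁻¹, Subgroup.inv_mem _ hn, ?_⟩
    rw [← mul_inv_rev, ← e, inv_inv]
  · have := pCoreOf_TL hT hY1
    rw [top_inf_eq] at this
    exact this
  · have := largest_eq_OZ hL hT
    rw [hYeq] at this
    exact this

end Cfsg.Agent.S2803
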