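import Cfsg.Statements.S2804
import Cfsg.Agent.Lib.LocTrace

set_option autoImplicit false
open Cfsg

namespace Cfsg.Agent.S2804

open Subgroup Cfsg.Agent.Lib.LocBase Cfsg.Agent.Lib.PIrred Cfsg.Agent.Lib.PReduced Cfsg.Agent.Lib.LocTrace
open scoped commutatorElement


/-- Let L be a finite group and p a prime with C_L(O_p(L)) ≤ O_p(L), V a p-reduced normal subgroup of L and K a subnormal subgroup of L. Then [V, O^p(K)] is contained in K and is a p-reduced normal subgroup of K, where O^p(K) is the subgroup of K generated by its elements of order prime to p. -/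
theorem result {L : Type*} [Group L] [Finite L] {p : ℕ} [Fact p.Prime] (hchar : Subgroup.centralizer (Cfsg.pCore p L : Set L) ≤ Cfsg.pCore p L) (V : Subgroup L) (hV : Cfsg.IsPReducedNormal p V) (K : Subgroup L) (hK : K.IsSubnormal) : ⁅V, (Cfsg.pResidual p ↥K).map K.subtype⁆ ≤ K ∧ Cfsg.IsPReducedNormal p ((⁅V, (Cfsg.pResidual p ↥K).map K.subtype⁆).subgroupOf K) := by
  have hVr : PRed p V ⊤ := pRed_top_iff.mpr hV
  have hKs : Subn K ⊤ := subn_top_iff.mpr hK
  rw [map_pResidual]
  have hVp := elem_isPGroup hVr.elem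
  have hKV : K ≤ normalizer (V : Set L) := le_top.trans hVr.norm
  have hidem := commutator_pRes_idem hVp hKV
  have hWK : ⁅V, pRes p K⁆ ≤ K := hKs.commutator_le_of_idem le_top (pRes_le p K) hidem
  refine ⟨hWK, ?_⟩
  rw [← pRed_map_subtype_iff, Subgroup.map_subgroupOf_eq_of_le hWK]
  have hWV : ⁅V, pRes p K⁆ ≤ V := commutator_le_left_of_le ((pRes_le p K).trans hKV)
  refine ⟨hWK, le_normalizer_commutator hKV (le_normalizer_pRes p K), elem_mono hVr.elem hWV, ?_⟩
  intro D hD hDn hpD
  have h1 : pRes p D ≤ Subgroup.centralizer (V : Set L) := by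
    apply pRes_le_centralizer hVp (hD.trans hKV)
    rw [eq_bot_iff]
    have h2 : ⁅⁅V, pRes p D⁆, pRes p D⁆ ≤ ⁅⁅V, pRes p K⁆, pRes p D⁆ :=
      commutator_mono (commutator_mono le_rfl (pRes_mono hD)) le_rfl
    rw [commutator_comm ⁅V, pRes p K⁆, commutator_eq_bot_iff_le_centralizer.mpr hpD] at h2
    exact h2
  have h2 : D ≤ Subgroup.centralizer (V : Set L) := hVr.subn_le ((Subn.of_normal hD hDn).trans hKs) h1
  exact h2.trans (centralizer_le hWV)

end Cfsg.Agent.S2804
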