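import Cfsg.Statements.S2806
import Cfsg.Agent.Lib.WielSyl
import Cfsg.Agent.Lib.LocTrace

set_option autoImplicit false
open Cfsg

namespace Cfsg.Agent.S2806

open Subgroup Cfsg.Agent.Lib.LocBase Cfsg.Agent.Lib.PIrred Cfsg.Agent.Lib.PReduced Cfsg.Agent.Lib.LocTrace Cfsg.Agent.Lib.LocMore Cfsg.Agent.Lib.WielSyl
open scoped commutatorElement

variable {G : Type*} [Group G]

/-- local characteristic p, ambient form -/
def LC (p : ℕ) (H : Subgroup G) : Prop :=
  ∀ P : Subgroup G, P ≤ H → IsPGroup p P → P ≠ ⊥ → IsCharP p (H ⊓ normalizer (P : Set G))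

theorem lc_top {p : ℕ} (h : Cfsg.IsOfLocalCharacteristic p G) : LC p (⊤ : Subgroup G) := by
  intro P _ hP h1
  rw [top_inf_eq, isCharP_iff]
  exact h.2 P hP h1

theorem LC.of_normal [Finite G] {p : ℕ} [Fact p.Prime] {A B : Subgroup G} (hB : LC p B) (h1 : A ≤ B)
    (h2 : B ≤ normalizer (A : Set G)) : LC p A := by
  intro P hPA hP hne
  refine (hB P (hPA.trans h1) hP hne).of_normal (inf_le_inf_right _ h1) ?_
  exact le_normalizer_inf (inf_le_left.trans h2) (inf_le_right.trans le_normalizer)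

theorem exists_mem_OZ [Finite G] {p : ℕ} [Fact p.Prime] {S A : Subgroup G} (hS : IsPGroup p S)
    (hn : S ≤ normalizer (A : Set G)) (h : S ⊓ A ≠ ⊥) : ∃ z ∈ OZ p S, z ∈ A ∧ z ≠ 1 ∧ orderOf z = p := by
  obtain ⟨u, hu, hu1, huc⟩ := exists_fixed (hS.to_le (inf_le_left : S ⊓ A ≤ S)) hS
    (le_normalizer_inf le_normalizer hn) h
  have hp : Fact p.Prime := inferInstance
  obtain ⟨k, hk⟩ := hS ⟨u, hu.1⟩
  have hk' : u ^ p ^ k = 1 := by
    have := congrArg Subtype.val hk
    simpa using this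
  obtain ⟨m, hm, ho⟩ := (Nat.dvd_prime_pow hp.out).mp (orderOf_dvd_of_pow_eq_one hk')
  have hm0 : m ≠ 0 := by
    rintro rfl
    rw [pow_zero, orderOf_eq_one_iff] at ho
    exact hu1 ho
  obtain ⟨m', rfl⟩ := Nat.exists_eq_succ_of_ne_zero hm0
  have hoz : orderOf (u ^ p ^ m') = p := by
    rw [orderOf_pow' u (pow_ne_zero _ hp.out.ne_zero), ho, Nat.gcd_eq_right (pow_dvd_pow p (Nat.le_succ m')),
      Nat.succ_eq_add_one, pow_succ, Nat.mul_div_cancel_left _ (pow_pos hp.out.pos _)]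
  refine ⟨u ^ p ^ m', ?_, A.pow_mem hu.2 _, ?_, hoz⟩
  · rw [mem_OZ]
    refine ⟨S.pow_mem hu.1 _, Subgroup.pow_mem _ huc _, ?_⟩
    have := pow_orderOf_eq_one (u ^ p ^ m')
    rwa [hoz] at this
  · intro h1
    rw [h1, orderOf_one] at hoz
    exact hp.out.one_lt.ne hoz

theorem kieler_lc_normal [Finite G] {p : ℕ} [Fact p.Prime] {T H L : Subgroup G} (hH : LC p H)
    (hT : IsSyl p T H) (hLH : L ≤ H) (hL : H ≤ normalizer (L : Set G)) (h : T ⊓ L ≠ ⊥) :
    L ⊓ centralizer (OZ p T : Set G) = L ⊓ centralizer (OZ p (T ⊓ L) : Set G) := by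
  have hp : Fact p.Prime := inferInstance
  obtain ⟨z, hz, hzL, hz1, hoz⟩ := exists_mem_OZ hT.pgroup (hT.le.trans hL) h
  set D := H ⊓ centralizer (zpowers z : Set G) with hD
  have hzH : z ∈ H := hT.le (OZ_le T hz)
  have hzp : IsPGroup p (zpowers z) := by
    rw [IsPGroup.iff_card]
    exact ⟨1, by rw [Nat.card_zpowers, hoz, pow_one]⟩
  have hDc : IsCharP p D := by
    refine (hH (zpowers z) (by rwa [zpowers_le]) hzp (by rwa [Ne, zpowers_eq_bot])).of_normal
      (inf_le_inf_left _ (centralizer_le_normalizer _)) ?_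
    exact le_normalizer_inf (inf_le_left.trans le_normalizer) (inf_le_right.trans
      (le_normalizer_centralizer le_rfl))
  have hTD : T ≤ D := by
    refine le_inf hT.le ?_
    rw [le_centralizer_iff, zpowers_le]
    exact (mem_OZ.mp hz).2.1
  have hTsD : IsSyl p T D := hT.of_le hTD inf_le_left
  have key := kieler_normal hDc hTsD (inf_le_right : L ⊓ D ≤ D)
    (le_normalizer_inf (inf_le_left.trans hL) le_normalizer)
  have e : T ⊓ (L ⊓ D) = T ⊓ L := by
    rw [← inf_assoc, inf_eq_left]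
    exact inf_le_left.trans hTD
  rw [e] at key
  have hcz : ∀ Y : Subgroup G, z ∈ Y → centralizer (Y : Set G) ≤ centralizer (zpowers z : Set G) := by
    intro Y hY
    apply centralizer_le
    rwa [SetLike.coe_subset_coe, zpowers_le]
  have h1 : ∀ Y : Subgroup G, z ∈ Y → L ⊓ centralizer (Y : Set G) = (L ⊓ D) ⊓ centralizer (Y : Set G) := by
    intro Y hY
    apply le_antisymm
    · exact le_inf (le_inf inf_le_left (le_inf (inf_le_left.trans hLH) (inf_le_right.trans (hcz Y hY)))) inf_le_right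
    · exact inf_le_inf_right _ inf_le_left
  rw [h1 _ hz, key, ← h1]
  rw [mem_OZ]
  refine ⟨⟨OZ_le T hz, hzL⟩, centralizer_le (inf_le_left : T ⊓ L ≤ T) (mem_OZ.mp hz).2.1, (mem_OZ.mp hz).2.2⟩

theorem kieler_lc [Finite G] {p : ℕ} [Fact p.Prime] {T H L : Subgroup G} (hH : LC p H)
    (hT : IsSyl p T H) (hL : Subn L H) (h : T ⊓ L ≠ ⊥) :
    L ⊓ centralizer (OZ p T : Set G) = L ⊓ centralizer (OZ p (T ⊓ L) : Set G) := by
  have hLC : ∀ {A H : Subgroup G}, Subn A H → LC p H → LC p A := by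
    intro A H h
    induction h with
    | refl => exact id
    | step h1 h2 _ ih => exact fun hH => (ih hH).of_normal h1 h2
  induction hL with
  | refl => rw [inf_eq_left.mpr hT.le]
  | @step A B H h1 h2 h3 ih =>
    have hB : T ⊓ B ≠ ⊥ := by
      intro h0
      apply h
      rw [eq_bot_iff, ← h0]
      exact inf_le_inf_left _ h1
    have h4 := ih hH hT hB
    have e : T ⊓ B ⊓ A = T ⊓ A := by rw [inf_assoc, inf_eq_right.mpr h1]
    have h5 := kieler_lc_normal (hLC h3 hH) (h3.isSyl hT) h1 h2 (by rwa [e])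
    rw [e] at h5
    rw [← h5]
    calc A ⊓ centralizer (OZ p T : Set G) = A ⊓ (B ⊓ centralizer (OZ p T : Set G)) := by
          rw [← inf_assoc, inf_eq_left.mpr h1]
      _ = A ⊓ (B ⊓ centralizer (OZ p (T ⊓ B) : Set G)) := by rw [h4]
      _ = A ⊓ centralizer (OZ p (T ⊓ B) : Set G) := by rw [← inf_assoc, inf_eq_left.mpr h1]

/-- generated by `p`-elements -/
def pEl (p : ℕ) (H : Subgroup G) : Subgroup G := closure {x : G | x ∈ H ∧ ∃ k : ℕ, orderOf x = p ^ k}

theorem pEl_le {p : ℕ} (H : Subgroup G) : pEl p H ≤ H := by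
  unfold pEl
  rw [closure_le]
  rintro x ⟨hx, _⟩; exact hx

theorem pEl_mono {p : ℕ} {H K : Subgroup G} (h : H ≤ K) : pEl p H ≤ pEl p K :=
  closure_mono fun _ hx => ⟨h hx.1, hx.2⟩

theorem le_pEl [Finite G] {p : ℕ} [hp : Fact p.Prime] {H P : Subgroup G} (h : P ≤ H) (hP : IsPGroup p P) : P ≤ pEl p H := by
  intro x hx
  apply Subgroup.subset_closure
  refine ⟨h hx, ?_⟩
  obtain ⟨k, hk⟩ := hP ⟨x, hx⟩
  have hk' : x ^ p ^ k = 1 := by
    have := congrArg Subtype.val hk
    simpa using this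
  obtain ⟨m, _, ho⟩ := (Nat.dvd_prime_pow hp.out).mp (orderOf_dvd_of_pow_eq_one hk')
  exact ⟨m, ho⟩

theorem le_normalizer_pEl {p : ℕ} (H : Subgroup G) : H ≤ normalizer (pEl p H : Set G) := by
  have key : ∀ h ∈ H, (pEl p H).map (MulAut.conj h).toMonoidHom ≤ pEl p H := by
    intro h hh
    unfold pEl
    rw [MonoidHom.map_closure, closure_le]
    rintro _ ⟨x, ⟨hx, k, hk⟩, rfl⟩
    apply Subgroup.subset_closure
    refine ⟨?_, k, ?_⟩
    · simp only [MulEquiv.coe_toMonoidHom, MulAut.conj_apply]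
      exact H.mul_mem (H.mul_mem hh hx) (H.inv_mem hh)
    · rw [MulEquiv.coe_toMonoidHom, MulEquiv.orderOf_eq, hk]
  intro h hh
  apply mem_normalizer_of_map_conj_eq
  apply le_antisymm (key h hh)
  have := Subgroup.map_mono (f := (MulAut.conj h).toMonoidHom) (key h⁻¹ (H.inv_mem hh))
  rw [← map_conj_mul, mul_inv_cancel, map_conj_one] at this
  exact this

/-- Let H be a finite group of local characteristic p, T a Sylow p-subgroup, and L₁, L₂ subnormal subgroups of H generating the subgroup L. Then the point stabilizer of L with respect to T ∩ L is generated by the point stabilizers of L₁ and L₂ with respect to T ∩ L₁ and T ∩ L₂ (point stabilizer of X w.r.t. R: the subgroup generated by the p-elements of X centralizing Ω₁(Z(R))). -/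
theorem result {H : Type*} [Group H] [Finite H] {p : ℕ} [Fact p.Prime] (hH : Cfsg.IsOfLocalCharacteristic p H) (T : Sylow p H) (L₁ L₂ : Subgroup H) (h₁ : L₁.IsSubnormal) (h₂ : L₂.IsSubnormal) : Cfsg.pointStabilizer p (L₁ ⊔ L₂) ((T : Subgroup H) ⊓ (L₁ ⊔ L₂)) = Cfsg.pointStabilizer p L₁ ((T : Subgroup H) ⊓ L₁) ⊔ Cfsg.pointStabilizer p L₂ ((T : Subgroup H) ⊓ L₂) := by
  have hp : Fact p.Prime := inferInstance
  have hT := isSyl_top T
  have key : ∀ L : Subgroup H, L.IsSubnormal → Cfsg.pointStabilizer p L ((T : Subgroup H) ⊓ L)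
      = pEl p (L ⊓ centralizer (OZ p (T : Subgroup H) : Set H)) := by
    intro L hL
    have h0 : Cfsg.pointStabilizer p L ((T : Subgroup H) ⊓ L)
      = pEl p (L ⊓ centralizer (OZ p ((T : Subgroup H) ⊓ L) : Set H)) := rfl
    rw [h0]
    by_cases h : (T : Subgroup H) ⊓ L = ⊥
    · have hbot : ∀ K : Subgroup H, K ≤ L → pEl p K = ⊥ := by
        intro K hK
        rw [eq_bot_iff]
        unfold pEl
        rw [closure_le]
        rintro x ⟨hx, k, hk⟩
        have hLT : IsSyl p ⊥ L := by rw [← h]; exact (subn_top_iff.mpr hL).isSyl hT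
        have hxp : IsPGroup p (zpowers x) := by
          rw [IsPGroup.iff_card]
          exact ⟨k, by rw [Nat.card_zpowers, hk]⟩
        have h1 := hLT.card_le hxp (by rw [zpowers_le]; exact hK hx)
        rw [Subgroup.card_bot, Nat.card_zpowers] at h1
        have : orderOf x = 1 := le_antisymm h1 (orderOf_pos x)
        exact orderOf_eq_one_iff.mp this
      rw [hbot _ inf_le_left, hbot _ inf_le_left]
    · rw [kieler_lc (lc_top hH) hT (subn_top_iff.mpr hL) h]
  set C := centralizer (OZ p (T : Subgroup H) : Set H) with hC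
  have hTC : (T : Subgroup H) ≤ C := le_centralizer_OZ _
  have h12 : (L₁ ⊔ L₂).IsSubnormal := Cfsg.Agent.Lib.Subnormal.isSubnormal_sup h₁ h₂
  rw [key _ h12, key _ h₁, key _ h₂]
  apply le_antisymm _ (sup_le (pEl_mono (inf_le_inf_right _ le_sup_left)) (pEl_mono (inf_le_inf_right _ le_sup_right)))
  have hsub : ∀ L : Subgroup H, L.IsSubnormal → Subn (pEl p (L ⊓ C)) C := by
    intro L hL
    exact (Subn.of_normal (pEl_le _) (le_normalizer_pEl _)).trans ((subn_top_iff.mpr hL).inf le_top)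
  have hY : Subn (pEl p (L₁ ⊓ C) ⊔ pEl p (L₂ ⊓ C)) C := by
    rw [subn_iff (sup_le (hsub _ h₁).le (hsub _ h₂).le), Subgroup.subgroupOf_sup (hsub _ h₁).le (hsub _ h₂).le]
    exact Cfsg.Agent.Lib.Subnormal.isSubnormal_sup ((subn_iff (hsub _ h₁).le).mp (hsub _ h₁)) ((subn_iff (hsub _ h₂).le).mp (hsub _ h₂))
  have hY2 : Subn (pEl p (L₁ ⊓ C) ⊔ pEl p (L₂ ⊓ C)) ((L₁ ⊔ L₂) ⊓ C) := by
    refine hY.of_le (sup_le ?_ ?_) inf_le_right
    · exact (pEl_le _).trans (inf_le_inf_right _ le_sup_left)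
    · exact (pEl_le _).trans (inf_le_inf_right _ le_sup_right)
  have hS : IsSyl p ((T : Subgroup H) ⊓ (L₁ ⊔ L₂)) ((L₁ ⊔ L₂) ⊓ C) := by
    refine ((subn_top_iff.mpr h12).isSyl hT).of_le (le_inf inf_le_right (inf_le_left.trans hTC)) inf_le_left
  have hSle : (T : Subgroup H) ⊓ (L₁ ⊔ L₂) ≤ pEl p (L₁ ⊓ C) ⊔ pEl p (L₂ ⊓ C) := by
    rw [syl_sup (subn_top_iff.mpr h₁) (subn_top_iff.mpr h₂) hT]
    apply sup_le_sup
    · exact le_pEl (le_inf inf_le_right (inf_le_left.trans hTC)) (T.2.to_le inf_le_left)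
    · exact le_pEl (le_inf inf_le_right (inf_le_left.trans hTC)) (T.2.to_le inf_le_left)
  conv_lhs => unfold pEl
  rw [closure_le]
  rintro x ⟨hx, k, hk⟩
  have hxp : IsPGroup p (zpowers x) := by
    rw [IsPGroup.iff_card]
    exact ⟨k, by rw [Nat.card_zpowers, hk]⟩
  exact Cfsg.Agent.Lib.LocMore.Subn.pgroup_le_of_syl_le hY2 hS hSle hxp (by rwa [zpowers_le]) (mem_zpowers x)

end Cfsg.Agent.S2806
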