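import Cfsg.Statements.S2810
import Cfsg.Agent.Lib.LocBase

set_option autoImplicit false
open Cfsg

namespace Cfsg.Agent.S2810

open Subgroup Cfsg.Agent.Lib.LocBase
open scoped commutatorElement

theorem exists_sectionCentralizer {G : Type*} [Group G] (A B : Subgroup G) (hA : A.Normal) (hB : B.Normal) :
    ∃ C : Subgroup G, C.Normal ∧ ∀ x, x ∈ C ↔ ∀ a ∈ A, ⁅a, x⁆ ∈ B := by
  haveI := hB
  have hAn : (A.map (QuotientGroup.mk' B)).Normal := hA.map _ (QuotientGroup.mk'_surjective B)
  refine ⟨(Subgroup.centralizer ((A.map (QuotientGroup.mk' B) : Subgroup (G ⧸ B)) : Set (G ⧸ B))).comap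
    (QuotientGroup.mk' B), ?_, ?_⟩
  · apply Subgroup.Normal.comap
    rw [← normalizer_eq_top_iff, ← top_le_iff]
    exact le_normalizer_centralizer (by rw [normalizer_eq_top])
  · intro x
    rw [mem_comap, mem_centralizer_iff]
    constructor
    · intro h a ha
      have h2 := h _ ⟨a, ha, rfl⟩
      rw [← commutatorElement_eq_one_iff_mul_comm, ← map_commutatorElement] at h2
      exact (QuotientGroup.eq_one_iff _).mp h2
    · rintro h _ ⟨a, ha, rfl⟩
      have h2 : (QuotientGroup.mk' B) ⁅a, x⁆ = 1 := (QuotientGroup.eq_one_iff _).mpr (h a ha)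
      rw [map_commutatorElement, commutatorElement_eq_one_iff_mul_comm] at h2
      exact h2

/-- Let H be a finite group of characteristic p and L a subgroup of H centralizing every factor of some H-invariant chain 1 = A₀ ≤ A₁ ≤ … ≤ Aₙ = O_p(H) of normal subgroups (that is, [A_{i+1}, L] ≤ Aᵢ for each i). Then L ≤ O_p(H). -/
theorem result {H : Type*} [Group H] [Finite H] {p : ℕ} [Fact p.Prime] (hchar : Subgroup.centralizer (Cfsg.pCore p H : Set H) ≤ Cfsg.pCore p H) (L : Subgroup H) (n : ℕ) (A : Fin (n + 1) → Subgroup H) (h0 : A 0 = ⊥) (hn : A (Fin.last n) = Cfsg.pCore p H) (hmono : Monotone A) (hnorm : ∀ i, (A i).Normal) (hcent : ∀ i : Fin n, ⁅A i.succ, L⁆ ≤ A i.castSucc) : L ≤ Cfsg.pCore p H := by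
  set K := normalClosure (L : Set H) with hK
  have hKc : ∀ i : Fin n, ⁅A i.succ, K⁆ ≤ A i.castSucc := by
    intro i
    obtain ⟨C, hCn, hC⟩ := exists_sectionCentralizer (A i.succ) (A i.castSucc) (hnorm _) (hnorm _)
    have h1 : K ≤ C := by
      apply normalClosure_le_normal
      intro x hx
      rw [SetLike.mem_coe, hC]
      intro a ha
      exact hcent i (commutator_mem_commutator ha hx)
    rw [commutator_le]
    intro a ha k hk
    exact (hC k).mp (h1 hk) a ha
  have hiter : ∀ j : ℕ, ∀ (hj : j ≤ n), iterCommutator (Cfsg.pCore p H) K j ≤ A ⟨n - j, by omega⟩ := by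
    intro j
    induction j with
    | zero =>
      intro _
      change Cfsg.pCore p H ≤ _
      rw [← hn]
      exact le_of_eq rfl
    | succ j ih =>
      intro hj
      have h1 := ih (by omega)
      change ⁅iterCommutator (Cfsg.pCore p H) K j, K⁆ ≤ _
      refine (commutator_mono h1 le_rfl).trans ?_
      have h2 := hKc ⟨n - (j + 1), by omega⟩
      have e1 : (⟨n - (j + 1), by omega⟩ : Fin n).succ = ⟨n - j, by omega⟩ := by
        apply Fin.ext
        simp only [Fin.succ_mk]
        omega
      rw [e1] at h2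
      exact h2
  have hfin : iterCommutator (Cfsg.pCore p H) K n = ⊥ := by
    have h1 := hiter n le_rfl
    rw [eq_bot_iff]
    refine h1.trans ?_
    rw [← h0]
    apply le_of_eq
    congr 1
    apply Fin.ext
    simp
  have hKnorm : K ≤ normalizer ((Cfsg.pCore p H : Subgroup H) : Set H) := by
    rw [normalizer_eq_top]; exact le_top
  have h1 := pRes_le_centralizer_of_iter (isPGroup_pCore p H) hKnorm hfin
  have h2 : IsPGroup p ↥(pRes p K) := (isPGroup_pCore p H).to_le (h1.trans hchar)
  have h3 : IsPGroup p ↥K := by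
    rw [isPGroup_iff_pRes_eq_bot] at h2 ⊢
    rwa [pRes_pRes] at h2
  exact le_normalClosure.trans (le_pCore normalClosure_normal h3)

end Cfsg.Agent.S2810
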