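import Cfsg.Statements.S2813
import Cfsg.Agent.Lib.LocBase

set_option autoImplicit false
open Cfsg

namespace Cfsg.Agent.S2813

open Subgroup Cfsg.Agent.Lib.LocBase
open scoped commutatorElement


/-- Let K be a subgroup of the finite group H with O_p(K) = 1 and Y a p-subgroup of N_H(K) with [K, Y, Y] = 1. Then [K, Y] = 1. -/
theorem result {H : Type*} [Group H] [Finite H] {p : ℕ} [Fact p.Prime] (K : Subgroup H) (hO : Cfsg.pCore p ↥K = ⊥) (Y : Subgroup H) (hY : IsPGroup p ↥Y) (hYK : Y ≤ Subgroup.normalizer (K : Set H)) (hq : ⁅⁅K, Y⁆, Y⁆ = ⊥) : ⁅K, Y⁆ = ⊥ := by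
  set N := ⁅K, Y⁆ with hN
  have hKN : K ≤ normalizer (N : Set H) := normalizer_commutator_ge_left _ _
  have hNK : N ≤ K := commutator_le_left_of_le hYK
  have hYcN : Y ≤ Subgroup.centralizer (N : Set H) := by
    rw [← commutator_eq_bot_iff_le_centralizer, commutator_comm]; exact hq
  -- conjugates of elements of Y under K centralize N
  have hYx : ∀ x ∈ K, ∀ y ∈ Y, x * y * x⁻¹ ∈ Subgroup.centralizer (N : Set H) := by
    intro x hx y hy
    exact conj_mem_of_le_normalizer (le_normalizer_centralizer hKN) hx (hYcN hy)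
  have hgen : ∀ x ∈ K, ∀ y ∈ Y, ⁅x, y⁆ ∈ Subgroup.centralizer (N : Set H) := by
    intro x hx y hy
    rw [commutatorElement_def]
    exact (Subgroup.centralizer (N : Set H)).mul_mem (hYx x hx y hy) ((Subgroup.centralizer (N : Set H)).inv_mem (hYcN hy))
  have hNab : N ≤ Subgroup.centralizer (N : Set H) := by
    rw [hN, commutator_le]
    exact hgen
  have hNp : IsPGroup p N := by
    rw [isPGroup_iff_pRes_eq_bot, eq_bot_iff]
    -- the set of p-elements of N is a subgroup as N is abelian
    have hS : N ≤ (Subgroup.closure {z : H | z ∈ N ∧ ∃ k : ℕ, z ^ p ^ k = 1}) := by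
      rw [hN, commutator_le]
      intro x hx y hy
      apply Subgroup.subset_closure
      refine ⟨commutator_mem_commutator hx hy, ?_⟩
      obtain ⟨k, hk⟩ := hY ⟨y, hy⟩
      refine ⟨k, ?_⟩
      have hk' : y ^ p ^ k = 1 := by simpa using congrArg Subtype.val hk
      have hmem : ⁅x, y⁆ ∈ N := commutator_mem_commutator hx hy
      have hcomm : Commute ⁅x, y⁆ y := by
        have := mem_centralizer_iff.mp (hYcN hy) _ hmem
        exact this
      have e : x * y * x⁻¹ = ⁅x, y⁆ * y := by rw [commutatorElement_def]; group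
      have h1 : (x * y * x⁻¹) ^ p ^ k = 1 := by
        rw [conj_pow, hk']; group
      rw [e, hcomm.mul_pow, hk', mul_one] at h1
      exact h1
    have hS2 : ∀ z ∈ N, ∃ k : ℕ, z ^ p ^ k = 1 := by
      intro z hz
      have hz' := hS hz
      clear hz
      induction hz' using Subgroup.closure_induction with
      | mem z hz => exact hz.2
      | one => exact ⟨0, by simp⟩
      | mul a b ha hb iha ihb =>
        obtain ⟨k, hk⟩ := iha
        obtain ⟨l, hl⟩ := ihb
        have hle : Subgroup.closure {z : H | z ∈ N ∧ ∃ k : ℕ, z ^ p ^ k = 1} ≤ N := by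
          rw [closure_le]; intro z hz; exact hz.1
        have hab : Commute a b := by
          have := mem_centralizer_iff.mp (hNab (hle hb)) _ (hle ha)
          exact this
        refine ⟨k + l, ?_⟩
        rw [hab.mul_pow, pow_add, pow_mul, hk, one_pow, one_mul, mul_comm, pow_mul, hl, one_pow]
      | inv a ha iha =>
        obtain ⟨k, hk⟩ := iha
        exact ⟨k, by rw [inv_pow, hk, inv_one]⟩
    rw [pRes_le_iff]
    intro z hz ho
    obtain ⟨k, hk⟩ := hS2 z hz
    exact mem_of_coprime_of_pow_mem ho (k := k) (by rw [hk]; exact one_mem _)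
  have h1 : N ≤ pCoreOf p K := le_pCoreOf hNK hKN hNp
  have h2 : pCoreOf p K = ⊥ := by
    unfold pCoreOf
    rw [hO, Subgroup.map_bot]
  exact le_bot_iff.mp (h2 ▸ h1)

end Cfsg.Agent.S2813
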