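import Cfsg.Statements.S2814
import Cfsg.Agent.Lib.LocMore

set_option autoImplicit false
open Cfsg

namespace Cfsg.Agent.S2814

open Subgroup Cfsg.Agent.Lib.LocBase Cfsg.Agent.Lib.PIrred Cfsg.Agent.Lib.PReduced Cfsg.Agent.Lib.LocTrace Cfsg.Agent.Lib.LocMore
open scoped commutatorElement


/-- Let A be a subgroup of the finite group H and K the subnormal closure of A (intersection of the subnormal subgroups containing A). Then K is the normal closure of A inside K and N_H(A) ≤ N_H(K); K = A·O^p(K), O^p(K) being generated by the elements of K of order prime to p; and if A is a p-group, O^p(K) = [O^p(K), A]. -/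
theorem result {H : Type*} [Group H] [Finite H] {p : ℕ} [Fact p.Prime] (A : Subgroup H) (K : Subgroup H) (hK : K = Cfsg.subnormalClosure A) : (Subgroup.normalClosure ((A.subgroupOf K : Subgroup ↥K) : Set ↥K)).map K.subtype = K ∧ Subgroup.normalizer (A : Set H) ≤ Subgroup.normalizer (K : Set H) ∧ A ⊔ (Cfsg.pResidual p ↥K).map K.subtype = K ∧ (IsPGroup p ↥A → ⁅(Cfsg.pResidual p ↥K).map K.subtype, A⁆ = (Cfsg.pResidual p ↥K).map K.subtype) := by
  have hKs : K.IsSubnormal ∧ A ≤ K ∧ ∀ K' : Subgroup H, A ≤ K' → K'.IsSubnormal → K ≤ K' := by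
    have hfin : Set.Finite {K : Subgroup H | A ≤ K ∧ K.IsSubnormal} := Set.toFinite _
    obtain ⟨K₀, hK₀⟩ := hfin.exists_minimal ⟨⊤, le_top, IsSubnormal.top⟩
    have h1 : ∀ K' : Subgroup H, A ≤ K' → K'.IsSubnormal → K₀ ≤ K' := by
      intro K' h2 h3
      have h4 := hK₀.2 (y := K₀ ⊓ K') ⟨le_inf hK₀.1.1 h2, hK₀.1.2.inf h3⟩ inf_le_left
      exact h4.trans inf_le_right
    have h2 : K = K₀ := by
      rw [hK]
      unfold Cfsg.subnormalClosure
      apply le_antisymm
      · exact sInf_le hK₀.1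
      · exact le_sInf fun K' hK' => h1 K' hK'.1 hK'.2
    rw [h2]
    exact ⟨hK₀.1.2, hK₀.1.1, h1⟩
  obtain ⟨hKsub, hAK, hmin⟩ := hKs
  clear hK
  have hKS : Subn K ⊤ := subn_top_iff.mpr hKsub
  have hminS : ∀ K' : Subgroup H, A ≤ K' → Subn K' K → K' = K := by
    intro K' h1 h2
    exact le_antisymm h2.le (hmin K' h1 (subn_top_iff.mp (h2.trans hKS)))
  rw [map_pResidual, map_normalClosure_subgroupOf hAK]
  have hncl : ncl K A = K := by
    apply hminS _ (le_ncl K A)
    exact Subn.of_normal (ncl_le hAK le_normalizer) (le_normalizer_ncl K A)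
  have hnorm : Subgroup.normalizer (A : Set H) ≤ Subgroup.normalizer (K : Set H) := by
    intro g hg
    have h1 : K.map (MulAut.conj g⁻¹).toMonoidHom ≤ K → K.map (MulAut.conj g⁻¹).toMonoidHom ≤ K := id
    have h2 : K ≤ K.map (MulAut.conj g).toMonoidHom := by
      apply hmin
      · rw [← map_conj_eq_of_mem hg]
        exact Subgroup.map_mono hAK
      · rw [← subn_top_iff]
        have := hKS.map (MulAut.conj g).toMonoidHom
        rwa [← MonoidHom.range_eq_map, MonoidHom.range_eq_top.mpr (MulAut.conj g).surjective] at this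
    have h3 := mem_normalizer_of_map_conj_le (A := K) (k := g⁻¹) (by
      rw [map_conj_le_iff, inv_inv]; exact h2)
    simpa using Subgroup.inv_mem _ h3
  have hsup : A ⊔ pRes p K = K := by
    apply hminS _ le_sup_left
    apply Subn.of_pRes_le (p := p) (sup_le hAK (pRes_le p K)) le_sup_right
  refine ⟨hncl, hnorm, hsup, ?_⟩
  intro hAp
  set N := ⁅pRes p K, A⁆ with hN
  have hNle : N ≤ pRes p K := commutator_le_left_of_le (hAK.trans (le_normalizer_pRes p K))
  have hN1 : pRes p K ≤ normalizer (N : Set H) := normalizer_commutator_ge_left _ _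
  have hN2 : A ≤ normalizer (N : Set H) := normalizer_commutator_ge_right _ _
  have hNA : Subn (N ⊔ A) K := by
    apply Subn.of_normal (sup_le (hNle.trans (pRes_le p K)) hAK)
    rw [← hsup]
    apply sup_le
    · exact le_sup_right.trans le_normalizer
    · rw [le_normalizer_iff_commutator_le_right, commutator_le]
      intro g hg y hy
      obtain ⟨r, hr, z, hz, rfl⟩ := exists_mul_of_mem_sup_of_le hN2 hy
      rw [commutatorElement_mul_right_eq_mul_conj]
      have h1 : ⁅g, r⁆ ∈ N := (commutator_le_right_of_le hN1) (commutator_mem_commutator hg hr)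
      have h2 : ⁅g, z⁆ ∈ N := commutator_mem_commutator hg hz
      have h3 : r * ⁅g, z⁆ * r⁻¹ ∈ N := N.mul_mem (N.mul_mem hr h2) (N.inv_mem hr)
      have h4 := (le_sup_left : N ≤ N ⊔ A) (N.mul_mem h1 h3)
      simpa [mul_assoc] using h4
  have hNK : N ⊔ A = K := hminS _ le_sup_right hNA
  apply le_antisymm hNle
  apply pRes_le_of_pow_mem
  intro x hx
  rw [← hNK] at hx
  obtain ⟨n, hn, d, hd, rfl⟩ := exists_mul_of_mem_sup_of_le hN2 hx
  obtain ⟨k, hk⟩ := hAp ⟨d, hd⟩
  refine ⟨k, ?_⟩
  have ht' : d ^ p ^ k = 1 := by simpa using congrArg Subtype.val hk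
  have h1 := mul_pow_mem_coset (S := N) (r := d) (s := n) hn (hN2 hd) (p ^ k)
  rwa [ht', inv_one, mul_one] at h1

end Cfsg.Agent.S2814
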