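import Cfsg.Statements.S2815
import Cfsg.Agent.Lib.AmbFStar
import Cfsg.Agent.Lib.PIrred

set_option autoImplicit false
open Cfsg

namespace Cfsg.Agent.S2815

open Subgroup Cfsg.Agent.Lib.LocBase Cfsg.Agent.Lib.LocMore Cfsg.Agent.Lib.AmbFStar Cfsg.Agent.Lib.PReduced Cfsg.Agent.Lib.PIrred
open scoped commutatorElement

/-- Let H be a finite group and p a prime dividing its order with O_p(H) = 1, and suppose K = O^p(H) (generated by the elements of order prime to p) is quasisimple. Then K = F*(H); for every nontrivial p-subgroup Y of H, K = [K, Y] and K lies in the subgroup generated by the K-conjugates of Y; every normal subgroup of H not containing K has order prime to p; and H is p-irreducible. -/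
theorem result {H : Type*} [Group H] [Finite H] {p : ℕ} [Fact p.Prime] (hp : p ∣ Nat.card H) (hO : Cfsg.pCore p H = ⊥) (hq : Cfsg.IsQuasisimple ↥(Cfsg.pResidual p H)) : Cfsg.pResidual p H = Cfsg.generalizedFittingSubgroup H ∧ (∀ Y : Subgroup H, IsPGroup p ↥Y → Y ≠ ⊥ → ⁅Cfsg.pResidual p H, Y⁆ = Cfsg.pResidual p H ∧ Cfsg.pResidual p H ≤ ⨆ k : ↥(Cfsg.pResidual p H), Y.map (MulAut.conj (k : H)).toMonoidHom) ∧ (∀ C : Subgroup H, C.Normal → ¬ Cfsg.pResidual p H ≤ C → (Nat.card ↥C).Coprime p) ∧ Cfsg.IsPIrreducible p H := by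
  rename_i hp'
  set K := Cfsg.pResidual p H with hK
  have hKn : K.Normal := pResidual_normal' p H
  have htop : ∀ N : Subgroup H, N.Normal → (⊤ : Subgroup H) ≤ normalizer (N : Set H) := by
    intro N hN
    rw [top_le_iff, normalizer_eq_top_iff]; exact hN
  have hO' : pCoreOf p (⊤ : Subgroup H) = ⊥ := by rw [pCoreOf_top]; exact hO
  have hKc : Comp K ⊤ := ⟨Subn.of_normal le_top (htop K hKn), hq⟩
  have hFF : FF (⊤ : Subgroup H) ≤ K := by
    intro x hx
    apply Subgroup.subset_closure
    have h1 : orderOf (⟨x, hx⟩ : ↥(FF (⊤ : Subgroup H))) ∣ Nat.card ↥(FF (⊤ : Subgroup H)) := _root_.orderOf_dvd_natCard _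
    rw [Subgroup.orderOf_mk] at h1
    exact Nat.Coprime.coprime_dvd_left h1 (FF_coprime hO')
  have hEE : EE (⊤ : Subgroup H) ≤ K := by
    rw [EE_le_iff]
    intro L hL
    have h1 : pRes p L = L := pRes_of_perfect hL.perfect
    rw [← h1, hK, pResidual_eq]
    exact pRes_mono le_top
  have hFS : K = FS (⊤ : Subgroup H) := by
    apply le_antisymm
    · rw [FS_eq]; exact hKc.le_EE.trans le_sup_left
    · rw [FS_eq]; exact sup_le hEE hFF
  have hZ : ∀ N : Subgroup H, N.Normal → N ≤ K → N ≤ centralizer (K : Set H) → (Nat.card ↥N).Coprime p := by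
    intro N hN hNK hNc
    have h1 : N ≤ FF (⊤ : Subgroup H) := by
      apply le_FF le_top (htop N hN)
      exact Cfsg.Agent.Lib.Layer.isNilpotent_of_le_centralizer (hNc.trans (Subgroup.centralizer_le hNK))
    exact Nat.Coprime.coprime_dvd_left (Subgroup.card_dvd_of_le h1) (FF_coprime hO')
  have hcK : centralizer (K : Set H) ≤ K := by
    have := centralizer_FS (⊤ : Subgroup H)
    rwa [top_inf_eq, ← hFS] at this
  have hC : ∀ C : Subgroup H, C.Normal → ¬ K ≤ C → (Nat.card ↥C).Coprime p := by
    intro C hCn hKC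
    have h1 : K ⊓ C ≤ centralizer (K : Set H) := by
      refine (quasi_normal hq inf_le_left (le_normalizer_inf Subgroup.le_normalizer (le_top.trans (htop C hCn)))).resolve_left ?_
      intro e
      exact hKC (by rw [← e]; exact inf_le_right)
    have h2 : ⁅⁅C, K⁆, K⁆ = ⊥ := by
      rw [commutator_eq_bot_iff_le_centralizer]
      refine le_trans (le_inf ?_ ?_) h1
      · exact commutator_le_right_of_le (le_top.trans (htop K hKn))
      · exact commutator_le_left_of_le (le_top.trans (htop C hCn))
    have h3 := Cfsg.Agent.Lib.Components.commutator_eq_bot_of_perfect hKc.perfect h2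
    rw [commutator_eq_bot_iff_le_centralizer] at h3
    exact hZ C hCn (h3.trans hcK) h3
  refine ⟨by rw [hFS, FS_top], ?_, hC, ?_, ?_⟩
  · intro Y hY hY1
    have h1 : ⁅K, Y⁆ = K := by
      rcases quasi_normal hq (commutator_le_left_of_le (le_top.trans (htop K hKn))) (normalizer_commutator_ge_left K Y) with h | h
      · exact h
      · exfalso
        have h2 : ⁅⁅Y, K⁆, K⁆ = ⊥ := by
          rw [commutator_comm Y K, commutator_eq_bot_iff_le_centralizer]; exact h
        have h3 := Cfsg.Agent.Lib.Components.commutator_eq_bot_of_perfect hKc.perfect h2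
        rw [commutator_eq_bot_iff_le_centralizer] at h3
        exact hY1 (eq_bot_of_centralizes hO' hY le_top (by rw [← hFS]; exact h3))
    refine ⟨h1, ?_⟩
    change K ≤ ncl K Y
    conv_lhs => rw [← h1]
    exact (commutator_mono le_rfl (le_ncl K Y)).trans (commutator_le_right_of_le (le_normalizer_ncl K Y))
  · intro hcl
    obtain ⟨P⟩ : Nonempty (Sylow p H) := inferInstance
    have h1 := le_pCore (hcl P) P.2
    rw [hO] at h1
    have h2 : (P : Subgroup H) = ⊥ := le_bot_iff.mp h1
    exact P.ne_bot_of_dvd_card hp h2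
  · intro N hN hcl
    by_contra hne
    apply hcl
    have h1 := hC N hN hne
    intro P
    have h2 : (P : Subgroup ↥N) = ⊥ := by
      rw [← Subgroup.card_eq_one]
      obtain ⟨n, hn⟩ := IsPGroup.iff_card.mp P.2
      have h3 : Nat.card ↥(P : Subgroup ↥N) ∣ Nat.card ↥N := Subgroup.card_subgroup_dvd_card _
      exact Nat.eq_one_of_dvd_coprimes (h1.pow_right n) h3 (dvd_of_eq hn)
    rw [h2]; infer_instance

end Cfsg.Agent.S2815
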