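import Cfsg.Statements.S2816
import Cfsg.Agent.Lib.AmbFStar

set_option autoImplicit false
open Cfsg

namespace Cfsg.Agent.S2816

open Subgroup Cfsg.Agent.Lib.LocBase Cfsg.Agent.Lib.LocMore Cfsg.Agent.Lib.AmbFStar
open scoped commutatorElement

/-- Let H be a finite group and p a prime with O_p(H) = 1, and Y a p-subgroup of H. Then for every subnormal subgroup K of H containing Y, [F*(H), Y] = [F*(K), Y] = [F*(K), Y, Y]; and if Y₀ ≤ Y with [F*(H), Y, Y₀] = 1 then Y₀ = 1 (in particular [F*(H), Y] = 1 forces Y = 1). -/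
theorem result {H : Type*} [Group H] [Finite H] {p : ℕ} [Fact p.Prime] (hO : Cfsg.pCore p H = ⊥) (Y : Subgroup H) (hY : IsPGroup p ↥Y) : (∀ K : Subgroup H, K.IsSubnormal → Y ≤ K → ⁅Cfsg.generalizedFittingSubgroup H, Y⁆ = ⁅(Cfsg.generalizedFittingSubgroup ↥K).map K.subtype, Y⁆ ∧ ⁅(Cfsg.generalizedFittingSubgroup ↥K).map K.subtype, Y⁆ = ⁅⁅(Cfsg.generalizedFittingSubgroup ↥K).map K.subtype, Y⁆, Y⁆) ∧ (∀ Y₀ : Subgroup H, Y₀ ≤ Y → ⁅⁅Cfsg.generalizedFittingSubgroup H, Y⁆, Y₀⁆ = ⊥ → Y₀ = ⊥) := by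
  have hO' : pCoreOf p (⊤ : Subgroup H) = ⊥ := by rw [pCoreOf_top]; exact hO
  have hYn : Y ≤ normalizer ((⊤ : Subgroup H) : Set H) := by rw [normalizer_eq_top]; exact le_top
  have hFn : Subn (FS (⊤ : Subgroup H)) ⊤ := Subn.of_normal le_top (Subgroup.le_normalizer.trans (FS_norm ⊤))
  have hs := sup_eq hO' hY hYn le_rfl hFn (hYn.trans (FS_norm ⊤))
  have hid := commutator_idem_of_sup_eq (hYn.trans (FS_norm ⊤)) hs
  rw [← FS_top H]
  refine ⟨?_, ?_⟩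
  · intro K hK hYK
    have hK' : Subn K ⊤ := subn_top_iff.mpr hK
    change ⁅FS (⊤ : Subgroup H), Y⁆ = ⁅FS K, Y⁆ ∧ ⁅FS K, Y⁆ = ⁅⁅FS K, Y⁆, Y⁆
    have h1 : ⁅FS (⊤ : Subgroup H), Y⁆ ≤ K := hK'.commutator_le_of_idem le_top hYK hid
    have h2 : ⁅FS (⊤ : Subgroup H), Y⁆ ≤ FS K := by
      rw [FS_subn hK']
      exact le_inf (commutator_le_left_of_le (hYn.trans (FS_norm ⊤))) h1
    have h3 : ⁅FS (⊤ : Subgroup H), Y⁆ = ⁅FS K, Y⁆ := by
      apply le_antisymm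
      · rw [← hid]; exact commutator_mono h2 le_rfl
      · apply commutator_mono _ le_rfl
        rw [FS_subn hK']; exact inf_le_left
    exact ⟨h3, by rw [← h3]; exact hid.symm⟩
  · intro Y₀ hY₀ h0
    apply eq_bot_of_centralizes hO' (hY.to_le hY₀) le_top
    rw [le_centralizer_iff, ← hs]
    apply sup_le
    · rwa [commutator_eq_bot_iff_le_centralizer] at h0
    · exact inf_le_right.trans (Subgroup.centralizer_le hY₀)

end Cfsg.Agent.S2816
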