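import Cfsg.Statements.S2817
import Cfsg.Agent.Lib.AmbFStar
import Cfsg.Agent.Lib.PIrred

set_option autoImplicit false
open Cfsg

namespace Cfsg.Agent.S2817

open Subgroup Cfsg.Agent.Lib.LocBase Cfsg.Agent.Lib.LocMore Cfsg.Agent.Lib.AmbFStar Cfsg.Agent.Lib.PReduced Cfsg.Agent.Lib.PIrred
open scoped commutatorElement

variable {G : Type*} [Group G] [Finite G] {p : ℕ} [hp : Fact p.Prime]

/-- `L = [L,Q]` with `L/L'` a `p'`-group: fixed points of `Q` in `L` lie in `L'`. -/
theorem fixed_le_commutator {L Q A X : Subgroup G} (hQ : IsPGroup p Q) (hQL : Q ≤ normalizer (L : Set G)) (hLQ : ⁅L, Q⁆ = L)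
    (hA : A ≤ L) (hAc : (Nat.card ↥A).Coprime p) (hLA : L ≤ ⁅L, L⁆ ⊔ A) (hX : X ≤ L) (hXQ : X ≤ centralizer (Q : Set G)) :
    X ≤ ⁅L, L⁆ := by
  set N := ⁅L, L⁆ with hN
  have hNL : N ≤ L := commutator_le_left_of_le Subgroup.le_normalizer
  have hLN : L ≤ normalizer (N : Set G) := normalizer_commutator_ge_left L L
  have hQN : Q ≤ normalizer (N : Set G) := le_normalizer_commutator hQL hQL
  set NN := normalizer (N : Set G) with hNN
  have hNNN : N ≤ NN := Subgroup.le_normalizer
  have hnorm : (N.subgroupOf NN).Normal := normal_subgroupOf_of_le_normalizer le_rfl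
  set π := QuotientGroup.mk' (N.subgroupOf NN) with hπ
  have hπk : ∀ x : ↥NN, π x = 1 ↔ (x : G) ∈ N := by
    intro x
    rw [hπ, ← MonoidHom.mem_ker, QuotientGroup.ker_mk']; rfl
  set V := (L.subgroupOf NN).map π with hV
  set A1 := (Q.subgroupOf NN).map π with hA1
  have hQp : IsPGroup p ↥A1 := (hQ.of_equiv (Subgroup.subgroupOfEquivOfLe hQN).symm).map π
  have hcomm : ∀ B C : Subgroup G, B ≤ NN → C ≤ NN → ⁅(B.subgroupOf NN).map π, (C.subgroupOf NN).map π⁆ = ((⁅B, C⁆).subgroupOf NN).map π := by
    intro B C hB hC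
    rw [← Subgroup.map_commutator]
    congr 1
    apply Subgroup.map_injective NN.subtype_injective
    rw [Subgroup.map_commutator, Subgroup.map_subgroupOf_eq_of_le hB, Subgroup.map_subgroupOf_eq_of_le hC,
      Subgroup.map_subgroupOf_eq_of_le]
    exact (commutator_mono hB hC).trans (commutator_le_left_of_le Subgroup.le_normalizer)
  have hVV : ⁅V, V⁆ = ⊥ := by
    rw [hV, hcomm L L hLN hLN, Subgroup.map_eq_bot_iff, hπ, QuotientGroup.ker_mk']
  have hVA : ⁅V, A1⁆ = V := by
    rw [hV, hA1, hcomm L Q hLN hQN, hLQ]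
  have hVcop : (Nat.card ↥A1).Coprime (Nat.card ↥V) := by
    have h1 : V ≤ (A.subgroupOf NN).map π := by
      rintro _ ⟨x, hx, rfl⟩
      have h2 : (x : G) ∈ N ⊔ A := hLA hx
      obtain ⟨n, hn, a, ha, e⟩ := exists_mul_of_mem_sup_of_le (A := N) (B := A) (hA.trans hLN) h2
      have e' : x = (⟨n, hNNN hn⟩ : ↥NN) * ⟨a, hLN (hA ha)⟩ := Subtype.ext e
      refine ⟨⟨a, hLN (hA ha)⟩, ha, ?_⟩
      rw [e', map_mul, (hπk ⟨n, hNNN hn⟩).mpr hn, one_mul]
    have h2 : Nat.card ↥V ∣ Nat.card ↥A := by
      refine (Subgroup.card_dvd_of_le h1).trans ((Subgroup.card_map_dvd _ _).trans (dvd_of_eq ?_))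
      exact Nat.card_congr (Subgroup.subgroupOfEquivOfLe (hA.trans hLN)).toEquiv
    obtain ⟨n, hn⟩ := IsPGroup.iff_card.mp hQp
    rw [hn]
    exact ((Nat.Coprime.coprime_dvd_left h2 hAc).symm).pow_left n
  have hVn : A1 ≤ normalizer (V : Set _) := by
    rw [le_normalizer_iff_commutator_le_left, hVA]
  have hVab : IsMulCommutative ↥V := by
    rw [← le_centralizer_iff_isMulCommutative, ← commutator_eq_bot_iff_le_centralizer]; exact hVV
  have hkey := Cfsg.Agent.Lib.CoprimeAction2.inf_commutator_eq_bot_of_abelian hVn hVcop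
  rw [hVA] at hkey
  intro x hx
  have hxN : x ∈ NN := hLN (hX hx)
  have h1 : π ⟨x, hxN⟩ ∈ (V ⊓ centralizer (A1 : Set _)) ⊓ V := by
    have h2 : π ⟨x, hxN⟩ ∈ V := ⟨_, hX hx, rfl⟩
    refine ⟨⟨h2, ?_⟩, h2⟩
    change π ⟨x, hxN⟩ ∈ centralizer (A1 : Set _)
    rw [mem_centralizer_iff]
    rintro _ ⟨q, hq, rfl⟩
    rw [← map_mul, ← map_mul]
    congr 1
    exact Subtype.ext (mem_centralizer_iff.mp (hXQ hx) q hq)
  rw [hkey, mem_bot] at h1
  exact (hπk _).mp h1

/-- Let H be a finite group and p a prime with O_p(H) = 1, Q a p-subgroup of H, L = [F*(H), Q], and F the largest normal subgroup of F*(H) centralized by Q (a normal subgroup of F*(H) centralized by Q and containing every such). Then F = C_{F*(H)}(LQ); L = [L, Q]; L ∩ F ≤ Φ(L); every p-subgroup B of N_H(Q) with [L, B] ≤ F satisfies [L, B] = 1; and C_H(FL) has order prime to p. -/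
theorem result {H : Type*} [Group H] [Finite H] {p : ℕ} [Fact p.Prime] (hO : Cfsg.pCore p H = ⊥) (Q : Subgroup H) (hQ : IsPGroup p ↥Q) (L : Subgroup H) (hL : L = ⁅Cfsg.generalizedFittingSubgroup H, Q⁆) (F : Subgroup H) (hF : F ≤ Cfsg.generalizedFittingSubgroup H ∧ Cfsg.generalizedFittingSubgroup H ≤ Subgroup.normalizer (F : Set H) ∧ Q ≤ Subgroup.centralizer (F : Set H) ∧ ∀ N : Subgroup H, N ≤ Cfsg.generalizedFittingSubgroup H → Cfsg.generalizedFittingSubgroup H ≤ Subgroup.normalizer (N : Set H) → Q ≤ Subgroup.centralizer (N : Set H) → N ≤ F) : F = Cfsg.generalizedFittingSubgroup H ⊓ Subgroup.centralizer ((L ⊔ Q : Subgroup H) : Set H) ∧ ⁅L, Q⁆ = L ∧ L ⊓ F ≤ (frattini ↥L).map L.subtype ∧ (∀ B : Subgroup H, IsPGroup p ↥B → B ≤ Subgroup.normalizer (Q : Set H) → ⁅L, B⁆ ≤ F → ⁅L, B⁆ = ⊥) ∧ (Nat.card ↥(Subgroup.centralizer ((F ⊔ L : Subgroup H) : Set H))).Coprime p := by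
  have hO' : pCoreOf p (⊤ : Subgroup H) = ⊥ := by rw [pCoreOf_top]; exact hO
  have hQn : Q ≤ normalizer ((⊤ : Subgroup H) : Set H) := by rw [normalizer_eq_top]; exact le_top
  rw [← FS_top H] at hL hF ⊢
  set S := FS (⊤ : Subgroup H) with hS
  have hSn : ∀ X : Subgroup H, X ≤ normalizer (S : Set H) := fun X =>
    (show X ≤ normalizer ((⊤ : Subgroup H) : Set H) by rw [normalizer_eq_top]; exact le_top).trans (FS_norm ⊤)
  have hFn : Subn S ⊤ := Subn.of_normal le_top (hSn _)
  have hs : ⁅S, Q⁆ ⊔ (S ⊓ centralizer (Q : Set H)) = S := sup_eq hO' hQ hQn le_rfl hFn (hSn _)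
  have hid := commutator_idem_of_sup_eq (hSn Q) hs
  rw [← hL] at hs hid
  obtain ⟨hFS, hSF, hQF, hFmax⟩ := hF
  have hLS : L ≤ S := by rw [hL]; exact commutator_le_left_of_le (hSn _)
  have hSL : S ≤ normalizer (L : Set H) := by rw [hL]; exact normalizer_commutator_ge_left S Q
  have hQL : Q ≤ normalizer (L : Set H) := by rw [hL]; exact normalizer_commutator_ge_right S Q
  have hLsub : Subn L ⊤ := (Subn.of_normal hLS hSL).trans hFn
  have hFL : F ≤ centralizer (L : Set H) := by
    rw [le_centralizer_iff, ← commutator_eq_bot_iff_le_centralizer, hL]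
    apply Cfsg.Agent.Lib.CoprimeAction2.commutator_commutator_eq_bot
    · rw [commutator_eq_bot_iff_le_centralizer.mpr hQF, commutator_bot_left]
    · rw [commutator_eq_bot_iff_le_centralizer]
      refine le_trans (commutator_le_left_of_le hSF) ?_
      rw [le_centralizer_iff]; exact hQF
  have hFQ : F ≤ centralizer (Q : Set H) := by rw [le_centralizer_iff]; exact hQF
  have h1 : F = S ⊓ centralizer ((L ⊔ Q : Subgroup H) : Set H) := by
    apply le_antisymm
    · refine le_inf hFS ?_
      rw [le_centralizer_iff]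
      exact sup_le (by rw [le_centralizer_iff]; exact hFL) hQF
    · apply hFmax _ inf_le_left
      · conv_lhs => rw [← hs]
        apply sup_le
        · refine le_trans ?_ (centralizer_le_normalizer _)
          rw [le_centralizer_iff]
          exact inf_le_right.trans (Subgroup.centralizer_le (le_sup_left : L ≤ L ⊔ Q))
        · apply le_normalizer_inf (hSn _)
          apply le_normalizer_centralizer
          exact le_normalizer_sup (inf_le_left.trans hSL) (inf_le_right.trans (centralizer_le_normalizer _))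
      · rw [le_centralizer_iff]
        exact inf_le_right.trans (Subgroup.centralizer_le (le_sup_right : Q ≤ L ⊔ Q))
  -- the abelian-by part
  have hLeq := subn_eq hLsub hLS
  set A := FF (⊤ : Subgroup H) ⊓ L with hA
  have hAcop : (Nat.card ↥A).Coprime p := Nat.Coprime.coprime_dvd_left (Subgroup.card_dvd_of_le inf_le_left) (FF_coprime hO')
  have hEEL : EE L ≤ ⁅L, L⁆ := by
    rw [EE_le_iff]
    intro K hK
    calc K = ⁅K, K⁆ := hK.perfect.symm
      _ ≤ _ := commutator_mono hK.le hK.le
  have hXL' : L ⊓ F ≤ ⁅L, L⁆ :=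
    fixed_le_commutator (A := A) hQ hQL hid inf_le_right hAcop (hLeq.le.trans (sup_le_sup_right hEEL _)) inf_le_left
      (inf_le_right.trans hFQ)
  have hXc : L ⊓ F ≤ centralizer (L : Set H) := inf_le_right.trans hFL
  refine ⟨h1, hid, ?_, ?_, ?_⟩
  · -- L ∩ F ≤ Φ(L)
    rintro x hx
    have hxL : x ∈ L := hx.1
    refine ⟨⟨x, hxL⟩, ?_, rfl⟩
    have hcomm : ∀ M : Subgroup ↥L, IsCoatom M → (⟨x, hxL⟩ : ↥L) ∈ M := by
      intro M hM
      by_contra hne
      set X' := (L ⊓ F).subgroupOf L with hX'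
      have hsup : M ⊔ X' = ⊤ := by
        apply hM.2
        refine lt_of_le_of_ne le_sup_left fun e => hne ?_
        rw [e]; exact (le_sup_right : X' ≤ M ⊔ X') hx
      have hX'c : ∀ z ∈ X', ∀ l : ↥L, l * z = z * l := fun z hz l =>
        Subtype.ext (mem_centralizer_iff.mp (hXc hz) l l.2)
      have hLM : ⁅(⊤ : Subgroup ↥L), ⊤⁆ ≤ M := by
        rw [Subgroup.commutator_le]
        intro a _ b _
        have ha : a ∈ M ⊔ X' := by rw [hsup]; exact mem_top a
        have hb : b ∈ M ⊔ X' := by rw [hsup]; exact mem_top b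
        have hX'n : X' ≤ normalizer (M : Set ↥L) := by
          intro z hz
          rw [mem_normalizer_iff]
          intro m
          have : z * m * z⁻¹ = m := by rw [← hX'c z hz m]; group
          rw [this]
        obtain ⟨m, hm, z, hz, rfl⟩ := exists_mul_of_mem_sup_of_le hX'n ha
        obtain ⟨m', hm', z', hz', rfl⟩ := exists_mul_of_mem_sup_of_le hX'n hb
        have e : ⁅m * z, m' * z'⁆ = ⁅m, m'⁆ := by
          have e1 := hX'c z hz
          have e2 := hX'c z' hz'
          rw [commutatorElement_def, commutatorElement_def]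
          calc m * z * (m' * z') * (m * z)⁻¹ * (m' * z')⁻¹ = m * (z * (m' * z')) * z⁻¹ * m⁻¹ * (z'⁻¹ * m'⁻¹) := by group
            _ = m * ((m' * z') * z) * z⁻¹ * m⁻¹ * (z'⁻¹ * m'⁻¹) := by rw [← e1 (m' * z')]
            _ = m * m' * (z' * m⁻¹) * z'⁻¹ * m'⁻¹ := by group
            _ = m * m' * (m⁻¹ * z') * z'⁻¹ * m'⁻¹ := by rw [e2 m⁻¹]
            _ = _ := by group
        rw [e, commutatorElement_def]
        exact mul_mem (mul_mem (mul_mem hm hm') (inv_mem hm)) (inv_mem hm')
      have h3 := map_mono (f := L.subtype) hLM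
      rw [Subgroup.map_commutator, ← MonoidHom.range_eq_map, Subgroup.range_subtype] at h3
      obtain ⟨y, hy, e⟩ := h3 (hXL' hx)
      apply hne
      have : (⟨x, hxL⟩ : ↥L) = y := Subtype.ext e.symm
      rw [this]; exact hy
    unfold frattini Order.radical
    simp only [SetLike.mem_coe, Subgroup.mem_iInf]
    exact hcomm
  · intro B hB hBQ hLB
    have hBL : B ≤ normalizer (L : Set H) := by
      rw [hL]; exact le_normalizer_commutator (hSn B) hBQ
    have hBX : B ≤ normalizer ((L ⊓ F : Subgroup H) : Set H) := by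
      apply le_normalizer_inf hBL
      rw [h1]
      exact le_normalizer_inf (hSn B) (le_normalizer_centralizer (le_normalizer_sup hBL hBQ))
    have hQX : Q ≤ normalizer ((L ⊓ F : Subgroup H) : Set H) :=
      le_normalizer_inf hQL (hQF.trans (centralizer_le_normalizer _))
    have hLBX : ⁅L, B⁆ ≤ L ⊓ F := le_inf (commutator_le_left_of_le hBL) hLB
    set Q₀ := ⁅Q, B⁆ with hQ₀
    have hQ₀Q : Q₀ ≤ Q := commutator_le_left_of_le hBQ
    have hLQ₀ : ⁅L, Q₀⁆ ≤ L ⊓ F := by
      have h4 : ⁅L, ncl (Q ⊔ B) B⁆ ≤ L ⊓ F :=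
        commutator_ncl_le (sup_le hQL hBL) (sup_le hQX hBX) le_sup_right hLBX
      refine le_trans (commutator_mono le_rfl ?_) h4
      exact (commutator_mono le_rfl (le_ncl _ _)).trans (commutator_le_right_of_le (le_sup_left.trans (le_normalizer_ncl _ _)))
    have hbot : ⁅L, Q₀⁆ = ⊥ := by
      have h5 := sup_eq hO' (hQ.to_le hQ₀Q) (hQ₀Q.trans hQn) hLS hLsub (hQ₀Q.trans hQL)
      have h6 := commutator_idem_of_sup_eq (hQ₀Q.trans hQL) h5
      rw [← h6, commutator_eq_bot_iff_le_centralizer]
      exact hLQ₀.trans (inf_le_right.trans (hFQ.trans (Subgroup.centralizer_le hQ₀Q)))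
    have h5 := sup_eq hO' hB (by rw [normalizer_eq_top]; exact le_top) hLS hLsub hBL
    set C₀ := L ⊓ centralizer (B : Set H) with hC₀
    have h6 : L ≤ ⁅C₀, Q⁆ := by
      conv_lhs => rw [← hid]
      rw [Subgroup.commutator_le]
      intro l hl q hq
      have hl' : l ∈ ⁅L, B⁆ ⊔ C₀ := by rw [h5]; exact hl
      obtain ⟨x, hx, c, hc, rfl⟩ := exists_mul_of_mem_sup_of_le (inf_le_left.trans (normalizer_commutator_ge_left L B)) hl'
      have hxX := hLBX hx
      have e1 : x * q = q * x := (mem_centralizer_iff.mp (hFQ hxX.2) q hq).symm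
      have hLx : ∀ l ∈ L, l * x = x * l := fun l hl => mem_centralizer_iff.mp (hXc hxX) l hl
      have hcq : ⁅c, q⁆ ∈ L := commutator_le_left_of_le hQL (commutator_mem_commutator hc.1 hq)
      have e : ⁅x * c, q⁆ = ⁅c, q⁆ := by
        have e2 : ⁅x * c, q⁆ = x * ⁅c, q⁆ * (q * x⁻¹ * q⁻¹) := by rw [commutatorElement_def, commutatorElement_def]; group
        have e3 : q * x⁻¹ * q⁻¹ = x⁻¹ := by
          have : q * x⁻¹ = x⁻¹ * q := by
            have := congrArg (fun t => x⁻¹ * t * x⁻¹) e1
            simp only [mul_assoc] at this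
            simpa [mul_assoc] using this
          rw [this]; group
        rw [e2, e3, ← hLx _ hcq]; group
      rw [e]
      exact commutator_mem_commutator hc hq
    have h7 : ⁅⁅C₀, Q⁆, B⁆ = ⊥ := by
      apply Cfsg.Agent.Lib.CoprimeAction2.commutator_commutator_eq_bot
      · rw [← le_bot_iff, ← hbot, commutator_comm L Q₀]
        exact commutator_mono le_rfl inf_le_left
      · have : ⁅B, C₀⁆ = ⊥ := by
          rw [commutator_comm, commutator_eq_bot_iff_le_centralizer]; exact inf_le_right
        rw [this, commutator_bot_left]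
    rw [← le_bot_iff, ← h7]
    exact commutator_mono h6 le_rfl
  · obtain ⟨P, hP⟩ := exists_isSyl p (centralizer ((F ⊔ L : Subgroup H) : Set H))
    have hPc := hP.le
    set AA := FF (⊤ : Subgroup H) with hAA
    have hAAn : ∀ X : Subgroup H, X ≤ normalizer (AA : Set H) := fun X =>
      (show X ≤ normalizer ((⊤ : Subgroup H) : Set H) by rw [normalizer_eq_top]; exact le_top).trans (FF_norm ⊤)
    have hAAS : AA ≤ S := by rw [hS, FS_eq]; exact le_sup_right
    have hcopAA : ∀ (R X : Subgroup H), IsPGroup p R → X ≤ AA → (Nat.card ↥R).Coprime (Nat.card ↥X) := by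
      intro R X hR hX
      obtain ⟨n, hn⟩ := IsPGroup.iff_card.mp hR
      rw [hn]
      exact (Nat.Coprime.coprime_dvd_left (Subgroup.card_dvd_of_le hX) (FF_coprime hO')).symm.pow_left n
    have hsolv : ∀ R : Subgroup H, IsPGroup p R → Group.IsSolvable ↥R := by
      intro R hR
      have := hR.isNilpotent; infer_instance
    set D := AA ⊓ (F ⊔ L) with hD
    have hSFL : S ≤ normalizer ((F ⊔ L : Subgroup H) : Set H) := le_normalizer_sup hSF hSL
    have hQF2 : Q ≤ normalizer (F : Set H) := hQF.trans (centralizer_le_normalizer _)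
    have hQD : Q ≤ normalizer (D : Set H) := le_normalizer_inf (hAAn Q) (le_normalizer_sup hQF2 hQL)
    set U := AA ⊓ centralizer (D : Set H) with hU
    have hQU : Q ≤ normalizer (U : Set H) := le_normalizer_inf (hAAn Q) (le_normalizer_centralizer hQD)
    have hUD : U ≤ D := by
      have h4 := Cfsg.Agent.Lib.CoprimeAction2.commutator_sup_centralizer hQU (hcopAA Q U hQ inf_le_left) (Or.inl (hsolv Q hQ))
      rw [← h4]
      apply sup_le
      · apply le_inf
        · exact (commutator_le_left_of_le hQU).trans inf_le_left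
        · refine le_trans ?_ (le_sup_right : L ≤ F ⊔ L)
          rw [hL]; exact commutator_mono (inf_le_left.trans hAAS) le_rfl
      · apply le_inf (inf_le_left.trans inf_le_left)
        refine le_trans ?_ (le_sup_left : F ≤ F ⊔ L)
        rw [h1]
        apply le_inf (inf_le_left.trans (inf_le_left.trans hAAS))
        rw [le_centralizer_iff]
        apply sup_le
        · refine hLeq.le.trans (sup_le ?_ ?_)
          · have h5 : EE L ≤ centralizer (AA : Set H) := (Subn.EE_le hLsub).trans (EE_le_centralizer_FF ⊤)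
            exact h5.trans (Subgroup.centralizer_le (inf_le_left.trans inf_le_left))
          · have h5 : A ≤ D := le_inf inf_le_left (inf_le_right.trans le_sup_right)
            refine h5.trans ?_
            rw [le_centralizer_iff]
            exact inf_le_left.trans inf_le_right
        · rw [le_centralizer_iff]; exact inf_le_right
    have hDP : D ≤ centralizer (P : Set H) := by
      rw [le_centralizer_iff]
      exact hPc.trans (Subgroup.centralizer_le inf_le_right)
    have hAAP : ⁅AA, P⁆ = ⊥ := by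
      apply Cfsg.Agent.Lib.CoprimeAction2.commutator_eq_bot_of_commutator_commutator (hAAn P) (hcopAA P AA hP.pgroup le_rfl)
        (Or.inl (hsolv P hP.pgroup))
      rw [commutator_eq_bot_iff_le_centralizer]
      refine le_trans (le_trans ?_ hUD) hDP
      apply le_inf (commutator_le_left_of_le (hAAn P))
      rw [← commutator_eq_bot_iff_le_centralizer, commutator_comm AA P]
      apply Cfsg.Agent.Lib.CoprimeAction2.commutator_commutator_eq_bot
      · rw [commutator_eq_bot_iff_le_centralizer]
        refine le_trans (commutator_le_right_of_le ?_) hDP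
        exact le_normalizer_inf Subgroup.le_normalizer (hAAS.trans hSFL)
      · rw [commutator_eq_bot_iff_le_centralizer.mpr hDP, commutator_bot_left]
    have hPbot : P = ⊥ := by
      apply eq_bot_of_centralizes hO' hP.pgroup le_top
      rw [le_centralizer_iff, FS_eq]
      apply sup_le
      · rw [EE_le_iff]
        intro K hK
        have hKS : K ≤ S := by rw [hS, FS_eq]; exact hK.le_EE.trans le_sup_left
        have hKFL : K ≤ F ⊔ L := by
          rcases hK.le_commutator_or hQn hKS with h | h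
          · rw [← hL] at h; exact h.trans le_sup_right
          · refine (hFmax K hKS hK.FS_le_normalizer ?_).trans le_sup_left
            rw [le_centralizer_iff]; exact h
        refine hKFL.trans ?_
        rw [le_centralizer_iff]; exact hPc
      · rwa [commutator_eq_bot_iff_le_centralizer] at hAAP
    have h8 := hP.ndvd
    rw [hPbot, Subgroup.relIndex_bot_left] at h8
    exact ((Nat.Prime.coprime_iff_not_dvd (Fact.out : p.Prime)).mpr h8).symm

end Cfsg.Agent.S2817
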