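import Cfsg.Statements.S2818
import Cfsg.Agent.Lib.LocMore
import Cfsg.Agent.Lib.FrattiniQuot

set_option autoImplicit false
open Cfsg

namespace Cfsg.Agent.S2818

open Subgroup Cfsg.Agent.Lib.LocBase Cfsg.Agent.Lib.PIrred Cfsg.Agent.Lib.PReduced Cfsg.Agent.Lib.LocTrace Cfsg.Agent.Lib.LocMore
open scoped commutatorElement


/-- Let P be a finite p-subgroup of a group G and H a subgroup of N_G(P) with [P, H] ≤ Ω₁(Z(P)) (the elements of order dividing p in the centre of P). Then H centralizes the Frattini subgroup of P. -/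
theorem result {G : Type*} [Group G] [Finite G] {p : ℕ} [Fact p.Prime] (P : Subgroup G) (hP : IsPGroup p ↥P) (H : Subgroup G) (hH : H ≤ Subgroup.normalizer (P : Set G)) (h : ⁅P, H⁆ ≤ Cfsg.omegaOne p (P ⊓ Subgroup.centralizer (P : Set G))) : ⁅(frattini ↥P).map P.subtype, H⁆ = ⊥ := by
  rw [commutator_eq_bot_iff_le_centralizer, Subgroup.map_le_iff_le_comap]
  have hO : ⁅P, H⁆ ≤ OZ p P := h
  have key : ∀ x ∈ P, ∀ g ∈ H, ∃ z ∈ OZ p P, g * x * g⁻¹ = z * x := by
    intro x hx g hg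
    refine ⟨⁅g, x⁆, ?_, by rw [commutatorElement_def]; group⟩
    rw [commutator_comm] at hO
    exact hO (commutator_mem_commutator hg hx)
  apply Cfsg.Agent.Lib.FrattiniQuot.frattini_le (Fact.out : p.Prime)
  · intro a b
    rw [mem_comap, mem_centralizer_iff]
    intro g hg
    obtain ⟨z, hz, e1⟩ := key a a.2 g hg
    obtain ⟨w, hw, e2⟩ := key b b.2 g hg
    obtain ⟨_, hz2, _⟩ := mem_OZ.mp hz
    obtain ⟨_, hw2, _⟩ := mem_OZ.mp hw
    have e3 : g * ⁅(a : G), (b : G)⁆ * g⁻¹ = ⁅(a : G), (b : G)⁆ := by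
      rw [conjugate_commutatorElement, e1, e2, commutatorElement_mul_left_eq_conj_mul,
        commutatorElement_mul_right_eq_mul_conj, commutatorElement_mul_right_eq_mul_conj]
      have c1 : ⁅(a : G), w⁆ = 1 := commutatorElement_eq_one_iff_mul_comm.mpr (mem_centralizer_iff.mp hw2 a a.2)
      have c2 : ⁅z, w⁆ = 1 := by
        refine commutatorElement_eq_one_iff_mul_comm.mpr (mem_centralizer_iff.mp hw2 z (mem_OZ.mp hz).1)
      have c3 : ⁅z, (b : G)⁆ = 1 := commutatorElement_eq_one_iff_mul_comm.mpr (mem_centralizer_iff.mp hz2 b b.2).symm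
      have hab : ⁅(a : G), (b : G)⁆ ∈ P := by
        rw [commutatorElement_def]
        exact P.mul_mem (P.mul_mem (P.mul_mem a.2 b.2) (P.inv_mem a.2)) (P.inv_mem b.2)
      have c4 : w * ⁅(a : G), (b : G)⁆ * w⁻¹ = ⁅(a : G), (b : G)⁆ := by
        rw [← mem_centralizer_iff.mp hw2 _ hab]; group
      have c5 : z * ⁅(a : G), (b : G)⁆ * z⁻¹ = ⁅(a : G), (b : G)⁆ := by
        rw [← mem_centralizer_iff.mp hz2 _ hab]; group
      rw [c1, c2, c3]
      simp only [one_mul, mul_one]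
      rw [c4, mul_inv_cancel, mul_one, c5]
    have : (P.subtype ⁅a, b⁆ : G) = ⁅(a : G), (b : G)⁆ := rfl
    rw [this]
    calc g * ⁅(a : G), (b : G)⁆ = (g * ⁅(a : G), (b : G)⁆ * g⁻¹) * g := by group
      _ = _ := by rw [e3]
  · intro a
    rw [mem_comap, mem_centralizer_iff]
    intro g hg
    obtain ⟨z, hz, e1⟩ := key a a.2 g hg
    obtain ⟨_, hz2, hz3⟩ := mem_OZ.mp hz
    have hc : Commute z (a : G) := (mem_centralizer_iff.mp hz2 a a.2).symm
    have e3 : g * (a : G) ^ p * g⁻¹ = (a : G) ^ p := by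
      rw [← conj_pow, e1, hc.mul_pow, hz3, one_mul]
    have : (P.subtype (a ^ p) : G) = (a : G) ^ p := rfl
    rw [this]
    calc g * (a : G) ^ p = (g * (a : G) ^ p * g⁻¹) * g := by group
      _ = _ := by rw [e3]

end Cfsg.Agent.S2818
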