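import Cfsg.Statements.S2819
import Cfsg.Agent.Lib.LocMore
import Cfsg.Agent.Lib.FrattiniQuot

set_option autoImplicit false
open Cfsg

namespace Cfsg.Agent.S2819

open Subgroup Cfsg.Agent.Lib.LocBase Cfsg.Agent.Lib.PIrred Cfsg.Agent.Lib.PReduced Cfsg.Agent.Lib.LocTrace Cfsg.Agent.Lib.LocMore
open scoped commutatorElement


/-- Let P be a finite p-subgroup of a group G, H a subgroup of N_G(P), and Y a subgroup of H centralizing the derived subgroup P' such that [P, Y] is elementary abelian. Then O^p(⟨Y^H⟩), the subgroup of the normal closure of Y in H generated by its elements of order prime to p, centralizes the Frattini subgroup of P. -/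
theorem result {G : Type*} [Group G] [Finite G] {p : ℕ} [Fact p.Prime] (P : Subgroup G) (hP : IsPGroup p ↥P) (H : Subgroup G) (hH : H ≤ Subgroup.normalizer (P : Set G)) (Y : Subgroup G) (hYH : Y ≤ H) (hYc : Y ≤ Subgroup.centralizer ((⁅P, P⁆ : Subgroup G) : Set G)) (hel : Cfsg.IsElementaryAbelian p ⁅P, Y⁆) (NY : Subgroup G) (hNY : NY = (Subgroup.normalClosure ((Y.subgroupOf H : Subgroup ↥H) : Set ↥H)).map H.subtype) : (Cfsg.pResidual p ↥NY).map NY.subtype ≤ Subgroup.centralizer (((frattini ↥P).map P.subtype : Subgroup G) : Set G) := by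
  rw [map_pResidual]
  rw [map_normalClosure_subgroupOf hYH] at hNY
  subst hNY
  set Φ := (frattini ↥P).map P.subtype with hΦ
  have hHΦ : H ≤ normalizer (Φ : Set G) := by
    have hchar : (frattini ↥P).Characteristic := inferInstance
    have h1 : ∀ g ∈ normalizer (P : Set G), Φ.map (MulAut.conj g).toMonoidHom = Φ := by
      intro g hg
      let φ : ↥P ≃* ↥P := (P.normalizerMonoidHom ⟨g, hg⟩ : MulAut ↥P)
      have h2 := characteristic_iff_map_eq.mp hchar φ
      rw [hΦ, Subgroup.map_map]
      conv_rhs => rw [← h2]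
      rw [Subgroup.map_map]
      congr 1
    exact fun g hg => mem_normalizer_of_map_conj_eq (h1 g (hH hg))
  have hNH : ncl H Y ≤ H := ncl_le hYH le_normalizer
  have hPP : H ≤ normalizer ((⁅P, P⁆ : Subgroup G) : Set G) := le_normalizer_commutator hH hH
  -- `N` centralizes `P'`
  have hNc : ncl H Y ≤ Subgroup.centralizer ((⁅P, P⁆ : Subgroup G) : Set G) :=
    ncl_le hYc (le_normalizer_centralizer hPP)
  have hΦP : Φ ≤ P := map_subtype_le _
  have hΦp : IsPGroup p ↥Φ := hP.to_le hΦP
  -- every element y of Y maps x^p into x^p P'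
  have hYΦ : ⁅Φ, Y⁆ ≤ ⁅P, P⁆ := by
    have hPn : P ≤ normalizer ((⁅P, P⁆ : Subgroup G) : Set G) := normalizer_commutator_ge_left _ _
    have hYn : Y ≤ normalizer ((⁅P, P⁆ : Subgroup G) : Set G) := hYH.trans hPP
    let N : Subgroup ↥P :=
      { carrier := {x | ∀ y ∈ Y, ⁅y, (x : G)⁆ ∈ ⁅P, P⁆}
        one_mem' := by intro y hy; simp
        mul_mem' := by
          intro a b ha hb y hy
          rw [Subgroup.coe_mul, commutatorElement_mul_right_eq_mul_conj]
          have h1 := conj_mem_of_le_normalizer hPn a.2 (hb y hy)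
          have h2 := Subgroup.mul_mem _ (ha y hy) h1
          simpa [mul_assoc] using h2
        inv_mem' := by
          intro a ha y hy
          rw [Subgroup.coe_inv]
          have e : ⁅y, (a : G)⁻¹⁆ = (a : G)⁻¹ * ⁅y, (a : G)⁆⁻¹ * a := by
            simp only [commutatorElement_def]; group
          rw [e]
          exact conj_mem_of_le_normalizer' hPn a.2 (Subgroup.inv_mem _ (ha y hy)) }
    have hfr : frattini ↥P ≤ N := by
      apply Cfsg.Agent.Lib.FrattiniQuot.frattini_le (Fact.out : p.Prime)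
      · intro a b y hy
        have h1 : ⁅(a : G), (b : G)⁆ ∈ ⁅P, P⁆ := commutator_mem_commutator a.2 b.2
        exact (commutator_le_right_of_le hYn) (commutator_mem_commutator hy h1)
      · intro a y hy
        have hz : ⁅y, (a : G)⁆ ∈ ⁅P, Y⁆ := by
          rw [commutator_comm]; exact commutator_mem_commutator hy a.2
        have hzp : ⁅y, (a : G)⁆ ^ p = 1 := hel.2 _ hz
        have hzP : ⁅y, (a : G)⁆ ∈ P := (commutator_le_left_of_le (hYH.trans hH)) hz
        set z : ↥P := ⟨⁅y, (a : G)⁆, hzP⟩ with hzdef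
        have hzp' : z ^ p = 1 := Subtype.ext (by simpa using hzp)
        have h1 : (z * a) ^ p * (a ^ p)⁻¹ ∈ commutator ↥P := by
          rw [← Abelianization.ker_of, MonoidHom.mem_ker, map_mul, map_pow, map_mul, mul_pow, map_inv, map_pow,
            ← map_pow, hzp', map_one, one_mul, mul_inv_cancel]
        have h2 : ((z * a) ^ p * (a ^ p)⁻¹ : G) ∈ ⁅P, P⁆ := by
          rw [← Subgroup.map_subtype_commutator]
          exact ⟨_, h1, by simp⟩
        have e : ⁅y, ((a ^ p : ↥P) : G)⁆ = ((z * a) ^ p * (a ^ p)⁻¹ : G) := by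
          have e1 : y * (a : G) * y⁻¹ = (z : G) * a := by
            change y * (a : G) * y⁻¹ = ⁅y, (a : G)⁆ * a
            rw [commutatorElement_def]; group
          rw [commutatorElement_def, Subgroup.coe_pow, ← e1, conj_pow, Subgroup.coe_inv, Subgroup.coe_pow]
        rw [e]; exact h2
    rw [commutator_le]
    rintro _ ⟨x, hx, rfl⟩ y hy
    rw [← commutatorElement_inv]
    exact Subgroup.inv_mem _ (hfr hx y hy)
  have hNΦ : ⁅Φ, ncl H Y⁆ ≤ ⁅P, P⁆ := commutator_ncl_le hHΦ hPP hYH hYΦ
  apply pRes_le_centralizer_of_chain (Q := ⁅P, P⁆) hΦp (hNH.trans hHΦ)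
  · exact (commutator_mono le_rfl (pRes_le p _)).trans hNΦ
  · exact (pRes_le p _).trans hNc

end Cfsg.Agent.S2819
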