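import Cfsg.Statements.S2820
import Cfsg.Agent.Lib.LocBase

set_option autoImplicit false
open Cfsg

namespace Cfsg.Agent.S2820

open Subgroup Cfsg.Agent.Lib.LocBase
open scoped commutatorElement


/-- Let A and B be subnormal subgroups of the finite group H with A a p-group and B = O^p(B) (B generated by its elements of order prime to p). Then A normalizes B and B = O^p(AB), the subgroup of ⟨A, B⟩ generated by its elements of order prime to p. -/
theorem result {H : Type*} [Group H] [Finite H] {p : ℕ} [Fact p.Prime] (A B : Subgroup H) (hA : A.IsSubnormal) (hB : B.IsSubnormal) (hAp : IsPGroup p ↥A) (hBres : (Cfsg.pResidual p ↥B).map B.subtype = B) : A ≤ Subgroup.normalizer (B : Set H) ∧ (Cfsg.pResidual p ↥(A ⊔ B)).map (A ⊔ B).subtype = B := by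
  rw [map_pResidual] at hBres
  rw [map_pResidual]
  -- work inside `X = A ⊔ B`
  have hBs : Subn B ⊤ := subn_top_iff.mpr hB
  have hAs : Subn A ⊤ := subn_top_iff.mpr hA
  have hAX : A ≤ pCoreOf p (A ⊔ B) := (hAs.of_le le_sup_left le_top).le_pCoreOf hAp
  have hBX : Subn B (A ⊔ B) := hBs.of_le le_sup_right le_top
  -- every intermediate group C has O^p(C) = B
  have key : ∀ C D : Subgroup H, Subn C D → (∀ x ∈ D, ∃ c ∈ C, ∃ a ∈ pCoreOf p D, x = a * c) → pRes p D = pRes p C := by
    intro C D h
    induction h with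
    | refl => intro _; rfl
    | @step C E D h1 h2 h3 ih =>
      intro hx
      have hx' : ∀ x ∈ D, ∃ c ∈ E, ∃ a ∈ pCoreOf p D, x = a * c := by
        intro x hxD
        obtain ⟨c, hc, a, ha, e⟩ := hx x hxD
        exact ⟨c, h1 hc, a, ha, e⟩
      rw [ih hx']
      apply le_antisymm _ (pRes_mono h1)
      rw [← pRes_pRes]
      apply pRes_mono
      apply pRes_le_of_pow_mem
      intro x hxE
      obtain ⟨c, hc, a, ha, e⟩ := hx x (h3.le hxE)
      have haE : a ∈ E := by
        have : a = x * c⁻¹ := by rw [e]; group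
        rw [this]; exact E.mul_mem hxE (E.inv_mem (h1 hc))
      -- x = a * c with c ∈ C normal in E
      obtain ⟨k, hk⟩ := isPGroup_pCoreOf p D ⟨a, ha⟩
      have hk' : a ^ p ^ k = 1 := by simpa using congrArg Subtype.val hk
      refine ⟨k, ?_⟩
      have e2 : x = (a * c * a⁻¹) * a := by rw [e]; group
      have h4 : a * c * a⁻¹ ∈ C := conj_mem_of_le_normalizer h2 haE hc
      have h5 := mul_pow_mem_coset (S := C) (r := a) h4 (h2 haE) (p ^ k)
      rw [hk', inv_one, mul_one] at h5
      rw [e2]; exact h5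
  have hmain : pRes p (A ⊔ B) = B := by
    rw [key B (A ⊔ B) hBX, hBres]
    intro x hx
    have h1 : A ⊔ B ≤ pCoreOf p (A ⊔ B) ⊔ B := sup_le (hAX.trans le_sup_left) le_sup_right
    obtain ⟨a, ha, b, hb, e⟩ := exists_mul_of_mem_sup_of_le
      ((le_sup_right : B ≤ A ⊔ B).trans (le_normalizer_pCoreOf p (A ⊔ B))) (h1 hx)
    exact ⟨b, hb, a, ha, e⟩
  refine ⟨?_, hmain⟩
  have := le_normalizer_pRes p (A ⊔ B)
  rw [hmain] at this
  exact le_sup_left.trans this

end Cfsg.Agent.S2820
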