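import Cfsg.Statements.S2821
import Cfsg.Agent.Lib.LocTrace

set_option autoImplicit false
open Cfsg

namespace Cfsg.Agent.S2821

open Subgroup Cfsg.Agent.Lib.LocBase Cfsg.Agent.Lib.PIrred Cfsg.Agent.Lib.PReduced Cfsg.Agent.Lib.LocTrace
open scoped commutatorElement


/-- Let H be a finite group, p a prime, T a Sylow p-subgroup and L a subgroup of characteristic p containing T; let Y_L be the largest p-reduced normal subgroup of L (the join of the normal elementary abelian p-subgroups V of L with O_p(L/C_L(V)) = 1). Then T₀ := C_T(Y_L) is a Sylow p-subgroup of C_H(Y_L); moreover O_p(L) ≤ T₀ ≤ C_L(Y_L) and Ω₁(Z(T)) ≤ Z_L ≤ Y_L ≤ Ω₁(Z(O_p(L))), where Z_L is generated by the Ω₁(Z(S)) over the Sylow p-subgroups S of L. -/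
theorem result {H : Type*} [Group H] [Finite H] {p : ℕ} [Fact p.Prime] (T : Sylow p H) (L : Subgroup H) (hTL : (T : Subgroup H) ≤ L) (hL : Subgroup.centralizer (Cfsg.pCore p ↥L : Set ↥L) ≤ Cfsg.pCore p ↥L) (T₀ : Subgroup H) (hT₀ : T₀ = (T : Subgroup H) ⊓ Subgroup.centralizer (((Cfsg.largestPReducedOf p L) : Subgroup H) : Set H)) : (∃ P : Sylow p ↥(Subgroup.centralizer (((Cfsg.largestPReducedOf p L) : Subgroup H) : Set H)), (P : Subgroup ↥(Subgroup.centralizer (((Cfsg.largestPReducedOf p L) : Subgroup H) : Set H))) = T₀.subgroupOf (Subgroup.centralizer (((Cfsg.largestPReducedOf p L) : Subgroup H) : Set H))) ∧ (Cfsg.pCoreOf p L) ≤ T₀ ∧ T₀ ≤ L ⊓ Subgroup.centralizer (((Cfsg.largestPReducedOf p L) : Subgroup H) : Set H) ∧ (Cfsg.omegaOne p ((T : Subgroup H) ⊓ Subgroup.centralizer (((T : Subgroup H) : Subgroup H) : Set H))) ≤ Cfsg.sylowCenterClosure p L ∧ Cfsg.sylowCenterClosure p L ≤ (Cfsg.largestPReducedOf p L) ∧ (Cfsg.largestPReducedOf p L) ≤ (Cfsg.omegaOne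 p ((Cfsg.pCoreOf p L) ⊓ Subgroup.centralizer (((Cfsg.pCoreOf p L) : Subgroup H) : Set H))) := by
  have hLc : IsCharP p L := isCharP_iff.mpr hL
  have hTs : IsSyl p (T : Subgroup H) L := isSyl_of_sylow_le hTL
  have hY := pRed_largest p L
  set Y := Cfsg.largestPReducedOf p L with hYdef
  subst hT₀
  have hTY : (T : Subgroup H) ≤ normalizer (Y : Set H) := hTL.trans hY.norm
  refine ⟨?_, ?_, ?_, ?_, ?_, ?_⟩
  · have h1 : IsSyl p (T : Subgroup H) (normalizer (Y : Set H)) := isSyl_of_sylow_le hTY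
    have h2 := isSyl_TL h1 (Y := Y) le_rfl
    rw [inf_eq_right.mpr (centralizer_le_normalizer (Y : Set H))] at h2
    exact h2.exists_sylow
  · exact le_inf hTs.pCoreOf_le hY.pCoreOf_le
  · exact inf_le_inf_right _ hTL
  · rw [sylowCenterClosure_eq hTs]
    exact le_ncl L (OZ p (T : Subgroup H))
  · exact (pRed_sylowCenterClosure hLc).le_largest
  · exact largest_le_OZ hLc

end Cfsg.Agent.S2821
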