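import Cfsg.Statements.S2823
import Cfsg.Agent.Lib.LocTrace

set_option autoImplicit false
open Cfsg

namespace Cfsg.Agent.S2823

open Subgroup Cfsg.Agent.Lib.LocBase Cfsg.Agent.Lib.PIrred Cfsg.Agent.Lib.PReduced Cfsg.Agent.Lib.LocTrace
open scoped commutatorElement


/-- Let H be a finite group, p a prime, T a Sylow p-subgroup and L a subgroup of characteristic p containing T; let Z_L be the subgroup generated by the Ω₁(Z(S)) over the Sylow p-subgroups S of L and O^p(L) the subgroup generated by the elements of L of order prime to p. Then Z_L = Ω₁(Z(L))·[Z_L, O^p(L)] and [Z_L, L] = [Z_L, O^p(L)]. -/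
theorem result {H : Type*} [Group H] [Finite H] {p : ℕ} [Fact p.Prime] (T : Sylow p H) (L : Subgroup H) (hTL : (T : Subgroup H) ≤ L) (hL : Subgroup.centralizer (Cfsg.pCore p ↥L : Set ↥L) ≤ Cfsg.pCore p ↥L) : Cfsg.sylowCenterClosure p L = (Cfsg.omegaOne p (L ⊓ Subgroup.centralizer ((L : Subgroup H) : Set H))) ⊔ ⁅Cfsg.sylowCenterClosure p L, (Cfsg.pResidual p ↥L).map L.subtype⁆ ∧ ⁅Cfsg.sylowCenterClosure p L, L⁆ = ⁅Cfsg.sylowCenterClosure p L, (Cfsg.pResidual p ↥L).map L.subtype⁆ := by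
  have hLc : IsCharP p L := isCharP_iff.mpr hL
  have hTs : IsSyl p (T : Subgroup H) L := isSyl_of_sylow_le hTL
  rw [map_pResidual]
  have hZ := pRed_sylowCenterClosure hLc
  have hZeq := sylowCenterClosure_eq hTs
  set Z := Cfsg.sylowCenterClosure p L with hZdef
  set W := ⁅Z, pRes p L⁆ with hW
  have hLW : L ≤ normalizer (W : Set H) := le_normalizer_commutator hZ.norm (le_normalizer_pRes p L)
  have hLOZ : L ≤ normalizer (OZ p L : Set H) := le_normalizer.trans (normalizer_le_normalizer_OZ p L)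
  have hOZT : OZ p L ≤ (T : Subgroup H) := by
    refine le_trans ?_ hTs.pCoreOf_le
    exact le_pCoreOf (OZ_le L) hLOZ (elem_isPGroup (elem_OZ p L))
  have h1 : OZ p L ≤ Z := by
    rw [hZeq]
    refine le_trans ?_ (le_ncl L _)
    intro x hx
    obtain ⟨h1, h2, h3⟩ := mem_OZ.mp hx
    exact mem_OZ.mpr ⟨hOZT hx, centralizer_le hTL h2, h3⟩
  have hWZ : W ≤ Z := commutator_le_left_of_le ((pRes_le p L).trans hZ.norm)
  have h2 : Z = OZ p L ⊔ W := by
    apply le_antisymm _ (sup_le h1 hWZ)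
    conv_lhs => rw [hZeq]
    apply ncl_le _ (le_normalizer_sup hLOZ hLW)
    intro z hz
    have hzZ : z ∈ Z := by rw [hZeq]; exact le_ncl L _ hz
    obtain ⟨c, hcV, hcK, w, hw, _, e⟩ := gaschutz (elem_iff.mp hZ.elem).1 (elem_isPGroup hZ.elem)
      hZ.norm hTs hzZ (OZ_le_centralizer _ hz)
    rw [e]
    exact mul_mem_sup (mem_OZ.mpr ⟨hZ.le hcV, hcK, hZ.elem.2 c hcV⟩) hw
  refine ⟨h2, ?_⟩
  apply le_antisymm
  · rw [commutator_le]
    intro x hx l hl
    rw [h2] at hx
    obtain ⟨c, hc, w, hw, rfl⟩ := exists_mul_of_mem_sup_of_le (A := OZ p L) (B := W)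
      ((hWZ.trans hZ.le).trans hLOZ) hx
    have e1 : ⁅c, l⁆ = 1 := commutatorElement_eq_one_iff_mul_comm.mpr
      (mem_centralizer_iff.mp (OZ_le_centralizer L hc) l hl).symm
    rw [commutatorElement_mul_left_eq_conj_mul, e1, mul_one]
    have h3 : ⁅w, l⁆ ∈ W := (commutator_le_left_of_le hLW) (commutator_mem_commutator hw hl)
    exact conj_mem_of_le_normalizer hLW (OZ_le L hc) h3
  · exact commutator_mono le_rfl (pRes_le p L)

end Cfsg.Agent.S2823
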