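import Cfsg.Statements.S2824
import Cfsg.Agent.Lib.LocTrace

set_option autoImplicit false
open Cfsg

namespace Cfsg.Agent.S2824

open Subgroup Cfsg.Agent.Lib.LocBase Cfsg.Agent.Lib.PIrred Cfsg.Agent.Lib.PReduced Cfsg.Agent.Lib.LocTrace
open scoped commutatorElement


/-- Let H be a finite group, p a prime, T a Sylow p-subgroup, L and M subgroups of characteristic p containing T, Y_L the largest p-reduced normal subgroup of L and T₀ = C_T(Y_L). If M·C_H(Y_L) = L·C_H(Y_L), then L* := N_M(T₀) has Y_{L*} = Y_L and L·C_H(Y_L) = L*·C_H(Y_L). -/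
theorem result {H : Type*} [Group H] [Finite H] {p : ℕ} [Fact p.Prime] (T : Sylow p H) (L M : Subgroup H) (hTL : (T : Subgroup H) ≤ L) (hTM : (T : Subgroup H) ≤ M) (hL : Subgroup.centralizer (Cfsg.pCore p ↥L : Set ↥L) ≤ Cfsg.pCore p ↥L) (hM : Subgroup.centralizer (Cfsg.pCore p ↥M : Set ↥M) ≤ Cfsg.pCore p ↥M) (T₀ : Subgroup H) (hT₀ : T₀ = (T : Subgroup H) ⊓ Subgroup.centralizer (((Cfsg.largestPReducedOf p L) : Subgroup H) : Set H)) (hfac : M ⊔ Subgroup.centralizer (((Cfsg.largestPReducedOf p L) : Subgroup H) : Set H) = L ⊔ Subgroup.centralizer (((Cfsg.largestPReducedOf p L) : Subgroup H) : Set H)) (Ls : Subgroup H) (hLs : Ls = M ⊓ Subgroup.normalizer ((T₀ : Subgroup H) : Set H)) : (Cfsg.largestPReducedOf p Ls) = (Cfsg.largestPReducedOf p L) ∧ L ⊔ Subgroup.centralizer (((Cfsg.largestPReducedOf p L) : Subgroup H) : Set H) = Ls ⊔ Subgroup.centralizer (((Cfsg.largestPReducedOf p L) : Subgroup H) : Set H) := by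
  have hLc : IsCharP p L := isCharP_iff.mpr hL
  have hMc : IsCharP p M := isCharP_iff.mpr hM
  have hTsL : IsSyl p (T : Subgroup H) L := isSyl_of_sylow_le hTL
  have hTsM : IsSyl p (T : Subgroup H) M := isSyl_of_sylow_le hTM
  have hY := pRed_largest p L
  have hOZ := largest_eq_OZ hLc hTsL
  set Y := Cfsg.largestPReducedOf p L with hYdef
  subst hT₀
  subst hLs
  have hYT : Y ≤ (T : Subgroup H) := largest_le_syl hTsL
  have hYM : PRed p Y M := hY.of_sup_eq (hYT.trans hTM) hfac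
  have hfr := frattini_TL hTsM hYM.norm
  have hTR : (T : Subgroup H) ≤ M ⊓ normalizer (((T : Subgroup H) ⊓ Subgroup.centralizer (Y : Set H) : Subgroup H) : Set H) :=
    le_inf hTM (syl_le_normalizer_TL (hTM.trans hYM.norm))
  set R := M ⊓ normalizer (((T : Subgroup H) ⊓ Subgroup.centralizer (Y : Set H) : Subgroup H) : Set H) with hR
  have hYR : PRed p Y R := hYM.of_sup_eq (hYT.trans hTR) hfr
  have hcore := pCoreOf_TL hTsM hYM
  rw [← hR] at hcore
  have hRc : IsCharP p R := hMc.of_le inf_le_left (hTsM.pCoreOf_le.trans hTR)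
  refine ⟨le_antisymm ?_ hYR.le_largest, ?_⟩
  · have h1 := largest_le_OZ hRc
    rw [hcore, ← hOZ] at h1
    exact h1
  · rw [hfr, hfac]

end Cfsg.Agent.S2824
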