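import Cfsg.Statements.S2825
import Cfsg.Agent.Lib.LocMore

set_option autoImplicit false
open Cfsg

namespace Cfsg.Agent.S2825

open Subgroup Cfsg.Agent.Lib.LocBase Cfsg.Agent.Lib.PIrred Cfsg.Agent.Lib.PReduced Cfsg.Agent.Lib.LocTrace
open scoped commutatorElement

variable {G : Type*} [Group G] [Finite G] {p : ℕ} [hp : Fact p.Prime]

/-- `Y_H ∩ L` is `p`-reduced for `L`, and `C_L(Y_H ∩ L) = C_L(Y_H)`. -/
theorem inf_facts {V H L : Subgroup G} (hV : PRed p V H) (hL : Subn L H) :
    PRed p (V ⊓ L) L ∧ L ⊓ centralizer ((V ⊓ L : Subgroup G) : Set G) ≤ centralizer (V : Set G) := by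
  have hVp := elem_isPGroup hV.elem
  have hLV : L ≤ normalizer (V : Set G) := hL.le.trans hV.norm
  have hn : L ≤ normalizer ((V ⊓ L : Subgroup G) : Set G) := le_normalizer_inf hLV le_normalizer
  have key : ∀ D : Subgroup G, D ≤ L → L ≤ normalizer (D : Set G) →
      pRes p D ≤ centralizer ((V ⊓ L : Subgroup G) : Set G) → D ≤ centralizer (V : Set G) := by
    intro D hD hDn hpD
    apply hV.subn_le ((Subn.of_normal hD hDn).trans hL)
    apply pRes_le_centralizer hVp (hD.trans hLV)
    have hidem := commutator_pRes_idem hVp (hD.trans hLV)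
    have h1 : ⁅V, pRes p D⁆ ≤ L := hL.commutator_le_of_idem hV.le ((pRes_le p D).trans hD) hidem
    have h2 : ⁅V, pRes p D⁆ ≤ V := commutator_le_left_of_le ((pRes_le p D).trans (hD.trans hLV))
    rw [eq_bot_iff]
    have h3 : ⁅⁅V, pRes p D⁆, pRes p D⁆ ≤ ⁅V ⊓ L, pRes p D⁆ := commutator_mono (le_inf h2 h1) le_rfl
    rw [commutator_comm (V ⊓ L), commutator_eq_bot_iff_le_centralizer.mpr hpD] at h3
    exact h3
  refine ⟨⟨inf_le_right, hn, elem_mono hV.elem inf_le_left, ?_⟩, ?_⟩
  · intro D hD hDn hpD
    exact (key D hD hDn hpD).trans (centralizer_le inf_le_left)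
  · apply key _ inf_le_left
    · exact le_normalizer_inf le_normalizer (le_normalizer_centralizer hn)
    · exact (pRes_le p _).trans inf_le_right

/-- normal case of `C_L(Y_H) ≤ C_L(Y_L)`. -/
theorem normal_case {H L Y : Subgroup G} (hLH : L ≤ H) (hL : H ≤ normalizer (L : Set G)) (hY : PRed p Y L) :
    ∀ n : ℕ, ∀ U : Subgroup G, Nat.card U = n → U ≤ Y → H ≤ normalizer (U : Set G) →
      L ⊓ centralizer (U : Set G) ≤ centralizer (Y : Set G) →
      ∃ U' : Subgroup G, PRed p U' H ∧ L ⊓ centralizer (U' : Set G) ≤ centralizer (Y : Set G) := by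
  intro n
  induction n using Nat.strong_induction_on with
  | _ n ih =>
    intro U hn hUY hHU hU
    by_cases hred : PRed p U H
    · exact ⟨U, hred, hU⟩
    · have hUe := elem_mono hY.elem hUY
      have hex : ∃ D : Subgroup G, D ≤ H ∧ H ≤ normalizer (D : Set G) ∧ pRes p D ≤ centralizer (U : Set G) ∧
          ¬ D ≤ centralizer (U : Set G) := by
        by_contra hcon
        apply hred
        refine ⟨hUY.trans (hY.le.trans hLH), hHU, hUe, ?_⟩
        intro D h1 h2 h3
        by_contra h4
        exact hcon ⟨D, h1, h2, h3, h4⟩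
      obtain ⟨D, hDH, hDn, hpD, hDU⟩ := hex
      set U' := U ⊓ centralizer (D : Set G) with hU'
      have hlt : U' < U := by
        refine lt_of_le_of_ne inf_le_left fun h => hDU ?_
        rw [le_centralizer_iff]
        exact inf_eq_left.mp h
      have hU'H : H ≤ normalizer (U' : Set G) := le_normalizer_inf hHU (le_normalizer_centralizer hDn)
      apply ih (Nat.card U') (hn ▸ Set.ncard_lt_ncard hlt (Set.toFinite _)) U' rfl (inf_le_left.trans hUY) hU'H
      have hUL : PRed p U L := by
        refine ⟨hUY.trans hY.le, hLH.trans hHU, hUe, ?_⟩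
        intro E hE hEn hpE
        have h1 : E ≤ centralizer (Y : Set G) := hY.red E hE hEn ((le_inf ((pRes_le p E).trans hE) hpE).trans hU)
        exact h1.trans (centralizer_le hUY)
      have hDL : D ⊓ L ≤ centralizer (U : Set G) := by
        apply hUL.red _ inf_le_right (le_normalizer_inf (hLH.trans hDn) le_normalizer)
        exact (pRes_mono inf_le_left).trans hpD
      set E := L ⊓ centralizer (U' : Set G) with hE
      have hDE : ⁅D, E⁆ ≤ centralizer (U : Set G) := by
        refine le_trans (le_inf ?_ ?_) hDL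
        · exact commutator_le_left_of_le (inf_le_left.trans (hLH.trans hDn))
        · exact (commutator_mono hDH inf_le_left).trans (commutator_le_right_of_le hL)
      have h1 : pRes p E ≤ centralizer (U : Set G) :=
        axb (elem_iff.mp hUe).1 (elem_isPGroup hUe) (hDH.trans hHU) (inf_le_left.trans (hLH.trans hHU)) hDE hpD
          ((pRes_le p E).trans inf_le_right)
      have h2 : E ≤ centralizer (U : Set G) :=
        hUL.red E inf_le_left (le_normalizer_inf le_normalizer (le_normalizer_centralizer (hLH.trans hU'H))) h1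
      exact (le_inf inf_le_left h2).trans hU

theorem subn_case {H L : Subgroup G} (hL : Subn L H) :
    L ⊓ centralizer (Cfsg.largestPReducedOf p H : Set G) ≤ centralizer (Cfsg.largestPReducedOf p L : Set G) := by
  induction hL with
  | refl => exact inf_le_right
  | @step A B H h1 h2 h3 ih =>
    have hY := pRed_largest p A
    obtain ⟨U', hU', h4⟩ := normal_case h1 h2 hY _ (Cfsg.largestPReducedOf p A) rfl le_rfl
      (h2.trans (Cfsg.Agent.Lib.LocMore.normalizer_le_normalizer_largest p A)) inf_le_right
    have h5 : A ⊓ centralizer (Cfsg.largestPReducedOf p B : Set G) ≤ centralizer (Cfsg.largestPReducedOf p A : Set G) :=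
      (inf_le_inf_left A (centralizer_le hU'.le_largest)).trans h4
    refine le_trans (le_inf inf_le_left ?_) h5
    exact (inf_le_inf_right _ h1).trans ih

/-- Let L be a subnormal subgroup of the finite group H, p a prime, Y_H and Y_L the largest p-reduced normal subgroups. Then Y_H ∩ L = Y_H ∩ Y_L and this subgroup is a p-reduced normal subgroup of L; C_L(Y_L) = C_L(Y_H) = C_L(Y_H ∩ L); and if O^p(H) ≤ L, then [Y_L, L] = 1 if and only if [Y_H, H] = 1. -/
theorem result {H : Type*} [Group H] [Finite H] {p : ℕ} [Fact p.Prime] (L : Subgroup H) (hL : L.IsSubnormal) : Cfsg.largestPReduced p H ⊓ L = Cfsg.largestPReduced p H ⊓ (Cfsg.largestPReducedOf p L) ∧ Cfsg.IsPReducedNormal p ((Cfsg.largestPReduced p H ⊓ L).subgroupOf L) ∧ L ⊓ Subgroup.centralizer ((Cfsg.largestPReducedOf p L : Subgroup H) : Set H) = L ⊓ Subgroup.centralizer (Cfsg.largestPReduced p H : Set H) ∧ L ⊓ Subgroup.centralizer (Cfsg.largestPReduced p H : Set H) = L ⊓ Subgroup.centralizer ((Cfsg.largestPReduced p H ⊓ L : Subgroup H) : Set H) ∧ (Cfsg.pResidual p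 H ≤ L → (⁅(Cfsg.largestPReducedOf p L), L⁆ = ⊥ ↔ ⁅Cfsg.largestPReduced p H, (⊤ : Subgroup H)⁆ = ⊥)) := by
  have hLs : Subn L ⊤ := subn_top_iff.mpr hL
  rw [largestPReduced_eq_of_top]
  have hYH := pRed_largest p (⊤ : Subgroup H)
  have hYL := pRed_largest p L
  set V := Cfsg.largestPReducedOf p (⊤ : Subgroup H) with hV
  set Y := Cfsg.largestPReducedOf p L with hY
  obtain ⟨h1, h2⟩ := inf_facts hYH hLs
  have h3 : V ⊓ L ≤ Y := h1.le_largest
  have h4 := subn_case (p := p) hLs
  have h5 : L ⊓ Subgroup.centralizer (Y : Set H) = L ⊓ Subgroup.centralizer (V : Set H) := by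
    apply le_antisymm
    · exact le_inf inf_le_left ((inf_le_inf_left L (centralizer_le h3)).trans h2)
    · exact le_inf inf_le_left h4
  refine ⟨?_, ?_, h5, ?_, ?_⟩
  · apply le_antisymm
    · exact le_inf inf_le_left h3
    · exact le_inf inf_le_left (inf_le_right.trans hYL.le)
  · rw [← pRed_map_subtype_iff, Subgroup.map_subgroupOf_eq_of_le inf_le_right]
    exact h1
  · apply le_antisymm
    · exact inf_le_inf_left L (centralizer_le inf_le_left)
    · exact le_inf inf_le_left h2
  · intro hres
    rw [commutator_eq_bot_iff_le_centralizer, commutator_eq_bot_iff_le_centralizer]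
    constructor
    · intro h
      have h6 : L ≤ Subgroup.centralizer (V : Set H) := by
        have : L ≤ L ⊓ Subgroup.centralizer (Y : Set H) := le_inf le_rfl (by rw [le_centralizer_iff]; exact h)
        rw [h5] at this
        exact this.trans inf_le_right
      have h7 : (⊤ : Subgroup H) ≤ Subgroup.centralizer (V : Set H) := by
        apply hYH.red _ le_rfl (by rw [normalizer_eq_top])
        rw [← pResidual_eq]
        exact hres.trans h6
      rw [le_centralizer_iff]; exact h7
    · intro h
      have h6 : L ≤ Subgroup.centralizer (V : Set H) := by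
        rw [le_centralizer_iff] at h
        exact le_top.trans h
      have : L ≤ L ⊓ Subgroup.centralizer (V : Set H) := le_inf le_rfl h6
      rw [← h5] at this
      rw [le_centralizer_iff]
      exact this.trans inf_le_right

end Cfsg.Agent.S2825
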