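import Cfsg.Statements.S2826
import Cfsg.Agent.Lib.LocTrace

set_option autoImplicit false
open Cfsg

namespace Cfsg.Agent.S2826

open Subgroup Cfsg.Agent.Lib.LocBase Cfsg.Agent.Lib.PIrred Cfsg.Agent.Lib.PReduced Cfsg.Agent.Lib.LocTrace
open scoped commutatorElement


/-- Let H be a finite group of characteristic p, T a Sylow p-subgroup, and V a normal elementary abelian p-subgroup of H containing Ω₁(Z(T)). Then C_H(Ω₁(Z(T))) = C_H([V, O^p(H)] ∩ Ω₁(Z(T))), O^p(H) being generated by the elements of order prime to p. -/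
theorem result {H : Type*} [Group H] [Finite H] {p : ℕ} [Fact p.Prime] (hH : Subgroup.centralizer (Cfsg.pCore p H : Set H) ≤ Cfsg.pCore p H) (T : Sylow p H) (V : Subgroup H) [V.Normal] (hV : Cfsg.IsElementaryAbelian p V) (hZV : (Cfsg.omegaOne p ((T : Subgroup H) ⊓ Subgroup.centralizer (((T : Subgroup H) : Subgroup H) : Set H))) ≤ V) : Subgroup.centralizer ((Cfsg.omegaOne p ((T : Subgroup H) ⊓ Subgroup.centralizer (((T : Subgroup H) : Subgroup H) : Set H))) : Set H) = Subgroup.centralizer (((⁅V, Cfsg.pResidual p H⁆ ⊓ (Cfsg.omegaOne p ((T : Subgroup H) ⊓ Subgroup.centralizer (((T : Subgroup H) : Subgroup H) : Set H)))) : Subgroup H) : Set H) := by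
  have hHc : IsCharP p (⊤ : Subgroup H) := isCharP_top.mpr hH
  have hTs := isSyl_top T
  have hVn : (⊤ : Subgroup H) ≤ normalizer (V : Set H) := by rw [normalizer_eq_top]
  have hVT : V ≤ (T : Subgroup H) :=
    (le_pCoreOf le_top hVn (elem_isPGroup hV)).trans hTs.pCoreOf_le
  apply le_antisymm
  · exact centralizer_le inf_le_right
  · rw [le_centralizer_iff]
    intro z hz
    have hz' : z ∈ OZ p (T : Subgroup H) := hz
    obtain ⟨c, hcV, hcK, w, hw, hwT, e⟩ := gaschutz (elem_iff.mp hV).1 (elem_isPGroup hV)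
      hVn hTs (hZV hz) (OZ_le_centralizer _ hz')
    rw [e]
    apply Subgroup.mul_mem
    · exact centralizer_le le_top hcK
    · have hwV : w ∈ V := (commutator_le_left_of_le ((pRes_le p ⊤).trans hVn)) hw
      have hwO : w ∈ OZ p (T : Subgroup H) := mem_OZ.mpr ⟨hVT hwV, hwT, hV.2 w hwV⟩
      rw [mem_centralizer_iff]
      intro k hk
      rw [← pResidual_eq] at hw
      exact (mem_centralizer_iff.mp hk w ⟨hw, hwO⟩).symm

end Cfsg.Agent.S2826
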