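import Cfsg.Statements.S2827
import Cfsg.Agent.Lib.PIrred

set_option autoImplicit false
open Cfsg

namespace Cfsg.Agent.S2827

open Subgroup Cfsg.Agent.Lib.LocBase Cfsg.Agent.Lib.PIrred
open scoped commutatorElement

theorem pres_eq_of_le_sup {H : Type*} [Group H] [Finite H] {p : ℕ} [Fact p.Prime] {D N : Subgroup H}
    (hN : D ≤ normalizer (N : Set H)) (hD : IsPGroup p ↥D) (h : pRes p ⊤ ≤ N ⊔ D) : pRes p ⊤ ≤ N := by
  rw [← pRes_pRes]
  refine (pRes_mono h).trans ?_
  apply pRes_le_of_pow_mem
  intro x hx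
  obtain ⟨n, hn, d, hd, rfl⟩ := exists_mul_of_mem_sup_of_le hN hx
  obtain ⟨k, hk⟩ := hD ⟨d, hd⟩
  refine ⟨k, ?_⟩
  have ht' : d ^ p ^ k = 1 := by simpa using congrArg Subtype.val hk
  have h1 := mul_pow_mem_coset (S := N) (r := d) (s := n) hn (hN hd) (p ^ k)
  rwa [ht', inv_one, mul_one] at h1

/-- Let H be a finite p-irreducible group (not p-closed, and O^p(H) lies in every normal subgroup that is not p-closed) and T a Sylow p-subgroup. Then H is generated by the conjugates of T and H = H'·T; O^p(H) ≤ H'; and for every normal subgroup Y of T not contained in O_p(H), O^p(H) = [O^p(H), Y] and O^p(H) is contained in the normal closure of Y in H. -/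
theorem result {H : Type*} [Group H] [Finite H] {p : ℕ} [Fact p.Prime] (hH : Cfsg.IsPIrreducible p H) (T : Sylow p H) : Subgroup.normalClosure ((T : Subgroup H) : Set H) = ⊤ ∧ commutator H ⊔ (T : Subgroup H) = ⊤ ∧ Cfsg.pResidual p H ≤ commutator H ∧ ∀ Y : Subgroup H, Y ≤ (T : Subgroup H) → (T : Subgroup H) ≤ Subgroup.normalizer (Y : Set H) → ¬ Y ≤ Cfsg.pCore p H → ⁅Cfsg.pResidual p H, Y⁆ = Cfsg.pResidual p H ∧ Cfsg.pResidual p H ≤ Subgroup.normalClosure (Y : Set H) := by
  rw [pResidual_eq]
  have hres : Cfsg.pResidual p H = pRes p ⊤ := pResidual_eq p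
  have hTs := isSyl_top T
  have hTp : (T : Subgroup H) ⊔ pRes p ⊤ = ⊤ := hTs.sup_pRes
  have hTnc : ∀ N : Subgroup H, N.Normal → (T : Subgroup H) ≤ N → ¬ Cfsg.IsPClosed p ↥N := by
    intro N hN hTN hc
    apply hH.1
    rw [← isPClosed_top_iff]
    have h1 := isSyl_pCoreOf_of_isPClosed hc
    have h2 : pCoreOf p N = T := by
      have hTN' : IsSyl p (T : Subgroup H) N := isSyl_of_sylow_le hTN
      apply le_antisymm hTN'.pCoreOf_le
      exact isPClosed_sub_iff.mp hc T hTN T.2
    apply isPClosed_of_isSyl_normal hTs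
    rw [← h2]
    refine le_trans ?_ (normalizer_le_normalizer_pCoreOf p N)
    rw [normalizer_eq_top]
  have hpres : ∀ N : Subgroup H, N.Normal → ¬ Cfsg.IsPClosed p ↥N → pRes p ⊤ ≤ N := by
    intro N hN hc
    rw [← hres]; exact hH.2 N hN hc
  have hA : normalClosure ((T : Subgroup H) : Set H) = ⊤ := by
    have h1 : (T : Subgroup H) ≤ normalClosure ((T : Subgroup H) : Set H) := le_normalClosure
    have h2 := hpres _ (normalClosure_normal) (hTnc _ normalClosure_normal h1)
    exact top_le_iff.mp (hTp ▸ sup_le h1 h2)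
  have hB : commutator H ⊔ (T : Subgroup H) = ⊤ := by
    have hn : (commutator H ⊔ (T : Subgroup H)).Normal :=
      Subgroup.Normal.of_commutator_le H le_sup_left
    have h2 := hpres _ hn (hTnc _ hn le_sup_right)
    exact top_le_iff.mp (hTp ▸ sup_le le_sup_right h2)
  have hC : pRes p ⊤ ≤ commutator H :=
    pres_eq_of_le_sup (D := T) (by rw [normalizer_eq_top]; exact le_top) T.2 (by rw [hB]; exact le_top)
  refine ⟨hA, hB, hC, ?_⟩
  intro Y hYT hTY hYc
  have hYp : IsPGroup p Y := T.2.to_le hYT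
  have hYn : ∀ N : Subgroup H, N.Normal → Y ≤ N → pRes p ⊤ ≤ N := by
    intro N hN hYN
    apply hpres N hN
    intro hc
    apply hYc
    refine (isPClosed_sub_iff.mp hc Y hYN hYp).trans ?_
    have := (Subn.of_normal (A := N) (H := ⊤) le_top (by rw [normalizer_eq_top])).pCoreOf_le (p := p)
    rwa [pCoreOf_top] at this
  have hE : pRes p ⊤ ≤ normalClosure (Y : Set H) := hYn _ normalClosure_normal le_normalClosure
  refine ⟨?_, hE⟩
  set R := ⁅pRes p (⊤ : Subgroup H), Y⁆ with hR
  have hRle : R ≤ pRes p ⊤ := by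
    apply commutator_le_left_of_le
    exact le_top.trans (by rw [normalizer_eq_top])
  apply le_antisymm hRle
  have hn1 : pRes p ⊤ ≤ normalizer (R : Set H) := normalizer_commutator_ge_left _ _
  have hn2 : (T : Subgroup H) ≤ normalizer (R : Set H) :=
    le_normalizer_commutator (by rw [normalizer_eq_top]; exact le_top) hTY
  have hRn : R.Normal := by
    rw [← normalizer_eq_top_iff, ← top_le_iff, ← hTp]
    exact sup_le hn2 hn1
  have hRY : (R ⊔ Y).Normal := by
    rw [← normalizer_eq_top_iff, ← top_le_iff, ← hTp]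
    apply sup_le
    · exact le_normalizer_sup hn2 hTY
    · rw [le_normalizer_iff_commutator_le_right]
      rw [commutator_le]
      intro g hg y hy
      obtain ⟨r, hr, z, hz, rfl⟩ := exists_mul_of_mem_sup_of_le (by rw [normalizer_eq_top]; exact le_top) hy
      rw [commutatorElement_mul_right_eq_mul_conj]
      have h1 : ⁅g, r⁆ ∈ R := by
        have := commutator_le_right_of_le hn1
        exact this (commutator_mem_commutator hg hr)
      have h2 : ⁅g, z⁆ ∈ R := commutator_mem_commutator hg hz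
      have h3 : r * ⁅g, z⁆ * r⁻¹ ∈ R := R.mul_mem (R.mul_mem hr h2) (R.inv_mem hr)
      have h4 := (le_sup_left : R ≤ R ⊔ Y) (R.mul_mem h1 h3)
      simpa [mul_assoc] using h4
  have := hYn _ hRY le_sup_right
  exact pres_eq_of_le_sup (by rw [normalizer_eq_top]; exact le_top) hYp this

end Cfsg.Agent.S2827
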