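import Cfsg.Statements.S2830
import Cfsg.Agent.Lib.PIrred

set_option autoImplicit false
open Cfsg

namespace Cfsg.Agent.S2830

open Subgroup Cfsg.Agent.Lib.LocBase Cfsg.Agent.Lib.PIrred
open scoped commutatorElement


/-- Let H act by conjugation on the elementary abelian p-subgroup V of a finite group G (H ≤ N(V)), with H p-irreducible and O^p(H) not centralizing V. Then C_H(V) is p-closed and C_T(V) ≤ O_p(H) for every p-subgroup T of H. If in addition O_p(H) centralizes V, then C_T(V) = T ∩ O_p(H) for every p-subgroup T of H, and V is p-reduced for H: O_p(H/C_H(V)) = 1. -/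
theorem result {G : Type*} [Group G] [Finite G] {p : ℕ} [Fact p.Prime] (V H : Subgroup G) (hV : Cfsg.IsElementaryAbelian p V) (hHV : H ≤ Subgroup.normalizer (V : Set G)) (hH : Cfsg.IsPIrreducible p ↥H) (hnc : ¬ (Cfsg.pResidual p ↥H).map H.subtype ≤ Subgroup.centralizer (V : Set G)) [hn : ((Subgroup.centralizer (V : Set G)).subgroupOf H).Normal] : Cfsg.IsPClosed p ↥(H ⊓ Subgroup.centralizer (V : Set G)) ∧ (∀ T : Subgroup G, T ≤ H → IsPGroup p ↥T → T ⊓ Subgroup.centralizer (V : Set G) ≤ Cfsg.pCoreOf p H) ∧ (Cfsg.pCoreOf p H ≤ Subgroup.centralizer (V : Set G) → (∀ T : Subgroup G, T ≤ H → IsPGroup p ↥T → T ⊓ Subgroup.centralizer (V : Set G) = T ⊓ Cfsg.pCoreOf p H) ∧ Cfsg.pCore p (↥H ⧸ (Subgroup.centralizer (V : Set G)).subgroupOf H) = ⊥) := by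
  set C := Subgroup.centralizer (V : Set G) with hC
  have hpc : Cfsg.IsPClosed p ↥(H ⊓ C) := by
    by_contra hc
    apply hnc
    have hcc : ¬ Cfsg.IsPClosed p ↥(C.subgroupOf H) := by
      intro h
      apply hc
      rw [isPClosed_sub_iff] at h ⊢
      intro A hA hp
      have h1 := h (A.subgroupOf H) (Subgroup.comap_mono (hA.trans inf_le_right)) hp.comap_subtype
      have h2 := Subgroup.map_mono (f := H.subtype) h1
      rw [Subgroup.map_subgroupOf_eq_of_le (hA.trans inf_le_left)] at h2
      refine h2.trans ?_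
      apply le_pCoreOf
      · refine (Subgroup.map_mono (pCoreOf_le _)).trans ?_
        rw [Subgroup.subgroupOf_map_subtype]
        exact le_of_eq (inf_comm _ _)
      · have h3 := Subgroup.map_mono (f := H.subtype) (le_normalizer_pCoreOf p (C.subgroupOf H))
        rw [Subgroup.subgroupOf_map_subtype, inf_comm] at h3
        exact h3.trans (le_normalizer_map _)
      · exact (isPGroup_pCoreOf p _).map _
    have h1 := hH.2 _ hn hcc
    have h2 := Subgroup.map_mono (f := H.subtype) h1
    rw [Subgroup.subgroupOf_map_subtype] at h2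
    exact h2.trans inf_le_left
  have hHC : H ≤ normalizer (C : Set G) := le_normalizer_centralizer hHV
  have hT : ∀ T : Subgroup G, T ≤ H → IsPGroup p ↥T → T ⊓ C ≤ Cfsg.pCoreOf p H := by
    intro T hTH hTp
    refine (isPClosed_sub_iff.mp hpc _ (inf_le_inf_right C hTH) (hTp.to_le inf_le_left)).trans ?_
    exact (Subn.of_normal (A := H ⊓ C) (H := H) inf_le_left (le_normalizer_inf le_normalizer hHC)).pCoreOf_le
  refine ⟨hpc, hT, ?_⟩
  intro hO
  refine ⟨fun T hTH hTp => le_antisymm (le_inf inf_le_left (hT T hTH hTp)) (inf_le_inf_left T hO), ?_⟩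
  set f := QuotientGroup.mk' (C.subgroupOf H) with hf
  set D := (Cfsg.pCore p (↥H ⧸ C.subgroupOf H)).comap f with hD
  have hDn : D.Normal := (pCore_normal p _).comap _
  have hCD : C.subgroupOf H ≤ D := by
    have : (⊥ : Subgroup (↥H ⧸ C.subgroupOf H)) ≤ Cfsg.pCore p (↥H ⧸ C.subgroupOf H) := bot_le
    have := Subgroup.comap_mono (f := f) this
    rwa [MonoidHom.comap_bot, hf, QuotientGroup.ker_mk'] at this
  have hDpow : ∀ x ∈ D, ∃ k : ℕ, x ^ p ^ k ∈ C.subgroupOf H := by
    intro x hx
    obtain ⟨k, hk⟩ := (isPGroup_pCore p (↥H ⧸ C.subgroupOf H)) ⟨f x, hx⟩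
    refine ⟨k, ?_⟩
    have hk' : (f x) ^ p ^ k = 1 := by simpa using congrArg Subtype.val hk
    rw [← map_pow] at hk'
    exact (QuotientGroup.eq_one_iff _).mp hk'
  have hDc : Cfsg.IsPClosed p ↥D := by
    by_contra hc
    have h1 := hH.2 D hDn hc
    apply hnc
    rw [pResidual_eq, ← pRes_pRes, ← pResidual_eq]
    have h2 : pRes p (Cfsg.pResidual p ↥H) ≤ C.subgroupOf H := by
      apply pRes_le_of_pow_mem
      intro x hx
      exact hDpow x (h1 hx)
    have h3 := Subgroup.map_mono (f := H.subtype) h2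
    rw [Subgroup.subgroupOf_map_subtype] at h3
    exact h3.trans inf_le_left
  have hDO : pCoreOf p D ≤ Cfsg.pCore p ↥H := by
    have := (Subn.of_normal (A := D) (H := ⊤) le_top (by rw [normalizer_eq_top])).pCoreOf_le (p := p)
    rwa [pCoreOf_top] at this
  have hDC : D ≤ C.subgroupOf H := by
    have hsyl := isSyl_pCoreOf_of_isPClosed hDc
    rw [← hsyl.sup_pRes]
    apply sup_le
    · refine hDO.trans ?_
      have h4 := Subgroup.comap_mono (f := H.subtype) hO
      rwa [Subgroup.comap_subtype, pCoreOf_subgroupOf] at h4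
    · exact pRes_le_of_pow_mem hDpow
  have h5 := Subgroup.map_mono (f := f) hDC
  rw [hD, Subgroup.map_comap_eq_self_of_surjective (QuotientGroup.mk'_surjective _)] at h5
  rw [eq_bot_iff]
  refine h5.trans ?_
  rw [Subgroup.map_le_iff_le_comap, MonoidHom.comap_bot, hf, QuotientGroup.ker_mk']

end Cfsg.Agent.S2830
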