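import Cfsg.Statements.S2832
import Cfsg.Agent.Lib.PIrred

set_option autoImplicit false
open Cfsg

namespace Cfsg.Agent.S2832

open Subgroup Cfsg.Agent.Lib.LocBase Cfsg.Agent.Lib.PIrred


/-- Let H be a finite group with Sylow p-subgroup T such that H is T-minimal (generated by the conjugates of T, with T in exactly one maximal subgroup), and let N be a normal subgroup of H. Then either H/N is a p-group or H/N is minimal over the image of T in the same sense. -/
theorem result {H : Type*} [Group H] [Finite H] {p : ℕ} [Fact p.Prime] (T : Sylow p H) (hmin : Cfsg.IsMinimalOver (T : Subgroup H)) (N : Subgroup H) [N.Normal] : IsPGroup p (H ⧸ N) ∨ Cfsg.IsMinimalOver ((T : Subgroup H).map (QuotientGroup.mk' N)) := by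
  obtain ⟨hcl, M, ⟨hM, hTM⟩, huniq⟩ := hmin
  have hprop : ∀ X : Subgroup H, (T : Subgroup H) ≤ X → X ≠ ⊤ → X ≤ M := by
    intro X hX hXt
    obtain ⟨M', hM', hXM'⟩ := (eq_top_or_exists_le_coatom X).resolve_left hXt
    have := huniq M' ⟨hM', hX.trans hXM'⟩
    rwa [← this]
  by_cases hNT : N ⊔ (T : Subgroup H) = ⊤
  · left
    intro x
    obtain ⟨x, rfl⟩ := QuotientGroup.mk_surjective x
    have hx : x ∈ N ⊔ (T : Subgroup H) := hNT ▸ mem_top x
    obtain ⟨n, hn, t, ht, rfl⟩ := exists_mul_of_mem_sup_of_le (by rw [normalizer_eq_top]; exact le_top) hx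
    obtain ⟨k, hk⟩ := T.2 ⟨t, ht⟩
    refine ⟨k, ?_⟩
    have ht' : t ^ p ^ k = 1 := by simpa using congrArg Subtype.val hk
    have h1 := mul_pow_mem_coset (S := N) (r := t) (s := n) hn (by rw [normalizer_eq_top]; exact mem_top t) (p ^ k)
    rw [ht', inv_one, mul_one] at h1
    rw [← QuotientGroup.mk_pow, QuotientGroup.eq_one_iff]
    exact h1
  · right
    have hsurj := QuotientGroup.mk'_surjective N
    have hNM : N ≤ M := le_sup_left.trans (hprop _ le_sup_right hNT)
    have hMc : (M.map (QuotientGroup.mk' N)).comap (QuotientGroup.mk' N) = M := by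
      rw [Subgroup.comap_map_eq, QuotientGroup.ker_mk', sup_eq_left.mpr hNM]
    refine ⟨?_, M.map (QuotientGroup.mk' N), ⟨⟨?_, ?_⟩, Subgroup.map_mono hTM⟩, ?_⟩
    · rw [Subgroup.coe_map, ← Subgroup.map_normalClosure _ _ hsurj, hcl, ← MonoidHom.range_eq_map,
        QuotientGroup.range_mk']
    · intro h
      apply hM.1
      rw [← hMc, h, Subgroup.comap_top]
    · intro X hX
      have h1 : M < X.comap (QuotientGroup.mk' N) := by
        rw [← hMc]
        exact (Subgroup.comap_lt_comap_of_surjective hsurj).mpr hX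
      have h2 := hM.2 _ h1
      rw [← Subgroup.map_comap_eq_self_of_surjective hsurj X, h2, ← MonoidHom.range_eq_map,
        QuotientGroup.range_mk']
    · rintro X ⟨hX, hTX⟩
      have h1 : X.comap (QuotientGroup.mk' N) ≤ M := by
        apply hprop _ ((Subgroup.le_comap_map _ _).trans (Subgroup.comap_mono hTX))
        intro h
        apply hX.1
        rw [← Subgroup.map_comap_eq_self_of_surjective hsurj X, h, ← MonoidHom.range_eq_map,
          QuotientGroup.range_mk']
      have h2 : X ≤ M.map (QuotientGroup.mk' N) := by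
        rw [← Subgroup.map_comap_eq_self_of_surjective hsurj X]
        exact Subgroup.map_mono h1
      rcases hX.le_iff.mp h2 with h | h
      · exfalso
        apply hM.1
        rw [← hMc, h, Subgroup.comap_top]
      · exact h.symm

end Cfsg.Agent.S2832
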