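import Cfsg.Statements.S2833
import Cfsg.Agent.Lib.LocBase

set_option autoImplicit false
open Cfsg

namespace Cfsg.Agent.S2833

open Subgroup Cfsg.Agent.Lib.LocBase
open scoped commutatorElement


/-- Let V be a subgroup of a finite group G normalized by the subgroup L, let X ≤ L and g ∈ L with [V, X, X] = 1 and L generated by X and gXg⁻¹. Put W = [V, L]. Then W = [V, X]·[V, gXg⁻¹], C_W(X) = [V, X], and C_W(L) = [V, X] ∩ [V, gXg⁻¹]. -/
theorem result {G : Type*} [Group G] [Finite G] (V L : Subgroup G) (hLV : L ≤ Subgroup.normalizer (V : Set G)) (X : Subgroup G) (hX : X ≤ L) (g : G) (hg : g ∈ L) (hq : ⁅⁅V, X⁆, X⁆ = ⊥) (hgen : X ⊔ X.map (MulAut.conj g).toMonoidHom = L) (W : Subgroup G) (hW : W = ⁅V, L⁆) : ⁅V, X⁆ ⊔ ⁅V, X.map (MulAut.conj g).toMonoidHom⁆ = W ∧ W ⊓ Subgroup.centralizer (X : Set G) = ⁅V, X⁆ ∧ W ⊓ Subgroup.centralizer (L : Set G) = ⁅V, X⁆ ⊓ ⁅V, X.map (MulAut.conj g).toMonoidHom⁆ := by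
  subst hW
  set Xg := X.map (MulAut.conj g).toMonoidHom with hXg
  set A := ⁅V, X⁆ with hA
  have hgV : g ∈ normalizer (V : Set G) := hLV hg
  have hVg : V.map (MulAut.conj g).toMonoidHom = V := map_conj_eq_of_mem hgV
  have hB : ⁅V, Xg⁆ = A.map (MulAut.conj g).toMonoidHom := by
    rw [hA, Subgroup.map_commutator, hVg]
  set B := ⁅V, Xg⁆ with hBdef
  have hXgL : Xg ≤ L := by rw [← hgen]; exact le_sup_right
  have hAV : A ≤ V := commutator_le_left_of_le (hX.trans hLV)
  have hBV : B ≤ V := commutator_le_left_of_le (hXgL.trans hLV)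
  have hAX : A ≤ Subgroup.centralizer (X : Set G) := by
    rw [← commutator_eq_bot_iff_le_centralizer]; exact hq
  have hBXg : B ≤ Subgroup.centralizer (Xg : Set G) := by
    rw [hB, hXg, ← map_conj_centralizer]
    exact Subgroup.map_mono hAX
  have hVA : V ≤ normalizer (A : Set G) := normalizer_commutator_ge_left _ _
  have hVB : V ≤ normalizer (B : Set G) := normalizer_commutator_ge_left _ _
  have hXA : X ≤ normalizer (A : Set G) := normalizer_commutator_ge_right _ _
  have hXgB : Xg ≤ normalizer (B : Set G) := normalizer_commutator_ge_right _ _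
  -- A ⊔ B is normalised by X and Xg
  have hXAB : X ≤ normalizer ((A ⊔ B : Subgroup G) : Set G) := by
    rw [le_normalizer_iff_commutator_le_left, commutator_le]
    intro v hv x hx
    have : v ∈ V := (sup_le hAV hBV : A ⊔ B ≤ V) hv
    exact (le_sup_left : A ≤ A ⊔ B) (commutator_mem_commutator this hx)
  have hXgAB : Xg ≤ normalizer ((A ⊔ B : Subgroup G) : Set G) := by
    rw [le_normalizer_iff_commutator_le_left, commutator_le]
    intro v hv x hx
    have : v ∈ V := (sup_le hAV hBV : A ⊔ B ≤ V) hv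
    exact (le_sup_right : B ≤ A ⊔ B) (commutator_mem_commutator this hx)
  have hLAB : L ≤ normalizer ((A ⊔ B : Subgroup G) : Set G) := by
    rw [← hgen]; exact sup_le hXAB hXgAB
  have h1 : A ⊔ B = ⁅V, L⁆ := by
    apply le_antisymm
    · exact sup_le (commutator_mono le_rfl hX) (commutator_mono le_rfl hXgL)
    · rw [commutator_comm, ← hgen, sup_eq_closure]
      have hc : closure ((X : Set G) ∪ Xg) ≤ normalizer ((A ⊔ B : Subgroup G) : Set G) := by
        rw [← sup_eq_closure, hgen]; exact hLAB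
      apply commutator_closure_le hc
      rintro x (hx | hx) a ha
      · rw [← commutatorElement_inv]
        exact (A ⊔ B).inv_mem ((le_sup_left : A ≤ A ⊔ B) (commutator_mem_commutator ha hx))
      · rw [← commutatorElement_inv]
        exact (A ⊔ B).inv_mem ((le_sup_right : B ≤ A ⊔ B) (commutator_mem_commutator ha hx))
  have hcentL : ∀ b ∈ Subgroup.centralizer (X : Set G), b ∈ Subgroup.centralizer (Xg : Set G) →
      b ∈ Subgroup.centralizer (L : Set G) := by
    intro b h1 h2
    have h3 : L ≤ Subgroup.centralizer ({b} : Set G) := by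
      rw [← hgen]
      apply sup_le
      · intro x hx
        rw [mem_centralizer_iff]
        rintro y rfl
        exact (mem_centralizer_iff.mp h1 x hx).symm
      · intro x hx
        rw [mem_centralizer_iff]
        rintro y rfl
        exact (mem_centralizer_iff.mp h2 x hx).symm
    rw [mem_centralizer_iff]
    intro x hx
    exact (mem_centralizer_iff.mp (h3 hx) b rfl).symm
  have hBfix : ∀ b ∈ B, b ∈ Subgroup.centralizer (X : Set G) → b ∈ A := by
    intro b hb hbX
    have hbL := hcentL b hbX (hBXg hb)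
    have hgb : g * b = b * g := mem_centralizer_iff.mp hbL g hg
    rw [hB] at hb
    have := mem_map_conj.mp hb
    rwa [mul_assoc, ← hgb, inv_mul_cancel_left] at this
  have h2 : ⁅V, L⁆ ⊓ Subgroup.centralizer (X : Set G) = A := by
    rw [← h1]
    apply le_antisymm
    · rintro w ⟨hw, hwX⟩
      obtain ⟨a, ha, b, hb, rfl⟩ := exists_mul_of_mem_sup_of_le (hBV.trans hVA) hw
      have hbX : b ∈ Subgroup.centralizer (X : Set G) := by
        have := (Subgroup.centralizer (X : Set G)).mul_mem ((Subgroup.centralizer (X : Set G)).inv_mem (hAX ha)) hwX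
        simpa using this
      exact A.mul_mem ha (hBfix b hb hbX)
    · exact le_inf le_sup_left hAX
  refine ⟨h1, h2, ?_⟩
  apply le_antisymm
  · rintro w ⟨hw, hwL⟩
    have hwX : w ∈ Subgroup.centralizer (X : Set G) := centralizer_le hX hwL
    have hwA : w ∈ A := h2 ▸ (⟨hw, hwX⟩ : w ∈ ⁅V, L⁆ ⊓ Subgroup.centralizer (X : Set G))
    refine ⟨hwA, ?_⟩
    change w ∈ B
    rw [hB]
    apply mem_map_conj.mpr
    have hgw : g * w = w * g := mem_centralizer_iff.mp hwL g hg
    rwa [mul_assoc, ← hgw, inv_mul_cancel_left]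
  · rintro w ⟨hwA, hwB⟩
    refine ⟨h1 ▸ (le_sup_left : A ≤ A ⊔ B) hwA, hcentL w (hAX hwA) (hBXg hwB)⟩

end Cfsg.Agent.S2833
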