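import Cfsg.Statements.S2835
import Cfsg.Agent.Lib.YMin

set_option autoImplicit false
open Cfsg

namespace Cfsg.Agent.S2835

open Subgroup Cfsg.Agent.Lib.LocBase Cfsg.Agent.Lib.PIrred Cfsg.Agent.Lib.PReduced Cfsg.Agent.Lib.LocTrace Cfsg.Agent.Lib.LocMore Cfsg.Agent.Lib.WeakCl Cfsg.Agent.Lib.LargeSub Cfsg.Agent.Lib.LLemma Cfsg.Agent.Lib.YMin
open scoped commutatorElement

variable {G : Type*} [Group G] [Finite G] {p : ℕ} [hp : Fact p.Prime]


/-- Let L be a finite group, L₀ a maximal subgroup, T a Sylow p-subgroup of L₀ and Y ≤ T, and suppose L is Y-minimal (generated by the conjugates of Y, with Y in exactly one maximal subgroup, necessarily L₀). Then N_L(T) ≤ L₀, O_p(L) ≤ L₀ and T is a Sylow p-subgroup of L; N_L(L₀) = L₀; L = ⟨Y, gYg⁻¹⟩ for each g ∈ L outside L₀; and if Y is abelian then Y ∩ gYg⁻¹ = C_Y(L) for each such g. -/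
theorem result {L : Type*} [Group L] [Finite L] {p : ℕ} [Fact p.Prime] (L₀ : Subgroup L) (hL₀ : IsCoatom L₀) (T : Sylow p ↥L₀) (Y : Subgroup L) (hYT : Y ≤ (T : Subgroup ↥L₀).map L₀.subtype) (hmin : Cfsg.IsMinimalOver Y) : Subgroup.normalizer (((T : Subgroup ↥L₀).map L₀.subtype : Subgroup L) : Set L) ≤ L₀ ∧ Cfsg.pCore p L ≤ L₀ ∧ (∃ P : Sylow p L, (P : Subgroup L) = (T : Subgroup ↥L₀).map L₀.subtype) ∧ Subgroup.normalizer (L₀ : Set L) = L₀ ∧ (∀ g : L, g ∉ L₀ → Y ⊔ Y.map (MulAut.conj g).toMonoidHom = ⊤) ∧ (IsMulCommutative ↥Y → ∀ g : L, g ∉ L₀ → Y ⊓ Y.map (MulAut.conj g).toMonoidHom = Y ⊓ Subgroup.center L) := by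
  have hT := isSyl_map_subtype T
  have hYL0 : Y ≤ L₀ := hYT.trans hT.le
  have hMO := minOver_top hmin hL₀ hYL0
  obtain ⟨h1, h2, h3, h4, h5⟩ := core hMO hT hYT
  rw [top_inf_eq] at h1 h4
  rw [pCoreOf_top] at h2
  refine ⟨h1, h2, h3.exists_sylow_top, le_antisymm h4 Subgroup.le_normalizer, fun g hg => h5 g (mem_top g) hg, ?_⟩
  intro hab g hg
  have hYc : Y ≤ centralizer (Y : Set L) := le_centralizer_iff_isMulCommutative.mpr hab
  apply le_antisymm
  · rintro x ⟨hx1, hx2⟩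
    refine ⟨hx1, ?_⟩
    have h6 : zpowers x ≤ centralizer (Y : Set L) := by rw [zpowers_le]; exact hYc hx1
    have hYc2 : Y.map (MulAut.conj g).toMonoidHom ≤ centralizer (Y.map (MulAut.conj g).toMonoidHom : Set L) := by
      rw [← map_conj_centralizer]; exact map_mono hYc
    have h7 : zpowers x ≤ centralizer (Y.map (MulAut.conj g).toMonoidHom : Set L) := by
      rw [zpowers_le]; exact hYc2 hx2
    rw [le_centralizer_iff] at h6 h7
    have h8 : (⊤ : Subgroup L) ≤ centralizer (zpowers x : Set L) := by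
      rw [← h5 g (mem_top g) hg]; exact sup_le h6 h7
    rw [le_centralizer_iff] at h8
    have h9 := h8 (mem_zpowers x)
    rwa [Subgroup.coe_top, Subgroup.centralizer_univ] at h9
  · intro x hx
    obtain ⟨hx1, hx2⟩ := mem_inf.mp hx
    refine ⟨hx1, ?_⟩
    change x ∈ Y.map (MulAut.conj g).toMonoidHom
    rw [mem_map_conj]
    have : g⁻¹ * x * g = x := by rw [mem_center_iff] at hx2; rw [mul_assoc, ← hx2 g]; group
    rw [this]; exact hx1

end Cfsg.Agent.S2835
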