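import Cfsg.Statements.S2836
import Cfsg.Agent.Lib.YMin

set_option autoImplicit false
open Cfsg

namespace Cfsg.Agent.S2836

open Subgroup Cfsg.Agent.Lib.LocBase Cfsg.Agent.Lib.PIrred Cfsg.Agent.Lib.PReduced Cfsg.Agent.Lib.LocTrace Cfsg.Agent.Lib.LocMore Cfsg.Agent.Lib.WeakCl Cfsg.Agent.Lib.LargeSub Cfsg.Agent.Lib.LLemma Cfsg.Agent.Lib.YMin Cfsg.Agent.Lib.FrakM
open scoped commutatorElement

variable {G : Type*} [Group G] [Finite G] {p : ℕ} [hp : Fact p.Prime]

theorem core_le {L L₀ T Y D K : Subgroup G} (h : MinOver Y L L₀) (hT : IsSyl p T L₀) (hYT : Y ≤ T)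
    (hD : D ≤ L₀) (hDn : L ≤ normalizer (D : Set G)) (hO : pCoreOf p L ≤ K) (hK : K < L)
    (hmax : ∀ X, K < X → X ≤ L → X = L) : D ≤ K := by
  by_contra hne
  have hTL := (core h hT hYT).2.2.1
  have h1 : K ⊔ D = L := by
    apply hmax _ _ (sup_le hK.le (hD.trans h.lt.le))
    exact lt_of_le_of_ne le_sup_left fun e => hne (by rw [e]; exact le_sup_right)
  have h2 : K.relIndex L = K.relIndex D := by
    have := relIndex_sup_eq (A := K) (N := D) (hK.le.trans hDn)
    rwa [h1] at this
  have hTD : IsSyl p (T ⊓ D) D := hTL.inf_normal (hD.trans h.lt.le) hDn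
  have h3 : ¬ p ∣ K.relIndex L := by
    rw [h2]
    intro hd
    have h4 : T ⊓ D ≤ K := (le_pCoreOf (inf_le_right.trans (hD.trans h.lt.le)) (normal_inf h hT hYT hD hDn)
      (hT.pgroup.to_le inf_le_left)).trans hO
    apply hTD.ndvd
    rw [← Subgroup.inf_relIndex_right] at hd
    exact hd.trans (Dvd.intro_left _ (Subgroup.relIndex_mul_relIndex (T ⊓ D) (K ⊓ D) D (le_inf h4 inf_le_right) inf_le_right))
  obtain ⟨R, hR⟩ := exists_isSyl p K
  have hRM : IsSyl p R L := by
    refine ⟨hR.le.trans hK.le, hR.pgroup, ?_⟩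
    intro hd
    rw [← Subgroup.relIndex_mul_relIndex R K L hR.le hK.le] at hd
    rcases hp.out.dvd_mul.mp hd with h6 | h6
    · exact hR.ndvd h6
    · exact h3 h6
  obtain ⟨m, hm, e⟩ := hTL.conj hRM
  have h7 : Y ≤ K.map (MulAut.conj m).toMonoidHom := by
    rw [← e] at hYT; exact hYT.trans (map_mono hR.le)
  have hLm : L.map (MulAut.conj m).toMonoidHom = L := map_conj_eq_of_mem (Subgroup.le_normalizer hm)
  have hKm : K.map (MulAut.conj m).toMonoidHom < L := by
    refine lt_of_le_of_ne ?_ fun e => hK.ne ?_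
    · have := map_mono (f := (MulAut.conj m).toMonoidHom) hK.le
      rwa [hLm] at this
    · rw [← map_conj_inj m, e, hLm]
  have h8 := h.uniq _ h7 hKm
  have h9 : L₀.map (MulAut.conj m⁻¹).toMonoidHom = K := by
    rw [map_conj_le_iff] at h8
    by_contra hne2
    have h10 := hmax _ (lt_of_le_of_ne h8 (Ne.symm hne2)) (h.conj (L.inv_mem hm)).lt.le
    exact (h.conj (L.inv_mem hm)).lt.ne h10
  apply hne
  rw [← h9]
  have := map_mono (f := (MulAut.conj m⁻¹).toMonoidHom) hD
  rwa [map_conj_eq_of_mem (hDn (L.inv_mem hm))] at this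

theorem nilp {Q : Type*} [Group Q] [Finite Q] {A : Subgroup Q} (h : A ≤ frattini Q) : Group.IsNilpotent ↥A := by
  haveI : Group.IsNilpotent ↥(frattini Q) := frattini_nilpotent
  exact Group.nilpotent_of_mulEquiv (Subgroup.subgroupOfEquivOfLe h)

/-- Let L be a finite group, L₀ a maximal subgroup, T a Sylow p-subgroup of L₀, Y ≤ T, and suppose L is Y-minimal. Let D be the intersection of the conjugates of L₀ (the core of L₀). Then D contains O_p(L) and D/O_p(L) is the Frattini subgroup of L/O_p(L), so D is p-closed; and every normal subgroup N of L contained in L₀ is p-closed with N/O_p(N) a nilpotent group of order prime to p. -/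
theorem result {L : Type*} [Group L] [Finite L] {p : ℕ} [Fact p.Prime] (L₀ : Subgroup L) (hL₀ : IsCoatom L₀) (T : Sylow p ↥L₀) (Y : Subgroup L) (hYT : Y ≤ (T : Subgroup ↥L₀).map L₀.subtype) (hmin : Cfsg.IsMinimalOver Y) : (Cfsg.pCore p L ≤ L₀.normalCore ∧ (L₀.normalCore).map (QuotientGroup.mk' (Cfsg.pCore p L)) = frattini (L ⧸ Cfsg.pCore p L) ∧ Cfsg.IsPClosed p ↥(L₀.normalCore)) ∧ ∀ (N : Subgroup L) [N.Normal], N ≤ L₀ → Cfsg.IsPClosed p ↥N ∧ Group.IsNilpotent (↥N ⧸ Cfsg.pCore p ↥N) ∧ (Nat.card (↥N ⧸ Cfsg.pCore p ↥N)).Coprime p := by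
  rename_i hp
  have hT := isSyl_map_subtype T
  have hYL0 : Y ≤ L₀ := hYT.trans hT.le
  have hMO := minOver_top hmin hL₀ hYL0
  have hcore := core hMO hT hYT
  have hPle : Cfsg.pCore p L ≤ L₀ := by have := hcore.2.1; rwa [pCoreOf_top] at this
  haveI hPn : (Cfsg.pCore p L).Normal := by have := pCore_characteristic p L; infer_instance
  have hPD : Cfsg.pCore p L ≤ L₀.normalCore := Subgroup.normal_le_normalCore.mpr hPle
  have hDle : L₀.normalCore ≤ L₀ := Subgroup.normalCore_le L₀
  have htop : ∀ N : Subgroup L, N.Normal → (⊤ : Subgroup L) ≤ normalizer (N : Set L) := by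
    intro N hN
    rw [top_le_iff, normalizer_eq_top_iff]; exact hN
  have hcl : ∀ N : Subgroup L, N.Normal → N ≤ L₀ → Cfsg.IsPClosed p ↥N := by
    intro N hN hNL
    have h1 : IsSyl p ((T : Subgroup ↥L₀).map L₀.subtype ⊓ N) N := hcore.2.2.1.inf_normal le_top (htop N hN)
    exact isPClosed_of_isSyl_normal h1 (le_top.trans (normal_inf hMO hT hYT hNL (htop N hN)))
  have hfr : (L₀.normalCore).map (QuotientGroup.mk' (Cfsg.pCore p L)) = frattini (L ⧸ Cfsg.pCore p L) := by
    apply le_antisymm
    · unfold frattini Order.radical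
      apply le_iInf₂
      intro K hK
      rw [Subgroup.map_le_iff_le_comap]
      have hKc : IsCoatom (K.comap (QuotientGroup.mk' (Cfsg.pCore p L))) :=
        Subgroup.isCoatom_comap_of_surjective (QuotientGroup.mk'_surjective _) hK
      apply core_le hMO hT hYT hDle (htop _ inferInstance)
      · rw [pCoreOf_top]
        conv_lhs => rw [← QuotientGroup.ker_mk' (Cfsg.pCore p L)]
        exact Subgroup.ker_le_comap _ _
      · exact hKc.lt_top
      · intro X hX _
        exact hKc.2 X hX
    · have h1 : IsCoatom (L₀.map (QuotientGroup.mk' (Cfsg.pCore p L))) := by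
        have h2 : (L₀.map (QuotientGroup.mk' (Cfsg.pCore p L))).comap (QuotientGroup.mk' (Cfsg.pCore p L)) = L₀ := by
          rw [Subgroup.comap_map_eq, QuotientGroup.ker_mk']
          exact sup_eq_left.mpr hPle
        refine ⟨?_, ?_⟩
        · intro h3
          rw [h3, Subgroup.comap_top] at h2
          exact hL₀.1 h2.symm
        · intro X hX
          have h3 : L₀ < X.comap (QuotientGroup.mk' (Cfsg.pCore p L)) := by
            conv_lhs => rw [← h2]
            exact (Subgroup.comap_lt_comap_of_surjective (QuotientGroup.mk'_surjective _)).mpr hX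
          have h4 := hL₀.2 _ h3
          have h5 := congrArg (Subgroup.map (QuotientGroup.mk' (Cfsg.pCore p L))) h4
          rwa [Subgroup.map_comap_eq_self_of_surjective (QuotientGroup.mk'_surjective _), ← MonoidHom.range_eq_map,
            MonoidHom.range_eq_top.mpr (QuotientGroup.mk'_surjective _)] at h5
      have h2 : (frattini (L ⧸ Cfsg.pCore p L)).comap (QuotientGroup.mk' (Cfsg.pCore p L)) ≤ L₀.normalCore := by
        have hfn : (frattini (L ⧸ Cfsg.pCore p L)).Normal := inferInstance
        rw [Subgroup.normal_le_normalCore]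
        have h3 := Subgroup.comap_mono (f := QuotientGroup.mk' (Cfsg.pCore p L)) (frattini_le_coatom h1)
        rw [Subgroup.comap_map_eq, QuotientGroup.ker_mk', sup_eq_left.mpr hPle] at h3
        exact h3
      have h3 := map_mono (f := QuotientGroup.mk' (Cfsg.pCore p L)) h2
      rwa [Subgroup.map_comap_eq_self_of_surjective (QuotientGroup.mk'_surjective _)] at h3
  refine ⟨⟨hPD, hfr, hcl _ inferInstance hDle⟩, ?_⟩
  intro N hN hNL
  have h1 := hcl N hN hNL
  refine ⟨h1, ?_, ?_⟩
  · have h2 : ((QuotientGroup.mk' (Cfsg.pCore p L)).comp N.subtype).range ≤ frattini (L ⧸ Cfsg.pCore p L) := by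
      rw [MonoidHom.range_comp, Subgroup.range_subtype, ← hfr]
      exact map_mono (Subgroup.normal_le_normalCore.mpr hNL)
    haveI := nilp h2
    have hker : ((QuotientGroup.mk' (Cfsg.pCore p L)).comp N.subtype).ker = Cfsg.pCore p ↥N := by
      rw [← MonoidHom.comap_ker, QuotientGroup.ker_mk', ← pCoreOf_subgroupOf]
      have e : Cfsg.pCore p L ⊓ N = pCoreOf p N := by
        apply le_antisymm
        · exact le_pCoreOf inf_le_right (le_normalizer_inf (le_top.trans (htop _ hPn)) Subgroup.le_normalizer)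
            ((isPGroup_pCore p L).to_le inf_le_left)
        · refine le_inf ?_ (Cfsg.Agent.Lib.LocBase.pCoreOf_le N)
          have := (Subn.of_normal (le_top : N ≤ ⊤) (htop N hN)).pCoreOf_le (p := p)
          rwa [pCoreOf_top] at this
      change (Cfsg.pCore p L).subgroupOf N = (pCoreOf p N).subgroupOf N
      rw [← e, Subgroup.inf_subgroupOf_right]
    exact Group.nilpotent_of_mulEquiv
      ((QuotientGroup.quotientMulEquivOfEq hker.symm).trans (QuotientGroup.quotientKerEquivRange _)).symm
  · have h2 := (isSyl_pCoreOf_of_isPClosed h1).ndvd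
    rw [Subgroup.relIndex, pCoreOf_subgroupOf] at h2
    exact ((Nat.Prime.coprime_iff_not_dvd hp.out).mpr h2).symm

end Cfsg.Agent.S2836
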