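import Cfsg.Statements.S2837
import Cfsg.Agent.Lib.YMin
import Cfsg.Agent.Lib.FrattiniQuot

set_option autoImplicit false
open Cfsg

namespace Cfsg.Agent.S2837

open Subgroup Cfsg.Agent.Lib.LocBase Cfsg.Agent.Lib.PIrred Cfsg.Agent.Lib.PReduced Cfsg.Agent.Lib.LocTrace Cfsg.Agent.Lib.LocMore Cfsg.Agent.Lib.WeakCl Cfsg.Agent.Lib.LargeSub Cfsg.Agent.Lib.LLemma Cfsg.Agent.Lib.YMin Cfsg.Agent.Lib.FrakM
open scoped commutatorElement


/-- Let L be a finite group of characteristic p, L₀ a maximal subgroup, Y an elementary abelian p-subgroup of L₀ with L Y-minimal and O_p(L) ≤ N_L(Y). Put A = the normal closure of O_p(L) ∩ Y in L. Then for every g ∈ L outside L₀: Φ(A) = A' = [A ∩ Y, A] = [A ∩ Y, A ∩ gYg⁻¹] ≤ C_Y(L), and Y ∩ gYg⁻¹ = (A ∩ Y) ∩ (A ∩ gYg⁻¹) = C_Y(L) = C_A(L). -/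
theorem result {L : Type*} [Group L] [Finite L] {p : ℕ} [Fact p.Prime] (hchar : Subgroup.centralizer (Cfsg.pCore p L : Set L) ≤ Cfsg.pCore p L) (L₀ : Subgroup L) (hL₀ : IsCoatom L₀) (Y : Subgroup L) (hYL₀ : Y ≤ L₀) (hYel : Cfsg.IsElementaryAbelian p Y) (hmin : Cfsg.IsMinimalOver Y) (hOY : Cfsg.pCore p L ≤ Subgroup.normalizer (Y : Set L)) (A : Subgroup L) (hA : A = Subgroup.normalClosure (((Cfsg.pCore p L ⊓ Y : Subgroup L)) : Set L)) (g : L) (hg : g ∉ L₀) : (frattini ↥A).map A.subtype = ⁅A, A⁆ ∧ ⁅A, A⁆ = ⁅A ⊓ Y, A⁆ ∧ ⁅A ⊓ Y, A⁆ = ⁅A ⊓ Y, A ⊓ Y.map (MulAut.conj g).toMonoidHom⁆ ∧ ⁅A ⊓ Y, A⁆ ≤ Y ⊓ Subgroup.center L ∧ Y ⊓ Y.map (MulAut.conj g).toMonoidHom = Y ⊓ Subgroup.center L ∧ (A ⊓ Y) ⊓ (A ⊓ Y.map (MulAut.conj g).toMonoidHom) = Y ⊓ Subgroup.center L ∧ A ⊓ Subgroup.center L = Y ⊓ Subgroup.center L := by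
  have hYp : IsPGroup p Y := elem_isPGroup hYel
  obtain ⟨hYc, hYpow⟩ := elem_iff.mp hYel
  obtain ⟨T, hT, hYT⟩ := exists_isSyl_ge hYp hYL₀
  have hMO := minOver_top hmin hL₀ hYL₀
  have hcore := core hMO hT hYT
  have hgen : Y ⊔ Y.map (MulAut.conj g).toMonoidHom = ⊤ := hcore.2.2.2.2 g (mem_top g) hg
  set Y' := Y.map (MulAut.conj g).toMonoidHom with hY'
  have hPn : (Cfsg.pCore p L).Normal := by have := pCore_characteristic p L; infer_instance
  have hYc' : Y' ≤ centralizer (Y' : Set L) := by rw [hY', ← map_conj_centralizer]; exact map_mono hYc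
  have hOY' : Cfsg.pCore p L ≤ normalizer (Y' : Set L) := by
    have := map_mono (f := (MulAut.conj g).toMonoidHom) hOY
    rwa [map_conj_normalizer, map_conj_eq_of_mem (by rw [normalizer_eq_top]; exact mem_top g)] at this
  -- (5)
  have h5 : Y ⊓ Y' = Y ⊓ Subgroup.center L := by
    apply le_antisymm
    · intro x hx
      obtain ⟨hx1, hx2⟩ := mem_inf.mp hx
      refine ⟨hx1, ?_⟩
      have h6 : zpowers x ≤ centralizer (Y : Set L) := by rw [zpowers_le]; exact hYc hx1
      have h7 : zpowers x ≤ centralizer (Y' : Set L) := by rw [zpowers_le]; exact hYc' hx2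
      rw [le_centralizer_iff] at h6 h7
      have h8 : (⊤ : Subgroup L) ≤ centralizer (zpowers x : Set L) := by
        rw [← hgen]; exact sup_le h6 h7
      rw [le_centralizer_iff] at h8
      have h9 := h8 (mem_zpowers x)
      rwa [Subgroup.coe_top, Subgroup.centralizer_univ] at h9
    · intro x hx
      obtain ⟨hx1, hx2⟩ := mem_inf.mp hx
      refine ⟨hx1, ?_⟩
      change x ∈ Y'
      rw [hY', mem_map_conj]
      have : g⁻¹ * x * g = x := by rw [mem_center_iff] at hx2; rw [mul_assoc, ← hx2 g]; group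
      rw [this]; exact hx1
  have hZY' : Y ⊓ Subgroup.center L ≤ Y' := by rw [← h5]; exact inf_le_right
  have hZP : Subgroup.center L ≤ Cfsg.pCore p L := (center_le_centralizer _).trans hchar
  have hAn : A.Normal := by rw [hA]; infer_instance
  have hAP : A ≤ Cfsg.pCore p L := by rw [hA]; exact normalClosure_le_normal (fun x hx => hx.1)
  have hPYA : Cfsg.pCore p L ⊓ Y ≤ A := by rw [hA]; exact le_normalClosure
  have hZA : Y ⊓ Subgroup.center L ≤ A := (le_inf (inf_le_right.trans hZP) inf_le_left).trans hPYA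
  have hAY : A ≤ normalizer (Y : Set L) := hAP.trans hOY
  have hAY' : A ≤ normalizer (Y' : Set L) := hAP.trans hOY'
  have hnA : ∀ X : Subgroup L, X ≤ normalizer (A : Set L) := fun X => by
    rw [normalizer_eq_top]; exact le_top
  set A1 := A ⊓ Y with hA1
  set A2 := A ⊓ Y' with hA2
  -- A = A1 A2
  have hB : A1 ⊔ A2 = A := by
    apply le_antisymm (sup_le inf_le_left inf_le_left)
    have hBn : (A1 ⊔ A2).Normal := by
      rw [← normalizer_eq_top_iff, ← top_le_iff, ← hgen]
      apply sup_le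
      · rw [le_normalizer_iff_commutator_le_left]
        refine le_trans (le_inf ?_ ?_) (le_sup_left : A1 ≤ A1 ⊔ A2)
        · exact (commutator_mono (sup_le inf_le_left inf_le_left) le_rfl).trans (commutator_le_left_of_le (hnA _))
        · exact (commutator_mono (sup_le inf_le_left inf_le_left) le_rfl).trans (commutator_le_right_of_le hAY)
      · rw [le_normalizer_iff_commutator_le_left]
        refine le_trans (le_inf ?_ ?_) (le_sup_right : A2 ≤ A1 ⊔ A2)
        · exact (commutator_mono (sup_le inf_le_left inf_le_left) le_rfl).trans (commutator_le_left_of_le (hnA _))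
        · exact (commutator_mono (sup_le inf_le_left inf_le_left) le_rfl).trans (commutator_le_right_of_le hAY')
    rw [hA]
    exact normalClosure_le_normal (fun x hx => (le_sup_left : A1 ≤ A1 ⊔ A2) ⟨hPYA hx, hx.2⟩)
  have hC : ⁅A1, A2⁆ ≤ Y ⊓ Subgroup.center L := by
    rw [← h5]
    apply le_inf
    · exact (commutator_mono inf_le_right inf_le_left).trans (commutator_le_left_of_le hAY)
    · exact (commutator_mono inf_le_left inf_le_right).trans (commutator_le_right_of_le hAY')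
  have hmul : ∀ x ∈ A, ∃ a ∈ A1, ∃ b ∈ A2, x = a * b := by
    intro x hx
    rw [← hB] at hx
    exact exists_mul_of_mem_sup_of_le (inf_le_left.trans (le_normalizer_inf Subgroup.le_normalizer hAY)) hx
  have hc1 : ∀ a ∈ A1, ∀ b ∈ A1, a * b = b * a := fun a ha b hb => (mem_centralizer_iff.mp (hYc hb.2) a ha.2)
  have hc2 : ∀ a ∈ A2, ∀ b ∈ A2, a * b = b * a := fun a ha b hb => (mem_centralizer_iff.mp (hYc' hb.2) a ha.2)
  have hAA : ⁅A, A⁆ ≤ ⁅A1, A2⁆ := by
    rw [Subgroup.commutator_le]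
    intro x hx y hy
    obtain ⟨a1, ha1, a2, ha2, rfl⟩ := hmul x hx
    obtain ⟨b1, hb1, b2, hb2, rfl⟩ := hmul y hy
    have hc : ⁅a1, b2⁆ ∈ ⁅A1, A2⁆ := commutator_mem_commutator ha1 hb2
    have hd : ⁅a2, b1⁆ ∈ ⁅A1, A2⁆ := by
      rw [← commutatorElement_inv]; exact inv_mem (commutator_mem_commutator hb1 ha2)
    have hcz := mem_center_iff.mp (hC hc).2
    have hdz := mem_center_iff.mp (hC hd).2
    have e1 : a1 * b2 = ⁅a1, b2⁆ * b2 * a1 := by rw [commutatorElement_def]; group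
    have e2 : a2 * b1 = ⁅a2, b1⁆ * b1 * a2 := by rw [commutatorElement_def]; group
    have e3 : (a1 * a2) * (b1 * b2) = (⁅a2, b1⁆ * ⁅a1, b2⁆) * ((b1 * b2) * (a1 * a2)) := by
      calc (a1 * a2) * (b1 * b2) = a1 * (a2 * b1) * b2 := by group
        _ = a1 * (⁅a2, b1⁆ * b1 * a2) * b2 := by rw [e2]
        _ = (a1 * ⁅a2, b1⁆) * b1 * (a2 * b2) := by group
        _ = ⁅a2, b1⁆ * (a1 * b1) * (b2 * a2) := by rw [hdz a1, hc2 a2 ha2 b2 hb2]; group
        _ = ⁅a2, b1⁆ * b1 * (a1 * b2) * a2 := by rw [hc1 a1 ha1 b1 hb1]; group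
        _ = ⁅a2, b1⁆ * (b1 * ⁅a1, b2⁆) * b2 * a1 * a2 := by rw [e1]; group
        _ = _ := by rw [hcz b1]; group
    have e4 : ⁅a1 * a2, b1 * b2⁆ = ⁅a2, b1⁆ * ⁅a1, b2⁆ := by
      rw [commutatorElement_def, mul_assoc (a1 * a2), ← mul_assoc (a1 * a2), ]
      rw [commutatorElement_def] at *
      rw [e3]; group
    rw [e4]
    exact mul_mem hd hc
  have hA1A : ⁅A1, A2⁆ ≤ ⁅A1, A⁆ := commutator_mono le_rfl inf_le_left
  have hA1AA : ⁅A1, A⁆ ≤ ⁅A, A⁆ := commutator_mono inf_le_left le_rfl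
  have e23 : ⁅A, A⁆ = ⁅A1, A⁆ := le_antisymm (hAA.trans hA1A) hA1AA
  have e34 : ⁅A1, A⁆ = ⁅A1, A2⁆ := le_antisymm (hA1AA.trans hAA) hA1A
  refine ⟨?_, e23, e34, by rw [e34]; exact hC, h5, ?_, ?_⟩
  · rw [← Subgroup.map_subtype_commutator]
    congr 1
    have hAp : IsPGroup p A := (isPGroup_pCore p L).to_le hAP
    apply le_antisymm
    · apply Cfsg.Agent.Lib.FrattiniQuot.frattini_le (Fact.out : p.Prime)
      · intro a b; exact commutator_mem_commutator (mem_top a) (mem_top b)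
      · intro a
        obtain ⟨a1, ha1, a2, ha2, e⟩ := hmul a a.2
        have e' : a = (⟨a1, ha1.1⟩ : ↥A) * ⟨a2, ha2.1⟩ := Subtype.ext e
        have hp1 : (⟨a1, ha1.1⟩ : ↥A) ^ p = 1 := Subtype.ext (hYpow a1 ha1.2)
        have hp2 : (⟨a2, ha2.1⟩ : ↥A) ^ p = 1 := by
          apply Subtype.ext
          obtain ⟨y, hy, hy2⟩ := ha2.2
          have : a2 = g * y * g⁻¹ := by rw [← hy2]; rfl
          change a2 ^ p = 1
          rw [this, conj_pow, hYpow y hy]; group
        rw [← Abelianization.ker_of, MonoidHom.mem_ker, e', map_pow, map_mul, mul_pow, ← map_pow, ← map_pow, hp1, hp2]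
        simp
    · exact Cfsg.Agent.Lib.H70Frattini.commutator_le_frattini hAp
  · apply le_antisymm
    · rw [← h5]; exact inf_le_inf inf_le_right inf_le_right
    · exact le_inf (le_inf hZA inf_le_left) (le_inf hZA hZY')
  · apply le_antisymm
    · intro z hz
      obtain ⟨hz1, hz2⟩ := mem_inf.mp hz
      refine ⟨?_, hz2⟩
      obtain ⟨a, ha, b, hb, e⟩ := hmul z hz1
      have hzc := mem_center_iff.mp hz2
      -- a is central
      have haY : a ∈ centralizer (Y : Set L) := hYc ha.2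
      have haY' : a ∈ centralizer (Y' : Set L) := by
        have : a = z * b⁻¹ := by rw [e]; group
        rw [this]
        exact mul_mem (center_le_centralizer _ hz2) (inv_mem (hYc' hb.2))
      have hbY' : b ∈ centralizer (Y' : Set L) := hYc' hb.2
      have hbY : b ∈ centralizer (Y : Set L) := by
        have : b = a⁻¹ * z := by rw [e]; group
        rw [this]
        exact mul_mem (inv_mem haY) (center_le_centralizer _ hz2)
      have hbZ : b ∈ Subgroup.center L := by
        have h6 : zpowers b ≤ centralizer (Y : Set L) := by rwa [zpowers_le]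
        have h7 : zpowers b ≤ centralizer (Y' : Set L) := by rwa [zpowers_le]
        rw [le_centralizer_iff] at h6 h7
        have h8 : (⊤ : Subgroup L) ≤ centralizer (zpowers b : Set L) := by
          rw [← hgen]; exact sup_le h6 h7
        rw [le_centralizer_iff] at h8
        have h9 := h8 (mem_zpowers b)
        rwa [Subgroup.coe_top, Subgroup.centralizer_univ] at h9
      have hbY2 : b ∈ Y := by
        have h10 := hb.2
        change b ∈ Y' at h10
        rw [hY', mem_map_conj] at h10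
        have : g⁻¹ * b * g = b := by rw [mem_center_iff] at hbZ; rw [mul_assoc, ← hbZ g]; group
        rwa [this] at h10
      change z ∈ Y
      rw [e]; exact mul_mem ha.2 hbY2
    · exact le_inf hZA inf_le_right

end Cfsg.Agent.S2837
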