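import Cfsg.Statements.S2839
import Cfsg.Agent.Lib.WeakCl

set_option autoImplicit false
open Cfsg

namespace Cfsg.Agent.S2839

open Subgroup Cfsg.Agent.Lib.LocBase Cfsg.Agent.Lib.PIrred Cfsg.Agent.Lib.PReduced Cfsg.Agent.Lib.LocTrace Cfsg.Agent.Lib.LocMore Cfsg.Agent.Lib.WeakCl
open scoped commutatorElement


/-- Let Q be a nontrivial p-subgroup of the finite group H that is a weakly closed subgroup, K a subgroup containing Q and N a normal subgroup of H. Then Q is a weakly closed subgroup of K; every H-conjugate of Q contained in K is a K-conjugate of Q; N_K(Q) contains a Sylow p-subgroup of K; N = N_N(Q)·O^p(N); and QN/N is a weakly closed subgroup of H/N. -/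
theorem result {H : Type*} [Group H] [Finite H] {p : ℕ} [Fact p.Prime] (Q : Subgroup H) (hQp : IsPGroup p ↥Q) (hQ1 : Q ≠ ⊥) (hwc : Cfsg.IsWeaklyClosedSubgroup p Q) (K : Subgroup H) (hQK : Q ≤ K) (N' : Subgroup H) [N'.Normal] : Cfsg.IsWeaklyClosedSubgroup p (Q.subgroupOf K) ∧ (∀ g : H, ((Q : Subgroup H).map (MulAut.conj (g : H)).toMonoidHom) ≤ K → ∃ k ∈ K, ((Q : Subgroup H).map (MulAut.conj (g : H)).toMonoidHom) = ((Q : Subgroup H).map (MulAut.conj (k : H)).toMonoidHom)) ∧ Cfsg.IsParabolic p ((Subgroup.normalizer ((Q : Subgroup H) : Set H)).subgroupOf K) ∧ (N' ⊓ Subgroup.normalizer ((Q : Subgroup H) : Set H)) ⊔ (Cfsg.pResidual p ↥N').map N'.subtype = N' ∧ Cfsg.IsWeaklyClosedSubgroup p (Q.map (QuotientGroup.mk' N')) := by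
  have h : WCl Q ⊤ := (wcl_top_iff hQp).mp hwc
  refine ⟨(wcl_subgroupOf_iff hQp hQK).mpr (h.mono le_top), ?_, ?_, ?_, ?_⟩
  · intro g hg
    exact h.exists_conj hQp hQK le_top (mem_top g) hg
  · obtain ⟨T, hT, hQT⟩ := exists_isSyl_ge hQp hQK
    obtain ⟨S, hS⟩ := hT.exists_sylow
    refine ⟨S, ?_⟩
    rw [hS]
    exact Subgroup.comap_mono (h.le_normalizer hT.pgroup hQT le_top)
  · rw [map_pResidual]
    have hNQ : Q ≤ N' ⊔ Q := le_sup_right
    obtain ⟨T, hT, hQT⟩ := exists_isSyl_ge hQp hNQ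
    have h1 : IsSyl p (T ⊓ N') N' := hT.inf_normal le_sup_left (by rw [normalizer_eq_top]; exact le_top)
    apply le_antisymm (sup_le inf_le_left (pRes_le p N'))
    refine h1.sup_pRes.ge.trans ?_
    exact sup_le_sup_right (le_inf inf_le_right (inf_le_left.trans (h.le_normalizer hT.pgroup hQT le_top))) _
  · obtain ⟨T, hQT, hT⟩ := hwc
    have hTs := isSyl_top T
    have h1 := isSyl_map (QuotientGroup.mk' N') hTs
    rw [← MonoidHom.range_eq_map, MonoidHom.range_eq_top.mpr (QuotientGroup.mk'_surjective N')] at h1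
    obtain ⟨S, hS⟩ := h1.exists_sylow_top
    refine ⟨S, by rw [hS]; exact map_mono hQT, ?_⟩
    intro x
    obtain ⟨g, rfl⟩ := QuotientGroup.mk'_surjective N' x
    have e : ∀ A : Subgroup H, (A.map (QuotientGroup.mk' N')).map (MulAut.conj (QuotientGroup.mk' N' g)).toMonoidHom
        = (A.map (MulAut.conj g).toMonoidHom).map (QuotientGroup.mk' N') := by
      intro A
      rw [Subgroup.map_map, Subgroup.map_map]
      congr 1
    rw [e, hS]
    intro h2
    have h3 : Q.map (MulAut.conj g).toMonoidHom ≤ (T : Subgroup H) ⊔ N' := by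
      rw [Subgroup.map_le_map_iff, QuotientGroup.ker_mk'] at h2; exact h2
    obtain ⟨m, hm, h4⟩ := (hTs.of_le le_sup_left (le_top : (T : Subgroup H) ⊔ N' ≤ ⊤)).exists_conj_le (isPGroup_map_conj hQp g) h3
    obtain ⟨t, ht, n, hn, rfl⟩ := exists_mul_of_mem_sup_of_le' (A := N') (B := (T : Subgroup H)) (by rw [normalizer_eq_top]; exact le_top)
      (by rw [sup_comm]; exact hm)
    have h5 : Q.map (MulAut.conj (n * g)).toMonoidHom ≤ (T : Subgroup H) := by
      rw [map_conj_mul, map_conj_le_iff, map_conj_eq_of_mem (Subgroup.le_normalizer ((T : Subgroup H).inv_mem ht))] at h4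
      rw [map_conj_mul]; exact h4
    have h6 := hT _ h5
    have h7 := congrArg (Subgroup.map (QuotientGroup.mk' N')) h6
    rw [map_conj_mul] at h7
    rw [← h7]
    rw [Subgroup.map_map (Q.map (MulAut.conj g).toMonoidHom)]
    congr 1
    ext y
    have hn1 : (QuotientGroup.mk' N') n = 1 := by
      rw [QuotientGroup.mk'_apply, QuotientGroup.eq_one_iff]; exact hn
    simp [hn1]
    rw [show (n : H ⧸ N') = 1 from hn1]; simp

end Cfsg.Agent.S2839
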