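import Cfsg.Statements.S2840
import Cfsg.Agent.Lib.WeakCl

set_option autoImplicit false
open Cfsg

namespace Cfsg.Agent.S2840

open Subgroup Cfsg.Agent.Lib.LocBase Cfsg.Agent.Lib.PIrred Cfsg.Agent.Lib.PReduced Cfsg.Agent.Lib.LocTrace Cfsg.Agent.Lib.LocMore Cfsg.Agent.Lib.WeakCl
open scoped commutatorElement


/-- Let Q be a nontrivial p-subgroup of the finite group H that is a weakly closed subgroup and K a subgroup containing Q; let K° be the weak closure of Q in K (generated by the H-conjugates of Q inside K). Then K° is generated by the K-conjugates of Q, and K° is the subnormal closure of Q in K. -/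
theorem result {H : Type*} [Group H] [Finite H] {p : ℕ} [Fact p.Prime] (Q : Subgroup H) (hQp : IsPGroup p ↥Q) (hQ1 : Q ≠ ⊥) (hwc : Cfsg.IsWeaklyClosedSubgroup p Q) (K : Subgroup H) (hQK : Q ≤ K) (Kc : Subgroup H) (hKc : Kc = Cfsg.weakClosure Q K) : Kc = ⨆ k : ↥K, ((Q : Subgroup H).map (MulAut.conj ((k : H) : H)).toMonoidHom) ∧ Kc = (Cfsg.subnormalClosure (Q.subgroupOf K)).map K.subtype := by
  have h : WCl Q ⊤ := (wcl_top_iff hQp).mp hwc
  subst hKc
  refine ⟨h.weakClosure_eq hQp hQK, ?_⟩
  apply le_antisymm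
  · unfold subnormalClosure
    have h1 : Cfsg.weakClosure Q K = ((Cfsg.weakClosure Q K).subgroupOf K).map K.subtype :=
      (Subgroup.map_subgroupOf_eq_of_le weakClosure_le).symm
    rw [h1]
    apply map_mono
    apply le_sInf
    rintro F ⟨hQF, hF⟩
    have h2 : Subn (F.map K.subtype) K := by
      have := (subn_top_iff.mpr hF).map K.subtype
      rwa [← MonoidHom.range_eq_map, Subgroup.range_subtype] at this
    have h3 := h.weakClosure_le_subn hQp (by
      rw [← Subgroup.map_subgroupOf_eq_of_le hQK]; exact map_mono hQF) h2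
    exact fun x hx => by
      obtain ⟨y, hy, e⟩ := h3 hx
      rwa [← Subtype.ext e]
  · rw [Subgroup.map_le_iff_le_comap]
    apply sInf_le
    refine ⟨Subgroup.comap_mono (le_weakClosure hQK), ?_⟩
    exact (subn_iff weakClosure_le).mp (Subn.of_normal weakClosure_le (Subgroup.le_normalizer.trans (normalizer_le_normalizer_weakClosure Q K)))

end Cfsg.Agent.S2840
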