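import Cfsg.Statements.S2841
import Cfsg.Agent.Lib.WeakCl

set_option autoImplicit false
open Cfsg

namespace Cfsg.Agent.S2841

open Subgroup Cfsg.Agent.Lib.LocBase Cfsg.Agent.Lib.PIrred Cfsg.Agent.Lib.PReduced Cfsg.Agent.Lib.LocTrace Cfsg.Agent.Lib.LocMore Cfsg.Agent.Lib.WeakCl
open scoped commutatorElement


/-- Let Q be a nontrivial p-subgroup of the finite group H that is a weakly closed subgroup and N a normal subgroup of H. Then N = N_N(Q)·[N, Q] and [N, Q] = (Q ∩ [N, Q])·[N, Q, Q]. -/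
theorem result {H : Type*} [Group H] [Finite H] {p : ℕ} [Fact p.Prime] (Q : Subgroup H) (hQp : IsPGroup p ↥Q) (hQ1 : Q ≠ ⊥) (hwc : Cfsg.IsWeaklyClosedSubgroup p Q) (N' : Subgroup H) [N'.Normal] : (∀ n : H, n ∈ N' → ∃ a ∈ N' ⊓ Subgroup.normalizer ((Q : Subgroup H) : Set H), ∃ b ∈ ⁅N', Q⁆, n = a * b) ∧ (∀ c : H, c ∈ ⁅N', Q⁆ → ∃ a ∈ Q ⊓ ⁅N', Q⁆, ∃ b ∈ ⁅⁅N', Q⁆, Q⁆, c = a * b) := by
  have h : WCl Q ⊤ := (wcl_top_iff hQp).mp hwc
  have hNn : (⊤ : Subgroup H) ≤ normalizer (N' : Set H) := by rw [normalizer_eq_top]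
  have hc : ⁅N', Q⁆ ≤ N' := commutator_le_left_of_le (le_top.trans hNn)
  -- N and Q normalize [N, Q]
  have hNc : N' ≤ normalizer ((⁅N', Q⁆ : Subgroup H) : Set H) := normalizer_commutator_ge_left N' Q
  have hQc : Q ≤ normalizer ((⁅N', Q⁆ : Subgroup H) : Set H) := normalizer_commutator_ge_right N' Q
  have hE : N' ⊔ Q ≤ normalizer ((⁅N', Q⁆ ⊔ Q : Subgroup H) : Set H) := by
    apply sup_le
    · intro n hn
      apply mem_normalizer_of_map_conj_le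
      rw [Subgroup.map_sup, map_conj_eq_of_mem (hNc hn)]
      apply sup_le le_sup_left
      intro x hx
      rw [mem_map_conj] at hx
      have : x = ⁅n, n⁻¹ * x * n⁆ * (n⁻¹ * x * n) := by rw [commutatorElement_def]; group
      rw [this]
      exact Subgroup.mul_mem_sup (commutator_mem_commutator hn hx) hx
    · exact le_normalizer_sup hQc Subgroup.le_normalizer
  obtain ⟨T, hT, hQT⟩ := exists_isSyl_ge hQp (le_sup_right : Q ≤ ⁅N', Q⁆ ⊔ Q)
  have h1 : (⁅N', Q⁆ ⊔ Q) ⊔ ((N' ⊔ Q) ⊓ normalizer (T : Set H)) = N' ⊔ Q :=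
    hT.frattini_sup (sup_le_sup_right hc Q) hE
  have h2 : (N' ⊔ Q) ⊓ normalizer (T : Set H) ≤ normalizer (Q : Set H) :=
    (inf_le_inf_right _ le_top).trans (h.normalizer_le hT.pgroup hQT le_top)
  have hfirst : ∀ n : H, n ∈ N' → ∃ a ∈ N' ⊓ normalizer (Q : Set H), ∃ b ∈ ⁅N', Q⁆, n = a * b := by
    intro n hn
    have h3 : N' ⊔ Q ≤ ⁅N', Q⁆ ⊔ (normalizer (Q : Set H) ⊓ (N' ⊔ Q)) := by
      refine h1.ge.trans ?_
      refine sup_le (sup_le_sup_left (le_inf Subgroup.le_normalizer le_sup_right) _) ?_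
      exact (le_inf h2 inf_le_left).trans le_sup_right
    have h4 := h3 ((le_sup_left : N' ≤ N' ⊔ Q) hn)
    obtain ⟨a, ha, b, hb, e⟩ := exists_mul_of_mem_sup_of_le' (A := ⁅N', Q⁆) (B := normalizer (Q : Set H) ⊓ (N' ⊔ Q))
      (inf_le_right.trans (sup_le hNc hQc)) h4
    refine ⟨a, ⟨?_, ha.1⟩, b, hb, e⟩
    have : a = n * b⁻¹ := by rw [e]; group
    rw [this]
    exact N'.mul_mem hn (N'.inv_mem (hc hb))
  refine ⟨hfirst, ?_⟩
  -- second part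
  have hW1 : ⁅N', Q⁆ ≤ normalizer ((⁅⁅N', Q⁆, Q⁆ : Subgroup H) : Set H) := normalizer_commutator_ge_left _ Q
  have hle : ⁅N', Q⁆ ≤ ⁅⁅N', Q⁆, Q⁆ ⊔ (Q ⊓ ⁅N', Q⁆) := by
    rw [Subgroup.commutator_le]
    intro n hn q hq
    obtain ⟨a, ha, b, hb, rfl⟩ := hfirst n hn
    have e : ⁅a * b, q⁆ = (a * ⁅b, q⁆ * a⁻¹) * ⁅a, q⁆ := by simp only [commutatorElement_def]; group
    rw [e]
    have haW : a ∈ normalizer ((⁅⁅N', Q⁆, Q⁆ : Subgroup H) : Set H) :=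
      le_normalizer_commutator (le_normalizer_commutator (inf_le_left.trans Subgroup.le_normalizer) inf_le_right) inf_le_right ha
    refine Subgroup.mul_mem_sup (conj_mem_of_le_normalizer (K := zpowers a) (by rwa [zpowers_le]) (mem_zpowers a) (commutator_mem_commutator hb hq)) ⟨?_, ?_⟩
    · have := conj_mem_of_le_normalizer (K := zpowers a) (A := Q) (by rw [zpowers_le]; exact ha.2) (mem_zpowers a) hq
      rw [commutatorElement_def]
      exact Q.mul_mem this (Q.inv_mem hq)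
    · exact commutator_mem_commutator ha.1 hq
  intro c hcc
  obtain ⟨a, ha, b, hb, e⟩ := exists_mul_of_mem_sup_of_le' (A := ⁅⁅N', Q⁆, Q⁆) (B := Q ⊓ ⁅N', Q⁆) (inf_le_right.trans hW1) (hle hcc)
  exact ⟨a, ha, b, hb, e⟩

end Cfsg.Agent.S2841
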