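import Cfsg.Statements.S2842
import Cfsg.Agent.Lib.WeakCl

set_option autoImplicit false
open Cfsg

namespace Cfsg.Agent.S2842

open Subgroup Cfsg.Agent.Lib.LocBase Cfsg.Agent.Lib.PIrred Cfsg.Agent.Lib.PReduced Cfsg.Agent.Lib.LocTrace Cfsg.Agent.Lib.LocMore Cfsg.Agent.Lib.WeakCl
open scoped commutatorElement

variable {G : Type*} [Group G] [Finite G] {p : ℕ} [hp : Fact p.Prime]

theorem isPGroup_of_pRes {E : Subgroup G} (h : IsPGroup p ↥(pRes p E)) : IsPGroup p E := by
  rw [isPGroup_iff_pRes_eq_bot] at h ⊢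
  rwa [pRes_pRes] at h

theorem lemX {D Q V : Subgroup G} (hV : IsPGroup p V) (hDV : D ≤ normalizer (V : Set G)) (hQV : Q ≤ normalizer (V : Set G))
    (hQD : Q ≤ normalizer (D : Set G)) (hc : IsPGroup p ↥(D ⊓ centralizer (V : Set G)))
    (hD : D ≤ centralizer ((⁅V, Q⁆ : Subgroup G) : Set G)) : IsPGroup p ↥⁅Q, D⁆ := by
  have h1 : ⁅V, ncl (D ⊔ Q) Q⁆ ≤ ⁅V, Q⁆ := by
    apply commutator_ncl_le (sup_le hDV hQV) _ le_sup_right le_rfl
    apply sup_le
    · exact hD.trans (centralizer_le_normalizer _)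
    · exact normalizer_commutator_ge_right V Q
  have h2 : ⁅Q, D⁆ ≤ ncl (D ⊔ Q) Q :=
    (commutator_mono (le_ncl _ _) le_rfl).trans (commutator_le_left_of_le (le_sup_left.trans (le_normalizer_ncl _ _)))
  have h3 : ⁅Q, D⁆ ≤ D := commutator_le_right_of_le hQD
  apply isPGroup_of_pRes
  apply hc.to_le
  refine le_inf ((pRes_le _ _).trans h3) ?_
  apply pRes_le_centralizer_of_chain hV (h3.trans hDV) (Q := ⁅V, Q⁆)
  · exact (commutator_mono le_rfl ((pRes_le _ _).trans h2)).trans h1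
  · exact (pRes_le _ _).trans (h3.trans hD)

theorem le_normalizer_sup_commutator {Q D : Subgroup G} : D ≤ normalizer ((Q ⊔ ⁅Q, D⁆ : Subgroup G) : Set G) := by
  intro d hd
  apply mem_normalizer_of_map_conj_le
  rw [Subgroup.map_sup, map_conj_eq_of_mem (normalizer_commutator_ge_right Q D hd)]
  apply sup_le _ le_sup_right
  intro x hx
  rw [mem_map_conj] at hx
  have : x = (d⁻¹ * x * d) * ⁅(d⁻¹ * x * d)⁻¹, d⁆ := by simp only [commutatorElement_def]; group
  rw [this]
  exact Subgroup.mul_mem_sup hx (commutator_mem_commutator (Q.inv_mem hx) hd)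

theorem lemY {Q D K : Subgroup G} (hQ : IsPGroup p Q) (h : WCl Q K) (hQK : Q ≤ K) (hDK : D ≤ K)
    (hp : IsPGroup p ↥⁅Q, D⁆) : D ≤ normalizer (Q : Set G) := by
  have h1 : IsPGroup p ↥(Q ⊔ ⁅Q, D⁆) := by
    rw [sup_comm]
    exact isPGroup_sup hp hQ (normalizer_commutator_ge_left Q D)
  have h2 : Q ⊔ ⁅Q, D⁆ ≤ K := sup_le hQK ((commutator_mono hQK hDK).trans (commutator_le_left_of_le le_normalizer))
  exact (le_inf hDK le_normalizer_sup_commutator).trans (h.normalizer_le h1 le_sup_left h2)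

theorem lemZ {Q D L : Subgroup G} (hQ : IsPGroup p Q) (hQL : Q ≤ L) (hLD : L ≤ normalizer (D : Set G))
    (hDQ : D ≤ normalizer (Q : Set G)) : Q ⊓ D ≤ pCoreOf p L := by
  have h1 : Q ⊓ D ≤ pCoreOf p (D ⊓ L) :=
    le_pCoreOf (le_inf inf_le_right (inf_le_left.trans hQL))
      (le_normalizer_inf (inf_le_left.trans hDQ) (inf_le_left.trans le_normalizer)) (hQ.to_le inf_le_left)
  refine h1.trans (Subn.of_normal inf_le_right ?_).pCoreOf_le
  exact le_normalizer_inf hLD le_normalizer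

theorem stage1 {Q L H : Subgroup G} (hQ : IsPGroup p Q) (h : WCl Q H) (hH : IsCharP p H) (hQL : Q ≤ L) (hLH : L ≤ H) :
    H ⊓ centralizer (pCoreOf p L : Set G) ≤ normalizer (Q : Set G) := by
  have hQH := hQL.trans hLH
  apply lemY hQ h hQH inf_le_left
  have hV : IsPGroup p ↥(pCoreOf p H ⊔ Q) := isPGroup_sup (isPGroup_pCoreOf p H) hQ (hQH.trans (le_normalizer_pCoreOf p H))
  have hVQ : pCoreOf p H ≤ normalizer (Q : Set G) :=
    le_sup_left.trans (h.le_normalizer hV le_sup_right (sup_le (pCoreOf_le H) hQH))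
  have hLn : L ≤ normalizer ((H ⊓ centralizer (pCoreOf p L : Set G) : Subgroup G) : Set G) :=
    le_normalizer_inf (hLH.trans le_normalizer) (le_normalizer_centralizer (le_normalizer_pCoreOf p L))
  apply lemX (isPGroup_pCoreOf p H) (inf_le_left.trans (le_normalizer_pCoreOf p H)) (hQH.trans (le_normalizer_pCoreOf p H))
    (hQL.trans hLn)
  · apply (isPGroup_pCoreOf p H).to_le
    exact (le_inf (inf_le_left.trans inf_le_left) inf_le_right).trans hH
  · have h3 : ⁅pCoreOf p H, Q⁆ ≤ pCoreOf p L := by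
      have h4 : ⁅pCoreOf p H, Q⁆ ≤ pCoreOf p H ⊓ L :=
        le_inf (commutator_le_left_of_le (hQH.trans (le_normalizer_pCoreOf p H))) ((commutator_le_right_of_le hVQ).trans hQL)
      refine h4.trans (le_pCoreOf inf_le_right ?_ ((isPGroup_pCoreOf p H).to_le inf_le_left))
      exact le_normalizer_inf (hLH.trans (le_normalizer_pCoreOf p H)) le_normalizer
    exact inf_le_right.trans (centralizer_le h3)

theorem stage1' {Q L D : Subgroup G} (hQ : IsPGroup p Q) (hC : centralizer (Q : Set G) ≤ Q) (hQL : Q ≤ L)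
    (hD : D ≤ centralizer (pCoreOf p L : Set G)) (hDn : D ≤ normalizer (Q : Set G)) (hLD : L ≤ normalizer (D : Set G)) :
    ⁅Q, D⁆ ≤ Q ⊓ pCoreOf p L ∧ IsPGroup p D := by
  have h1 : ⁅Q, D⁆ ≤ Q ⊓ pCoreOf p L := by
    refine le_inf (commutator_le_left_of_le hDn) ?_
    exact (le_inf (commutator_le_left_of_le hDn) (commutator_le_right_of_le (hQL.trans hLD))).trans (lemZ hQ hQL hLD hDn)
  refine ⟨h1, ?_⟩
  apply isPGroup_of_pRes
  apply hQ.to_le
  refine le_trans ?_ hC
  apply pRes_le_centralizer_of_chain hQ hDn (Q := pCoreOf p L)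
  · exact (commutator_mono le_rfl (pRes_le _ _)).trans (h1.trans inf_le_right)
  · exact (pRes_le _ _).trans hD

theorem charP_of {L D : Subgroup G} (hD : IsPGroup p D) (hD2 : L ⊓ centralizer (pCoreOf p L : Set G) ≤ D) :
    IsCharP p L :=
  le_pCoreOf inf_le_left (le_normalizer_inf le_normalizer (le_normalizer_centralizer (le_normalizer_pCoreOf p L))) (hD.to_le hD2)

theorem stage2 {Q L : Subgroup G} (hQ : IsPGroup p Q) (h : WCl Q ⊤) (hC : centralizer (Q : Set G) ≤ Q) (hQL : Q ≤ L)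
    {y : G} (hy : y ∈ pCoreOf p L ⊓ centralizer (Q : Set G)) (hyC : IsCharP p (centralizer ({y} : Set G))) :
    centralizer (pCoreOf p L : Set G) ≤ normalizer (Q : Set G) := by
  have hQy : Q ≤ centralizer ({y} : Set G) := by
    intro q hq
    rw [mem_centralizer_singleton_iff]
    exact (mem_centralizer_iff.mp hy.2 q hq)
  have hDy : centralizer (pCoreOf p L : Set G) ≤ centralizer ({y} : Set G) :=
    centralizer_le (Set.singleton_subset_iff.mpr hy.1)
  set D := centralizer (pCoreOf p L : Set G) with hD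
  have hLD : L ≤ normalizer (D : Set G) := le_normalizer_centralizer (le_normalizer_pCoreOf p L)
  have h2 : Q ≤ (L ⊔ D) ⊓ centralizer ({y} : Set G) := le_inf (hQL.trans le_sup_left) hQy
  have h3 := stage1 hQ (h.mono le_top) hyC h2 inf_le_right
  have h4 : IsCharP p ((L ⊔ D) ⊓ centralizer ({y} : Set G)) := by
    have h5 := stage1' (L := (L ⊔ D) ⊓ centralizer ({y} : Set G)) hQ hC h2 inf_le_right h3
      (le_normalizer_inf (inf_le_right.trans le_normalizer) (le_normalizer_centralizer (le_normalizer_pCoreOf p _)))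
    exact charP_of h5.2 (le_inf (inf_le_left.trans inf_le_right) inf_le_right)
  have h5 : IsCharP p D := h4.of_normal (le_inf le_sup_right hDy) (inf_le_left.trans (sup_le hLD le_normalizer))
  apply lemY hQ h le_top le_top
  have hLV : L ≤ normalizer (pCoreOf p D : Set G) := hLD.trans (normalizer_le_normalizer_pCoreOf p D)
  have hV : IsPGroup p ↥(pCoreOf p D ⊔ Q) := isPGroup_sup (isPGroup_pCoreOf p D) hQ (hQL.trans hLV)
  have hVQ : pCoreOf p D ≤ normalizer (Q : Set G) :=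
    le_sup_left.trans (h.le_normalizer hV le_sup_right le_top)
  apply lemX (isPGroup_pCoreOf p D) (le_normalizer_pCoreOf p D) (hQL.trans hLV) (hQL.trans hLD)
  · exact (isPGroup_pCoreOf p D).to_le h5
  · have h6 : ⁅pCoreOf p D, Q⁆ ≤ pCoreOf p L := by
      have h7 : ⁅pCoreOf p D, Q⁆ ≤ pCoreOf p D ⊓ L :=
        le_inf (commutator_le_left_of_le (hQL.trans hLV)) ((commutator_le_right_of_le hVQ).trans hQL)
      refine h7.trans (le_pCoreOf inf_le_right ?_ ((isPGroup_pCoreOf p D).to_le inf_le_left))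
      exact le_normalizer_inf hLV le_normalizer
    exact centralizer_le h6

/-- Let Q be a nontrivial p-subgroup of the finite group H that is a weakly closed subgroup with C_H(Q) ≤ Q, and Q ≤ L ≤ H. Suppose H has characteristic p, or more generally that C_H(y) has characteristic p for some nonidentity y ∈ C_{O_p(L)}(Q). Then [Q, C_H(O_p(L))] ≤ Q ∩ O_p(L), C_H(O_p(L)) is a p-group, and L has characteristic p. -/
theorem result {H : Type*} [Group H] [Finite H] {p : ℕ} [Fact p.Prime] (Q : Subgroup H) (hQp : IsPGroup p ↥Q) (hQ1 : Q ≠ ⊥) (hwc : Cfsg.IsWeaklyClosedSubgroup p Q) (hCQ : Subgroup.centralizer ((Q : Subgroup H) : Set H) ≤ Q) (L : Subgroup H) (hQL : Q ≤ L) (hyp : Subgroup.centralizer (Cfsg.pCore p H : Set H) ≤ Cfsg.pCore p H ∨ ∃ y : H, y ≠ 1 ∧ y ∈ (Cfsg.pCoreOf p L) ⊓ Subgroup.centralizer ((Q : Subgroup H) : Set H) ∧ Subgroup.centralizer (Cfsg.pCore p ↥(Subgroup.centralizer ({y} : Set H)) : Set ↥(Subgroup.centralizer ({y} : Set H))) ≤ Cfsg.pCore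 p ↥(Subgroup.centralizer ({y} : Set H))) : ⁅Q, Subgroup.centralizer (((Cfsg.pCoreOf p L) : Subgroup H) : Set H)⁆ ≤ Q ⊓ (Cfsg.pCoreOf p L) ∧ IsPGroup p ↥(Subgroup.centralizer (((Cfsg.pCoreOf p L) : Subgroup H) : Set H)) ∧ Subgroup.centralizer (Cfsg.pCore p ↥L : Set ↥L) ≤ Cfsg.pCore p ↥L := by
  have h : WCl Q ⊤ := (wcl_top_iff hQp).mp hwc
  have hmain : centralizer (pCoreOf p L : Set H) ≤ normalizer (Q : Set H) := by
    rcases hyp with h1 | ⟨y, hy1, hy, h1⟩
    · have := stage1 hQp h (isCharP_top.mpr h1) hQL le_top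
      rwa [top_inf_eq] at this
    · exact stage2 hQp h hCQ hQL hy (isCharP_iff.mpr h1)
  have h2 := stage1' hQp hCQ hQL le_rfl hmain (le_normalizer_centralizer (le_normalizer_pCoreOf p L))
  exact ⟨h2.1, h2.2, isCharP_iff.mp (charP_of h2.2 inf_le_right)⟩

end Cfsg.Agent.S2842
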