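import Cfsg.Statements.S2844
import Cfsg.Agent.Lib.LargeSub

set_option autoImplicit false
open Cfsg

namespace Cfsg.Agent.S2844

open Subgroup Cfsg.Agent.Lib.LocBase Cfsg.Agent.Lib.PIrred Cfsg.Agent.Lib.PReduced Cfsg.Agent.Lib.LocTrace Cfsg.Agent.Lib.LocMore Cfsg.Agent.Lib.WeakCl Cfsg.Agent.Lib.LargeSub
open scoped commutatorElement


/-- Let Q be a nontrivial large p-subgroup of the finite group H and Q• = O_p(N_H(Q)). Then for every g ∈ H outside N_H(Q): C_H(Q) ∩ C_H(gQg⁻¹) = 1, C_H(Q•) ∩ C_H(gQ•g⁻¹) = 1, Z(Q) ∩ Z(gQg⁻¹) = 1 and Z(Q•) ∩ Z(gQ•g⁻¹) = 1; moreover N_H(Q) = N_H(Q•) and Q• is large in H. -/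
theorem result {H : Type*} [Group H] [Finite H] {p : ℕ} [Fact p.Prime] (Q : Subgroup H) (hQp : IsPGroup p ↥Q) (hQ1 : Q ≠ ⊥) (hL : Cfsg.IsLarge Q) (Qb : Subgroup H) (hQb : Qb = Cfsg.largeBullet p Q) : (∀ g : H, g ∉ Subgroup.normalizer ((Q : Subgroup H) : Set H) → Subgroup.centralizer ((Q : Subgroup H) : Set H) ⊓ Subgroup.centralizer ((((Q : Subgroup H).map (MulAut.conj (g : H)).toMonoidHom) : Subgroup H) : Set H) = ⊥ ∧ Subgroup.centralizer ((Qb : Subgroup H) : Set H) ⊓ Subgroup.centralizer ((((Qb : Subgroup H).map (MulAut.conj (g : H)).toMonoidHom) : Subgroup H) : Set H) = ⊥ ∧ (Q ⊓ Subgroup.centralizer ((Q : Subgroup H) : Set H)) ⊓ (((Q : Subgroup H).map (MulAut.conj (g : H)).toMonoidHom) ⊓ Subgroup.centralizer ((((Q : Subgroup H).map (MulAut.conj (g : H)).toMonoidHom) : Subgroup H) : Set H)) = ⊥ ∧ (Qb ⊓ Subgroup.centralizer ((Qb : Subgroup H) : Set H)) ⊓ (((Qb : Subgroup H).map (MulAut.conj (g : H)).toMonoidHom) ⊓ Subgroup.centralizer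 ((((Qb : Subgroup H).map (MulAut.conj (g : H)).toMonoidHom) : Subgroup H) : Set H)) = ⊥) ∧ Subgroup.normalizer ((Q : Subgroup H) : Set H) = Subgroup.normalizer ((Qb : Subgroup H) : Set H) ∧ Cfsg.IsLarge Qb := by
  have hb : Q ≤ Qb := by
    rw [hQb]; exact le_pCoreOf le_normalizer le_rfl hQp
  have hbp : IsPGroup p Qb := by rw [hQb]; exact isPGroup_pCoreOf p _
  have hN : normalizer (Q : Set H) = normalizer (Qb : Set H) := by
    apply le_antisymm
    · rw [hQb]; exact le_normalizer_pCoreOf p _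
    · exact large_normalizer_le_of_le hL hQ1 hbp hb
  refine ⟨?_, hN, ?_, ?_⟩
  · intro g hg
    have h1 := large_inf_eq_bot hL hQp hQ1 hg
    have h2 : centralizer (Qb : Set H) ≤ centralizer (Q : Set H) := Subgroup.centralizer_le hb
    have h3 : centralizer (Qb.map (MulAut.conj g).toMonoidHom : Set H) ≤ centralizer (Q.map (MulAut.conj g).toMonoidHom : Set H) :=
      Subgroup.centralizer_le (map_mono hb)
    refine ⟨h1, ?_, ?_, ?_⟩
    · exact le_bot_iff.mp ((inf_le_inf h2 h3).trans h1.le)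
    · exact le_bot_iff.mp ((inf_le_inf inf_le_right inf_le_right).trans h1.le)
    · exact le_bot_iff.mp ((inf_le_inf (inf_le_right.trans h2) (inf_le_right.trans h3)).trans h1.le)
  · exact (Subgroup.centralizer_le hb).trans (hL.1.trans hb)
  · intro U hU hU1
    rw [← hN]
    exact hL.2 U (hU.trans (Subgroup.centralizer_le hb)) hU1

end Cfsg.Agent.S2844
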