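import Cfsg.Statements.S2845
import Cfsg.Agent.Lib.LargeSub

set_option autoImplicit false
open Cfsg

namespace Cfsg.Agent.S2845

open Subgroup Cfsg.Agent.Lib.LocBase Cfsg.Agent.Lib.PIrred Cfsg.Agent.Lib.PReduced Cfsg.Agent.Lib.LocTrace Cfsg.Agent.Lib.LocMore Cfsg.Agent.Lib.WeakCl Cfsg.Agent.Lib.LargeSub
open scoped commutatorElement


/-- Let Q be a nontrivial large p-subgroup of the finite group H. Then for every subgroup L ≥ Q with O_p(L) ≠ 1, C_H(O_p(L)) is a p-group and L has characteristic p, and either the weak closure L° of Q in L equals Q or C_H(L°) = 1; for every subgroup R of H containing a Sylow p-subgroup of H with O_p(R) ≠ 1, C_H(O_p(R)) ≤ O_p(R); and H has parabolic characteristic p. -/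
theorem result {H : Type*} [Group H] [Finite H] {p : ℕ} [Fact p.Prime] (Q : Subgroup H) (hQp : IsPGroup p ↥Q) (hQ1 : Q ≠ ⊥) (hL : Cfsg.IsLarge Q) : (∀ L : Subgroup H, Q ≤ L → Cfsg.pCore p ↥L ≠ ⊥ → IsPGroup p ↥(Subgroup.centralizer (((Cfsg.pCoreOf p L) : Subgroup H) : Set H)) ∧ Subgroup.centralizer (Cfsg.pCore p ↥L : Set ↥L) ≤ Cfsg.pCore p ↥L ∧ (Cfsg.weakClosure Q L = Q ∨ Subgroup.centralizer (((Cfsg.weakClosure Q L) : Subgroup H) : Set H) = ⊥)) ∧ (∀ R : Subgroup H, Cfsg.IsParabolic p R → Cfsg.pCore p ↥R ≠ ⊥ → Subgroup.centralizer (((Cfsg.pCoreOf p R) : Subgroup H) : Set H) ≤ (Cfsg.pCoreOf p R)) ∧ Cfsg.IsOfParabolicCharacteristic p H := by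
  refine ⟨?_, ?_, large_parabolicChar hL hQp⟩
  · intro L hQL hL1
    rw [pCore_ne_bot_iff] at hL1
    refine ⟨large_isPGroup_centralizer hL hQp hQL hL1, isCharP_iff.mp (large_isCharP hL hQp hQL hL1), ?_⟩
    by_cases h : L ≤ normalizer (Q : Set H)
    · left
      rw [(large_wcl hL hQp hQ1).weakClosure_eq hQp hQL]
      exact le_antisymm (ncl_le le_rfl h) (le_ncl L Q)
    · right
      obtain ⟨l, hl, hln⟩ := SetLike.not_le_iff_exists.mp h
      rw [← le_bot_iff, ← large_inf_eq_bot hL hQp hQ1 hln]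
      apply le_inf
      · exact Subgroup.centralizer_le (le_weakClosure hQL)
      · apply Subgroup.centralizer_le
        apply conj_le_weakClosure
        have := map_mono (f := (MulAut.conj l).toMonoidHom) hQL
        rwa [map_conj_eq_of_mem (le_normalizer hl)] at this
  · rintro R ⟨T, hT⟩ hR
    rw [pCore_ne_bot_iff] at hR
    exact large_centralizer_pCoreOf_le hL hQp (isSyl_top T) hT hR

end Cfsg.Agent.S2845
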