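import Cfsg.Statements.S2846
import Cfsg.Agent.Lib.FrakM

set_option autoImplicit false
open Cfsg

namespace Cfsg.Agent.S2846

open Subgroup Cfsg.Agent.Lib.LocBase Cfsg.Agent.Lib.PIrred Cfsg.Agent.Lib.PReduced Cfsg.Agent.Lib.LocTrace Cfsg.Agent.Lib.LocMore Cfsg.Agent.Lib.WeakCl Cfsg.Agent.Lib.LargeSub Cfsg.Agent.Lib.FrakM
open scoped commutatorElement


/-- Let Q be a nontrivial large p-subgroup of the finite group H, S a Sylow p-subgroup containing Q, and L a subgroup containing S with O_p(L) ≠ 1 and C_H(O_p(L)) ≤ O_p(L). Then there are a subgroup M containing S having the basic property (M ∈ 𝔐_H, writing Y_X for the largest p-reduced normal subgroup of X and 𝓛_H for the set of subgroups X with O_p(X) ≠ 1 and C_H(O_p(X)) ≤ O_p(X): M ∈ 𝓛_H, M·C_H(Y_M) is the only maximal member of 𝓛_H containing M and its largest p-reduced normal subgroup is again Y_M, C_M(Y_M) is p-closed, and the image of C_M(Y_M) in M/O_p(M) lies in the Frattini subgroup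 of M/O_p(M)) and a subgroup L* with S ≤ L* ≤ M, O_p(L*) ≠ 1, C_H(O_p(L*)) ≤ O_p(L*), such that L·C_H(Y_L) = L*·C_H(Y_L), the weak closures of Q in L and in L* agree and lie in that of M, and Y_L = Y_{L*} ≤ Y_M. If moreover Q is not normal in L, then Q is normal in neither L* nor M. -/
theorem result {H : Type*} [Group H] [Finite H] {p : ℕ} [Fact p.Prime] (Q : Subgroup H) (hQp : IsPGroup p ↥Q) (hQ1 : Q ≠ ⊥) (hLg : Cfsg.IsLarge Q) (S : Sylow p H) (hQS : Q ≤ (S : Subgroup H)) (L : Subgroup H) (hSL : (S : Subgroup H) ≤ L) (hL : L ∈ Cfsg.charPSubgroups p H) : ∃ M Ls : Subgroup H, (S : Subgroup H) ≤ M ∧ Cfsg.IsInFrakM p M ∧ (S : Subgroup H) ≤ Ls ∧ Ls ≤ M ∧ Ls ∈ Cfsg.charPSubgroups p H ∧ L ⊔ Subgroup.centralizer (((Cfsg.largestPReducedOf p L) : Subgroup H) : Set H) = Ls ⊔ Subgroup.centralizer (((Cfsg.largestPReducedOf p L) : Subgroup H) : Set H) ∧ Cfsg.weakClosure Q L = Cfsg.weakClosure Q Ls ∧ Cfsg.weakClosure Q Ls ≤ Cfsg.weakClosure Q M ∧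 (Cfsg.largestPReducedOf p L) = (Cfsg.largestPReducedOf p Ls) ∧ (Cfsg.largestPReducedOf p Ls) ≤ (Cfsg.largestPReducedOf p M) ∧ (¬ L ≤ Subgroup.normalizer ((Q : Subgroup H) : Set H) → ¬ Ls ≤ Subgroup.normalizer ((Q : Subgroup H) : Set H) ∧ ¬ M ≤ Subgroup.normalizer ((Q : Subgroup H) : Set H)) := by
  have hH := large_parabolicChar (p := p) hLg hQp
  obtain ⟨M, Ls, h1, h2, h3, h4, h5, h6, h7, h8⟩ := exists_frakM hH (isSyl_top S) hSL hL
  have hYp := elem_isPGroup (pRed_largest p L).elem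
  have hY1 := largest_ne_bot hL
  have e1 := large_weakClosure_sup hLg hQp hQ1 (hQS.trans hSL) hYp hY1 (pRed_largest p L).norm
  have e2 := large_weakClosure_sup hLg hQp hQ1 (hQS.trans h3) hYp hY1 (L := Ls) (by rw [h6]; exact (pRed_largest p Ls).norm)
  have e3 : Cfsg.weakClosure Q L = Cfsg.weakClosure Q Ls := by rw [e1, h8, ← e2]
  refine ⟨M, Ls, h1, h2, h3, h4, h5, h8, e3, weakClosure_mono h4, h6, by rw [← h6]; exact h7, ?_⟩
  intro hne
  have h9 : ¬ Ls ≤ normalizer (Q : Set H) := by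
    intro h
    apply hne
    have e4 : Cfsg.weakClosure Q L = Q := by
      rw [e3, (large_wcl hLg hQp hQ1).weakClosure_eq hQp (hQS.trans h3)]
      exact le_antisymm (ncl_le le_rfl h) (le_ncl Ls Q)
    have h10 := le_normalizer.trans (normalizer_le_normalizer_weakClosure Q L)
    rwa [e4] at h10
  exact ⟨h9, fun h => h9 (h4.trans h)⟩

end Cfsg.Agent.S2846
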