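import Cfsg.Statements.S2849
import Cfsg.Agent.Lib.FrakM

set_option autoImplicit false
open Cfsg

namespace Cfsg.Agent.S2849

open Subgroup Cfsg.Agent.Lib.LocBase Cfsg.Agent.Lib.PIrred Cfsg.Agent.Lib.PReduced Cfsg.Agent.Lib.LocTrace Cfsg.Agent.Lib.LocMore Cfsg.Agent.Lib.WeakCl Cfsg.Agent.Lib.LargeSub Cfsg.Agent.Lib.FrakM
open scoped commutatorElement


/-- Standing hypotheses: G a finite group, S a Sylow p-subgroup, Q a nontrivial large p-subgroup of G contained in S (C_G(Q) ≤ Q and N_G(U) ≤ N_G(Q) for all nontrivial U ≤ C_G(Q)), and M a subgroup containing S with the basic property (M ∈ 𝔐_G(S)); Y_M denotes the largest p-reduced normal subgroup of M and M† = M·C_G(Y_M). Suppose Y_M is asymmetric in G. Then for every subgroup R with Y_M ≤ R ≤ M†, the normal closure of Y_M in N_G(R) is elementary abelian. -/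
theorem result {G : Type*} [Group G] [Finite G] {p : ℕ} [Fact p.Prime] (S : Sylow p G) (Q : Subgroup G) (hQp : IsPGroup p ↥Q) (hQ1 : Q ≠ ⊥) (hQS : Q ≤ (S : Subgroup G)) (hQ : Cfsg.IsLarge Q) (M : Subgroup G) (hSM : (S : Subgroup G) ≤ M) (hM : Cfsg.IsInFrakM p M) (hasym : ¬ Cfsg.IsSymmetricIn (Cfsg.largestPReducedOf p M)) (R : Subgroup G) (hYR : (Cfsg.largestPReducedOf p M) ≤ R) (hRM : R ≤ (M ⊔ Subgroup.centralizer (((Cfsg.largestPReducedOf p M) : Subgroup G) : Set G))) : Cfsg.IsElementaryAbelian p ((Subgroup.normalClosure ((((Cfsg.largestPReducedOf p M)).subgroupOf (Subgroup.normalizer ((R : Subgroup G) : Set G)) : Subgroup ↥(Subgroup.normalizer ((R : Subgroup G) : Set G))) : Set ↥(Subgroup.normalizer ((R : Subgroup G) : Set G)))).map (Subgroup.normalizer ((R : Subgroup G) : Set G)).subtype) := by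
  set Y := Cfsg.largestPReducedOf p M with hY
  set N := normalizer (R : Set G) with hN
  have hYN : Y ≤ N := hYR.trans le_normalizer
  rw [map_normalClosure_subgroupOf hYN]
  have hRY : R ≤ normalizer (Y : Set G) := hRM.trans (dagger_le_normalizer p M)
  have hcomm : ∀ n ∈ N, ⁅Y, Y.map (MulAut.conj n).toMonoidHom⁆ = ⊥ := by
    intro n hn
    by_contra hne
    apply hasym
    refine ⟨n, hne, ?_⟩
    have h1 : Y.map (MulAut.conj n).toMonoidHom ≤ R := by
      have := map_mono (f := (MulAut.conj n).toMonoidHom) hYR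
      rwa [map_conj_eq_of_mem hn] at this
    have h2 : R ≤ normalizer (Y.map (MulAut.conj n).toMonoidHom : Set G) := by
      have := map_mono (f := (MulAut.conj n).toMonoidHom) hRY
      rwa [map_conj_eq_of_mem hn, map_conj_normalizer] at this
    exact Cfsg.Agent.Lib.WeakCl.commutator_le_inf (hYR.trans h2) (h1.trans hRY)
  have hY1 : ∀ a ∈ Y, a ^ p = 1 := (elem_iff.mp (pRed_largest p M).elem).2
  unfold ncl
  have key : ∀ g h : ↥N, Y.map (MulAut.conj (g : G)).toMonoidHom ≤ centralizer (Y.map (MulAut.conj (h : G)).toMonoidHom : Set G) := by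
    intro g h
    have h1 := hcomm ((g : G)⁻¹ * h) (N.mul_mem (N.inv_mem g.2) h.2)
    rw [commutator_eq_bot_iff_le_centralizer] at h1
    have h2 := map_mono (f := (MulAut.conj (g : G)).toMonoidHom) h1
    rwa [map_conj_centralizer, ← map_conj_mul, mul_inv_cancel_left] at h2
  exact elem_iSup (fun g => elem_map (pRed_largest p M).elem _) key

end Cfsg.Agent.S2849
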