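import Cfsg.Statements.S2850
import Cfsg.Agent.Lib.FrakMA

set_option autoImplicit false
open Cfsg

namespace Cfsg.Agent.S2850

open Subgroup Cfsg.Agent.Lib.LocBase Cfsg.Agent.Lib.FrakMA

/-- Standing hypotheses: G a finite group, S a Sylow p-subgroup, Q a nontrivial large p-subgroup of G contained in S (C_G(Q) ≤ Q and N_G(U) ≤ N_G(Q) for all nontrivial U ≤ C_G(Q)), and M a subgroup containing S with the basic property (M ∈ 𝔐_G(S)); Y_M denotes the largest p-reduced normal subgroup of M and M† = M·C_G(Y_M). Suppose Y_M is asymmetric in G. Then N_G(L) ≤ N_G(O_p(M)) ≤ M† for every p-subgroup L containing O_p(M); O_p(M) is a weakly closed subgroup of G; for every subgroup L containing O_p(M), L ∩ M† contains a Sylow p-subgroup of L; and two elements of Y_M conjugate in G are conjugate in M. -/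
theorem result {G : Type*} [Group G] [Finite G] {p : ℕ} [Fact p.Prime] (S : Sylow p G) (Q : Subgroup G) (hQp : IsPGroup p ↥Q) (hQ1 : Q ≠ ⊥) (hQS : Q ≤ (S : Subgroup G)) (hQ : Cfsg.IsLarge Q) (M : Subgroup G) (hSM : (S : Subgroup G) ≤ M) (hM : Cfsg.IsInFrakM p M) (hasym : ¬ Cfsg.IsSymmetricIn (Cfsg.largestPReducedOf p M)) : (∀ L : Subgroup G, IsPGroup p ↥L → (Cfsg.pCoreOf p M) ≤ L → Subgroup.normalizer ((L : Subgroup G) : Set G) ≤ Subgroup.normalizer (((Cfsg.pCoreOf p M) : Subgroup G) : Set G) ∧ Subgroup.normalizer (((Cfsg.pCoreOf p M) : Subgroup G) : Set G) ≤ (M ⊔ Subgroup.centralizer (((Cfsg.largestPReducedOf p M) : Subgroup G) : Set G))) ∧ Cfsg.IsWeaklyClosedSubgroup p (Cfsg.pCoreOf p M) ∧ (∀ L : Subgroup G, (Cfsg.pCoreOf p M) ≤ L → Cfsg.IsParabolic p ((L ⊓ (M ⊔ Subgroup.centralizer (((Cfsg.largestPReducedOf p M) : Subgroup G) : Set G))).subgroupOf L)) ∧ (∀ x ∈ (Cfsg.largestPReducedOf p M), ∀ g : G, g * x * g⁻¹ ∈ (Cfsg.largestPReducedOf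 p M) → ∃ m ∈ M, m * x * m⁻¹ = g * x * g⁻¹) := by
  have hQM : Q ≤ M := hQS.trans hSM
  have hMd := normalizer_Y_eq hQp hQ hQM hM
  have hRMd := normalizer_R_le hQp hQ hQM hM
  have hSn : IsSyl p (S : Subgroup G) M := isSyl_of_sylow_le hSM
  refine ⟨fun L hL hRL => ⟨normalizer_le_of_asym hQp hQ hQM hSM hM hasym hL hRL, hRMd⟩, ⟨S, hSn.pCoreOf_le, ?_⟩, ?_, ?_⟩
  · intro g hg
    exact map_conj_eq_of_mem (mem_normalizer_R_of_asym hQp hQ hQM hSM hM hasym S.2 hSn.pCoreOf_le hg)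
  · intro L hRL
    obtain ⟨T, hT, hRT⟩ := exists_isSyl_ge (isPGroup_pCoreOf p M) hRL
    obtain ⟨P, hP⟩ := hT.exists_sylow
    refine ⟨P, ?_⟩
    rw [hP]
    intro x hx
    refine ⟨x.2, ?_⟩
    exact hRMd (normalizer_le_of_asym hQp hQ hQM hSM hM hasym hT.pgroup hRT (le_normalizer hx))
  · intro x hx g hg
    have h1 : Cfsg.pCoreOf p M ≤ centralizer ({g * x * g⁻¹} : Set G) := by
      intro r hr
      rw [mem_centralizer_singleton_iff]
      exact (mem_centralizer_iff.mp (R_le_centralizer_Y p M hr) _ hg).symm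
    have h2 : (Cfsg.pCoreOf p M).map (MulAut.conj g).toMonoidHom ≤ centralizer ({g * x * g⁻¹} : Set G) := by
      rintro _ ⟨r, hr, rfl⟩
      rw [mem_centralizer_singleton_iff]
      have h3 := mem_centralizer_iff.mp (R_le_centralizer_Y p M hr) _ hx
      change g * r * g⁻¹ * (g * x * g⁻¹) = g * x * g⁻¹ * (g * r * g⁻¹)
      calc g * r * g⁻¹ * (g * x * g⁻¹) = g * (r * x) * g⁻¹ := by group
        _ = g * (x * r) * g⁻¹ := by rw [h3]
        _ = _ := by group
    obtain ⟨c, hc, hcg⟩ := exists_conj_of_asym hQp hQ hQM hSM hM hasym h1 h2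
    obtain ⟨m, hm, z, hz, e⟩ := exists_mul_of_mem_sup_of_le'
      (le_normalizer_centralizer (M_le_normalizer_Y p M)) (by rw [sup_comm]; exact hRMd hcg)
    refine ⟨m, hm, ?_⟩
    have h3 : c * (g * x * g⁻¹) * c⁻¹ = g * x * g⁻¹ := by
      rw [mem_centralizer_singleton_iff.mp hc]; group
    have h4 : z * x * z⁻¹ = x := by
      rw [← mem_centralizer_iff.mp hz x hx]; group
    calc m * x * m⁻¹ = m * (z * x * z⁻¹) * m⁻¹ := by rw [h4]
      _ = (m * z) * x * (m * z)⁻¹ := by group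
      _ = (c * g) * x * (c * g)⁻¹ := by rw [e]
      _ = c * (g * x * g⁻¹) * c⁻¹ := by group
      _ = g * x * g⁻¹ := h3


end Cfsg.Agent.S2850
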