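import Cfsg.Statements.S2851
import Cfsg.Agent.Lib.FrakH

set_option autoImplicit false
open Cfsg

namespace Cfsg.Agent.S2851

open Subgroup Cfsg.Agent.Lib.LocBase Cfsg.Agent.Lib.FrakMA Cfsg.Agent.Lib.FrakH Cfsg.Agent.Lib.PReduced Cfsg.Agent.Lib.PIrred
open scoped commutatorElement

/-- Let `N ⊴ X` with `O_p(X/N) = 1`; a subgroup `D` normalized by the preimage of `F*(X/N)` and with `O^p(D) ≤ N`
lies in `N`. -/
theorem le_of_genFitting {X : Type*} [Group X] [Finite X] {p : ℕ} [hp : Fact p.Prime] {N D : Subgroup X} [N.Normal]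
    (hcore : Cfsg.pCore p (X ⧸ N) = ⊥)
    (hFD : (Cfsg.generalizedFittingSubgroup (X ⧸ N)).comap (QuotientGroup.mk' N) ≤ normalizer (D : Set X))
    (hD : pRes p D ≤ N) : D ≤ N := by
  set q := QuotientGroup.mk' N with hq
  set Fs := Cfsg.generalizedFittingSubgroup (X ⧸ N) with hFs
  have hsurj : Function.Surjective q := QuotientGroup.mk'_surjective N
  set D' := D.map q with hD'
  have hDp : IsPGroup p D' := by
    rw [isPGroup_iff_pRes_eq_bot, hD', ← pRes_map, eq_bot_iff]
    rintro _ ⟨x, hx, rfl⟩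
    rw [mem_bot]
    exact (QuotientGroup.eq_one_iff x).mpr (hD hx)
  have hFD' : Fs ≤ normalizer (D' : Set (X ⧸ N)) := by
    rw [le_normalizer_iff]
    rintro f hf _ ⟨d, hd, rfl⟩
    obtain ⟨f', rfl⟩ := hsurj f
    have h1 : f' ∈ normalizer (D : Set X) := hFD hf
    exact ⟨f' * d * f'⁻¹, (mem_normalizer_iff.mp h1 d).mp hd, by simp⟩
  have hFsn : Fs.Normal := by
    have := Cfsg.Agent.Lib.Layer.generalizedFittingSubgroup_characteristic (X ⧸ N)
    infer_instance
  have h1 : Fs ⊓ D' = ⊥ := by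
    rw [eq_bot_iff, ← hcore]
    apply Cfsg.Agent.Lib.Layer.subnormal_pgroup_le_pCore
    · rw [← subn_top_iff]
      exact .step inf_le_left (le_normalizer_inf le_normalizer hFD') (Subn.of_normal le_top (by rw [normalizer_eq_top]))
    · exact hDp.to_le inf_le_right
  have h2 : D' ≤ Fs := by
    refine le_trans ?_ Cfsg.Agent.Lib.Layer.centralizer_genFitting_le
    rw [← commutator_eq_bot_iff_le_centralizer, eq_bot_iff, ← h1]
    apply le_inf
    · exact commutator_le_right_of_le (by rw [normalizer_eq_top]; exact le_top)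
    · exact commutator_le_left_of_le hFD'
  have h3 : D' = ⊥ := by rw [← h1]; exact (inf_eq_right.mpr h2).symm
  intro x hx
  rw [← QuotientGroup.eq_one_iff]
  have : q x ∈ D' := ⟨x, hx, rfl⟩
  rw [h3, mem_bot] at this
  exact this

/-- Standing hypotheses: G a finite group, S a Sylow p-subgroup, Q a nontrivial large p-subgroup of G contained in S, M a subgroup containing S with the basic property (M ∈ 𝔐_G(S)); Y_M the largest p-reduced normal subgroup of M and M† = M·C_G(Y_M). Let F be the preimage in M† of the generalized Fitting subgroup of M†/C_{M†}(Y_M). If Y_M is asymmetric in G and H is a subgroup of characteristic p containing F, then Y_M ≤ Y_H. -/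
theorem result {G : Type*} [Group G] [Finite G] {p : ℕ} [Fact p.Prime] (S : Sylow p G) (Q : Subgroup G) (hQp : IsPGroup p ↥Q) (hQ1 : Q ≠ ⊥) (hQS : Q ≤ (S : Subgroup G)) (hQ : Cfsg.IsLarge Q) (M : Subgroup G) (hSM : (S : Subgroup G) ≤ M) (hM : Cfsg.IsInFrakM p M) (hasym : ¬ Cfsg.IsSymmetricIn (Cfsg.largestPReducedOf p M)) [hn : ((Subgroup.centralizer (((Cfsg.largestPReducedOf p M) : Subgroup G) : Set G)).subgroupOf (M ⊔ Subgroup.centralizer (((Cfsg.largestPReducedOf p M) : Subgroup G) : Set G))).Normal] (F : Subgroup G) (hF : F = ((Cfsg.generalizedFittingSubgroup (↥(M ⊔ Subgroup.centralizer (((Cfsg.largestPReducedOf p M) : Subgroup G) : Set G)) ⧸ (Subgroup.centralizer (((Cfsg.largestPReducedOf p M) : Subgroup G) : Set G)).subgroupOf (M ⊔ Subgroup.centralizer (((Cfsg.largestPReducedOf p M) : Subgroup G) : Set G)))).comap (QuotientGroup.mk' ((Subgroup.centralizer (((Cfsg.largestPReducedOf p M) : Subgroup G) : Set G)).subgroupOf (M ⊔ Subgroup.centralizer (((Cfsg.largestPReducedOf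 p M) : Subgroup G) : Set G))))).map ((M ⊔ Subgroup.centralizer (((Cfsg.largestPReducedOf p M) : Subgroup G) : Set G))).subtype) (H : Subgroup G) (hFH : F ≤ H) (hH : Subgroup.centralizer (Cfsg.pCore p ↥H : Set ↥H) ≤ Cfsg.pCore p ↥H) : (Cfsg.largestPReducedOf p M) ≤ Cfsg.largestPReducedOf p H := by
  have hQM : Q ≤ M := hQS.trans hSM
  set Y := Cfsg.largestPReducedOf p M with hYdef
  set C := Subgroup.centralizer (Y : Set G) with hC
  set Md := M ⊔ C with hMd
  rw [← isCharP_iff] at hH
  have hCF : C ≤ F := by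
    intro c hc
    rw [hF]
    refine ⟨⟨c, (le_sup_right : C ≤ Md) hc⟩, ?_, rfl⟩
    have h1 : QuotientGroup.mk' (C.subgroupOf Md) ⟨c, (le_sup_right : C ≤ Md) hc⟩ = 1 :=
      (QuotientGroup.eq_one_iff _).mpr hc
    rw [SetLike.mem_coe, mem_comap, h1]; exact one_mem _
  have hFMd : F ≤ Md := by rw [hF]; exact map_subtype_le _
  have hRC : Cfsg.pCoreOf p M ≤ C := R_le_centralizer_Y p M
  have hRH : Cfsg.pCoreOf p M ≤ H := (hRC.trans hCF).trans hFH
  have hYMd : PRed p Y Md := by
    have h1 := pRed_largest p Md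
    rw [← hM.2.2.2.1] at h1
    exact h1
  -- `O_p(M†/C) = 1`
  have hcore : Cfsg.pCore p (↥Md ⧸ C.subgroupOf Md) = ⊥ := by
    set P := (Cfsg.pCore p (↥Md ⧸ C.subgroupOf Md)).comap (QuotientGroup.mk' (C.subgroupOf Md)) with hP
    have hPn : P.Normal := by
      have : (Cfsg.pCore p (↥Md ⧸ C.subgroupOf Md)).Normal := Cfsg.pCore_normal p _
      exact this.comap _
    have h1 : P.map Md.subtype ≤ C := by
      apply hYMd.red _ (map_subtype_le P) (normal_iff_le_normalizer_map.mp hPn)
      rw [← pRes_map]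
      rintro _ ⟨x, hx, rfl⟩
      have h2 : pRes p P ≤ C.subgroupOf Md := by
        apply pRes_le_of_pow_mem
        intro y hy
        obtain ⟨k, hk⟩ := isPGroup_pCore p (↥Md ⧸ C.subgroupOf Md) ⟨_, hy⟩
        refine ⟨k, ?_⟩
        rw [← QuotientGroup.eq_one_iff]
        exact congrArg Subtype.val hk
      exact h2 hx
    rw [eq_bot_iff]
    intro x hx
    obtain ⟨y, rfl⟩ := QuotientGroup.mk'_surjective (C.subgroupOf Md) x
    rw [mem_bot]
    exact (QuotientGroup.eq_one_iff y).mpr (h1 ⟨y, hx, rfl⟩)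
  obtain ⟨T, hT, hRT⟩ := exists_isSyl_ge (isPGroup_pCoreOf p M) hRH
  have hTMd : T ≤ Md := (le_normalizer.trans
    (normalizer_le_of_asym hQp hQ hQM hSM hM hasym hT.pgroup hRT)).trans (normalizer_R_le hQp hQ hQM hM)
  set K := H ⊓ Md with hK
  have hFK : F ≤ K := le_inf hFH hFMd
  have hYK : PRed p Y K := by
    refine ⟨?_, inf_le_right.trans hYMd.norm, hYMd.elem, ?_⟩
    · exact ((Y_le_R p M).trans hRC).trans (hCF.trans hFK)
    · intro D hDK hKD hD
      have h1 : (D.subgroupOf Md) ≤ C.subgroupOf Md := by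
        apply le_of_genFitting (p := p) hcore
        · intro f hf
          have h2 : (f : G) ∈ F := by rw [hF]; exact ⟨f, hf, rfl⟩
          have h3 : (f : G) ∈ normalizer (D : Set G) := hKD (hFK h2)
          rw [← subgroupOf_normalizer_eq (hDK.trans inf_le_right)]
          exact h3
        · intro x hx
          have h2 : (x : G) ∈ (pRes p (D.subgroupOf Md)).map Md.subtype := ⟨x, hx, rfl⟩
          rw [pRes_map, map_subgroupOf_eq_of_le (hDK.trans inf_le_right)] at h2
          exact hD h2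
      intro x hx
      exact h1 (show (⟨x, (hDK.trans inf_le_right) hx⟩ : ↥Md) ∈ D.subgroupOf Md from hx)
  exact (le_ncl H Y).trans (hYK.ncl hH hT (le_inf hT.le hTMd) inf_le_left).le_largest


end Cfsg.Agent.S2851
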