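import Cfsg.Statements.S2852
import Cfsg.Agent.Lib.FrakH

set_option autoImplicit false
open Cfsg

namespace Cfsg.Agent.S2852

open Subgroup Cfsg.Agent.Lib.LocBase Cfsg.Agent.Lib.FrakMA Cfsg.Agent.Lib.FrakH Cfsg.Agent.Lib.CharPLocal

/-- Standing hypotheses: G a finite group, S a Sylow p-subgroup, Q a nontrivial large p-subgroup of G contained in S, M a subgroup containing S with the basic property (M ∈ 𝔐_G(S)); Y_M the largest p-reduced normal subgroup of M. If Y_M is char-p-tall and asymmetric in G, then some subgroup H of G lies in ℌ_G(O_p(M)): H has characteristic p, O_p(M) ≤ H, Y_M ≰ O_p(H), and Y_M ≤ O_p(P) for every proper subgroup P of H containing O_p(M). -/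
theorem result {G : Type*} [Group G] [Finite G] {p : ℕ} [Fact p.Prime] (S : Sylow p G) (Q : Subgroup G) (hQp : IsPGroup p ↥Q) (hQ1 : Q ≠ ⊥) (hQS : Q ≤ (S : Subgroup G)) (hQ : Cfsg.IsLarge Q) (M : Subgroup G) (hSM : (S : Subgroup G) ≤ M) (hM : Cfsg.IsInFrakM p M) (htall : Cfsg.IsCharPTall p (Cfsg.largestPReducedOf p M)) (hasym : ¬ Cfsg.IsSymmetricIn (Cfsg.largestPReducedOf p M)) : ∃ H : Subgroup G, Cfsg.IsInFrakH p M H := by
  have hQM : Q ≤ M := hQS.trans hSM
  obtain ⟨T, L, hTL, hLc, hYL⟩ := htall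
  rw [← isCharP_iff] at hLc
  change ¬ Cfsg.largestPReducedOf p M ≤ Cfsg.pCoreOf p L at hYL
  obtain ⟨c, hc, e⟩ := (isSyl_R hSM hM).conj (isSyl_map_subtype T)
  set L' := L.map (MulAut.conj c).toMonoidHom with hL'
  have h1 : Cfsg.pCoreOf p M ≤ L' := by
    rw [← e]; exact Subgroup.map_mono hTL
  have h2 : IsCharP p L' := isCharP_map_conj c hLc
  have h3 : ¬ Cfsg.largestPReducedOf p M ≤ Cfsg.pCoreOf p L' := by
    intro h
    apply hYL
    have h4 : (Cfsg.largestPReducedOf p M).map (MulAut.conj c).toMonoidHom = Cfsg.largestPReducedOf p M :=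
      map_conj_eq_of_mem (centralizer_le_normalizer _ hc)
    rw [← h4, hL', pCoreOf_map_conj, map_conj_le_map_conj] at h
    exact h
  have hne : ({H : Subgroup G | Cfsg.pCoreOf p M ≤ H ∧ IsCharP p H ∧
      ¬ Cfsg.largestPReducedOf p M ≤ Cfsg.pCoreOf p H}).Nonempty := ⟨L', h1, h2, h3⟩
  obtain ⟨H, hH⟩ := Set.Finite.exists_minimal (Set.toFinite _) hne
  obtain ⟨hRH, hHc, hYH⟩ := hH.prop
  refine ⟨H, isCharP_iff.mp hHc, hRH, hYH, fun P hRP hPH => ?_⟩
  by_contra hYP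
  have h4 : IsCharP p P := isCharP_of_R_le hQp hQ hQM hSM hM hasym hHc hRP hPH.le
  exact not_le_of_gt hPH (hH.le_of_le ⟨hRP, h4, hYP⟩ hPH.le)


end Cfsg.Agent.S2852
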