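import Cfsg.Statements.S2853
import Cfsg.Agent.Lib.FrakH

set_option autoImplicit false
open Cfsg

namespace Cfsg.Agent.S2853

open Subgroup Cfsg.Agent.Lib.LocBase Cfsg.Agent.Lib.FrakMA Cfsg.Agent.Lib.FrakH Cfsg.Agent.Lib.CharPLocal Cfsg.Agent.Lib.PReduced

/-- Standing hypotheses: G a finite group, S a Sylow p-subgroup, Q a nontrivial large p-subgroup of G contained in S, M a subgroup containing S with the basic property (M ∈ 𝔐_G(S)); Y_M the largest p-reduced normal subgroup of M and M† = M·C_G(Y_M). Suppose Y_M is char-p-tall and asymmetric in G and H ∈ ℌ_G(O_p(M)). Then every Sylow p-subgroup of H ∩ M† is a Sylow p-subgroup of H; O_p(H) normalizes O_p(M) and Y_M; O^p(H) = [O^p(H), Y_M] and H = O^p(H)·O_p(M); O^p(H)·Y_M is the normal closure of Y_M in H; and H is the normal closure of O_p(M) in H. Here O^p(H) is the subgroup generated by the elements of H of order prime to p. -/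
theorem result {G : Type*} [Group G] [Finite G] {p : ℕ} [Fact p.Prime] (S : Sylow p G) (Q : Subgroup G) (hQp : IsPGroup p ↥Q) (hQ1 : Q ≠ ⊥) (hQS : Q ≤ (S : Subgroup G)) (hQ : Cfsg.IsLarge Q) (M : Subgroup G) (hSM : (S : Subgroup G) ≤ M) (hM : Cfsg.IsInFrakM p M) (htall : Cfsg.IsCharPTall p (Cfsg.largestPReducedOf p M)) (hasym : ¬ Cfsg.IsSymmetricIn (Cfsg.largestPReducedOf p M)) (H : Subgroup G) (hH : Cfsg.IsInFrakH p M H) (R : Subgroup G) (hR : R = (Cfsg.pResidual p ↥H).map H.subtype) : (∀ T : Sylow p ↥(H ⊓ (M ⊔ Subgroup.centralizer (((Cfsg.largestPReducedOf p M) : Subgroup G) : Set G))), ∃ P : Sylow p ↥H, ((P : Subgroup ↥H).map H.subtype) = (T : Subgroup ↥(H ⊓ (M ⊔ Subgroup.centralizer (((Cfsg.largestPReducedOf p M) : Subgroup G) : Set G)))).map (H ⊓ (M ⊔ Subgroup.centralizer (((Cfsg.largestPReducedOf p M) : Subgroup G) : Set G))).subtype) ∧ Cfsg.pCoreOf p H ≤ Subgroup.normalizer (((Cfsg.pCoreOf p M) : Subgroup G) : Set G) ⊓ Subgroup.normalizer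 (((Cfsg.largestPReducedOf p M) : Subgroup G) : Set G) ∧ ⁅R, (Cfsg.largestPReducedOf p M)⁆ = R ∧ R ⊔ (Cfsg.pCoreOf p M) = H ∧ R ⊔ (Cfsg.largestPReducedOf p M) = (Subgroup.normalClosure ((((Cfsg.largestPReducedOf p M)).subgroupOf H : Subgroup ↥H) : Set ↥H)).map H.subtype ∧ (Subgroup.normalClosure ((((Cfsg.pCoreOf p M)).subgroupOf H : Subgroup ↥H) : Set ↥H)).map H.subtype = H := by
  have hQM : Q ≤ M := hQS.trans hSM
  have hst := frakH_structure hQp hQ hQM hSM hM hasym hH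
  rw [map_pResidual] at hR
  subst hR
  obtain ⟨hchar, hRH, hYH, hmin⟩ := hH
  have hRMd := normalizer_R_le hQp hQ hQM hM
  have hYH' : Cfsg.largestPReducedOf p M ≤ H := (Y_le_R p M).trans hRH
  refine ⟨?_, ?_, hst.1, hst.2.1, ?_, ?_⟩
  · intro T
    have h1 := isSyl_map_subtype T
    set T' := (T : Subgroup ↥(H ⊓ (M ⊔ Subgroup.centralizer (((Cfsg.largestPReducedOf p M) : Subgroup G) : Set G)))).map (H ⊓ (M ⊔ Subgroup.centralizer (((Cfsg.largestPReducedOf p M) : Subgroup G) : Set G))).subtype with hT'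
    obtain ⟨T₁, hT₁, hRT₁⟩ := exists_isSyl_ge (isPGroup_pCoreOf p M) hRH
    have h2 : T₁ ≤ M ⊔ Subgroup.centralizer (((Cfsg.largestPReducedOf p M) : Subgroup G) : Set G) :=
      (le_normalizer.trans (normalizer_le_of_asym hQp hQ hQM hSM hM hasym hT₁.pgroup hRT₁)).trans hRMd
    have h3 : IsSyl p T₁ (H ⊓ (M ⊔ Subgroup.centralizer (((Cfsg.largestPReducedOf p M) : Subgroup G) : Set G))) :=
      hT₁.of_le (le_inf hT₁.le h2) inf_le_left
    obtain ⟨c, hc, e⟩ := h1.conj h3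
    have h4 : IsSyl p T' H := by
      have := hT₁.map_conj c
      rwa [e, map_conj_eq_of_mem (le_normalizer hc.1)] at this
    obtain ⟨P, hP⟩ := h4.exists_sylow'
    exact ⟨P, hP⟩
  · have h1 := le_normalizer_R hQp hQ hQM hSM hM hasym (isPGroup_pCoreOf p H)
      (hRH.trans (le_normalizer_pCoreOf p H))
    exact le_inf h1 (h1.trans (le_normalizer_Y hQp hQ hQM hM))
  · rw [map_normalClosure_subgroupOf hYH']
    exact hst.2.2.1
  · rw [map_normalClosure_subgroupOf hRH]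
    exact hst.2.2.2


end Cfsg.Agent.S2853
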