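import Cfsg.Statements.S2854
import Cfsg.Agent.Lib.FrakH

set_option autoImplicit false
open Cfsg

namespace Cfsg.Agent.S2854

open Subgroup Cfsg.Agent.Lib.LocBase Cfsg.Agent.Lib.FrakMA Cfsg.Agent.Lib.FrakH Cfsg.Agent.Lib.PReduced

/-- Standing hypotheses: G a finite group, S a Sylow p-subgroup, Q a nontrivial large p-subgroup of G contained in S, M a subgroup containing S with the basic property (M ∈ 𝔐_G(S)); Y_M the largest p-reduced normal subgroup of M and M† = M·C_G(Y_M). Suppose Y_M is asymmetric in G, H ∈ ℌ_G(O_p(M)), and H ≤ N_G(gQg⁻¹) for some g ∈ G. Then gQg⁻¹ ≤ O_p(H·gQg⁻¹) ≤ N_G(O_p(M)) ≤ N_G(Y_M) = M†; H is normal in H·gQg⁻¹ with O^p(H) = O^p(H·gQg⁻¹); and H·gQg⁻¹ is p-irreducible. -/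
theorem result {G : Type*} [Group G] [Finite G] {p : ℕ} [Fact p.Prime] (S : Sylow p G) (Q : Subgroup G) (hQp : IsPGroup p ↥Q) (hQ1 : Q ≠ ⊥) (hQS : Q ≤ (S : Subgroup G)) (hQ : Cfsg.IsLarge Q) (M : Subgroup G) (hSM : (S : Subgroup G) ≤ M) (hM : Cfsg.IsInFrakM p M) (hasym : ¬ Cfsg.IsSymmetricIn (Cfsg.largestPReducedOf p M)) (H : Subgroup G) (hH : Cfsg.IsInFrakH p M H) (g : G) (hHQ : H ≤ Subgroup.normalizer ((((Q : Subgroup G).map (MulAut.conj (g : G)).toMonoidHom) : Subgroup G) : Set G)) : ((Q : Subgroup G).map (MulAut.conj (g : G)).toMonoidHom) ≤ Cfsg.pCoreOf p (H ⊔ ((Q : Subgroup G).map (MulAut.conj (g : G)).toMonoidHom)) ∧ Cfsg.pCoreOf p (H ⊔ ((Q : Subgroup G).map (MulAut.conj (g : G)).toMonoidHom)) ≤ Subgroup.normalizer (((Cfsg.pCoreOf p M) : Subgroup G) : Set G) ∧ Subgroup.normalizer (((Cfsg.pCoreOf p M) : Subgroup G) : Set G) ≤ Subgroup.normalizer (((Cfsg.largestPReducedOf p M) : Subgroup G) : Set G) ∧ Subgroup.normalizer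 (((Cfsg.largestPReducedOf p M) : Subgroup G) : Set G) = (M ⊔ Subgroup.centralizer (((Cfsg.largestPReducedOf p M) : Subgroup G) : Set G)) ∧ (H.subgroupOf (H ⊔ ((Q : Subgroup G).map (MulAut.conj (g : G)).toMonoidHom))).Normal ∧ (Cfsg.pResidual p ↥H).map H.subtype = (Cfsg.pResidual p ↥(H ⊔ ((Q : Subgroup G).map (MulAut.conj (g : G)).toMonoidHom))).map (H ⊔ ((Q : Subgroup G).map (MulAut.conj (g : G)).toMonoidHom)).subtype ∧ Cfsg.IsPIrreducible p ↥(H ⊔ ((Q : Subgroup G).map (MulAut.conj (g : G)).toMonoidHom)) := by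
  have hQM : Q ≤ M := hQS.trans hSM
  have hst := frakH_structure hQp hQ hQM hSM hM hasym hH
  have hH' := hH
  obtain ⟨hchar, hRH, hYH, hmin⟩ := hH'
  set Qg := (Q : Subgroup G).map (MulAut.conj (g : G)).toMonoidHom with hQg
  have hQgp : IsPGroup p Qg := isPGroup_map_conj hQp g
  set K := H ⊔ Qg with hK
  have hKQ : K ≤ normalizer (Qg : Set G) := sup_le hHQ le_normalizer
  have h1 : Qg ≤ Cfsg.pCoreOf p K := Cfsg.Agent.Lib.LocBase.le_pCoreOf le_sup_right hKQ hQgp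
  have h2 : Cfsg.pCoreOf p K ≤ normalizer (Cfsg.pCoreOf p M : Set G) :=
    le_normalizer_R hQp hQ hQM hSM hM hasym (isPGroup_pCoreOf p K)
      ((hRH.trans le_sup_left).trans (le_normalizer_pCoreOf p K))
  have h3 : Qg ≤ normalizer (H : Set G) := by
    intro x hx
    apply mem_normalizer_of_map_conj_le
    conv_lhs => rw [← hst.2.2.2]
    unfold ncl
    rw [Subgroup.map_iSup]
    apply iSup_le
    rintro ⟨h, hh⟩
    have e : ((Cfsg.pCoreOf p M).map (MulAut.conj h).toMonoidHom).map (MulAut.conj x).toMonoidHom =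
        (Cfsg.pCoreOf p M).map (MulAut.conj h).toMonoidHom := by
      have hx' : h⁻¹ * x * h ∈ Qg := conj_mem_of_le_normalizer' hHQ hh hx
      rw [← map_conj_mul]
      have e1 : x * h = h * (h⁻¹ * x * h) := by group
      rw [e1, map_conj_mul, map_conj_eq_of_mem (h2 (h1 hx'))]
    change ((Cfsg.pCoreOf p M).map (MulAut.conj h).toMonoidHom).map (MulAut.conj x).toMonoidHom ≤ H
    rw [e, ← map_conj_eq_of_mem (le_normalizer hh : h ∈ normalizer (H : Set G))]
    exact Subgroup.map_mono hRH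
  have hKH : K ≤ normalizer (H : Set G) := sup_le le_normalizer h3
  have hres : pRes p K = pRes p H := by
    have h4 : pRes p K ≤ H := pRes_sup_le hQgp h3
    exact (pRes_eq_of_le h4 le_sup_left).symm
  refine ⟨h1, h2, le_normalizer_Y hQp hQ hQM hM, normalizer_Y_eq hQp hQ hQM hM, ?_, ?_, ?_⟩
  · exact normal_subgroupOf_of_le_normalizer hKH
  · rw [map_pResidual, map_pResidual, hres]
  · exact isPIrreducible_of_frakH hQp hQ hQM hSM hM hasym hH le_sup_left hKH hres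


end Cfsg.Agent.S2854
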