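import Cfsg.Statements.S2855
import Mathlib
import Cfsg.Agent.Lib.H10Family

set_option autoImplicit false
open Cfsg Cfsg.Agent.Lib Cfsg.Agent

namespace Cfsg.Agent.S2855

/-- Let H be a finite group, p a prime, and 𝒦 a nonempty set of subgroups of H permuted transitively by conjugation, with R the subgroup generated by the members of 𝒦. Suppose O^p(H) ≤ R, each E ∈ 𝒦 has E·O_p(H) normal in R·O_p(H), and each E ∈ 𝒦 is p-minimal (generated by the conjugates of a Sylow p-subgroup T_E of E, with T_E in exactly one maximal subgroup of E). Then H is p-minimal in the same sense. If instead each E ∈ 𝒦 is strongly p-irreducible, then H is p-irreducible and, for E, K ∈ 𝒦, either O^p(E·O_p(H)) = O^p(K·O_p(H)) or [E, K] ≤ O_p(H). -/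
theorem result {H : Type*} [Group H] [Finite H] {p : ℕ} [Fact p.Prime] (𝒦 : Set (Subgroup H)) (hne : 𝒦.Nonempty) (hinv : ∀ h : H, ∀ E ∈ 𝒦, E.map (MulAut.conj h).toMonoidHom ∈ 𝒦) (htr : ∀ E ∈ 𝒦, ∀ K ∈ 𝒦, ∃ h : H, K = E.map (MulAut.conj h).toMonoidHom) (hres : Cfsg.pResidual p H ≤ sSup 𝒦) (hnorm : ∀ E ∈ 𝒦, sSup 𝒦 ⊔ Cfsg.pCore p H ≤ Subgroup.normalizer ((E ⊔ Cfsg.pCore p H : Subgroup H) : Set H)) : ((∀ E ∈ 𝒦, ∀ T : Sylow p ↥E, Cfsg.IsMinimalOver (T : Subgroup ↥E)) → ∀ T : Sylow p H, Cfsg.IsMinimalOver (T : Subgroup H)) ∧ ((∀ E ∈ 𝒦, Cfsg.IsStronglyPIrreducible p ↥E) → Cfsg.IsPIrreducible p H ∧ ∀ E ∈ 𝒦, ∀ K ∈ 𝒦, (Cfsg.pResidual p ↥(E ⊔ Cfsg.pCore p H)).map (E ⊔ Cfsg.pCore p H).subtype = (Cfsg.pResidual p ↥(K ⊔ Cfsg.pCore p H)).map (K ⊔ Cfsg.pCore p H).subtype ∨ ⁅E, K⁆ ≤ Cfsg.pCore p H) := by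
  have hres' : LocBase.pRes p (⊤ : Subgroup H) ≤ sSup 𝒦 := by rw [← LocBase.pResidual_eq]; exact hres
  have hfam : H10Family.Fam p 𝒦 := ⟨hne, hinv, htr, hres', hnorm⟩
  refine ⟨hfam.minimal, fun hspi => ?_⟩
  set O := Cfsg.pCore p H with hO
  have hOp : IsPGroup p O := LocBase.isPGroup_pCore p H
  set π := QuotientGroup.mk' O with hπ
  have hmapconj : ∀ (E : Subgroup H) (h : H), (E.map (MulAut.conj h).toMonoidHom).map π =
      (E.map π).map (MulAut.conj (π h)).toMonoidHom := by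
    intro E h
    rw [Subgroup.map_map, Subgroup.map_map]
    congr 1
  have hsup : (sSup 𝒦).map π = sSup ((fun E : Subgroup H => E.map π) '' 𝒦) := by
    rw [sSup_image, sSup_eq_iSup, Subgroup.map_iSup]
    congr 1
    funext E
    rw [Subgroup.map_iSup]
  have hEO : ∀ E : Subgroup H, (E ⊔ O).map π = E.map π := by
    intro E
    rw [Subgroup.map_sup, hπ, QuotientGroup.map_mk'_self, sup_bot_eq]
  have hS : H10Family.SFam p ((fun E : Subgroup H => E.map π) '' 𝒦) := by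
    refine ⟨hne.image _, ?_, ?_, ?_, ?_, ?_, ?_⟩
    · rintro g _ ⟨E, hE, rfl⟩
      obtain ⟨h, rfl⟩ := QuotientGroup.mk'_surjective O g
      exact ⟨_, hinv h E hE, hmapconj E h⟩
    · rintro _ ⟨E, hE, rfl⟩ _ ⟨K, hK, rfl⟩
      obtain ⟨h, rfl⟩ := htr E hE K hK
      exact ⟨π h, hmapconj E h⟩
    · rw [← LocBase.pResidual_eq, PIrred.pResidual_quotient, ← hsup]
      exact Subgroup.map_mono hres
    · rintro _ ⟨E, hE, rfl⟩
      rw [← hsup]
      have h1 := Subgroup.map_mono (f := π) (hnorm E hE)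
      have h2 := (h1.trans (Subgroup.le_normalizer_map π))
      rw [hEO, hEO] at h2
      exact h2
    · rw [PIrred.pCore_quotient hOp, ← hO, QuotientGroup.map_mk'_self]
    · rintro _ ⟨E, hE, rfl⟩
      exact (H10Family.spi_of (hspi E hE)).map hOp
  refine ⟨((S2828.result O hOp).1).mpr hS.irreducible, ?_⟩
  intro E hE K hK
  have key : ∀ A B : Subgroup H, LocBase.pRes p (A.map π) ≤ LocBase.pRes p (B.map π) →
      LocBase.pRes p (A ⊔ O) ≤ LocBase.pRes p (B ⊔ O) := by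
    intro A B h1
    rw [← hEO A, ← hEO B, ← PIrred.pRes_map, ← PIrred.pRes_map] at h1
    have h2 := S2828.map_le_map_mk' h1
    rw [← LocBase.pRes_pRes]
    exact (LocBase.pRes_mono h2).trans (H10WclProd.pRes_sup_le hOp (by
      rw [Subgroup.le_normalizer_iff_commutator_le_left]
      have h3 : (LocBase.pRes p (B ⊔ O)) ≤ B ⊔ O := LocBase.pRes_le _ _
      rw [← Subgroup.le_normalizer_iff_commutator_le_left]
      exact le_sup_right.trans (LocBase.le_normalizer_pRes p (B ⊔ O))))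
  rcases hS.pair ⟨E, hE, rfl⟩ ⟨K, hK, rfl⟩ with h1 | h1
  · left
    rw [LocBase.map_pResidual, LocBase.map_pResidual]
    exact le_antisymm (key E K h1.le) (key K E h1.ge)
  · right
    rw [← Subgroup.map_commutator, Subgroup.map_eq_bot_iff, QuotientGroup.ker_mk'] at h1
    exact h1

end Cfsg.Agent.S2855
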