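import Cfsg.Statements.S2860
import Cfsg.Agent.Lib.LargeQS

set_option autoImplicit false
open Cfsg

namespace Cfsg.Agent.S2860

open Subgroup Cfsg.Agent.Lib Cfsg.Agent.Lib.LocBase Cfsg.Agent.Lib.WeakCl Cfsg.Agent.Lib.LargeSub Cfsg.Agent.Lib.LargeQS
open scoped commutatorElement


/-- Let Q be a nontrivial large p-subgroup of the finite group H, U a nontrivial elementary abelian p-subgroup of H, and Q ≤ E ≤ N_H(U) with Q not normal in E. Suppose O_p(E/C_E(U)) = 1 and O^p(E)·C_E(U)/C_E(U) is quasisimple. Let E° be the weak closure of Q in E (generated by the conjugates of Q inside E) and E_∘ = O^p(E°). Then O^p(E)·C_E(U) = E_∘·C_E(U); E_∘ is perfect and equals O^p(E_∘); E_∘/C_{E_∘}(U) and E_∘/O_p(E_∘) are quasisimple; and E_∘ = [E_∘, Y] for every p-subgroup Y of E not centralizing U. -/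
theorem result {G : Type*} [Group G] [Finite G] {p : ℕ} [Fact p.Prime] (Q : Subgroup G) (hQp : IsPGroup p ↥Q) (hQ1 : Q ≠ ⊥) (hQ : Cfsg.IsLarge Q) (U : Subgroup G) (hU : Cfsg.IsElementaryAbelian p U) (hU1 : U ≠ ⊥) (E : Subgroup G) (hQE : Q ≤ E) (hEU : E ≤ Subgroup.normalizer ((U : Subgroup G) : Set G)) (hQn : ¬ E ≤ Subgroup.normalizer ((Q : Subgroup G) : Set G)) [hn : ((Subgroup.centralizer ((U : Subgroup G) : Set G)).subgroupOf E).Normal] (hred : Cfsg.pCore p (↥E ⧸ (Subgroup.centralizer ((U : Subgroup G) : Set G)).subgroupOf E) = ⊥) (hqs : Cfsg.IsQuasisimple ↥(((Cfsg.pResidual p ↥E) ⊔ (Subgroup.centralizer ((U : Subgroup G) : Set G)).subgroupOf E).map (QuotientGroup.mk' ((Subgroup.centralizer ((U : Subgroup G) : Set G)).subgroupOf E)))) (Er : Subgroup G) (hEr : Er = ((Cfsg.pResidual p ↥(Cfsg.weakClosure Q E)).map ((Cfsg.weakClosure Q E)).subtype)) [hn2 : ((Subgroup.centralizer ((U : Subgroup G) : Set G)).subgroupOf Er).Normal] : ((Cfsg.pResidual p ↥E).map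 (E).subtype) ⊔ (E ⊓ Subgroup.centralizer ((U : Subgroup G) : Set G)) = Er ⊔ (E ⊓ Subgroup.centralizer ((U : Subgroup G) : Set G)) ∧ ⁅Er, Er⁆ = Er ∧ ((Cfsg.pResidual p ↥Er).map (Er).subtype) = Er ∧ Cfsg.IsQuasisimple (↥Er ⧸ (Subgroup.centralizer ((U : Subgroup G) : Set G)).subgroupOf Er) ∧ Cfsg.IsQuasisimple (↥Er ⧸ Cfsg.pCore p ↥Er) ∧ ∀ Y : Subgroup G, Y ≤ E → IsPGroup p ↥Y → ¬ Y ≤ Subgroup.centralizer ((U : Subgroup G) : Set G) → ⁅Er, Y⁆ = Er := by
  rw [map_pResidual] at hEr
  rw [map_pResidual, map_pResidual]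
  set C : Subgroup G := Subgroup.centralizer ((U : Subgroup G) : Set G) with hCdef
  have hQC : ¬ Q ≤ C := by
    intro h
    rw [hCdef, Subgroup.le_centralizer_iff] at h
    exact hQn (hEU.trans (hQ.2 U h hU1))
  have hUp : IsPGroup p ↥U := by
    intro x
    exact ⟨1, by rw [pow_one]; exact Subtype.ext (by simpa using hU.2 x x.2)⟩
  have hCn : E ≤ Subgroup.normalizer (C : Set G) := le_normalizer_centralizer hEU
  have hC := large_commutator_weakClosure_le hQ hQp hQ1 hQE hUp hU1 hEU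
  obtain ⟨F1, F2, hOE⟩ := transfer (C := C) hred hqs
  obtain ⟨m1, m2, m3, m4⟩ := Cfsg.Agent.Lib.LargeQS.main (C := C) hQE hQp hQC hCn hC F1 F2
  rw [← hEr] at m1 m2 m3 m4
  have hErX : Er ≤ Cfsg.weakClosure Q E := by rw [hEr]; exact pRes_le p _
  have hErE : Er ≤ E := hErX.trans weakClosure_le
  have hEEr : E ≤ Subgroup.normalizer (Er : Set G) := by
    rw [hEr]
    exact (le_normalizer.trans (normalizer_le_normalizer_weakClosure Q E)).trans (normalizer_le_normalizer_pRes p _)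
  have hOEr : pCoreOf p Er ≤ C := (Subn.of_normal hErE hEEr).pCoreOf_le.trans hOE
  have hq4 : Cfsg.IsQuasisimple (↥Er ⧸ C.subgroupOf Er) := by
    let g : ↥Er →* (↥E ⧸ C.subgroupOf E) := (QuotientGroup.mk' (C.subgroupOf E)).comp (Subgroup.inclusion hErE)
    have hker : g.ker = C.subgroupOf Er := by
      ext x
      rw [MonoidHom.mem_ker, mem_subgroupOf]
      change (QuotientGroup.mk' (C.subgroupOf E)) (Subgroup.inclusion hErE x) = 1 ↔ _
      rw [QuotientGroup.mk'_apply, QuotientGroup.eq_one_iff, mem_subgroupOf]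
      exact Iff.rfl
    have hrange : g.range = (Cfsg.pResidual p ↥E ⊔ C.subgroupOf E).map (QuotientGroup.mk' (C.subgroupOf E)) := by
      apply le_antisymm
      · rintro _ ⟨x, rfl⟩
        refine ⟨Subgroup.inclusion hErE x, ?_, rfl⟩
        apply (le_sup_left : Cfsg.pResidual p ↥E ≤ _)
        have h0 : Er ≤ pRes p E := by rw [hEr]; exact pRes_mono weakClosure_le
        have h1 : (x : G) ∈ pRes p E := h0 x.2
        rw [← map_pResidual] at h1
        obtain ⟨y, hy, e⟩ := h1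
        have : y = Subgroup.inclusion hErE x := Subtype.ext e
        rw [← this]; exact hy
      · rw [Subgroup.map_sup]
        have hDmap : (C.subgroupOf E).map (QuotientGroup.mk' (C.subgroupOf E)) = ⊥ := by
          rw [Subgroup.map_eq_bot_iff, QuotientGroup.ker_mk']
        rw [hDmap, sup_bot_eq]
        rintro _ ⟨y, hy, rfl⟩
        have h1 : (y : G) ∈ Er ⊔ (E ⊓ C) := by
          rw [← m1]
          apply (le_sup_left : pRes p E ≤ _)
          rw [← map_pResidual]
          exact ⟨y, hy, rfl⟩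
        obtain ⟨b, hb, a, ha, e⟩ := exists_mul_of_mem_sup_of_le' (A := E ⊓ C) (B := Er)
          (hErE.trans (le_normalizer_inf le_normalizer hCn)) (by rw [sup_comm]; exact h1)
        refine ⟨⟨b, hb⟩, ?_⟩
        change (QuotientGroup.mk' (C.subgroupOf E)) (Subgroup.inclusion hErE ⟨b, hb⟩) = (QuotientGroup.mk' (C.subgroupOf E)) y
        rw [QuotientGroup.mk'_apply, QuotientGroup.mk'_apply, QuotientGroup.eq, mem_subgroupOf]
        change b⁻¹ * (y : G) ∈ C
        rw [e, inv_mul_cancel_left]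
        exact ha.2
    refine Components.quasisimple_congr ?_ hqs
    exact (MulEquiv.subgroupCongr hrange).symm.trans
      ((QuotientGroup.quotientKerEquivRange g).symm.trans (QuotientGroup.quotientMulEquivOfEq hker))
  have hperf : Group.IsPerfect ↥Er := by
    rw [Group.isPerfect_def, _root_.commutator_def]
    apply Subgroup.map_injective Er.subtype_injective
    rw [Subgroup.map_commutator, ← MonoidHom.range_eq_map, range_subtype]
    exact m2
  refine ⟨m1, m2, by rw [hEr, pRes_pRes], hq4, ?_, m4⟩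
  have hle : Cfsg.pCore p ↥Er ≤ (C.subgroupOf Er).comap (MonoidHom.id ↥Er) := by
    rw [← pCoreOf_subgroupOf]
    intro x hx
    rw [mem_subgroupOf] at hx
    exact hOEr hx
  refine Components.quasisimple_of_central_quotient
    (Group.IsPerfect.ofSurjective (QuotientGroup.mk'_surjective (Cfsg.pCore p ↥Er)))
    (QuotientGroup.map _ _ (MonoidHom.id ↥Er) hle) ?_ ?_ hq4
  · intro x hx
    obtain ⟨y, rfl⟩ := QuotientGroup.mk'_surjective _ x
    rw [MonoidHom.mem_ker, QuotientGroup.mk'_apply, QuotientGroup.map_mk, QuotientGroup.eq_one_iff] at hx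
    rw [mem_center_iff]
    intro z
    obtain ⟨w, rfl⟩ := QuotientGroup.mk'_surjective _ z
    rw [← map_mul, ← map_mul, QuotientGroup.mk'_apply, QuotientGroup.mk'_apply, QuotientGroup.eq, ← pCoreOf_subgroupOf, mem_subgroupOf]
    have h1 : ⁅(w : G)⁻¹, (y : G)⁻¹⁆ ∈ pCoreOf p Er :=
      m3 (commutator_mem_commutator (Er.inv_mem w.2) ⟨Er.inv_mem y.2, C.inv_mem (mem_subgroupOf.mp hx)⟩)
    have h2 := (pCoreOf p Er).inv_mem h1
    have e : (((w * y)⁻¹ * (y * w) : ↥Er) : G) = ⁅(y : G)⁻¹, (w : G)⁻¹⁆ := by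
      simp [commutatorElement_def, mul_assoc]
    rw [e, ← commutatorElement_inv]
    exact h2
  · intro x
    obtain ⟨y, rfl⟩ := QuotientGroup.mk'_surjective _ x
    exact ⟨QuotientGroup.mk' _ y, rfl⟩


end Cfsg.Agent.S2860
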