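import Cfsg.Statements.S2861
import Cfsg.Agent.Lib.FrakLSetup
import Cfsg.Agent.Lib.LMinUniq

set_option autoImplicit false
open Cfsg

namespace Cfsg.Agent.S2861

open Subgroup Cfsg.Agent.Lib.LocBase Cfsg.Agent.Lib.FrakMA Cfsg.Agent.Lib.LMin Cfsg.Agent.Lib.PReduced


/-- Standing hypotheses: G a finite group, S a Sylow p-subgroup, Q a nontrivial large p-subgroup of G contained in S, M a subgroup containing S with the basic property (M ∈ 𝔐_G(S)); Y_M the largest p-reduced normal subgroup of M and M† = M·C_G(Y_M). Let L ∈ 𝔏_G(Y_M) (L ∈ 𝔏_G(Y_M): Y_M ≤ L; O_p(L) is the normal closure in L of Y_M ∩ O_p(L) and normalizes Y_M; L is Y_M-minimal of characteristic p with N_L(Y_M) its unique maximal subgroup over Y_M; and L/O_p(L) ≅ SL₂(q) with q = |Y_M : Y_M ∩ O_p(L)|, or p = 2 and L/O_p(L) is a Suzuki group Sz(q) or dihedral of order 2r, r an odd prime) and A = O_p(L). Then Y_M·A/A is the unique nontrivial elementary abelian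 normal p-subgroup of N_L(Y_M)/A. -/
theorem result {G : Type*} [Group G] [Finite G] {p : ℕ} [Fact p.Prime] (S : Sylow p G) (Q : Subgroup G) (hQp : IsPGroup p ↥Q) (hQ1 : Q ≠ ⊥) (hQS : Q ≤ (S : Subgroup G)) (hQ : Cfsg.IsLarge Q) (M : Subgroup G) (hSM : (S : Subgroup G) ≤ M) (hM : Cfsg.IsInFrakM p M) (L : Subgroup G) (hL : Cfsg.IsInFrakL p M L) (NL : Subgroup G) (hNL : NL = L ⊓ Subgroup.normalizer (((Cfsg.largestPReducedOf p M) : Subgroup G) : Set G)) [hn : (((Cfsg.pCoreOf p L)).subgroupOf NL).Normal] : let Ybar : Subgroup (↥NL ⧸ ((Cfsg.pCoreOf p L)).subgroupOf NL) := (((Cfsg.largestPReducedOf p M)).subgroupOf NL).map (QuotientGroup.mk' (((Cfsg.pCoreOf p L)).subgroupOf NL)); Ybar ≠ ⊥ ∧ Ybar.Normal ∧ Cfsg.IsElementaryAbelian p Ybar ∧ ∀ (V : Subgroup (↥NL ⧸ ((Cfsg.pCoreOf p L)).subgroupOf NL)), V.Normal → Cfsg.IsElementaryAbelian p V → V ≠ ⊥ → V = Ybar := by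
  have hS := setup_of_frakL hL
  have ht := types_of_frakL hL
  have hYL : Cfsg.largestPReducedOf p M ≤ L := hL.1
  have hAL : Cfsg.pCoreOf p L ≤ L := Cfsg.Agent.Lib.LocBase.pCoreOf_le L
  obtain ⟨Y, hY⟩ : ∃ Y, Y = Cfsg.largestPReducedOf p M := ⟨_, rfl⟩
  obtain ⟨A, hA⟩ : ∃ A, A = Cfsg.pCoreOf p L := ⟨_, rfl⟩
  have hAc : pCore p ↥L = A.subgroupOf L := by rw [hA, pCoreOf_subgroupOf]
  rw [← hY] at hS ht hYL
  rw [← hY] at hNL
  have hAN : A ≤ NL := by
    rw [hNL, hA, hY]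
    exact le_inf hAL hL.2.2.1
  intro Ybar
  subst hA
  subst hY
  have hNLL : NL ≤ L := by rw [hNL]; exact inf_le_left
  have hYN : Cfsg.largestPReducedOf p M ≤ NL := by rw [hNL]; exact le_inf hYL le_normalizer
  -- the embedding
  let j : ↥NL →* ↥L ⧸ pCore p ↥L := (QuotientGroup.mk' (pCore p ↥L)).comp (Subgroup.inclusion hNLL)
  have hj : ∀ n : ↥NL, j n = QuotientGroup.mk' (pCore p ↥L) ⟨n, hNLL n.2⟩ := fun n => rfl
  have hker : j.ker = (Cfsg.pCoreOf p L).subgroupOf NL := by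
    ext n
    rw [MonoidHom.mem_ker, hj, ← MonoidHom.mem_ker, QuotientGroup.ker_mk', hAc, mem_subgroupOf, mem_subgroupOf]
  let ψ : (↥NL ⧸ (Cfsg.pCoreOf p L).subgroupOf NL) →* ↥L ⧸ pCore p ↥L :=
    QuotientGroup.lift _ j (fun n hn => by rw [← hker] at hn; exact hn)
  have hψmk : ∀ n : ↥NL, ψ (QuotientGroup.mk' _ n) = j n := fun n => rfl
  have hψ : Function.Injective ψ := by
    rw [injective_iff_map_eq_one]
    intro a ha
    obtain ⟨n, rfl⟩ := QuotientGroup.mk'_surjective _ a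
    rw [hψmk, ← MonoidHom.mem_ker, hker] at ha
    exact (QuotientGroup.eq_one_iff n).mpr ha
  have hYψ : Ybar.map ψ = ((Cfsg.largestPReducedOf p M).subgroupOf L).map (QuotientGroup.mk' (pCore p ↥L)) := by
    apply le_antisymm
    · rintro _ ⟨_, ⟨y, hy, rfl⟩, rfl⟩
      exact ⟨⟨y, hNLL y.2⟩, hy, rfl⟩
    · rintro _ ⟨y, hy, rfl⟩
      exact ⟨QuotientGroup.mk' _ ⟨y, hYN hy⟩, ⟨⟨y, hYN hy⟩, hy, rfl⟩, rfl⟩
  have hrange : ∀ g ∈ normalizer ((((Cfsg.largestPReducedOf p M).subgroupOf L).map (QuotientGroup.mk' (pCore p ↥L)) :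
      Subgroup (↥L ⧸ pCore p ↥L)) : Set (↥L ⧸ pCore p ↥L)), ∃ n : ↥NL, j n = g := by
    intro g hg
    obtain ⟨x, rfl⟩ := QuotientGroup.mk'_surjective _ g
    rw [hS.mem_normalizer_iff, ← subgroupOf_normalizer_eq hYL, mem_subgroupOf] at hg
    exact ⟨⟨x, by rw [hNL]; exact ⟨x.2, hg⟩⟩, rfl⟩
  have hrange' : ∀ n : ↥NL, j n ∈ normalizer ((((Cfsg.largestPReducedOf p M).subgroupOf L).map (QuotientGroup.mk' (pCore p ↥L)) :
      Subgroup (↥L ⧸ pCore p ↥L)) : Set (↥L ⧸ pCore p ↥L)) := by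
    intro n
    rw [hj, hS.mem_normalizer_iff, ← subgroupOf_normalizer_eq hYL, mem_subgroupOf]
    exact (hNL.le n.2).2
  have hel := elem_iff.mp (pRed_largest p M).elem
  refine ⟨?_, ?_, ?_, ?_⟩
  · intro h
    apply hS.T_ne_bot
    rw [← hYψ, h, Subgroup.map_bot]
  · have h1 : ((Cfsg.largestPReducedOf p M).subgroupOf NL).Normal := by
      apply normal_subgroupOf_of_le_normalizer
      rw [hNL]; exact inf_le_right
    exact h1.map _ (QuotientGroup.mk'_surjective _)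
  · rw [elem_iff]
    constructor
    · rintro _ ⟨y, hy, rfl⟩
      rw [mem_centralizer_iff]
      rintro _ ⟨z, hz, rfl⟩
      rw [← map_mul, ← map_mul]
      congr 1
      exact Subtype.ext (mem_centralizer_iff.mp (hel.1 hy) z hz)
    · rintro _ ⟨y, hy, rfl⟩
      rw [← map_pow]
      have : y ^ p = 1 := Subtype.ext (hel.2 y hy)
      rw [this, map_one]
  · intro V hVn hVe hV1
    obtain ⟨x, hx⟩ := hS.exists_not_mem
    have hVe' := elem_iff.mp hVe
    have hVp : IsPGroup p V := by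
      rintro ⟨v, hv⟩
      exact ⟨1, Subtype.ext (by rw [pow_one]; exact hVe'.2 v hv)⟩
    have h1 := unique_normal hS.T_pgroup hS.T_ne_bot hS.T_exp (hS.T_gen hx) ht (V := V.map ψ) (by
        rintro _ ⟨v, hv, rfl⟩
        obtain ⟨n, rfl⟩ := QuotientGroup.mk'_surjective _ v
        exact hrange' n) (by
        rw [le_normalizer_iff]
        rintro g hg _ ⟨v, hv, rfl⟩
        obtain ⟨n, rfl⟩ := hrange g hg
        refine ⟨QuotientGroup.mk' _ n * v * (QuotientGroup.mk' _ n)⁻¹, hVn.conj_mem v hv _, ?_⟩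
        rw [map_mul, map_mul, map_inv]
        rfl) (hVp.map ψ) (by
        rintro _ ⟨v, hv, rfl⟩
        rw [← map_pow, hVe'.2 v hv, map_one]) (by
        intro h
        rw [Subgroup.map_eq_bot_iff_of_injective _ hψ] at h
        exact hV1 h)
    rw [← hYψ] at h1
    exact Subgroup.map_injective hψ h1


end Cfsg.Agent.S2861
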