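import Cfsg.Statements.S2862
import Cfsg.Agent.Lib.FrakL2

set_option autoImplicit false
open Cfsg

namespace Cfsg.Agent.S2862

open Subgroup Cfsg.Agent.Lib.LocBase Cfsg.Agent.Lib.FrakMA Cfsg.Agent.Lib.FrakH Cfsg.Agent.Lib.FrakL Cfsg.Agent.Lib.PReduced


/-- Standing hypotheses: G a finite group, S a Sylow p-subgroup, Q a nontrivial large p-subgroup of G contained in S, M a subgroup containing S with the basic property (M ∈ 𝔐_G(S)); Y_M the largest p-reduced normal subgroup of M and M† = M·C_G(Y_M). Suppose Y_M is char-p-tall and asymmetric in G, H ∈ ℌ_G(O_p(M)), and L is minimal among the subgroups of H containing Y_M with Y_M ≰ O_p(L). Then H = ⟨L, O_p(M)⟩ = ⟨hY_Mh⁻¹, O_p(M)⟩ for every h ∈ L outside N_L(Y_M); L is Y_M-minimal and of characteristic p, with N_L(Y_M) the unique maximal subgroup of L containing Y_M; [V, O^p(L)] ≠ 1 for every noncentral chief factor V/W of H inside O_p(H) (that is, O^p(L) does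 not act trivially on V/W); and the normal closure of O_p(L) ∩ Y_M in L lies in O_p(H). -/
theorem result {G : Type*} [Group G] [Finite G] {p : ℕ} [Fact p.Prime] (S : Sylow p G) (Q : Subgroup G) (hQp : IsPGroup p ↥Q) (hQ1 : Q ≠ ⊥) (hQS : Q ≤ (S : Subgroup G)) (hQ : Cfsg.IsLarge Q) (M : Subgroup G) (hSM : (S : Subgroup G) ≤ M) (hM : Cfsg.IsInFrakM p M) (htall : Cfsg.IsCharPTall p (Cfsg.largestPReducedOf p M)) (hasym : ¬ Cfsg.IsSymmetricIn (Cfsg.largestPReducedOf p M)) (H : Subgroup G) (hH : Cfsg.IsInFrakH p M H) (L : Subgroup G) (hLH : L ≤ H) (hYL : (Cfsg.largestPReducedOf p M) ≤ L) (hYO : ¬ (Cfsg.largestPReducedOf p M) ≤ (Cfsg.pCoreOf p L)) (hmin : ∀ L' : Subgroup G, L' ≤ L → (Cfsg.largestPReducedOf p M) ≤ L' → ¬ (Cfsg.largestPReducedOf p M) ≤ (Cfsg.pCoreOf p L') → L' = L) : (L ⊔ (Cfsg.pCoreOf p M) = H ∧ ∀ h ∈ L, h ∉ Subgroup.normalizer (((Cfsg.largestPReducedOf p M) : Subgroup G) : Set G) → (((Cfsg.largestPReducedOf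 p M) : Subgroup G).map (MulAut.conj (h : G)).toMonoidHom) ⊔ (Cfsg.pCoreOf p M) = H) ∧ (Cfsg.IsMinimalOver (((Cfsg.largestPReducedOf p M)).subgroupOf L) ∧ Subgroup.centralizer (Cfsg.pCore p ↥L : Set ↥L) ≤ Cfsg.pCore p ↥L ∧ L ⊓ Subgroup.normalizer (((Cfsg.largestPReducedOf p M) : Subgroup G) : Set G) < L ∧ ∀ X : Subgroup G, (Cfsg.largestPReducedOf p M) ≤ X → X < L → X ≤ L ⊓ Subgroup.normalizer (((Cfsg.largestPReducedOf p M) : Subgroup G) : Set G)) ∧ (∀ V W' : Subgroup G, V ≤ (Cfsg.pCoreOf p H) → H ≤ Subgroup.normalizer ((V : Subgroup G) : Set G) → H ≤ Subgroup.normalizer ((W' : Subgroup G) : Set G) → W' < V → (∀ Z' : Subgroup G, H ≤ Subgroup.normalizer ((Z' : Subgroup G) : Set G) → W' ≤ Z' → Z' ≤ V → Z' = W' ∨ Z' = V) → ¬ ⁅V, H⁆ ≤ W' → ¬ ⁅V, ((Cfsg.pResidual p ↥L).map (L).subtype)⁆ ≤ W') ∧ (Subgroup.normalClosure (((((Cfsg.pCoreOf p L) ⊓ (Cfsg.largestPReducedOf p M)).subgroupOf L : Subgroup ↥L)) : Set ↥L)).map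 L.subtype ≤ (Cfsg.pCoreOf p H) := by
  have hQM : Q ≤ M := hQS.trans hSM
  have hA : AsymData p (Cfsg.largestPReducedOf p M) (Cfsg.pCoreOf p M) := asymData hQp hQ hQM hSM hM hasym
  have hHd : HData p (Cfsg.largestPReducedOf p M) (Cfsg.pCoreOf p M) H :=
    { char := isCharP_iff.mpr hH.1
      le := hH.2.1
      nle := hH.2.2.1
      min := hH.2.2.2 }
  obtain ⟨h, hL⟩ := lData_of_min hA hHd hLH hYL hYO hmin
  have hLN := le_normalizer_pCoreOf p L
  refine ⟨⟨hL.gen2, fun g hg hgY => gen_conj hA hHd hL hg hgY⟩, ⟨?_, isCharP_iff.mp (isCharP_L hA hHd hL),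
    inf_normalizer_lt hA hL, fun X hX hXL => le_inf hXL.le (le_normalizer_of_lt hA hHd hL hX hXL)⟩, ?_, ?_⟩
  · refine isMinimalOver_of_ambient hYL ?_ (inf_normalizer_lt hA hL) (le_inf hYL le_normalizer)
      (fun X hX hXL => le_inf hXL.le (le_normalizer_of_lt hA hHd hL hX hXL))
    intro K hK hLK hYK
    apply le_antisymm hK
    conv_lhs => rw [← hL.gen]
    refine sup_le hYK ?_
    exact (Subgroup.map_mono hYK).trans (map_conj_eq_of_mem (hLK hL.hL)).le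
  · intro V W' hV hHV hHW hWV hmin' hnc
    rw [map_pResidual]
    exact chief hA hHd hL hV hHV hHW hWV hmin' hnc
  · rw [map_normalClosure_subgroupOf (inf_le_right.trans hYL)]
    exact ncl_le (inf_Y_le hA hHd hL) (hLH.trans (le_normalizer_pCoreOf p H))


end Cfsg.Agent.S2862
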