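import Cfsg.Statements.S2863
import Cfsg.Agent.Lib.FrakLSetup

set_option autoImplicit false
open Cfsg

namespace Cfsg.Agent.S2863

open Subgroup Cfsg.Agent.Lib.LocBase Cfsg.Agent.Lib.FrakMA Cfsg.Agent.Lib.LMin Cfsg.Agent.Lib.PReduced


/-- Standing hypotheses: G a finite group, S a Sylow p-subgroup, Q a nontrivial large p-subgroup of G contained in S, M a subgroup containing S with the basic property (M ∈ 𝔐_G(S)); Y_M the largest p-reduced normal subgroup of M and M† = M·C_G(Y_M). Let L ∈ 𝔏_G(Y_M) (L ∈ 𝔏_G(Y_M): Y_M ≤ L; O_p(L) is the normal closure in L of Y_M ∩ O_p(L) and normalizes Y_M; L is Y_M-minimal of characteristic p with N_L(Y_M) its unique maximal subgroup over Y_M; and L/O_p(L) ≅ SL₂(q) with q = |Y_M : Y_M ∩ O_p(L)|, or p = 2 and L/O_p(L) is a Suzuki group Sz(q) or dihedral of order 2r, r an odd prime), A = O_p(L), and C = C_{Y_M}(L). Then every element h of L whose order is not a power of p acts without nontrivial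 fixed points on A/C: for a ∈ A, hah⁻¹a⁻¹ ∈ C implies a ∈ C. -/
theorem result {G : Type*} [Group G] [Finite G] {p : ℕ} [Fact p.Prime] (S : Sylow p G) (Q : Subgroup G) (hQp : IsPGroup p ↥Q) (hQ1 : Q ≠ ⊥) (hQS : Q ≤ (S : Subgroup G)) (hQ : Cfsg.IsLarge Q) (M : Subgroup G) (hSM : (S : Subgroup G) ≤ M) (hM : Cfsg.IsInFrakM p M) (L : Subgroup G) (hL : Cfsg.IsInFrakL p M L) (h : G) (hh : h ∈ L) (hnp : ¬ ∃ k : ℕ, orderOf h = p ^ k) : ∀ a ∈ (Cfsg.pCoreOf p L), h * a * h⁻¹ * a⁻¹ ∈ (Cfsg.largestPReducedOf p M) ⊓ Subgroup.centralizer ((L : Subgroup G) : Set G) → a ∈ (Cfsg.largestPReducedOf p M) ⊓ Subgroup.centralizer ((L : Subgroup G) : Set G) := by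
  have hS := setup_of_frakL hL
  have ht := types_of_frakL hL
  intro a ha hfix
  have haL : a ∈ L := Cfsg.Agent.Lib.LocBase.pCoreOf_le L ha
  have ha' : (⟨a, haL⟩ : ↥L) ∈ pCore p ↥L := by
    rw [← pCoreOf_subgroupOf]; exact ha
  have h1 := hS.fixed ht (h := ⟨h, hh⟩) (by rw [orderOf_mk]; exact hnp) ha' (by
    refine ⟨hfix.1, mem_center_iff.mpr fun g => Subtype.ext ?_⟩
    exact mem_centralizer_iff.mp hfix.2 g g.2)
  refine ⟨h1.1, mem_centralizer_iff.mpr fun g hg => ?_⟩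
  exact congrArg Subtype.val (mem_center_iff.mp h1.2 ⟨g, hg⟩)


end Cfsg.Agent.S2863
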