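import Cfsg.Statements.S2864
import Cfsg.Agent.Lib.LargeLoc

set_option autoImplicit false
open Cfsg

namespace Cfsg.Agent.S2864

open Subgroup Cfsg.Agent.Lib.LocBase Cfsg.Agent.Lib.LargeLoc
open scoped commutatorElement


/-- Standing hypotheses: G a finite group, S a Sylow p-subgroup, Q a nontrivial large p-subgroup of G contained in S, M a subgroup containing S with the basic property (M ∈ 𝔐_G(S)); Y_M the largest p-reduced normal subgroup of M and M† = M·C_G(Y_M). Let I be a nontrivial normal p-subgroup of M and Y ≤ O_p(M†); let L be a subgroup of G containing Y and A a normal p-subgroup of L with I ≤ A ≤ M. If [Y, A] ≤ [I, A], then Y ≤ O_p(L). -/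
theorem result {G : Type*} [Group G] [Finite G] {p : ℕ} [Fact p.Prime] (S : Sylow p G) (Q : Subgroup G) (hQp : IsPGroup p ↥Q) (hQ1 : Q ≠ ⊥) (hQS : Q ≤ (S : Subgroup G)) (hQ : Cfsg.IsLarge Q) (M : Subgroup G) (hSM : (S : Subgroup G) ≤ M) (hM : Cfsg.IsInFrakM p M) (I : Subgroup G) (hI1 : I ≠ ⊥) (hIp : IsPGroup p ↥I) (hIM : I ≤ M ∧ M ≤ Subgroup.normalizer ((I : Subgroup G) : Set G)) (Y : Subgroup G) (hY : Y ≤ (Cfsg.pCoreOf p (M ⊔ Subgroup.centralizer (((Cfsg.largestPReducedOf p M) : Subgroup G) : Set G)))) (L : Subgroup G) (hYL : Y ≤ L) (A : Subgroup G) (hAp : IsPGroup p ↥A) (hAL : A ≤ L ∧ L ≤ Subgroup.normalizer ((A : Subgroup G) : Set G)) (hIA : I ≤ A) (hAM : A ≤ M) (hc : ⁅Y, A⁆ ≤ ⁅I, A⁆) : Y ≤ (Cfsg.pCoreOf p L) := by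
  -- `N_G(I) ≤ M†`
  have hNI := normalizer_le_dagger hQp hQ (hQS.trans hSM) hM hI1 hIp hIM.2
  set Md := M ⊔ centralizer ((Cfsg.largestPReducedOf p M : Subgroup G) : Set G) with hMd
  -- the kernel on `A / A'`
  have hYA : ⁅Y, A⁆ ≤ ⁅A, A⁆ := hc.trans (commutator_mono hIA le_rfl)
  have hLA' : L ≤ normalizer ((⁅A, A⁆ : Subgroup G) : Set G) := le_normalizer_commutator hAL.2 hAL.2
  set C := relCent L A ⁅A, A⁆ hLA' with hC
  have hCL : C ≤ L := fun x hx => hx.1
  have hLC : L ≤ normalizer (C : Set G) := le_normalizer_relCent hLA' le_normalizer hAL.2 hLA'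
  have hYC : Y ≤ C := fun y hy => ⟨hYL hy, fun a ha => hYA (commutator_mem_commutator hy ha)⟩
  have hYp : IsPGroup p Y := (isPGroup_pCoreOf p Md).to_le hY
  set K := pRes p C with hK
  have hKC : K ≤ C := pRes_le p C
  have hAK : ⁅A, K⁆ = ⊥ := by
    apply Cfsg.Agent.Lib.CopCom.commutator_pRes_eq_bot hAp (hCL.trans hAL.2)
    rw [commutator_comm, commutator_le]
    intro k hk a ha
    exact (hKC hk).2 a ha
  have hKMd : K ≤ Md := by
    refine le_trans ?_ hNI
    refine le_trans ?_ (centralizer_le_normalizer _)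
    refine le_trans ?_ (centralizer_le (show (I : Set G) ⊆ A from hIA))
    rw [← commutator_eq_bot_iff_le_centralizer, commutator_comm]
    exact hAK
  have hYK : ⁅Y, K⁆ ≤ Cfsg.pCoreOf p K := by
    have h1 : ⁅Y, K⁆ ≤ K ⊓ Cfsg.pCoreOf p Md := by
      apply le_inf
      · exact commutator_le_right_of_le (hYC.trans (le_normalizer_pRes p C))
      · exact (commutator_mono hY le_rfl).trans
          (commutator_le_left_of_le (hKMd.trans (le_normalizer_pCoreOf p Md)))
    refine h1.trans (le_pCoreOf inf_le_left ?_ ((isPGroup_pCoreOf p Md).to_le inf_le_right))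
    exact le_normalizer_inf le_normalizer (hKMd.trans (le_normalizer_pCoreOf p Md))
  refine (le_pCoreOf_of_commutator hYp hYC hYK).trans ?_
  refine le_pCoreOf ((Cfsg.Agent.Lib.LocBase.pCoreOf_le C).trans hCL) ?_ (isPGroup_pCoreOf p C)
  exact hLC.trans (normalizer_le_normalizer_pCoreOf p C)


end Cfsg.Agent.S2864
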