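import Cfsg.Statements.S2872

set_option autoImplicit false
open Cfsg

namespace Cfsg.Agent.S2872

section Aux

open Subgroup Subgroup.leftTransversals

variable {G : Type*} [Group G] {H : Subgroup G} {A : Type*} [CommGroup A]

open Classical in
/-- extension of a homomorphism on a subgroup by `1`. -/
noncomputable def extOne (φ : H →* A) (g : G) : A := if h : g ∈ H then φ ⟨g, h⟩ else 1

theorem extOne_of_mem (φ : H →* A) {g : G} (h : g ∈ H) : extOne φ g = φ ⟨g, h⟩ := by
  unfold extOne; rw [dif_pos h]

theorem transfer_eq_prod_out [H.FiniteIndex] [Fintype (G ⧸ H)] (φ : H →* A) (g : G) :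
    φ.transfer g = ∏ q : G ⧸ H, extOne φ ((q.out)⁻¹ * (g * (g⁻¹ • q).out)) := by
  classical
  let T : H.LeftTransversal :=
    ⟨Set.range (Quotient.out : G ⧸ H → G), isComplement_range_left (fun q => Quotient.out_eq' q)⟩
  have hT : ∀ q : G ⧸ H, ((T.2.leftQuotientEquiv q : _) : G) = q.out := fun q =>
    IsComplement.leftQuotientEquiv_apply (fun q => Quotient.out_eq' q) q
  rw [MonoidHom.transfer_def φ T g]
  unfold diff
  rw [show H.fintypeQuotientOfFiniteIndex = (inferInstance : Fintype (G ⧸ H)) from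
    Subsingleton.elim _ _]
  refine Finset.prod_congr rfl fun q _ => ?_
  rw [extOne_of_mem]
  · congr 1
    apply Subtype.ext
    simp only [hT, smul_apply_eq_smul_apply_inv_smul, smul_eq_mul]
  · have h1 : ((g * (g⁻¹ • q).out : G) : G ⧸ H) = q := by
      rw [← smul_eq_mul, ← MulAction.Quotient.smul_mk]
      have : (((g⁻¹ • q).out : G) : G ⧸ H) = g⁻¹ • q := Quotient.out_eq' _
      rw [this, smul_inv_smul]
    have h2 : ((q.out : G) : G ⧸ H) = q := Quotient.out_eq' _
    rw [← QuotientGroup.eq]
    rw [h1, h2]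

theorem extOne_eq_one_of_sq [H.FiniteIndex] [Fintype (G ⧸ H)] [DecidableEq (G ⧸ H)] (φ : H →* A)
    {z : G} (hz : z * z = 1) :
    φ.transfer z =
      ∏ q ∈ Finset.univ.filter (fun q : G ⧸ H => z • q = q),
        extOne φ ((q.out)⁻¹ * z * q.out) := by
  classical
  have hzi : z⁻¹ = z := inv_eq_of_mul_eq_one_left hz
  rw [transfer_eq_prod_out, ← Finset.prod_filter_mul_prod_filter_not Finset.univ
    (fun q : G ⧸ H => z • q = q)]
  have h1 : ∏ q ∈ Finset.univ.filter (fun q : G ⧸ H => ¬ z • q = q),
      extOne φ ((q.out)⁻¹ * (z * (z⁻¹ • q).out)) = 1 := by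
    refine Finset.prod_involution (fun q _ => z • q) ?_ ?_ ?_ ?_
    · intro q hq
      have hzz : z • z • q = q := by rw [smul_smul, hz, one_smul]
      have hmem1 : (q.out)⁻¹ * (z * (z⁻¹ • q).out) ∈ H := by
        rw [← QuotientGroup.eq, ← smul_eq_mul (a := z), ← MulAction.Quotient.smul_mk]
        have h3 : (((z⁻¹ • q).out : G) : G ⧸ H) = z⁻¹ • q := Quotient.out_eq' _
        have h2 : ((q.out : G) : G ⧸ H) = q := Quotient.out_eq' _
        rw [h3, smul_inv_smul, h2]
      have hmem2 : ((z • q).out)⁻¹ * (z * (z⁻¹ • z • q).out) ∈ H := by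
        rw [← QuotientGroup.eq, ← smul_eq_mul (a := z), ← MulAction.Quotient.smul_mk]
        have h3 : (((z⁻¹ • z • q).out : G) : G ⧸ H) = z⁻¹ • z • q := Quotient.out_eq' _
        have h2 : (((z • q).out : G) : G ⧸ H) = z • q := Quotient.out_eq' _
        rw [h3, smul_inv_smul, h2]
      rw [extOne_of_mem φ hmem1, extOne_of_mem φ hmem2, ← map_mul]
      have : (⟨_, hmem1⟩ : H) * ⟨_, hmem2⟩ = 1 := by
        apply Subtype.ext
        simp only [Subgroup.coe_mul, Subgroup.coe_one, hzi, hzz]
        calc (q.out)⁻¹ * (z * (z • q).out) * (((z • q).out)⁻¹ * (z * q.out))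
            = (q.out)⁻¹ * (z * z) * q.out := by group
          _ = 1 := by rw [hz]; group
      rw [this, map_one]
    · intro q hq _
      simpa using hq
    · intro q hq
      simp only [Finset.mem_filter, Finset.mem_univ, true_and] at hq ⊢
      intro h
      exact hq (by simpa using h)
    · intro q hq
      simp only [smul_smul, hz, one_smul]
  rw [h1, mul_one]
  refine Finset.prod_congr rfl fun q hq => ?_
  simp only [Finset.mem_filter, Finset.mem_univ, true_and] at hq
  rw [show z⁻¹ • q = q by rw [hzi, hq], mul_assoc]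


/-- A coatom of the lattice of subgroups of a finite `p`-group is normal with quotient of order `p`. -/
theorem card_quotient_coatom {P : Type*} [Group P] [Finite P] {p : ℕ} [Fact p.Prime]
    (hP : IsPGroup p P) {M : Subgroup P} (hM : IsCoatom M) [M.Normal] : Nat.card (P ⧸ M) = p := by
  have hQ : IsPGroup p (P ⧸ M) := hP.to_quotient M
  have hnt : Nontrivial (P ⧸ M) := by
    rw [QuotientGroup.nontrivial_iff]
    exact hM.1
  have hdvd : p ∣ Nat.card (P ⧸ M) := by
    obtain ⟨n, hn⟩ := IsPGroup.iff_card.mp hQ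
    rw [hn]
    have : n ≠ 0 := by
      rintro rfl
      rw [pow_zero] at hn
      have := Finite.one_lt_card (α := P ⧸ M)
      omega
    exact dvd_pow_self p this
  obtain ⟨x, hx⟩ := exists_prime_orderOf_dvd_card' (G := P ⧸ M) p hdvd
  have h1 : (Subgroup.zpowers x).comap (QuotientGroup.mk' M) = ⊤ := by
    apply hM.2
    refine lt_of_le_of_ne ?_ ?_
    · intro y hy
      rw [Subgroup.mem_comap]
      have : QuotientGroup.mk' M y = 1 := by simpa using hy
      rw [this]; exact one_mem _
    · intro h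
      obtain ⟨y, rfl⟩ := QuotientGroup.mk'_surjective M x
      have hy : y ∈ (Subgroup.zpowers (QuotientGroup.mk' M y)).comap (QuotientGroup.mk' M) :=
        Subgroup.mem_zpowers _
      rw [← h] at hy
      have : QuotientGroup.mk' M y = 1 := by simpa using hy
      rw [this, orderOf_one] at hx
      exact (Fact.out : p.Prime).one_lt.ne hx
  have h2 : Subgroup.zpowers x = ⊤ := by
    rw [eq_top_iff]
    rintro q -
    obtain ⟨y, rfl⟩ := QuotientGroup.mk'_surjective M q
    have : y ∈ (Subgroup.zpowers x).comap (QuotientGroup.mk' M) := by rw [h1]; trivial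
    exact this
  rw [← hx, ← Nat.card_zpowers, h2, Subgroup.card_top]

end Aux


/-- Let S be a Sylow 2-subgroup of the finite group G. Then G has a proper normal subgroup of 2-power index (O²(G) ≠ G), or Ω₁(Z(S)) is contained in the Frattini subgroup of S, or N_G(S) acts nontrivially on Ω₁(Z(S)) by conjugation. -/
theorem result {G : Type*} [Group G] [Finite G] (S : Sylow 2 G) : Cfsg.pResidual 2 G ≠ ⊤ ∨ Cfsg.omegaOne 2 ((S : Subgroup G) ⊓ Subgroup.centralizer ((S : Subgroup G) : Set G)) ≤ (frattini ↥(S : Subgroup G)).map (S : Subgroup G).subtype ∨ ∃ g ∈ Subgroup.normalizer ((S : Subgroup G) : Set G), ∃ z ∈ Cfsg.omegaOne 2 ((S : Subgroup G) ⊓ Subgroup.centralizer ((S : Subgroup G) : Set G)), g * z * g⁻¹ ≠ z := by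
  classical
  by_contra hcon
  push Not at hcon
  obtain ⟨hO, hΩ, hN⟩ := hcon
  -- the element z
  have hz : ∃ z : G, ∃ hzS : z ∈ (S : Subgroup G), z ∈ Subgroup.centralizer ((S : Subgroup G) : Set G) ∧
      z ^ 2 = 1 ∧ (⟨z, hzS⟩ : (S : Subgroup G)) ∉ frattini ↥(S : Subgroup G) := by
    by_contra h
    push Not at h
    apply hΩ
    unfold Cfsg.omegaOne
    rw [Subgroup.closure_le]
    rintro z ⟨hz1, hz2⟩
    exact ⟨⟨z, hz1.1⟩, h z hz1.1 hz1.2 hz2, rfl⟩
  obtain ⟨z, hzS, hzC, hz2, hzF⟩ := hz
  have hzz : z * z = 1 := by rw [← sq, hz2]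
  have hzΩ : z ∈ Cfsg.omegaOne 2 ((S : Subgroup G) ⊓ Subgroup.centralizer ((S : Subgroup G) : Set G)) :=
    Subgroup.subset_closure ⟨⟨hzS, hzC⟩, hz2⟩
  -- maximal subgroup
  have hM : ∃ M : Subgroup (S : Subgroup G), IsCoatom M ∧ (⟨z, hzS⟩ : (S : Subgroup G)) ∉ M := by
    by_contra h
    push Not at h
    apply hzF
    unfold frattini Order.radical
    simp only [Subgroup.mem_iInf]
    intro M hM
    exact h M hM
  obtain ⟨M, hMc, hzM⟩ := hM
  have hSp : IsPGroup 2 (S : Subgroup G) := S.2
  have hnil : Group.IsNilpotent (S : Subgroup G) := hSp.isNilpotent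
  have hMn : M.Normal := Subgroup.NormalizerCondition.normal_of_coatom M
    (Group.normalizerCondition_of_isNilpotent (h := hnil)) hMc
  have hcard := card_quotient_coatom hSp hMc
  let A := (S : Subgroup G) ⧸ M
  have hcyc : IsCyclic A := isCyclic_of_prime_card hcard
  letI : CommGroup A := { (inferInstance : Group A) with
    mul_comm := fun a b => (IsCyclic.isMulCommutative (α := A)).is_comm.comm a b }
  let φ : (S : Subgroup G) →* A := QuotientGroup.mk' M
  set c : A := φ ⟨z, hzS⟩ with hc
  have hc1 : c ≠ 1 := by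
    intro h
    apply hzM
    exact (QuotientGroup.eq_one_iff _).mp h
  have hAsq : ∀ a : A, a ^ 2 = 1 := fun a => by
    have := pow_card_eq_one' (x := a)
    rwa [hcard] at this
  have hA2 : ∀ a : A, a = 1 ∨ a = c := by
    intro a
    by_contra h
    push Not at h
    have h3 : 3 ≤ Nat.card A := by
      haveI : Fintype A := Fintype.ofFinite A
      rw [Nat.card_eq_fintype_card, ← Finset.card_univ]
      have : ({1, c, a} : Finset A).card = 3 := by
        rw [Finset.card_insert_of_notMem, Finset.card_insert_of_notMem, Finset.card_singleton]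
        · simpa using fun h' => h.2 h'.symm
        · simp only [Finset.mem_insert, Finset.mem_singleton, not_or]
          exact ⟨fun h' => hc1 h'.symm, fun h' => h.1 h'.symm⟩
      rw [← this]
      exact Finset.card_le_card (Finset.subset_univ _)
    have : Nat.card A = 2 := hcard
    omega
  haveI : Fintype (G ⧸ (S : Subgroup G)) := Fintype.ofFinite _
  let V : G →* A := φ.transfer
  have hVtriv : V z = 1 := by
    have h1 : Cfsg.pResidual 2 G ≤ V.ker := by
      unfold Cfsg.pResidual
      rw [Subgroup.closure_le]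
      intro g hg
      have h2 : orderOf (V g) ∣ 2 := orderOf_dvd_of_pow_eq_one (hAsq _)
      have h3 : orderOf (V g) ∣ orderOf g := orderOf_map_dvd V g
      have h4 : orderOf (V g) ∣ 1 := by
        have := Nat.dvd_gcd h3 h2
        rwa [show Nat.gcd (orderOf g) 2 = 1 from hg] at this
      rw [SetLike.mem_coe, MonoidHom.mem_ker, ← orderOf_eq_one_iff]
      exact Nat.dvd_one.mp h4
    rw [hO] at h1
    exact h1 (Subgroup.mem_top z)
  -- the function h
  let h : G ⧸ (S : Subgroup G) → A := fun q => extOne φ ((q.out)⁻¹ * z * q.out)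
  have hrep : ∀ g : G, z • (g : G ⧸ (S : Subgroup G)) = g →
      h (g : G ⧸ (S : Subgroup G)) = extOne φ (g⁻¹ * z * g) := by
    intro g hg
    obtain ⟨s, hs⟩ := QuotientGroup.mk_out_eq_mul (S : Subgroup G) g
    have hmem : g⁻¹ * (z * g) ∈ (S : Subgroup G) := by
      rw [← QuotientGroup.eq, ← smul_eq_mul, ← MulAction.Quotient.smul_mk]
      exact hg.symm
    have hmem' : g⁻¹ * z * g ∈ (S : Subgroup G) := by rwa [mul_assoc]
    change extOne φ (((g : G ⧸ (S : Subgroup G)).out)⁻¹ * z * (g : G ⧸ (S : Subgroup G)).out) = _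
    rw [show ((g : G ⧸ (S : Subgroup G)).out) = g * s from hs]
    have e : (g * s)⁻¹ * z * (g * s) = (s : G)⁻¹ * (g⁻¹ * z * g) * s := by group
    have hmem2 : (g * s)⁻¹ * z * (g * s) ∈ (S : Subgroup G) := by
      rw [e]; exact mul_mem (mul_mem (inv_mem s.2) hmem') s.2
    rw [extOne_of_mem φ hmem2, extOne_of_mem φ hmem']
    have : (⟨_, hmem2⟩ : (S : Subgroup G)) = s⁻¹ * ⟨_, hmem'⟩ * s := Subtype.ext (by
      simp only [Subgroup.coe_mul, Subgroup.coe_inv]
      exact e)
    rw [this, map_mul, map_mul, map_inv, mul_comm (φ s)⁻¹, inv_mul_cancel_right]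
  have hrepout : ∀ q : G ⧸ (S : Subgroup G), ((q.out : G) : G ⧸ (S : Subgroup G)) = q :=
    fun q => Quotient.out_eq' _
  -- the invariant set
  let F₁ : SubMulAction (S : Subgroup G) (G ⧸ (S : Subgroup G)) :=
    { carrier := {q | z • q = q ∧ h q = c}
      smul_mem' := by
        rintro s q ⟨hq1, hq2⟩
        have hsz : (s : G) * z = z * s := (Subgroup.mem_centralizer_iff.mp hzC) s s.2
        have h1 : z • s • q = s • q := by
          change z • (s : G) • q = (s : G) • q
          rw [smul_smul z, ← hsz, ← smul_smul, hq1]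
        refine ⟨h1, ?_⟩
        have h2 : s • q = (((s : G) * q.out : G) : G ⧸ (S : Subgroup G)) := by
          rw [← smul_eq_mul, ← MulAction.Quotient.smul_mk, hrepout]; rfl
        rw [h2] at h1 ⊢
        rw [hrep _ h1, ← hq2]
        change _ = extOne φ ((q.out)⁻¹ * z * q.out)
        congr 1
        calc ((s : G) * q.out)⁻¹ * z * (s * q.out) = (q.out)⁻¹ * ((s : G)⁻¹ * (z * s)) * q.out := by
              group
          _ = _ := by rw [← hsz]; group }
  have hVz : V z = c ^ Nat.card F₁ := by
    change φ.transfer z = _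
    rw [extOne_eq_one_of_sq φ hzz]
    have h1 : ∀ q ∈ Finset.univ.filter (fun q : G ⧸ (S : Subgroup G) => z • q = q),
        extOne φ ((q.out)⁻¹ * z * q.out) = if h q = c then c else 1 := by
      intro q hq
      change h q = _
      split_ifs with hh
      · exact hh
      · exact (hA2 (h q)).resolve_right hh
    rw [Finset.prod_congr rfl h1, Finset.prod_ite, Finset.prod_const_one, mul_one,
      Finset.prod_const, Finset.filter_filter]
    congr 1
    rw [Nat.card_eq_fintype_card, ← Fintype.card_coe]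
    refine Fintype.card_congr (Equiv.subtypeEquivRight ?_)
    intro q
    simp only [Finset.mem_filter, Finset.mem_univ, true_and]
    rfl
  have hfix : Nat.card (MulAction.fixedPoints (S : Subgroup G) F₁) =
      Nat.card (MulAction.fixedPoints (S : Subgroup G) (G ⧸ (S : Subgroup G))) := by
    refine Nat.card_congr ?_
    refine Equiv.ofBijective (fun q => ⟨q.1.1, fun s => ?_⟩) ⟨?_, ?_⟩
    · have := q.2 s
      exact congrArg Subtype.val this
    · intro q q' hqq
      apply Subtype.ext
      apply Subtype.ext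
      have := congrArg (fun x => x.1) hqq
      exact this
    · rintro ⟨q, hq⟩
      have hqN : q.out ∈ Subgroup.normalizer ((S : Subgroup G) : Set G) := by
        have h1 : ∀ s ∈ (S : Subgroup G), (q.out)⁻¹ * s * q.out ∈ (S : Subgroup G) := by
          intro s hs
          have h2 := hq ⟨s, hs⟩
          rw [mul_assoc, ← QuotientGroup.eq, ← smul_eq_mul (a := s), ← MulAction.Quotient.smul_mk,
            hrepout]
          exact h2.symm
        have h3 : (q.out)⁻¹ ∈ Subgroup.normalizer ((S : Subgroup G) : Set G) := by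
          apply Subgroup.mem_normalizer_fintype
          intro s hs
          rw [inv_inv]
          exact h1 s hs
        simpa using inv_mem h3
      have hzq : z • q = q := hq ⟨z, hzS⟩
      have hhq : h q = c := by
        have h4 : (q.out)⁻¹ * z * q.out = z := by
          have := hN _ (inv_mem hqN) z hzΩ
          simpa using this
        change extOne φ ((q.out)⁻¹ * z * q.out) = c
        rw [h4, extOne_of_mem φ hzS]
      refine ⟨⟨⟨q, hzq, hhq⟩, fun s => Subtype.ext (hq s)⟩, rfl⟩
  have hodd : ¬ 2 ∣ Nat.card F₁ := by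
    intro hdvd
    have h1 := hSp.card_modEq_card_fixedPoints F₁
    have h2 := hSp.card_modEq_card_fixedPoints (G ⧸ (S : Subgroup G))
    rw [hfix] at h1
    have h3 : Nat.card F₁ ≡ Nat.card (G ⧸ (S : Subgroup G)) [MOD 2] := h1.trans h2.symm
    have h4 : 2 ∣ Nat.card (G ⧸ (S : Subgroup G)) := by
      rw [Nat.modEq_iff_dvd] at h3
      have h5 : (2 : ℤ) ∣ (Nat.card F₁ : ℤ) := by exact_mod_cast hdvd
      have h6 := dvd_add h3 h5
      rw [sub_add_cancel] at h6
      exact_mod_cast h6
    exact S.not_dvd_index h4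
  rw [hVz] at hVtriv
  obtain ⟨k, hk⟩ : ∃ k, Nat.card F₁ = 2 * k + 1 := by
    rcases Nat.even_or_odd' (Nat.card F₁) with ⟨k, hk | hk⟩
    · exact absurd ⟨k, hk⟩ hodd
    · exact ⟨k, hk⟩
  rw [hk, pow_succ, pow_mul, hAsq, one_pow, one_mul] at hVtriv
  exact hc1 hVtriv


end Cfsg.Agent.S2872
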