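import Cfsg.Statements.S2873
import Cfsg.Agent.Lib.LocBase
import Mathlib.GroupTheory.SpecificGroups.Dihedral
import Mathlib.Tactic.Ring
import Mathlib.Tactic.LinearCombination
import Mathlib.Tactic.Group

set_option autoImplicit false
open Cfsg

namespace Cfsg.Agent.S2873

open Subgroup Cfsg.Agent.Lib.LocBase

/-- `N`-classes of elements acting fixed-point-freely. -/
theorem conj_coset {G : Type*} [Group G] [Finite G] {N : Subgroup G} [N.Normal] {x : G}
    (h : ∀ n ∈ N, n * x = x * n → n = 1) {y : G} (hy : y * x⁻¹ ∈ N) : ∃ n ∈ N, y = n * x * n⁻¹ := by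
  let f : N → N := fun n => ⟨n * (x * (n : G)⁻¹ * x⁻¹), mul_mem n.2 (Normal.conj_mem inferInstance _ (inv_mem n.2) x)⟩
  have hf : Function.Injective f := by
    intro a b hab
    have h1 : (a : G) * (x * (a : G)⁻¹ * x⁻¹) = b * (x * (b : G)⁻¹ * x⁻¹) := congrArg Subtype.val hab
    have h2 : ((b : G)⁻¹ * a) * x = x * ((b : G)⁻¹ * a) := by
      have h3 := congrArg (fun t => (b : G)⁻¹ * t * x * a) h1
      simp only [mul_assoc, inv_mul_cancel_left, inv_mul_cancel, mul_one] at h3 ⊢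
      exact h3
    have h4 := h _ (mul_mem (inv_mem b.2) a.2) h2
    apply Subtype.ext
    exact (inv_mul_eq_one.mp h4).symm
  obtain ⟨n, hn⟩ := (Finite.injective_iff_surjective.mp hf) ⟨_, hy⟩
  refine ⟨n, n.2, ?_⟩
  have h1 : (n : G) * (x * (n : G)⁻¹ * x⁻¹) = y * x⁻¹ := congrArg Subtype.val hn
  calc y = (y * x⁻¹) * x := by group
    _ = _ := by rw [← h1]; group

theorem card_aux {G : Type*} [Group G] [Finite G] {N C C' : Subgroup G} (hC : C ≤ N) (hC' : C' ≤ N)
    (h : C ⊓ C' = ⊥) : Nat.card C * Nat.card C' ≤ Nat.card N := by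
  rw [← Nat.card_prod]
  apply Nat.card_le_card_of_injective (fun q : C × C' => (⟨q.1 * q.2, mul_mem (hC q.1.2) (hC' q.2.2)⟩ : N))
  rintro ⟨a, b⟩ ⟨c, d⟩ hab
  have h1 : (a : G) * b = c * d := congrArg Subtype.val hab
  have h2 : (c : G)⁻¹ * a = d * (b : G)⁻¹ := by
    rw [inv_mul_eq_iff_eq_mul, ← mul_assoc, ← h1, mul_inv_cancel_right]
  have h3 : (c : G)⁻¹ * a ∈ C ⊓ C' :=
    ⟨(C.mul_mem (C.inv_mem c.2) a.2 : _ ∈ C), (by rw [h2]; exact C'.mul_mem d.2 (C'.inv_mem b.2) : _ ∈ C')⟩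
  rw [h, mem_bot] at h3
  have h4 : (d : G) * (b : G)⁻¹ = 1 := by rw [← h2]; exact h3
  have e1 : a = c := Subtype.ext (inv_mul_eq_one.mp h3).symm
  have e2 : b = d := Subtype.ext (mul_inv_eq_one.mp h4).symm
  rw [e1, e2]

theorem dr_pow {r : ℕ} (i : ZMod r) (j : ℕ) : (DihedralGroup.r i) ^ j = DihedralGroup.r ((j : ZMod r) * i) := by
  induction j with
  | zero => rw [pow_zero, Nat.cast_zero, zero_mul, DihedralGroup.one_def]
  | succ k ih => rw [pow_succ, ih, DihedralGroup.r_mul_r]; congr 1; push_cast; ring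

/-- The main count in abstract form. -/
theorem main {G : Type*} [Group G] [Finite G] {r : ℕ} [Fact r.Prime] (hr : r ≠ 2) {N : Subgroup G} [N.Normal]
    (hNp : IsPGroup 2 N) (π : G →* DihedralGroup r) (hπs : Function.Surjective π) (hπk : ∀ x, π x = 1 ↔ x ∈ N)
    {ρ : G} (hρ : orderOf ρ = r) (hC : ∀ n ∈ N, n * ρ = ρ * n → n = 1) :
    Nonempty (↥(Subgroup.normalizer ((zpowers ρ : Subgroup G) : Set G)) ≃* DihedralGroup r) ∧
      ∀ a : G, a ∈ Subgroup.normalizer ((zpowers ρ : Subgroup G) : Set G) → orderOf a = 2 →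
        (∀ b : G, orderOf b = 2 → b ∉ N → ∃ g : G, g * a * g⁻¹ = b) ∧
          Nat.card ↥(N ⊓ Subgroup.centralizer ({a} : Set G)) ^ 2 = Nat.card ↥N := by
  classical
  have hrp : r.Prime := Fact.out
  have h2r : (2 : ZMod r) ≠ 0 := by
    intro h
    have : (r : ℕ) ∣ 2 := (ZMod.natCast_eq_zero_iff 2 r).mp (by exact_mod_cast h)
    exact hr ((Nat.prime_dvd_prime_iff_eq hrp Nat.prime_two).mp this)
  have hρN : ρ ∉ N := by
    intro h
    obtain ⟨k, hk⟩ := (IsPGroup.iff_orderOf.mp hNp) ⟨ρ, h⟩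
    rw [Subgroup.orderOf_mk, hρ] at hk
    have h1 : r ∣ 2 := hrp.dvd_of_dvd_pow (dvd_of_eq hk)
    exact hr ((Nat.prime_dvd_prime_iff_eq hrp Nat.prime_two).mp h1)
  -- centralizers of nontrivial powers of `ρ`
  have hzj : ∀ j : ℕ, (j : ZMod r) ≠ 0 → zpowers (ρ ^ j) = zpowers ρ := by
    intro j hj
    apply le_antisymm
    · rw [zpowers_le]; exact pow_mem (mem_zpowers ρ) j
    · rw [zpowers_le, mem_zpowers_pow_iff, hρ]
      exact (Nat.Coprime.symm ((Nat.Prime.coprime_iff_not_dvd hrp).mpr (fun h => hj ((ZMod.natCast_eq_zero_iff j r).mpr h))))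
  have hcen : ∀ j : ℕ, ((j : ZMod r) ≠ 0) → ∀ n ∈ N, n * ρ ^ j = ρ ^ j * n → n = 1 := by
    intro j hj n hn hnj
    apply hC n hn
    have hmem : ρ ∈ zpowers (ρ ^ j) := (hzj j hj) ▸ mem_zpowers ρ
    obtain ⟨m, hm⟩ := mem_zpowers_iff.mp hmem
    have hcomm : Commute n (ρ ^ j) := hnj
    have := hcomm.zpow_right m
    rw [hm] at this
    exact this
  -- the image of `ρ`
  obtain ⟨i, hi, hπρ⟩ : ∃ i : ZMod r, i ≠ 0 ∧ π ρ = DihedralGroup.r i := by
    rcases hx : π ρ with k | k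
    · refine ⟨k, ?_, rfl⟩
      rintro rfl
      exact hρN ((hπk ρ).mp hx)
    · exfalso
      have h1 : (π ρ) ^ 2 = 1 := by rw [hx, pow_two, DihedralGroup.sr_mul_self]
      have h2' : ρ ^ r = 1 := by have := pow_orderOf_eq_one ρ; rwa [hρ] at this
      have h2 : (π ρ) ^ r = 1 := by rw [← map_pow, h2', map_one]
      have h3 : orderOf (π ρ) ∣ Nat.gcd 2 r := Nat.dvd_gcd (orderOf_dvd_of_pow_eq_one h1) (orderOf_dvd_of_pow_eq_one h2)
      rw [(Nat.coprime_primes Nat.prime_two hrp).mpr (Ne.symm hr), Nat.dvd_one, orderOf_eq_one_iff] at h3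
      exact hρN ((hπk ρ).mp h3)
  have hπρj : ∀ j : ℕ, π (ρ ^ j) = DihedralGroup.r ((j : ZMod r) * i) := by
    intro j; rw [map_pow, hπρ, dr_pow]
  have hex : ∀ k : ZMod r, ∃ j : ℕ, (j : ZMod r) * i = k := by
    intro k
    refine ⟨(k * i⁻¹).val, ?_⟩
    rw [ZMod.natCast_zmod_val, mul_assoc, inv_mul_cancel₀ hi, mul_one]
  have key1 : ∀ x : G, ∀ k : ZMod r, k ≠ 0 → π x = DihedralGroup.r k →
      ∃ j : ℕ, (j : ZMod r) ≠ 0 ∧ ∃ n ∈ N, x = n * ρ ^ j * n⁻¹ := by
    intro x k hk hx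
    obtain ⟨j, hj⟩ := hex k
    have hj0 : (j : ZMod r) ≠ 0 := by rintro h; rw [h, zero_mul] at hj; exact hk hj.symm
    refine ⟨j, hj0, conj_coset (hcen j hj0) ?_⟩
    rw [← hπk, map_mul, map_inv, hx, hπρj, hj, mul_inv_cancel]
  -- centralizers of elements above rotations
  have hcen' : ∀ x : G, ∀ k : ZMod r, k ≠ 0 → π x = DihedralGroup.r k → ∀ n ∈ N, n * x = x * n → n = 1 := by
    intro x k hk hx n hn hnx
    obtain ⟨j, hj0, m, hm, rfl⟩ := key1 x k hk hx
    have h1 : m⁻¹ * n * m ∈ N := mul_mem (mul_mem (inv_mem hm) hn) hm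
    have h2 := hcen j hj0 _ h1 (by
      have h3 := congrArg (fun t => m⁻¹ * t * m) hnx
      simp only [mul_assoc, inv_mul_cancel_left, inv_mul_cancel, mul_one] at h3 ⊢
      exact h3)
    have h4 : n = m * (m⁻¹ * n * m) * m⁻¹ := by group
    rw [h4, h2, mul_one, mul_inv_cancel]
  -- the normalizer
  have hnorm : ∀ g : G, ∀ j : ℕ, (j : ZMod r) ≠ 0 → g * ρ ^ j * g⁻¹ ∈ zpowers ρ →
      g ∈ Subgroup.normalizer ((zpowers ρ : Subgroup G) : Set G) := by
    intro g j hj hg
    apply mem_normalizer_of_map_conj_le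
    conv_lhs => rw [← hzj j hj]
    rw [MonoidHom.map_zpowers, zpowers_le]
    exact hg
  have hNR : ∀ x : G, x ∈ Subgroup.normalizer ((zpowers ρ : Subgroup G) : Set G) → x ∈ N → x = 1 := by
    intro x hx hxN
    apply hC x hxN
    have h1 : x * ρ * x⁻¹ ∈ zpowers ρ := (mem_normalizer_iff.mp hx ρ).mp (mem_zpowers ρ)
    have h2 : x * ρ * x⁻¹ * ρ⁻¹ ∈ zpowers ρ := mul_mem h1 (inv_mem (mem_zpowers ρ))
    obtain ⟨j, hj⟩ := mem_zpowers_iff.mp h2
    have h3 : x * ρ * x⁻¹ * ρ⁻¹ ∈ N := by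
      have : x * (ρ * x⁻¹ * ρ⁻¹) ∈ N := mul_mem hxN (Normal.conj_mem inferInstance _ (inv_mem hxN) ρ)
      simpa [mul_assoc] using this
    have h4 : x * ρ * x⁻¹ * ρ⁻¹ = 1 := by
      apply hC _ h3
      rw [← hj, ← zpow_add_one, ← zpow_one_add, add_comm]
    rw [mul_inv_eq_one, mul_inv_eq_iff_eq_mul] at h4
    exact h4
  let R : Subgroup G := Subgroup.normalizer ((zpowers ρ : Subgroup G) : Set G)
  let φ : R →* DihedralGroup r := π.comp R.subtype
  have hφi : Function.Injective φ := by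
    rw [injective_iff_map_eq_one]
    intro x hx
    exact Subtype.ext (hNR x x.2 ((hπk x).mp hx))
  have hρR : ∀ j : ℕ, ρ ^ j ∈ R := fun j => pow_mem (le_normalizer (mem_zpowers ρ)) j
  have hφs : Function.Surjective φ := by
    -- a reflection
    obtain ⟨y, hy⟩ := hπs (DihedralGroup.sr 0)
    obtain ⟨j, hj, n, hn, hx⟩ := key1 (y * ρ * y⁻¹) (-i) (neg_ne_zero.mpr hi) (by
      rw [map_mul, map_mul, map_inv, hy, hπρ, DihedralGroup.inv_sr, DihedralGroup.sr_mul_r, DihedralGroup.sr_mul_sr]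
      simp)
    have hyR : n⁻¹ * y ∈ R := by
      apply hnorm _ 1 (by simp)
      have : n⁻¹ * y * ρ ^ 1 * (n⁻¹ * y)⁻¹ = ρ ^ j := by
        have h1 : n⁻¹ * (y * ρ * y⁻¹) * n = ρ ^ j := by rw [hx]; group
        rw [← h1]; group
      rw [this]
      exact pow_mem (mem_zpowers ρ) j
    have hyπ : π (n⁻¹ * y) = DihedralGroup.sr 0 := by
      rw [map_mul, map_inv, (hπk n).mpr hn, inv_one, one_mul, hy]
    intro d
    rcases d with k | k
    · obtain ⟨j, hj⟩ := hex k
      exact ⟨⟨ρ ^ j, hρR j⟩, by change π (ρ ^ j) = _; rw [hπρj, hj]⟩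
    · obtain ⟨j, hj⟩ := hex k
      refine ⟨⟨(n⁻¹ * y) * ρ ^ j, mul_mem hyR (hρR j)⟩, ?_⟩
      change π ((n⁻¹ * y) * ρ ^ j) = _
      rw [map_mul, hyπ, hπρj, hj, DihedralGroup.sr_mul_r, zero_add]
  refine ⟨⟨MulEquiv.ofBijective φ ⟨hφi, hφs⟩⟩, ?_⟩
  -- involutions outside `N` map to reflections
  have hinv : ∀ b : G, orderOf b = 2 → b ∉ N → ∃ k, π b = DihedralGroup.sr k := by
    intro b hb hbN
    rcases hx : π b with k | k
    · exfalso
      have h1 : (π b) ^ 2 = 1 := by rw [← map_pow, ← hb, pow_orderOf_eq_one, map_one]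
      rw [hx, dr_pow, DihedralGroup.one_def, DihedralGroup.r.injEq] at h1
      have h2 : k = 0 := by
        rcases mul_eq_zero.mp h1 with h | h
        · exact absurd (by exact_mod_cast h) h2r
        · exact h
      apply hbN
      rw [← hπk, hx, h2, DihedralGroup.one_def]
    · exact ⟨k, rfl⟩
  intro a haR ha
  have ha2 : a * a = 1 := by rw [← pow_two, ← ha, pow_orderOf_eq_one]
  have hainv : a⁻¹ = a := inv_eq_of_mul_eq_one_left ha2
  have ha1 : a ≠ 1 := by rintro rfl; simp at ha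
  have haN : a ∉ N := fun h => ha1 (hNR a haR h)
  obtain ⟨u, hu⟩ := hinv a ha haN
  constructor
  · intro b hb hbN
    obtain ⟨v, hv⟩ := hinv b hb hbN
    have hb2 : b * b = 1 := by rw [← pow_two, ← hb, pow_orderOf_eq_one]
    have hbinv : b⁻¹ = b := inv_eq_of_mul_eq_one_left hb2
    obtain ⟨j, hj, n, hn, hx⟩ := key1 (b * (ρ * b * ρ⁻¹)) (-(2 * i)) (neg_ne_zero.mpr (mul_ne_zero h2r hi)) (by
      rw [map_mul, map_mul, map_mul, map_inv, hv, hπρ, DihedralGroup.inv_r, DihedralGroup.r_mul_sr,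
        DihedralGroup.sr_mul_r, DihedralGroup.sr_mul_sr]
      congr 1; ring)
    -- `b` inverts `x`
    have hinvx : b * (b * (ρ * b * ρ⁻¹)) * b⁻¹ = (b * (ρ * b * ρ⁻¹))⁻¹ := by
      have : (b * (ρ * b * ρ⁻¹))⁻¹ = ρ * b⁻¹ * ρ⁻¹ * b⁻¹ := by group
      rw [this, hbinv, ← mul_assoc b b, hb2, one_mul]
    have hbR : n⁻¹ * b * n ∈ R := by
      apply hnorm _ j hj
      have : n⁻¹ * b * n * ρ ^ j * (n⁻¹ * b * n)⁻¹ = (ρ ^ j)⁻¹ := by
        have h1 : n⁻¹ * (b * (n * ρ ^ j * n⁻¹) * b⁻¹) * n = n⁻¹ * (n * ρ ^ j * n⁻¹)⁻¹ * n := by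
          rw [← hx, hinvx]
        have h2 : n⁻¹ * (n * ρ ^ j * n⁻¹)⁻¹ * n = (ρ ^ j)⁻¹ := by
          simp [mul_assoc]
        rw [← h2, ← h1]; simp [mul_assoc]
      rw [this]
      exact inv_mem (pow_mem (mem_zpowers ρ) j)
    -- rotate
    obtain ⟨t, ht⟩ := hex ((u - v) * (2 : ZMod r)⁻¹)
    have hconj : ρ ^ t * a * (ρ ^ t)⁻¹ = n⁻¹ * b * n := by
      have h1 : (⟨ρ ^ t * a * (ρ ^ t)⁻¹, mul_mem (mul_mem (hρR t) haR) (inv_mem (hρR t))⟩ : R) =
          ⟨n⁻¹ * b * n, hbR⟩ := by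
        apply hφi
        change π (ρ ^ t * a * (ρ ^ t)⁻¹) = π (n⁻¹ * b * n)
        rw [map_mul, map_mul, map_mul, map_mul, map_inv, map_inv, (hπk n).mpr hn, hu, hv, hπρj, ht,
          DihedralGroup.inv_r, DihedralGroup.r_mul_sr, DihedralGroup.sr_mul_r, inv_one, one_mul, mul_one]
        congr 1
        have : (2 : ZMod r)⁻¹ * 2 = 1 := inv_mul_cancel₀ h2r
        linear_combination (v - u) * this
      exact congrArg Subtype.val h1
    refine ⟨n * ρ ^ t, ?_⟩
    calc n * ρ ^ t * a * (n * ρ ^ t)⁻¹ = n * (ρ ^ t * a * (ρ ^ t)⁻¹) * n⁻¹ := by group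
      _ = b := by rw [hconj]; group
  · -- the count
    obtain ⟨a', ha'⟩ : ∃ a', a' = ρ * a * ρ⁻¹ := ⟨_, rfl⟩
    have ha'2 : a' * a' = 1 := by
      rw [ha']
      calc ρ * a * ρ⁻¹ * (ρ * a * ρ⁻¹) = ρ * (a * a) * ρ⁻¹ := by group
        _ = 1 := by rw [ha2]; group
    have ha'inv : a'⁻¹ = a' := inv_eq_of_mul_eq_one_left ha'2
    have hπx : π (a * a') = DihedralGroup.r (-(2 * i)) := by
      rw [ha', map_mul, map_mul, map_mul, map_inv, hu, hπρ, DihedralGroup.inv_r, DihedralGroup.r_mul_sr,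
        DihedralGroup.sr_mul_r, DihedralGroup.sr_mul_sr]
      congr 1; ring
    have h2i : -(2 * i) ≠ 0 := neg_ne_zero.mpr (mul_ne_zero h2r hi)
    obtain ⟨C, hCdef⟩ : ∃ C, C = N ⊓ Subgroup.centralizer ({a} : Set G) := ⟨_, rfl⟩
    obtain ⟨C', hC'def⟩ : ∃ C, C = N ⊓ Subgroup.centralizer ({a'} : Set G) := ⟨_, rfl⟩
    have hmC : ∀ x, x ∈ C ↔ x ∈ N ∧ x * a = a * x := by
      intro x; rw [hCdef, Subgroup.mem_inf, mem_centralizer_singleton_iff]
    have hmC' : ∀ x, x ∈ C' ↔ x ∈ N ∧ x * a' = a' * x := by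
      intro x; rw [hC'def, Subgroup.mem_inf, mem_centralizer_singleton_iff]
    have hCN : C ≤ N := by rw [hCdef]; exact inf_le_left
    have hC'N : C' ≤ N := by rw [hC'def]; exact inf_le_left
    have hcard : Nat.card C' = Nat.card C := by
      have : C' = C.map (MulAut.conj ρ).toMonoidHom := by
        ext x
        rw [mem_map_conj, hmC, hmC', ha']
        constructor
        · rintro ⟨h1, h2⟩
          refine ⟨?_, ?_⟩
          · have := Normal.conj_mem (inferInstance : N.Normal) _ h1 ρ⁻¹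
            simpa using this
          · have := congrArg (fun t => ρ⁻¹ * t * ρ) h2
            simpa [mul_assoc] using this
        · rintro ⟨h1, h2⟩
          refine ⟨?_, ?_⟩
          · have := Normal.conj_mem (inferInstance : N.Normal) _ h1 ρ
            simpa [mul_assoc] using this
          · have := congrArg (fun t => ρ * t * ρ⁻¹) h2
            simpa [mul_assoc] using this
      rw [this, card_map_conj]
    have hdisj : C ⊓ C' = ⊥ := by
      rw [eq_bot_iff]
      rintro x ⟨hx1, hx2⟩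
      rw [mem_bot]
      have h1 := (hmC x).mp hx1
      have h2 := (hmC' x).mp hx2
      apply hcen' (a * a') _ h2i hπx x h1.1
      rw [← mul_assoc, h1.2, mul_assoc, h2.2, mul_assoc]
    have hle := card_aux hCN hC'N hdisj
    -- injectivity
    have hnN : ∀ n ∈ N, ∀ g : G, π (n * g * n⁻¹) = π g := by
      intro n hn g
      rw [map_mul, map_mul, map_inv, (hπk n).mpr hn, one_mul, inv_one, mul_one]
    let F : (N ⧸ C.subgroupOf N) × (N ⧸ C'.subgroupOf N) → N := fun q =>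
      ⟨((q.1.out : G) * a * (q.1.out : G)⁻¹) * ((q.2.out : G) * a' * (q.2.out : G)⁻¹) * (a * a')⁻¹, by
        rw [← hπk, map_mul, map_mul, hnN _ (q.1.out).2, hnN _ (q.2.out).2, map_inv, ← map_mul, mul_inv_cancel]⟩
    have hFi : Function.Injective F := by
      rintro ⟨q1, q2⟩ ⟨p1, p2⟩ h
      have h1 := congrArg Subtype.val h
      dsimp only [F] at h1
      have h2 := mul_right_cancel h1
      obtain ⟨b, hb⟩ : ∃ b, b = (q1.out : G) * a * (q1.out : G)⁻¹ := ⟨_, rfl⟩
      obtain ⟨c, hc⟩ : ∃ b, b = (p1.out : G) * a * (p1.out : G)⁻¹ := ⟨_, rfl⟩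
      obtain ⟨b', hb'⟩ : ∃ b, b = (q2.out : G) * a' * (q2.out : G)⁻¹ := ⟨_, rfl⟩
      obtain ⟨c', hc'⟩ : ∃ b, b = (p2.out : G) * a' * (p2.out : G)⁻¹ := ⟨_, rfl⟩
      have hbb : b * b = 1 := by
        rw [hb]
        calc _ = (q1.out : G) * (a * a) * (q1.out : G)⁻¹ := by group
          _ = 1 := by rw [ha2]; group
      have hcc : c * c = 1 := by
        rw [hc]
        calc _ = (p1.out : G) * (a * a) * (p1.out : G)⁻¹ := by group
          _ = 1 := by rw [ha2]; group
      have hbb' : b' * b' = 1 := by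
        rw [hb']
        calc _ = (q2.out : G) * (a' * a') * (q2.out : G)⁻¹ := by group
          _ = 1 := by rw [ha'2]; group
      have hcc' : c' * c' = 1 := by
        rw [hc']
        calc _ = (p2.out : G) * (a' * a') * (p2.out : G)⁻¹ := by group
          _ = 1 := by rw [ha'2]; group
      rw [← hb, ← hb', ← hc, ← hc'] at h2
      have hπb : π b = π a := by rw [hb]; exact hnN _ (q1.out).2 a
      have hπc : π c = π a := by rw [hc]; exact hnN _ (p1.out).2 a
      have hπb' : π b' = π a' := by rw [hb']; exact hnN _ (q2.out).2 a'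
      have hbc : c * b = 1 := by
        apply hcen' (b * b') _ h2i (by rw [map_mul, hπb, hπb', ← map_mul, hπx])
        · rw [← hπk, map_mul, hπb, hπc, ← map_mul, ha2, map_one]
        · -- both `b` and `c` invert `b b' = c c'`
          have e1 : c * b * (b * b') = c * b' := by rw [mul_assoc, ← mul_assoc b b, hbb, one_mul]
          have e2 : b * b' * (c * b) = c * b' := by
            -- (b b') c = (c c') c, and c (c c') = c'
            have e3 : b * b' * c = c * (b' * b) := by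
              -- inverse of b b' is b' b, conj by c inverts
              have e4 : b' * b = c' * c := by
                have := congrArg (fun t => t⁻¹) h2
                simp only [mul_inv_rev] at this
                rwa [inv_eq_of_mul_eq_one_left hbb, inv_eq_of_mul_eq_one_left hbb', inv_eq_of_mul_eq_one_left hcc,
                  inv_eq_of_mul_eq_one_left hcc'] at this
              rw [e4, h2, mul_assoc]
            rw [← mul_assoc, e3, mul_assoc, mul_assoc, hbb, mul_one]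
          rw [e1, e2]
      have hbceq : b = c := by
        have := congrArg (fun t => c * t) hbc
        simp only [← mul_assoc, hcc, one_mul, mul_one] at this
        exact this
      have hbceq' : b' = c' := by
        rw [hbceq] at h2
        exact mul_left_cancel h2
      have hq : ∀ (x y : G) (g : G), x * g * x⁻¹ = y * g * y⁻¹ → (x⁻¹ * y) * g = g * (x⁻¹ * y) := by
        intro x y g hxy
        have := congrArg (fun t => x⁻¹ * t * y) hxy
        simp only [mul_assoc, inv_mul_cancel_left, inv_mul_cancel, mul_one] at this ⊢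
        exact this.symm
      have hE1 : q1 = p1 := by
        rw [← QuotientGroup.out_eq' q1, ← QuotientGroup.out_eq' p1, QuotientGroup.eq, mem_subgroupOf, hmC]
        refine ⟨(((q1.out)⁻¹ * p1.out : N)).2, ?_⟩
        exact hq _ _ _ (by rw [← hb, ← hc, hbceq])
      have hE2 : q2 = p2 := by
        rw [← QuotientGroup.out_eq' q2, ← QuotientGroup.out_eq' p2, QuotientGroup.eq, mem_subgroupOf, hmC']
        refine ⟨(((q2.out)⁻¹ * p2.out : N)).2, ?_⟩
        exact hq _ _ _ (by rw [← hb', ← hc', hbceq'])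
      rw [hE1, hE2]
    have hge := Nat.card_le_card_of_injective F hFi
    rw [Nat.card_prod] at hge
    have hc1 := Subgroup.card_eq_card_quotient_mul_card_subgroup (C.subgroupOf N)
    have hc2 := Subgroup.card_eq_card_quotient_mul_card_subgroup (C'.subgroupOf N)
    rw [Nat.card_congr (subgroupOfEquivOfLe hCN).toEquiv] at hc1
    rw [Nat.card_congr (subgroupOfEquivOfLe hC'N).toEquiv, hcard] at hc2
    rw [hcard] at hle
    rw [← hCdef]
    have hNpos : 0 < Nat.card N := Nat.card_pos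
    have hCpos : 0 < Nat.card C := Nat.card_pos
    apply le_antisymm
    · rw [pow_two]; exact hle
    · have h5 : Nat.card N * Nat.card N ≤ Nat.card N * (Nat.card C ^ 2) := by
        calc Nat.card N * Nat.card N = (Nat.card (N ⧸ C.subgroupOf N) * Nat.card C) * (Nat.card (N ⧸ C'.subgroupOf N) * Nat.card C) := by
              rw [← hc1, ← hc2]
          _ = (Nat.card (N ⧸ C.subgroupOf N) * Nat.card (N ⧸ C'.subgroupOf N)) * (Nat.card C ^ 2) := by ring
          _ ≤ Nat.card N * (Nat.card C ^ 2) := Nat.mul_le_mul_right _ hge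
      exact Nat.le_of_mul_le_mul_left h5 hNpos


/-- Let G be a finite group and r an odd prime such that G ⧸ O₂(G) is dihedral of order 2r, and let R be a Sylow r-subgroup of G with C_{O₂(G)}(R) = 1. Then N_G(R) is dihedral of order 2r; for any involution a of N_G(R), every involution of G outside O₂(G) is conjugate to a; and |C_{O₂(G)}(a)|² = |O₂(G)|. -/
theorem result {G : Type*} [Group G] [Finite G] {r : ℕ} [Fact r.Prime] (hr : r ≠ 2) [hN : (Cfsg.pCore 2 G).Normal] (hquot : Nonempty (G ⧸ Cfsg.pCore 2 G ≃* DihedralGroup r)) (R : Sylow r G) (hC : Cfsg.pCore 2 G ⊓ Subgroup.centralizer ((R : Subgroup G) : Set G) = ⊥) : Nonempty (↥(Subgroup.normalizer ((R : Subgroup G) : Set G)) ≃* DihedralGroup r) ∧ ∀ a : G, a ∈ Subgroup.normalizer ((R : Subgroup G) : Set G) → orderOf a = 2 → (∀ b : G, orderOf b = 2 → b ∉ Cfsg.pCore 2 G → ∃ g : G, g * a * g⁻¹ = b) ∧ Nat.card ↥(Cfsg.pCore 2 G ⊓ Subgroup.centralizer ({a} : Set G)) ^ 2 = Nat.card ↥(Cfsg.pCore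 2 G) := by
  classical
  have hNp : IsPGroup 2 (Cfsg.pCore 2 G) := isPGroup_pCore 2 G
  obtain ⟨e⟩ := hquot
  have hrp : r.Prime := Fact.out
  let π : G →* DihedralGroup r := e.toMonoidHom.comp (QuotientGroup.mk' (Cfsg.pCore 2 G))
  have hπs : Function.Surjective π := e.surjective.comp (QuotientGroup.mk'_surjective _)
  have hπk : ∀ x, π x = 1 ↔ x ∈ Cfsg.pCore 2 G := by
    intro x
    change e (QuotientGroup.mk' _ x) = 1 ↔ _
    rw [map_eq_one_iff e e.injective, ← MonoidHom.mem_ker, QuotientGroup.ker_mk']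
  -- `|R| = r`
  have hRcard : Nat.card (R : Subgroup G) = r := by
    obtain ⟨k, hk⟩ := (IsPGroup.iff_card.mp hNp)
    have hG : Nat.card G = 2 ^ (k + 1) * r := by
      rw [Subgroup.card_eq_card_quotient_mul_card_subgroup (Cfsg.pCore 2 G), Nat.card_congr e.toEquiv, DihedralGroup.nat_card, hk]
      ring
    rw [R.card_eq_multiplicity, hG, Nat.factorization_mul (by positivity) hrp.ne_zero, Finsupp.add_apply,
      Nat.Prime.factorization_self hrp, Nat.factorization_pow, Finsupp.smul_apply,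
      Nat.factorization_eq_zero_of_not_dvd (fun h => hr ((Nat.prime_dvd_prime_iff_eq hrp Nat.prime_two).mp h))]
    simp
  obtain ⟨ρ, hρo, hRρ⟩ : ∃ ρ : G, orderOf ρ = r ∧ (R : Subgroup G) = zpowers ρ := by
    have : IsCyclic (R : Subgroup G) := isCyclic_of_prime_card hRcard
    obtain ⟨g, hg⟩ := this.exists_generator
    have h1 : (R : Subgroup G) = zpowers (g : G) := by
      ext x
      constructor
      · intro hx
        obtain ⟨k, hk⟩ := mem_zpowers_iff.mp (hg ⟨x, hx⟩)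
        exact mem_zpowers_iff.mpr ⟨k, by rw [← Subgroup.coe_zpow, hk]⟩
      · intro hx
        exact (zpowers_le.mpr g.2) hx
    refine ⟨g, ?_, h1⟩
    rw [← Nat.card_zpowers, ← h1, hRcard]
  rw [hRρ] at hC ⊢
  refine main hr hNp π hπs hπk hρo ?_
  intro n hn hnρ
  have h1 : n ∈ Cfsg.pCore 2 G ⊓ Subgroup.centralizer ((zpowers ρ : Subgroup G) : Set G) := by
    refine Subgroup.mem_inf.mpr ⟨hn, ?_⟩
    rw [mem_centralizer_iff]
    intro x hx
    obtain ⟨k, rfl⟩ := mem_zpowers_iff.mp hx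
    exact ((show Commute n ρ from hnρ).zpow_right k).eq.symm
  rw [hC] at h1
  exact mem_bot.mp h1


end Cfsg.Agent.S2873
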