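import Cfsg.Statements.S2874
import Mathlib.Tactic.NoncommRing
import Mathlib.Tactic.LinearCombination
import Mathlib.Tactic.IntervalCases

set_option autoImplicit false
open Cfsg

namespace Cfsg.Agent.S2874

section Aux

open Matrix

variable {k : ℕ}

theorem isUnit_of_cast_ne (hk : 1 ≤ k) (x : ZMod (2 ^ k))
    (hx : ZMod.castHom (dvd_pow_self 2 (by omega : k ≠ 0)) (ZMod 2) x ≠ 0) : IsUnit x := by
  obtain ⟨n, rfl⟩ := ZMod.natCast_zmod_surjective x
  rw [map_natCast] at hx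
  rw [ZMod.isUnit_iff_coprime]
  apply Nat.Coprime.pow_right
  rw [Nat.coprime_comm, Nat.Prime.coprime_iff_not_dvd Nat.prime_two]
  intro h
  exact hx ((ZMod.natCast_eq_zero_iff n 2).mpr h)

theorem two_mul_eq_zero (hk : 1 ≤ k) (x : ZMod (2 ^ k)) (hx : 2 * x = 0) :
    x = 0 ∨ x = ((2 ^ (k - 1) : ℕ) : ZMod (2 ^ k)) := by
  haveI : NeZero (2 ^ k) := ⟨by positivity⟩
  have hlt : x.val < 2 ^ k := ZMod.val_lt x
  have h1 : ((2 * x.val : ℕ) : ZMod (2 ^ k)) = 0 := by
    rw [Nat.cast_mul, ZMod.natCast_zmod_val]; exact_mod_cast hx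
  rw [ZMod.natCast_eq_zero_iff] at h1
  obtain ⟨m, hm⟩ := h1
  have hpow : 2 ^ k = 2 * 2 ^ (k - 1) := by
    rw [← pow_succ']; congr 1; omega
  have hm' : x.val = 2 ^ (k - 1) * m := by
    have : 2 * x.val = 2 * (2 ^ (k - 1) * m) := by
      refine hm.trans ?_
      rw [← mul_assoc]
      exact congrArg (fun t => t * m) hpow
    omega
  have hmlt : m < 2 := by
    by_contra hmm
    have : 2 ^ (k - 1) * 2 ≤ 2 ^ (k - 1) * m := Nat.mul_le_mul_left _ (by omega)
    omega
  interval_cases m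
  · left
    rw [mul_zero] at hm'
    exact (ZMod.val_eq_zero x).mp hm'
  · right
    rw [mul_one] at hm'
    rw [← hm', ZMod.natCast_zmod_val]

theorem f2_facts : ∀ M : Matrix (Fin 2) (Fin 2) (ZMod 2), M * M * M = 1 → M ≠ 1 →
    M 1 0 = 1 ∧ (M - 1).det = 1 := by
  decide +kernel

/-- an element of order three has trace `-1` and determinant `1`. -/
theorem order_three (hk : 1 ≤ k) (M : Matrix (Fin 2) (Fin 2) (ZMod (2 ^ k))) (hM : M * M * M = 1)
    (hM1 : M ≠ 1) : IsUnit (M 1 0) ∧ M 0 0 + M 1 1 = -1 ∧ M.det = 1 := by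
  let f := ZMod.castHom (dvd_pow_self 2 (by omega : k ≠ 0)) (ZMod 2)
  let Mb : Matrix (Fin 2) (Fin 2) (ZMod 2) := f.mapMatrix M
  have hMb : Mb * Mb * Mb = 1 := by
    change f.mapMatrix M * f.mapMatrix M * f.mapMatrix M = 1
    rw [← map_mul, ← map_mul, hM, map_one]
  by_cases h1 : Mb = 1
  · exfalso
    apply hM1
    have h2 : (M - 1) * (3 + 3 * (M - 1) + (M - 1) * (M - 1)) = M * M * M - 1 := by noncomm_ring
    rw [hM, sub_self] at h2
    have h3 : IsUnit (3 + 3 * (M - 1) + (M - 1) * (M - 1)) := by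
      rw [Matrix.isUnit_iff_isUnit_det]
      apply isUnit_of_cast_ne hk
      change f _ ≠ 0
      rw [RingHom.map_det]
      have h4 : f.mapMatrix (3 + 3 * (M - 1) + (M - 1) * (M - 1)) =
          3 + 3 * (Mb - 1) + (Mb - 1) * (Mb - 1) := by
        simp only [map_add, map_mul, map_sub, map_one, map_ofNat]
        rfl
      rw [h4, h1]
      decide
    rw [h3.mul_left_eq_zero] at h2
    exact sub_eq_zero.mp h2
  · obtain ⟨h2, h3⟩ := f2_facts Mb hMb h1
    have hu : IsUnit (M 1 0) := by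
      apply isUnit_of_cast_ne hk
      change Mb 1 0 ≠ 0
      rw [h2]; decide
    have hdet : IsUnit (M - 1) := by
      rw [Matrix.isUnit_iff_isUnit_det]
      apply isUnit_of_cast_ne hk
      change f _ ≠ 0
      rw [RingHom.map_det]
      have h4 : f.mapMatrix (M - 1) = Mb - 1 := by
        simp only [map_sub, map_one]; rfl
      rw [h4, h3]
      decide
    have h5 : (M - 1) * (M * M + M + 1) = M * M * M - 1 := by noncomm_ring
    rw [hM, sub_self, hdet.mul_right_eq_zero] at h5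
    have e10 := congrFun (congrFun h5 1) 0
    have e00 := congrFun (congrFun h5 0) 0
    simp only [Matrix.add_apply, Matrix.mul_apply, Fin.sum_univ_two, Matrix.zero_apply,
      Matrix.one_apply_eq, Matrix.one_apply_ne (show (1 : Fin 2) ≠ 0 by decide)] at e10 e00
    have e1 : M 1 0 * (M 0 0 + M 1 1 + 1) = 0 := by linear_combination e10
    rw [hu.mul_right_eq_zero] at e1
    have e2 : M 0 0 + M 1 1 = -1 := by linear_combination e1
    refine ⟨hu, e2, ?_⟩
    rw [Matrix.det_fin_two]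
    linear_combination (M 0 0) * e2 - e00

/-- the companion matrix of `X² + X + 1`. -/
def compC (k : ℕ) : GL (Fin 2) (ZMod (2 ^ k)) where
  val := !![0, -1; 1, -1]
  inv := !![-1, 1; -1, 0]
  val_inv := by
    ext i j
    fin_cases i <;> fin_cases j <;> simp [Matrix.mul_apply, Fin.sum_univ_two]
  inv_val := by
    ext i j
    fin_cases i <;> fin_cases j <;> simp [Matrix.mul_apply, Fin.sum_univ_two]

/-- the involutions `v` with `v C` of order 3. -/
def Eset (k : ℕ) : Set (GL (Fin 2) (ZMod (2 ^ k))) :=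
  {v | v ≠ 1 ∧ v * v = 1 ∧ v * compC k * (v * compC k) * (v * compC k) = 1}

theorem mem_Eset (hk : 2 ≤ k) {v : GL (Fin 2) (ZMod (2 ^ k))} (hv : v ∈ Eset k) :
    2 * v.1 0 1 = 0 ∧ 2 * v.1 1 0 = 0 ∧ v.1 0 0 = 1 + v.1 0 1 - v.1 1 0 ∧
      v.1 1 1 = 1 + v.1 0 1 - v.1 1 0 := by
  obtain ⟨h1, h2, h3⟩ := hv
  have hne : v * compC k ≠ 1 := by
    intro h
    have e1 : v = (compC k)⁻¹ := eq_inv_of_mul_eq_one_left h
    rw [e1] at h2
    have e2 := congrArg Units.val h2
    have e3 := congrFun (congrFun e2 0) 1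
    have e4 : ((compC k)⁻¹ : GL (Fin 2) (ZMod (2 ^ k))).1 = !![-1, 1; -1, 0] := rfl
    simp only [Units.val_mul, Units.val_one, e4, Matrix.mul_apply, Fin.sum_univ_two] at e3
    have hF : Fact (1 < 2 ^ k) := ⟨Nat.one_lt_two_pow (by omega)⟩
    simp at e3
  have h3' : (v.1 * (compC k).1) * (v.1 * (compC k).1) * (v.1 * (compC k).1) = 1 := by
    have := congrArg Units.val h3
    simpa using this
  have hne' : v.1 * (compC k).1 ≠ 1 := by
    intro h
    exact hne (Units.ext h)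
  obtain ⟨-, ht, hd⟩ := order_three (by omega) _ h3' hne'
  have h2' : v.1 * v.1 = 1 := by
    have := congrArg Units.val h2
    simpa using this
  have hCd : (compC k).1.det = 1 := by
    simp [compC, Matrix.det_fin_two]
  rw [Matrix.det_mul, hCd, mul_one, Matrix.det_fin_two] at hd
  have hadj : v.1 = v.1.adjugate := by
    have e1 : v.1 * v.1.adjugate = 1 := by
      rw [Matrix.mul_adjugate, Matrix.det_fin_two, hd, one_smul]
    calc v.1 = v.1 * (v.1 * v.1.adjugate) := by rw [e1, mul_one]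
      _ = v.1.adjugate := by rw [← mul_assoc, h2', one_mul]
  rw [Matrix.adjugate_fin_two] at hadj
  have a00 := congrFun (congrFun hadj 0) 0
  have a01 := congrFun (congrFun hadj 0) 1
  have a10 := congrFun (congrFun hadj 1) 0
  simp [compC, Matrix.mul_apply, Fin.sum_univ_two] at a00 a01 a10 ht
  refine ⟨?_, ?_, ?_, ?_⟩
  · linear_combination a01
  · linear_combination a10
  · linear_combination a00 + (-1 : ZMod (2 ^ k)) * ht
  · linear_combination (-1 : ZMod (2 ^ k)) * ht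


theorem Eset_card (hk : 2 ≤ k) : (Eset k).Finite ∧ (Eset k).ncard ≤ 3 := by
  classical
  have hF : Fact (1 < 2 ^ k) := ⟨Nat.one_lt_two_pow (by omega)⟩
  have hN : NeZero (2 ^ k) := ⟨by positivity⟩
  let h : ZMod (2 ^ k) := ((2 ^ (k - 1) : ℕ) : ZMod (2 ^ k))
  let T : Finset (ZMod (2 ^ k) × ZMod (2 ^ k)) := {(0, h), (h, 0), (h, h)}
  let F : GL (Fin 2) (ZMod (2 ^ k)) → ZMod (2 ^ k) × ZMod (2 ^ k) := fun v => (v.1 0 1, v.1 1 0)
  have h1 : ∀ v ∈ Eset k, F v ∈ (T : Set (ZMod (2 ^ k) × ZMod (2 ^ k))) := by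
    intro v hv
    obtain ⟨e1, e2, e3, e4⟩ := mem_Eset hk hv
    have hne : ¬ (v.1 0 1 = 0 ∧ v.1 1 0 = 0) := by
      rintro ⟨a1, a2⟩
      apply hv.1
      apply Units.ext
      ext i j
      fin_cases i <;> fin_cases j
      · simpa [a1, a2] using e3
      · simpa using a1
      · simpa using a2
      · simpa [a1, a2] using e4
    rcases two_mul_eq_zero (by omega) _ e1 with a1 | a1 <;>
      rcases two_mul_eq_zero (by omega) _ e2 with a2 | a2
    · exact absurd ⟨a1, a2⟩ hne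
    · simp [T, F, a1, a2, h]
    · simp [T, F, a1, a2, h]
    · simp [T, F, a1, a2, h]
  have h2 : Set.InjOn F (Eset k) := by
    intro v hv v' hv' hvv
    obtain ⟨-, -, e3, e4⟩ := mem_Eset hk hv
    obtain ⟨-, -, e3', e4'⟩ := mem_Eset hk hv'
    have b1 : v.1 0 1 = v'.1 0 1 := congrArg Prod.fst hvv
    have b2 : v.1 1 0 = v'.1 1 0 := congrArg Prod.snd hvv
    apply Units.ext
    ext i j
    fin_cases i <;> fin_cases j
    · change v.1 0 0 = v'.1 0 0
      rw [e3, e3', b1, b2]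
    · exact b1
    · exact b2
    · change v.1 1 1 = v'.1 1 1
      rw [e4, e4', b1, b2]
  refine ⟨Set.Finite.of_finite_image ((Finset.finite_toSet T).subset (by
    rintro _ ⟨v, hv, rfl⟩; exact h1 v hv)) h2, ?_⟩
  calc (Eset k).ncard ≤ (T : Set (ZMod (2 ^ k) × ZMod (2 ^ k))).ncard :=
        Set.ncard_le_ncard_of_injOn F h1 h2 (Finset.finite_toSet T)
    _ = T.card := Set.ncard_coe_finset T
    _ ≤ 3 := Finset.card_le_three

/-- a three-cycle -/
def w4 : Equiv.Perm (Fin 4) := Equiv.swap 0 1 * Equiv.swap 1 2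

/-- the elements of the four-group -/
def v4 : Fin 3 → Equiv.Perm (Fin 4) :=
  ![Equiv.swap 0 1 * Equiv.swap 2 3, Equiv.swap 0 2 * Equiv.swap 1 3,
    Equiv.swap 0 3 * Equiv.swap 1 2]

theorem w4_mem : w4 ∈ alternatingGroup (Fin 4) := by
  rw [Equiv.Perm.mem_alternatingGroup]; decide +kernel

theorem v4_mem (i : Fin 3) : v4 i ∈ alternatingGroup (Fin 4) := by
  rw [Equiv.Perm.mem_alternatingGroup]; revert i; decide +kernel

theorem a4_gen : ∀ x : Equiv.Perm (Fin 4), Equiv.Perm.sign x = 1 →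
    (∃ i : Fin 3, x = w4 ^ (i : ℕ)) ∨ (∃ i : Fin 3, ∃ j : Fin 3, x = w4 ^ (i : ℕ) * v4 j) := by
  decide +kernel

theorem conj_eq (hk : 2 ≤ k) (H : Subgroup (GL (Fin 2) (ZMod (2 ^ k))))
    (e : ↥H ≃* ↥(alternatingGroup (Fin 4))) : ∃ g : GL (Fin 2) (ZMod (2 ^ k)),
      H.map (MulAut.conj g).toMonoidHom = Subgroup.closure (insert (compC k) (Eset k)) := by
  have hF : Fact (1 < 2 ^ k) := ⟨Nat.one_lt_two_pow (by omega)⟩
  let φ : ↥(alternatingGroup (Fin 4)) →* GL (Fin 2) (ZMod (2 ^ k)) :=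
    H.subtype.comp e.symm.toMonoidHom
  have hφinj : Function.Injective φ := by
    intro a b hab
    exact e.symm.injective (Subtype.ext hab)
  have hφr : φ.range = H := by
    ext x
    constructor
    · rintro ⟨a, rfl⟩
      exact (e.symm a).2
    · intro hx
      exact ⟨e ⟨x, hx⟩, by simp [φ]⟩
  let w : ↥(alternatingGroup (Fin 4)) := ⟨w4, w4_mem⟩
  let v : Fin 3 → ↥(alternatingGroup (Fin 4)) := fun i => ⟨v4 i, v4_mem i⟩
  have hw3 : w * w * w = 1 := Subtype.ext (by change w4 * w4 * w4 = 1; decide +kernel)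
  have hw1 : w ≠ 1 := fun h => absurd (congrArg Subtype.val h)
    (by change w4 ≠ 1; decide +kernel)
  have hv2 : ∀ i, v i * v i = 1 := fun i => Subtype.ext (by
    change v4 i * v4 i = 1; revert i; decide +kernel)
  have hv1 : ∀ i, v i ≠ 1 := fun i h => absurd (congrArg Subtype.val h)
    (by change v4 i ≠ 1; revert i; decide +kernel)
  have hvw : ∀ i, v i * w * (v i * w) * (v i * w) = 1 := fun i => Subtype.ext (by
    change v4 i * w4 * (v4 i * w4) * (v4 i * w4) = 1; revert i; decide +kernel)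
  have hvinj : Function.Injective v := by
    intro i j hij
    have h1 : v4 i = v4 j := congrArg Subtype.val hij
    have h2 : ∀ i j : Fin 3, v4 i = v4 j → i = j := by decide +kernel
    exact h2 i j h1
  -- the element W
  have hW3 : (φ w).1 * (φ w).1 * (φ w).1 = 1 := by
    have := congrArg (fun x => (φ x).1) hw3
    simpa using this
  have hW1 : (φ w).1 ≠ 1 := by
    intro h
    apply hw1
    apply hφinj
    rw [map_one]
    exact Units.ext h
  obtain ⟨hu, ht, hd⟩ := order_three (by omega) _ hW3 hW1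
  set W := φ w with hWdef
  rw [Matrix.det_fin_two] at hd
  let Pm : Matrix (Fin 2) (Fin 2) (ZMod (2 ^ k)) := !![1, W.1 0 0; 0, W.1 1 0]
  have hPdet : IsUnit Pm.det := by
    rw [Matrix.det_fin_two]
    simpa [Pm] using hu
  have hPu : IsUnit Pm := (Matrix.isUnit_iff_isUnit_det _).mpr hPdet
  obtain ⟨P, hP⟩ := hPu
  have hWP : W * P = P * compC k := by
    apply Units.ext
    rw [Units.val_mul, Units.val_mul, hP]
    ext i j
    fin_cases i <;> fin_cases j <;> simp [Pm, compC, Matrix.mul_apply, Fin.sum_univ_two]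
    · linear_combination (W.1 0 0) * ht - hd
    · linear_combination (W.1 1 0) * ht
  let φ' : ↥(alternatingGroup (Fin 4)) →* GL (Fin 2) (ZMod (2 ^ k)) :=
    (MulAut.conj P⁻¹).toMonoidHom.comp φ
  have hφ'inj : Function.Injective φ' := (MulAut.conj P⁻¹).injective.comp hφinj
  have hφ'w : φ' w = compC k := by
    change P⁻¹ * W * (P⁻¹)⁻¹ = compC k
    rw [inv_inv, mul_assoc, hWP, inv_mul_cancel_left]
  refine ⟨P⁻¹, ?_⟩
  have hr : H.map (MulAut.conj P⁻¹).toMonoidHom = φ'.range := by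
    rw [← hφr, MonoidHom.map_range]
  rw [hr]
  have hvE : ∀ i, φ' (v i) ∈ Eset k := by
    intro i
    refine ⟨?_, ?_, ?_⟩
    · intro h
      apply hv1 i
      apply hφ'inj
      rw [h, map_one]
    · rw [← map_mul, hv2, map_one]
    · rw [← hφ'w, ← map_mul, ← map_mul, ← map_mul, hvw, map_one]
  obtain ⟨hEf, hEc⟩ := Eset_card hk
  have hrange : Set.range (fun i => φ' (v i)) = Eset k := by
    apply Set.eq_of_subset_of_ncard_le _ _ hEf
    · rintro _ ⟨i, rfl⟩
      exact hvE i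
    · have : (Set.range (fun i => φ' (v i))).ncard = 3 := by
        have hi : Function.Injective (fun i => φ' (v i)) := hφ'inj.comp hvinj
        rw [← Set.image_univ, Set.ncard_image_of_injective _ hi, Set.ncard_univ]
        simp
      rw [this]
      exact hEc
  apply le_antisymm
  · rintro _ ⟨x, rfl⟩
    have hC : compC k ∈ Subgroup.closure (insert (compC k) (Eset k)) :=
      Subgroup.subset_closure (Set.mem_insert _ _)
    have hx := a4_gen x.1 (Equiv.Perm.mem_alternatingGroup.mp x.2)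
    rcases hx with ⟨i, hi⟩ | ⟨i, j, hi⟩
    · have : x = w ^ (i : ℕ) := Subtype.ext hi
      rw [this, map_pow, hφ'w]
      exact pow_mem hC _
    · have : x = w ^ (i : ℕ) * v j := Subtype.ext hi
      rw [this, map_mul, map_pow, hφ'w]
      exact mul_mem (pow_mem hC _) (Subgroup.subset_closure (Set.mem_insert_of_mem _ (hvE j)))
  · rw [Subgroup.closure_le]
    rintro x (rfl | hx)
    · exact ⟨w, hφ'w⟩
    · rw [← hrange] at hx
      obtain ⟨i, rfl⟩ := hx
      exact ⟨v i, rfl⟩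

end Aux


/-- For k ≥ 2, any two subgroups of GL₂(ℤ/2ᵏℤ) (the automorphism group of the homocyclic group ℤ/2ᵏ × ℤ/2ᵏ) that are isomorphic to the alternating group of degree 4 are conjugate. -/
theorem result (k : ℕ) (hk : 2 ≤ k) (H₁ H₂ : Subgroup (GL (Fin 2) (ZMod (2 ^ k)))) (h₁ : Nonempty (↥H₁ ≃* ↥(alternatingGroup (Fin 4)))) (h₂ : Nonempty (↥H₂ ≃* ↥(alternatingGroup (Fin 4)))) : ∃ g : GL (Fin 2) (ZMod (2 ^ k)), H₂ = H₁.map (MulAut.conj g).toMonoidHom := by
  obtain ⟨e₁⟩ := h₁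
  obtain ⟨e₂⟩ := h₂
  obtain ⟨g₁, hg₁⟩ := conj_eq hk H₁ e₁
  obtain ⟨g₂, hg₂⟩ := conj_eq hk H₂ e₂
  refine ⟨g₂⁻¹ * g₁, ?_⟩
  have h : H₁.map (MulAut.conj g₁).toMonoidHom = H₂.map (MulAut.conj g₂).toMonoidHom :=
    hg₁.trans hg₂.symm
  have h2 := congrArg (fun K => Subgroup.map (MulAut.conj g₂⁻¹).toMonoidHom K) h
  simp only [Subgroup.map_map] at h2
  have e1 : (MulAut.conj g₂⁻¹).toMonoidHom.comp (MulAut.conj g₂).toMonoidHom = MonoidHom.id _ := by
    ext x; simp [mul_assoc]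
  have e2 : (MulAut.conj g₂⁻¹).toMonoidHom.comp (MulAut.conj g₁).toMonoidHom =
      (MulAut.conj (g₂⁻¹ * g₁)).toMonoidHom := by
    ext x; simp [mul_assoc]
  rw [e1, e2, Subgroup.map_id] at h2
  exact h2.symm


end Cfsg.Agent.S2874
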