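import Cfsg.Statements.S2879
import Cfsg.Agent.Lib.LocBase
import Cfsg.Agent.Lib.Cores2
import Cfsg.Agent.Lib.QuasiDihedral
import Cfsg.Agent.Lib.SLTwoThree
import Mathlib.GroupTheory.SpecificGroups.Dihedral

set_option autoImplicit false
open Cfsg

namespace Cfsg.Agent.S2879

open Subgroup Cfsg.Agent.Lib.LocBase

/-- The facts on dihedral and semidihedral groups we need. -/
def DS (S : Type*) [Group S] : Prop :=
  ∃ a z : S, (zpowers a).index = 2 ∧ (∀ t : S, t ∉ zpowers a → t ^ 4 = 1) ∧ orderOf z = 2 ∧ z ∈ zpowers a ∧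
    ∀ c : S, (∀ s, c * s = s * c) ↔ c = 1 ∨ c = z

theorem DS.congr {S S' : Type*} [Group S] [Group S'] (e : S ≃* S') (h : DS S) : DS S' := by
  obtain ⟨a, z, h1, h2, h3, h4, h5⟩ := h
  have hm : ∀ t : S', t ∈ zpowers (e a) ↔ e.symm t ∈ zpowers a := by
    intro t
    constructor
    · rintro ⟨k, hk⟩
      refine ⟨k, ?_⟩
      simp only at hk ⊢
      rw [← hk, map_zpow, e.symm_apply_apply]
    · rintro ⟨k, hk⟩
      refine ⟨k, ?_⟩
      simp only at hk ⊢
      rw [← map_zpow, hk, e.apply_symm_apply]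
  refine ⟨e a, e z, ?_, ?_, ?_, ?_, ?_⟩
  · rw [← h1, show zpowers (e a) = (zpowers a).map e.toMonoidHom by rw [MonoidHom.map_zpowers]; rfl]
    exact Subgroup.index_map_equiv _ e
  · intro t ht
    rw [hm] at ht
    have := h2 _ ht
    rw [← map_pow] at this
    exact (map_eq_one_iff e.symm e.symm.injective).mp this
  · rw [MulEquiv.orderOf_eq]; exact h3
  · rw [hm, e.symm_apply_apply]; exact h4
  · intro c
    have := h5 (e.symm c)
    rw [← map_eq_one_iff e.symm e.symm.injective, ← e.symm_apply_eq.trans (Iff.rfl), ← this]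
    constructor
    · intro h s
      rw [← e.symm_apply_apply s, ← map_mul, h, map_mul]
    · intro h s
      have := h (e.symm s)
      rw [← map_mul, ← map_mul] at this
      exact e.symm.injective this

theorem ds_dihedral {n : ℕ} (hn : 4 ≤ n) (hev : Even n) : DS (DihedralGroup n) := by
  obtain ⟨m, hm⟩ := hev
  have : NeZero n := ⟨by omega⟩
  have hr : ∀ t : ZMod n, DihedralGroup.r t ∈ zpowers (DihedralGroup.r (1 : ZMod n)) := by
    intro t
    refine ⟨(t.val : ℤ), ?_⟩
    simp only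
    rw [zpow_natCast, DihedralGroup.r_one_pow, ZMod.natCast_zmod_val]
  have hmm : ((m : ℕ) : ZMod n) + (m : ℕ) = 0 := by
    rw [← Nat.cast_add, ← hm, ZMod.natCast_self]
  have hm0 : ((m : ℕ) : ZMod n) ≠ 0 := by
    intro h
    rw [ZMod.natCast_eq_zero_iff] at h
    have := Nat.le_of_dvd (by omega) h
    omega
  refine ⟨DihedralGroup.r 1, DihedralGroup.r m, ?_, ?_, ?_, hr _, ?_⟩
  · have h1 := (zpowers (DihedralGroup.r (1 : ZMod n))).card_mul_index
    rw [Nat.card_zpowers, DihedralGroup.orderOf_r_one, DihedralGroup.nat_card] at h1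
    rw [mul_comm 2 n] at h1
    exact Nat.eq_of_mul_eq_mul_left (by omega) h1
  · intro t ht
    rcases t with k | k
    · exact absurd (hr k) ht
    · rw [show (4 : ℕ) = 2 * 2 from rfl, pow_mul, pow_two (DihedralGroup.sr k), DihedralGroup.sr_mul_self, one_pow]
  · apply orderOf_eq_prime
    · rw [pow_two, DihedralGroup.r_mul_r, hmm]; rfl
    · intro h
      rw [DihedralGroup.one_def, DihedralGroup.r.injEq] at h
      exact hm0 h
  · intro c
    constructor
    · intro h
      rcases c with k | k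
      · have h1 := h (DihedralGroup.sr 0)
        rw [DihedralGroup.r_mul_sr, DihedralGroup.sr_mul_r, DihedralGroup.sr.injEq] at h1
        have h2 : k + k = 0 := by
          have : 0 - k = k := by rw [h1]; ring
          calc k + k = (0 - k) + k := by rw [this]
            _ = 0 := by ring
        have h3 : ((k.val + k.val : ℕ) : ZMod n) = 0 := by
          push_cast
          rw [ZMod.natCast_zmod_val]; exact h2
        rw [ZMod.natCast_eq_zero_iff] at h3
        have h4 := ZMod.val_lt k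
        obtain ⟨c, hc⟩ := h3
        have : c = 0 ∨ c = 1 := by
          have : c < 2 := by
            by_contra hcc
            push Not at hcc
            have := Nat.mul_le_mul_left n hcc
            omega
          omega
        rcases this with rfl | rfl
        · left
          have : k.val = 0 := by omega
          rw [(ZMod.val_eq_zero k).mp this]; rfl
        · right
          have : k.val = m := by omega
          rw [← this, ZMod.natCast_zmod_val]
      · have h1 := h (DihedralGroup.r 1)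
        rw [DihedralGroup.r_mul_sr, DihedralGroup.sr_mul_r, DihedralGroup.sr.injEq] at h1
        exfalso
        have h2 : ((2 : ℕ) : ZMod n) = 0 := by
          push_cast
          have : (k + 1) - (k - 1) = 0 := by rw [h1]; ring
          calc (2 : ZMod n) = (k + 1) - (k - 1) := by ring
            _ = 0 := this
        rw [ZMod.natCast_eq_zero_iff] at h2
        have := Nat.le_of_dvd (by omega) h2
        omega
    · rintro (rfl | rfl) s
      · rw [one_mul, mul_one]
      · rcases s with k | k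
        · rw [DihedralGroup.r_mul_r, DihedralGroup.r_mul_r, add_comm]
        · rw [DihedralGroup.r_mul_sr, DihedralGroup.sr_mul_r]
          congr 1
          calc k - m = k + m - (m + m) := by ring
            _ = k + m := by rw [hmm, sub_zero]

theorem ds_quasi {S : Type*} [Group S] (hS : Cfsg.IsQuasiDihedral S) : DS S := by
  obtain ⟨x, y, M, k, h⟩ := Cfsg.Agent.Lib.QuasiDihedral.exists_qd hS
  refine ⟨x, x ^ (2 * M : ℤ), h.index_zpowers, ?_, h.orderOf_z, ⟨_, rfl⟩, ?_⟩
  · intro t ht
    obtain ⟨i, rfl | rfl⟩ := h.exists_rep t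
    · exact absurd ⟨i, rfl⟩ ht
    · rw [show (4 : ℕ) = 2 * 2 from rfl, pow_mul, pow_two (x ^ i * y), h.mul_y_sq, ← zpow_natCast, ← zpow_mul, h.zpow_eq_one_iff]
      exact ⟨i, by push_cast; ring⟩
  · intro c
    have h1 : c ∈ center S ↔ c ∈ zpowers (x ^ (2 * M : ℤ)) := by rw [h.center_eq]
    rw [mem_center_iff] at h1
    constructor
    · intro hc
      obtain ⟨j, hj⟩ := h1.mp (fun s => (hc s).symm)
      have hj' : (x ^ (2 * M : ℤ)) ^ j = c := hj
      rw [← zpow_mul] at hj'
      rcases h.z_zpow j with h2 | h2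
      · left; rw [← hj', h2]
      · right; rw [← hj', h2]
    · rintro (rfl | rfl) s
      · rw [one_mul, mul_one]
      · exact h.z_central s

theorem card_le_of_conj {G : Type*} [Group G] [Finite G] {H : Subgroup G} {u : G} {S : Finset G}
    (h : ∀ g ∈ H, g * u * g⁻¹ ∈ S) : Nat.card H ≤ S.card * Nat.card (H ⊓ centralizer {u} : Subgroup G) := by
  have h1 := Subgroup.card_eq_card_quotient_mul_card_subgroup ((H ⊓ centralizer {u}).subgroupOf H)
  rw [Nat.card_congr (subgroupOfEquivOfLe inf_le_left).toEquiv] at h1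
  rw [h1]
  apply Nat.mul_le_mul_right
  have h2 : Function.Injective (fun q : H ⧸ (H ⊓ centralizer {u}).subgroupOf H =>
      (⟨(q.out : G) * u * (q.out : G)⁻¹, h _ (q.out).2⟩ : S)) := by
    intro a b hab
    have h3 : (a.out : G) * u * (a.out : G)⁻¹ = (b.out : G) * u * (b.out : G)⁻¹ := congrArg Subtype.val hab
    rw [← QuotientGroup.out_eq' a, ← QuotientGroup.out_eq' b, QuotientGroup.eq, mem_subgroupOf]
    refine mem_inf.mpr ⟨(((a.out)⁻¹ * b.out : H)).2, ?_⟩
    rw [mem_centralizer_singleton_iff]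
    have := congrArg (fun t => (a.out : G)⁻¹ * t * (b.out : G)) h3
    simp only [mul_assoc, inv_mul_cancel_left, inv_mul_cancel, mul_one, coe_mul, coe_inv] at this ⊢
    exact this.symm
  have h3 := Nat.card_le_card_of_injective _ h2
  rwa [Nat.card_eq_fintype_card (α := S), Fintype.card_coe] at h3

theorem zpow4 {G : Type*} [Group G] {c w : G} (hc : orderOf c = 4) (hw : w ∈ zpowers c) :
    w = 1 ∨ w = c ∨ w = c ^ 2 ∨ w = c ^ 3 := by
  obtain ⟨k, hk⟩ := hw
  simp only at hk
  have h1 : c ^ k = c ^ (k % 4) := by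
    rw [show (4 : ℤ) = ((orderOf c : ℕ) : ℤ) by rw [hc]; rfl, zpow_mod_orderOf]
  have h2 : k % 4 = 0 ∨ k % 4 = 1 ∨ k % 4 = 2 ∨ k % 4 = 3 := by omega
  rw [← hk, h1]
  rcases h2 with h | h | h | h <;> rw [h]
  · left; exact zpow_zero c
  · right; left; exact zpow_one c
  · right; right; left; exact zpow_ofNat c 2
  · right; right; right; exact zpow_ofNat c 3

/-- odd order automorphism of a `2`-group acting trivially on `V` and moving `q` inside `qV` -/
theorem commute_of_coset {G : Type*} [Group G] {α v q : G} (ho : Odd (orderOf α)) {m : ℕ} (hv : v ^ (2 ^ m) = 1)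
    (hαv : α * v = v * α) (hq : α * q * α⁻¹ = q * v) : α * q = q * α := by
  have h1 : ∀ k : ℕ, α ^ k * q * (α ^ k)⁻¹ = q * v ^ k := by
    intro k
    induction k with
    | zero => simp
    | succ k ih =>
      have h2 : α * v ^ k * α⁻¹ = v ^ k := by
        have : Commute α (v ^ k) := (show Commute α v from hαv).pow_right k
        rw [this.eq, mul_inv_cancel_right]
      calc α ^ (k + 1) * q * (α ^ (k + 1))⁻¹ = α * (α ^ k * q * (α ^ k)⁻¹) * α⁻¹ := by
            rw [pow_succ']; group
        _ = (α * q * α⁻¹) * (α * v ^ k * α⁻¹) := by rw [ih]; group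
        _ = q * v ^ (k + 1) := by rw [hq, h2, mul_assoc, ← pow_succ']
  have h2 := h1 (orderOf α)
  rw [pow_orderOf_eq_one, one_mul, inv_one, mul_one] at h2
  have h3 : v ^ (orderOf α) = 1 := by
    have := h2.symm
    rwa [mul_eq_left] at this
  have h4 : orderOf v ∣ Nat.gcd (orderOf α) (2 ^ m) := Nat.dvd_gcd (orderOf_dvd_of_pow_eq_one h3) (orderOf_dvd_of_pow_eq_one hv)
  have h5 : Nat.gcd (orderOf α) (2 ^ m) = 1 := Nat.Coprime.pow_right m (Nat.coprime_two_right.mpr ho)
  rw [h5, Nat.dvd_one, orderOf_eq_one_iff] at h4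
  rw [h4, mul_one, mul_inv_eq_iff_eq_mul] at hq
  exact hq

theorem commute_of_cyclic {G : Type*} [Group G] {α : G} (ho : Odd (orderOf α)) (m : ℕ) :
    ∀ v : G, v ^ (2 ^ m) = 1 → α * v * α⁻¹ ∈ zpowers v → α * v = v * α := by
  induction m with
  | zero => intro v hv _; rw [pow_zero, pow_one] at hv; rw [hv, one_mul, mul_one]
  | succ m ih =>
    intro v hv hαv
    obtain ⟨k, hk⟩ := hαv
    simp only at hk
    by_cases hv1 : v = 1
    · rw [hv1, one_mul, mul_one]
    have hv2 : α * v ^ 2 = v ^ 2 * α := by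
      apply ih
      · rw [← pow_mul, ← pow_succ', hv]
      · rw [← conj_pow, ← hk]
        exact ⟨k, by simp only; rw [← zpow_natCast, ← zpow_natCast, ← zpow_mul, ← zpow_mul, mul_comm]⟩
    rcases Int.even_or_odd k with ⟨l, hl⟩ | ⟨l, hl⟩
    · -- `v` would be a power of `v²`
      have h1 : α * v * α⁻¹ = (v ^ 2) ^ l := by
        rw [← hk, hl, ← zpow_natCast, ← zpow_mul]; congr 1; push_cast; ring
      have h2 : α * (α * v * α⁻¹) = (α * v * α⁻¹) * α := by
        rw [h1]
        exact ((show Commute α (v ^ 2) from hv2).zpow_right l).eq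
      have h3 : α * v = v * α := by
        have := congrArg (fun t => α⁻¹ * t * α) h2
        simpa [mul_assoc] using this
      exact h3
    · apply commute_of_coset ho (v := (v ^ 2) ^ l) (m := m)
      · rw [← zpow_natCast, ← zpow_mul, mul_comm l, zpow_mul, zpow_natCast, ← pow_mul, ← pow_succ', hv, one_zpow]
      · exact ((show Commute α (v ^ 2) from hv2).zpow_right l).eq
      · rw [← hk, hl, ← zpow_natCast, ← zpow_mul, ← zpow_one_add]; congr 1; push_cast; ring

theorem main {G : Type*} [Group G] [Finite G] (T : Sylow 2 G) (hne : (T : Subgroup G) ≠ ⊤) (hDS : DS (T : Subgroup G))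
    (hCQ : centralizer (Cfsg.pCore 2 G : Set G) ≤ Cfsg.pCore 2 G)
    (hZ : ((T : Subgroup G) ⊓ Subgroup.centralizer ((T : Subgroup G) : Set G)).Normal) :
    ∃ U : Subgroup G, U.Normal ∧ Nonempty (↥U ≃* Matrix.SpecialLinearGroup (Fin 2) (ZMod 3)) := by
  classical
  have hf2 : Fact (Nat.Prime 2) := ⟨Nat.prime_two⟩
  obtain ⟨Q, hQdef⟩ : ∃ Q, Q = Cfsg.pCore 2 G := ⟨_, rfl⟩
  rw [← hQdef] at hCQ
  have hQp : IsPGroup 2 Q := hQdef ▸ isPGroup_pCore 2 G
  have hQn : Q.Normal := by
    rw [hQdef]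
    have := pCore_characteristic 2 G
    infer_instance
  obtain ⟨a, z, hidx, h4, hz2, hza, hcen⟩ := hDS
  -- move to `G`
  obtain ⟨X, hXdef⟩ : ∃ X : Subgroup G, X = zpowers (a : G) := ⟨_, rfl⟩
  have hmX : ∀ t : (T : Subgroup G), (t : G) ∈ X ↔ t ∈ zpowers a := by
    intro t
    rw [hXdef]
    constructor
    · rintro ⟨k, hk⟩
      exact ⟨k, Subtype.ext (by simpa using hk)⟩
    · rintro ⟨k, hk⟩
      exact ⟨k, by simp only at hk ⊢; rw [← hk]; rfl⟩
  have hQT : Q ≤ T := by
    exact hQp.le_sylow_of_normal T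
  obtain ⟨ζ, hζ⟩ : ∃ ζ : G, ζ = (z : G) := ⟨_, rfl⟩
  have hζX : ζ ∈ X := by rw [hζ, hmX]; exact hza
  have hζo : orderOf ζ = 2 := by rw [hζ, Subgroup.orderOf_coe]; exact hz2
  have hζ1 : ζ ≠ 1 := by rintro h; rw [h, orderOf_one] at hζo; omega
  have hζ2 : ζ ^ 2 = 1 := by rw [← hζo, pow_orderOf_eq_one]
  have hcenT : ∀ c : G, c ∈ (T : Subgroup G) ⊓ Subgroup.centralizer ((T : Subgroup G) : Set G) ↔ c = 1 ∨ c = ζ := by
    intro c
    rw [mem_inf, mem_centralizer_iff]
    constructor
    · rintro ⟨h1, h2⟩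
      have := (hcen ⟨c, h1⟩).mp (fun s => Subtype.ext (h2 s s.2).symm)
      rcases this with h | h
      · left; exact congrArg Subtype.val h
      · right; rw [hζ]; exact congrArg Subtype.val h
    · intro h
      have hcT : c ∈ (T : Subgroup G) := by
        rcases h with rfl | rfl
        · exact one_mem _
        · rw [hζ]; exact z.2
      refine ⟨hcT, fun s hs => ?_⟩
      have := (hcen ⟨c, hcT⟩).mpr (by
        rcases h with rfl | rfl
        · left; rfl
        · right; exact Subtype.ext hζ) ⟨s, hs⟩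
      exact (congrArg Subtype.val this).symm
  have hζc : ∀ g : G, g * ζ * g⁻¹ = ζ := by
    intro g
    have h1 := hZ.conj_mem ζ ((hcenT ζ).mpr (Or.inr rfl)) g
    rw [hcenT] at h1
    rcases h1 with h | h
    · rw [conj_eq_one_iff] at h; exact absurd h hζ1
    · exact h
  have hζc' : ∀ g : G, g * ζ = ζ * g := fun g => mul_inv_eq_iff_eq_mul.mp (hζc g)
  have hζQ : ζ ∈ Q := by
    apply hCQ
    rw [mem_centralizer_iff]
    intro g _
    exact hζc' g
  -- index two facts
  have hidx' : ∀ s ∈ (T : Subgroup G), ∀ t ∈ (T : Subgroup G), s ∉ X → t ∉ X → s⁻¹ * t ∈ X := by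
    intro s hs t ht h1 h2
    have h3 := (Subgroup.mul_mem_iff_of_index_two hidx (a := (⟨s, hs⟩ : (T : Subgroup G))⁻¹) (b := ⟨t, ht⟩)).mpr
      (by
        rw [inv_mem_iff, ← hmX, ← hmX]
        exact iff_of_false h1 h2)
    exact (hmX _).mpr h3
  have h4' : ∀ t ∈ (T : Subgroup G), t ∉ X → t ^ 4 = 1 := by
    intro t ht h1
    exact congrArg Subtype.val (h4 ⟨t, ht⟩ (fun h => h1 ((hmX ⟨t, ht⟩).mpr h)))
  -- an odd order element
  obtain ⟨α, hαo, hα1⟩ : ∃ α : G, Odd (orderOf α) ∧ α ≠ 1 := by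
    have h1 : (T : Subgroup G).index ≠ 1 := fun h => hne (index_eq_one.mp h)
    obtain ⟨q, hq, hqd⟩ := Nat.exists_prime_and_dvd h1
    have h2 : ¬ 2 ∣ (T : Subgroup G).index := T.not_dvd_index
    have hq2 : q ≠ 2 := by rintro rfl; exact h2 hqd
    have : Fact q.Prime := ⟨hq⟩
    obtain ⟨α, hα⟩ := exists_prime_orderOf_dvd_card' q (hqd.trans (T : Subgroup G).index_dvd_card)
    refine ⟨α, ?_, ?_⟩
    · rw [hα]; exact hq.odd_of_ne_two hq2
    · rintro rfl; rw [orderOf_one] at hα; exact hq.one_lt.ne hα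
  have h2pow : ∀ v ∈ Q, ∃ m : ℕ, v ^ (2 ^ m) = 1 := by
    intro v hv
    obtain ⟨m, hm⟩ := hQp ⟨v, hv⟩
    exact ⟨m, congrArg Subtype.val hm⟩
  have hoddQ : ∀ β : G, Odd (orderOf β) → β ∈ Q → β = 1 := by
    intro β hβ hβQ
    obtain ⟨m, hm⟩ := h2pow β hβQ
    have h1 : orderOf β ∣ Nat.gcd (orderOf β) (2 ^ m) := Nat.dvd_gcd dvd_rfl (orderOf_dvd_of_pow_eq_one hm)
    rw [show Nat.gcd (orderOf β) (2 ^ m) = 1 from Nat.Coprime.pow_right m (Nat.coprime_two_right.mpr hβ), Nat.dvd_one,
      orderOf_eq_one_iff] at h1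
    exact h1
  have hconjQ : ∀ g : G, ∀ q ∈ Q, g * q * g⁻¹ ∈ Q := fun g q hq => hQn.conj_mem q hq g
  -- the cyclic part
  have hcyc : IsCyclic (Q ⊓ X : Subgroup G) := by
    have : IsCyclic X := by rw [hXdef]; infer_instance
    exact Subgroup.isCyclic_of_le inf_le_right
  obtain ⟨c, hc⟩ := (Subgroup.isCyclic_iff_exists_zpowers_eq_top _).mp hcyc
  have hcQX : c ∈ Q ⊓ X := hc ▸ mem_zpowers c
  have hcQ : c ∈ Q := (mem_inf.mp hcQX).1
  have hcX : c ∈ X := (mem_inf.mp hcQX).2
  have hmem : ∀ q ∈ Q, q ∈ X → q ∈ zpowers c := fun q h1 h2 => by rw [hc]; exact mem_inf.mpr ⟨h1, h2⟩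
  have keyA : α * c = c * α → False := by
    intro hac
    have hac' : ∀ v ∈ zpowers c, α * v = v * α := by
      rintro _ ⟨k, rfl⟩
      exact ((show Commute α c from hac).zpow_right k).eq
    apply hα1
    apply hoddQ α hαo
    apply hCQ
    rw [mem_centralizer_iff]
    intro q hq
    by_cases hqX : q ∈ X
    · exact (hac' q (hmem q hq hqX)).symm
    · have h1 : α * q * α⁻¹ ∉ X := by
        intro h
        have h2 := hac' _ (hmem _ (hconjQ α q hq) h)
        have h3 : α * q * α⁻¹ = q := by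
          have := congrArg (fun t => α⁻¹ * t) h2
          simpa [mul_assoc] using this
        rw [h3] at h
        exact hqX h
      have h2 := hidx' q (hQT hq) _ (hQT (hconjQ α q hq)) hqX h1
      have h3 : q⁻¹ * (α * q * α⁻¹) ∈ Q := mul_mem (inv_mem hq) (hconjQ α q hq)
      obtain ⟨m, hm⟩ := h2pow _ h3
      refine (commute_of_coset hαo hm (hac' _ (hmem _ h3 h2)) ?_).symm
      group
  have keyB : α * c * α⁻¹ ∉ X := by
    intro h
    obtain ⟨m, hm⟩ := h2pow c hcQ
    exact keyA (commute_of_cyclic hαo m c hm (hmem _ (hconjQ α c hcQ) h))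
  obtain ⟨j, hj⟩ : ∃ j, j = α * c * α⁻¹ := ⟨_, rfl⟩
  rw [← hj] at keyB
  have hjQ : j ∈ Q := hj ▸ hconjQ α c hcQ
  have hjT : j ∈ (T : Subgroup G) := hQT hjQ
  have hc4 : c ^ 4 = 1 := by
    have h1 := h4' j hjT keyB
    rw [hj, conj_pow, conj_eq_one_iff] at h1
    exact h1
  have hζc2 : ζ ∈ zpowers c := hmem ζ hζQ hζX
  have hc2 : c ^ 2 ≠ 1 := by
    intro h
    obtain ⟨k, hk⟩ := hζc2
    simp only at hk
    rcases Int.even_or_odd k with ⟨l, hl⟩ | ⟨l, hl⟩
    · apply hζ1
      rw [← hk, hl, ← two_mul, zpow_mul]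
      rw [show c ^ (2 : ℤ) = 1 by rw [zpow_ofNat]; exact h, one_zpow]
    · have h1 : c = ζ := by
        rw [← hk, hl, zpow_add, zpow_mul, show c ^ (2 : ℤ) = 1 by rw [zpow_ofNat]; exact h, one_zpow, one_mul, zpow_one]
      apply keyB
      rw [hj, h1, hζc]
      exact hζX
  have hco : orderOf c = 4 := orderOf_eq_prime_pow (p := 2) (n := 1) (by simpa using hc2) (by simpa using hc4)
  have hc1 : c ≠ 1 := by rintro rfl; simp at hco
  have hcζ : c ^ 2 = ζ := by
    rcases zpow4 hco hζc2 with h | h | h | h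
    · exact absurd h hζ1
    · rw [h] at hζ2; exact absurd hζ2 hc2
    · exact h.symm
    · exfalso
      rw [h, ← pow_mul] at hζ2
      apply hc2
      calc c ^ 2 = c ^ (3 * 2) := by rw [show 3 * 2 = 4 + 2 from rfl, pow_add, hc4, one_mul]
        _ = 1 := hζ2
  have hj2 : j ^ 2 = ζ := by rw [hj, conj_pow, hcζ, hζc]
  have hαj : α * j ≠ j * α := by
    intro h
    apply keyA
    have h3 : j = c := by
      have := congrArg (fun t => α⁻¹ * t * α) h
      rw [hj] at this
      simp only [mul_assoc, inv_mul_cancel_left, inv_mul_cancel, mul_one] at this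
      -- `c = α⁻¹ c α`-type relation
      have h5 : α * c = c * α := by
        have := congrArg (fun t => α⁻¹ * t * α) h
        rw [hj] at this
        simpa [mul_assoc] using this
      rw [hj, h5, mul_inv_cancel_right]
    rw [hj] at h3
    exact mul_inv_eq_iff_eq_mul.mp h3
  -- conjugation by `j`
  have hjcX : j * c * j⁻¹ ∈ X := by
    by_contra h
    have h1 := hidx' _ (mul_mem (mul_mem hjT (hQT hcQ)) (inv_mem hjT)) j hjT h keyB
    have h2 : (j * c * j⁻¹)⁻¹ * j = j * c⁻¹ := by group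
    rw [h2] at h1
    apply keyB
    have := mul_mem h1 hcX
    simpa using this
  have hjc := zpow4 hco (hmem _ (hconjQ j c hcQ) hjcX)
  obtain ⟨κ, hκ⟩ : ∃ κ, κ = α * j * α⁻¹ := ⟨_, rfl⟩
  have hκQ : κ ∈ Q := hκ ▸ hconjQ α j hjQ
  have hκ2 : κ ^ 2 = ζ := by rw [hκ, conj_pow, hj2, hζc]
  have hκX : κ ∉ X := by
    intro h
    have h1 : α ^ 2 * c * (α ^ 2)⁻¹ ∈ zpowers c := by
      have : α ^ 2 * c * (α ^ 2)⁻¹ = κ := by rw [hκ, hj, pow_two]; group
      rw [this]
      exact hmem κ hκQ h
    have h2 : Odd (orderOf (α ^ 2)) := by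
      have : orderOf (α ^ 2) ∣ orderOf α := orderOf_pow_dvd 2
      exact Odd.of_dvd_nat hαo this
    have h3 := commute_of_cyclic h2 2 c (by simpa using hc4) h1
    obtain ⟨l, hl⟩ := hαo
    have h4 : α = (α ^ 2) ^ (l + 1) := by
      rw [← pow_mul, show 2 * (l + 1) = orderOf α + 1 by omega, pow_succ, pow_orderOf_eq_one, one_mul]
    apply keyA
    rw [h4]
    exact ((show Commute (α ^ 2) c from h3).pow_left (l + 1)).eq
  have hκc := zpow4 hco (hmem _ (mul_mem (inv_mem hjQ) hκQ) (hidx' j hjT κ (hQT hκQ) keyB hκX))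
  have hjj : j * j = ζ := by rw [← pow_two, hj2]
  have hcc : c * c = ζ := by rw [← pow_two, hcζ]
  have hκodd : κ = j * c ∨ κ = j * c⁻¹ := by
    rcases hκc with h | h | h | h
    · exfalso
      apply hαj
      have h1 : κ = j := (inv_mul_eq_one.mp h).symm
      rw [hκ] at h1
      exact mul_inv_eq_iff_eq_mul.mp h1
    · left; exact (inv_mul_eq_iff_eq_mul.mp h)
    · exfalso
      apply hαj
      have h1 : κ = j * ζ := by rw [← hcζ]; exact (inv_mul_eq_iff_eq_mul.mp h)
      apply commute_of_cyclic hαo 2 j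
      · have : j ^ (2 ^ 2) = (j ^ 2) ^ 2 := by rw [← pow_mul]; rfl
        rw [this, hj2, hζ2]
      · rw [← hκ, h1, ← hj2]
        exact mul_mem (mem_zpowers j) (pow_mem (mem_zpowers j) 2)
    · right
      have : c ^ 3 = c⁻¹ := by
        apply eq_inv_of_mul_eq_one_left
        rw [← pow_succ, hc4]
      rw [← this]; exact (inv_mul_eq_iff_eq_mul.mp h)
  have hjcj : j * c * j⁻¹ = c⁻¹ := by
    rcases hjc with h | h | h | h
    · rw [conj_eq_one_iff] at h; exact absurd h hc1
    · exfalso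
      have h1 : j * c = c * j := mul_inv_eq_iff_eq_mul.mp h
      have h2 : Commute j c := h1
      have h3 : κ ^ 2 = 1 := by
        rcases hκodd with h | h
        · rw [h, h2.mul_pow, hj2, hcζ, ← pow_two, hζ2]
        · rw [h, h2.inv_right.mul_pow, hj2, inv_pow, hcζ, mul_inv_cancel]
      rw [hκ2] at h3
      exact hζ1 h3
    · exfalso
      rw [hcζ, mul_inv_eq_iff_eq_mul, ← hζc' j, mul_right_inj] at h
      rw [h] at hc2
      exact hc2 hζ2
    · rw [h]
      apply eq_inv_of_mul_eq_one_left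
      rw [← pow_succ, hc4]
  -- the pair `x, y`
  obtain ⟨x, y, hx, hxy, hy2, hconj, hgx, hgy⟩ : ∃ x y : G, zpowers x = zpowers c ∧ y ∈ Q ∧ y ^ 2 = ζ ∧
      y * x * y⁻¹ = x⁻¹ ∧ α * x * α⁻¹ = y ∧ α * y * α⁻¹ = x * y := by
    rcases hκodd with h | h
    · refine ⟨c⁻¹, j⁻¹, zpowers_inv, inv_mem hjQ, ?_, ?_, ?_, ?_⟩
      · rw [inv_pow, hj2]
        exact inv_eq_of_mul_eq_one_left (by rw [← pow_two, hζ2])
      · -- j⁻¹ c⁻¹ j = c
        have h1 := congrArg (fun t => j⁻¹ * t * j) hjcj
        have h2 : c = j⁻¹ * c⁻¹ * j := by simpa [mul_assoc] using h1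
        rw [inv_inv, inv_inv]; exact h2.symm
      · rw [hj]; group
      · have h1 : α * j⁻¹ * α⁻¹ = κ⁻¹ := by rw [hκ]; group
        rw [h1, h, mul_inv_rev]
    · refine ⟨c, j, rfl, hjQ, hj2, hjcj, hj.symm, ?_⟩
      rw [← hκ, h]
      have h1 : j * c * j⁻¹ = c⁻¹ := hjcj
      have h2 := congrArg (fun t => t⁻¹) h1
      have h3 : j * c⁻¹ * j⁻¹ = c := by
        have : (j * c * j⁻¹)⁻¹ = j * c⁻¹ * j⁻¹ := by group
        rw [← this, hjcj, inv_inv]
      exact mul_inv_eq_iff_eq_mul.mp h3
  have hxo : orderOf x = 4 := by rw [← Nat.card_zpowers, hx, Nat.card_zpowers, hco]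
  have hxQ : x ∈ Q := by
    have h1 : x ∈ zpowers c := hx ▸ mem_zpowers x
    rw [hc] at h1; exact (mem_inf.mp h1).1
  have hxX : x ∈ X := by
    have h1 : x ∈ zpowers c := hx ▸ mem_zpowers x
    rw [hc] at h1; exact (mem_inf.mp h1).2
  have hx4 : x ^ 4 = 1 := by rw [← hxo, pow_orderOf_eq_one]
  have hx2 : x ^ 2 = ζ := by
    have h1 : ζ ∈ zpowers x := by rw [hx]; exact hζc2
    rcases zpow4 hxo h1 with h | h | h | h
    · exact absurd h hζ1
    · exfalso; rw [h] at hζ2
      have : orderOf x ∣ 2 := orderOf_dvd_of_pow_eq_one hζ2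
      rw [hxo] at this; omega
    · exact h.symm
    · exfalso
      rw [h, ← pow_mul] at hζ2
      have : orderOf x ∣ 6 := orderOf_dvd_of_pow_eq_one hζ2
      rw [hxo] at this; omega
  have hyX : y ∉ X := by
    intro h
    have h1 : y ∈ zpowers c := hmem y hxy h
    rw [← hx] at h1
    obtain ⟨k, hk⟩ := h1
    simp only at hk
    have h2 : y * x * y⁻¹ = x := by rw [← hk]; group
    rw [h2, eq_inv_iff_mul_eq_one, ← pow_two, hx2] at hconj
    exact hζ1 hconj
  have hQcases : ∀ q ∈ Q, q ∈ zpowers x ∨ ∃ w ∈ zpowers x, q = y * w := by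
    intro q hq
    by_cases hqX : q ∈ X
    · left; rw [hx]; exact hmem q hq hqX
    · right
      refine ⟨y⁻¹ * q, ?_, by group⟩
      rw [hx]
      exact hmem _ (mul_mem (inv_mem hxy) hq) (hidx' y (hQT hxy) q (hQT hq) hyX hqX)
  have hcentQ : ∀ g : G, g * x = x * g → g * y = y * g → g ∈ Q := by
    intro g h1 h2
    apply hCQ
    rw [mem_centralizer_iff]
    intro q hq
    have h3 : ∀ w ∈ zpowers x, g * w = w * g := by
      rintro _ ⟨k, rfl⟩
      exact ((show Commute g x from h1).zpow_right k).eq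
    rcases hQcases q hq with h | ⟨w, hw, rfl⟩
    · exact (h3 q h).symm
    · exact ((show Commute g y from h2).mul_right (h3 w hw)).eq.symm
  -- `α ^ 3 = 1`
  have hα3 : α ^ 3 = 1 := by
    have e1 : α ^ 3 * x * (α ^ 3)⁻¹ = x := by
      have h1 : α ^ 3 * x * (α ^ 3)⁻¹ = α * (α * (α * x * α⁻¹) * α⁻¹) * α⁻¹ := by
        rw [pow_succ, pow_two]; group
      rw [h1, hgx, hgy]
      have h2 : α * (x * y) * α⁻¹ = (α * x * α⁻¹) * (α * y * α⁻¹) := by group
      rw [h2, hgx, hgy]
      calc y * (x * y) = (y * x * y⁻¹) * (y ^ 2) := by rw [pow_two]; group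
        _ = x⁻¹ * x ^ 2 := by rw [hconj, hy2, hx2]
        _ = x := by rw [pow_two]; group
    have e1' : α ^ 3 * x = x * α ^ 3 := mul_inv_eq_iff_eq_mul.mp e1
    have e2 : α ^ 3 * y = y * α ^ 3 := by
      rw [← hgx]
      have h1 : Commute (α ^ 3) α := (Commute.refl α).pow_left 3
      exact ((h1.mul_right e1').mul_right h1.inv_right).eq
    have h1 := hcentQ _ e1' e2
    apply hoddQ _ _ h1
    exact Odd.of_dvd_nat hαo (orderOf_pow_dvd 3)
  have hrel : Cfsg.Agent.Lib.SLTwoThree.Rel x y α := ⟨hx4, by rw [hy2, hx2], hconj, hgx, hgy, hα3⟩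
  obtain ⟨U, hU⟩ : ∃ U : Subgroup G, U = Subgroup.closure {x, y, α} := ⟨_, rfl⟩
  have hxU : x ∈ U := by rw [hU]; exact subset_closure (by simp)
  have hyU : y ∈ U := by rw [hU]; exact subset_closure (by simp)
  have hαU : α ∈ U := by rw [hU]; exact subset_closure (by simp)
  have hUle : Nat.card U ≤ 24 := by rw [hU]; exact Cfsg.Agent.Lib.SLTwoThree.card_closure_le hrel
  have hU24 : Nat.card U = 24 := by
    have h3 : 3 ∣ Nat.card U := by
      have h1 : orderOf α = 3 := orderOf_eq_prime hα3 hα1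
      rw [← h1, ← Nat.card_zpowers]
      exact card_dvd_of_le (by rw [zpowers_le]; exact hαU)
    have h8 : 8 ∣ Nat.card U := by
      have h1 : Q ≤ U := by
        intro q hq
        have h3 : zpowers x ≤ U := by rw [zpowers_le]; exact hxU
        rcases hQcases q hq with h | ⟨w, hw, rfl⟩
        · exact h3 h
        · exact mul_mem hyU (h3 hw)
      refine dvd_trans ?_ (card_dvd_of_le h1)
      obtain ⟨m, hm⟩ := IsPGroup.iff_card.mp hQp
      have h2 : zpowers x < Q := by
        refine lt_of_le_of_ne (by rw [zpowers_le]; exact hxQ) ?_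
        intro h
        have : y ∈ zpowers x := by rw [h]; exact hxy
        apply hyX
        exact (zpowers_le.mpr hxX) this
      have h3 : Nat.card (zpowers x) < Nat.card Q := by
        have := Set.ncard_lt_ncard (SetLike.coe_ssubset_coe.mpr h2) (Set.toFinite _)
        exact this
      rw [Nat.card_zpowers, hxo, hm] at h3
      rw [hm]
      have h4 : 3 ≤ m := by
        by_contra hlt
        push Not at hlt
        interval_cases m <;> omega
      exact pow_dvd_pow 2 h4
    have h24 : 24 ∣ Nat.card U := Nat.Coprime.mul_dvd_of_dvd_of_dvd (by norm_num : Nat.Coprime 3 8) h3 h8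
    exact le_antisymm hUle (Nat.le_of_dvd Nat.card_pos h24)
  -- the order of `G`
  have hx1 : x ≠ 1 := by rintro rfl; simp at hxo
  have hG48 : Nat.card G ≤ 48 := by
    have hw : ∀ w ∈ zpowers x, w = 1 ∨ w = x ∨ w = x ^ 2 ∨ w = x ^ 3 := fun w hw => zpow4 hxo hw
    have s1 := card_le_of_conj (G := G) (H := ⊤) (u := x) (S := {x, x ^ 3, y, y * x, y * x ^ 2, y * x ^ 3}) (by
      intro g _
      rcases hQcases _ (hconjQ g x hxQ) with h | ⟨w, hw', h⟩
      · rcases hw _ h with h | h | h | h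
        · rw [conj_eq_one_iff] at h; exact absurd h hx1
        · rw [h]; simp
        · exfalso
          rw [hx2] at h
          have h5 : x = ζ := by
            have := congrArg (fun t => g⁻¹ * t * g) h
            have h6 : g⁻¹ * ζ * g = ζ := by have := hζc g⁻¹; rwa [inv_inv] at this
            simp only [h6] at this
            simpa [mul_assoc] using this
          rw [h5, hζo] at hxo; omega
        · rw [h]; simp
      · rcases hw _ hw' with h' | h' | h' | h' <;> rw [h, h'] <;> simp)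
    have s2 := card_le_of_conj (G := G) (H := ⊤ ⊓ centralizer {x}) (u := y) (S := {y, y * x, y * x ^ 2, y * x ^ 3}) (by
      intro g hg
      have hgx' : g * x = x * g := mem_centralizer_singleton_iff.mp (mem_inf.mp hg).2
      rcases hQcases _ (hconjQ g y hxy) with h | ⟨w, hw', h⟩
      · exfalso
        apply hyX
        obtain ⟨k, hk⟩ := h
        simp only at hk
        have h5 : g * x ^ k * g⁻¹ = x ^ k := by
          rw [((show Commute g x from hgx').zpow_right k).eq, mul_inv_cancel_right]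
        rw [← h5] at hk
        have h6 : x ^ k = y := by
          have := congrArg (fun t => g⁻¹ * t * g) hk
          simpa [mul_assoc] using this
        rw [← h6]
        exact zpow_mem hxX k
      · rcases hw _ hw' with h' | h' | h' | h' <;> rw [h, h'] <;> simp)
    have s3 : Nat.card ((⊤ ⊓ centralizer {x}) ⊓ centralizer {y} : Subgroup G) ≤ 2 := by
      have h1 : (⊤ ⊓ centralizer {x}) ⊓ centralizer {y} ≤ zpowers ζ := by
        intro g hg
        have hgx' : g * x = x * g := mem_centralizer_singleton_iff.mp (mem_inf.mp (mem_inf.mp hg).1).2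
        have hgy' : g * y = y * g := mem_centralizer_singleton_iff.mp (mem_inf.mp hg).2
        have hxyne : ∀ t, t = 1 ∨ t = ζ → x * t ≠ y * x * t * y⁻¹ ∨ True := fun _ _ => Or.inr trivial
        rcases hQcases g (hcentQ g hgx' hgy') with h | ⟨w, hw', rfl⟩
        · rcases hw _ h with h | h | h | h
          · rw [h]; exact one_mem _
          · exfalso
            rw [h] at hgy'
            have : y * x * y⁻¹ = x := by rw [← hgy', mul_inv_cancel_right]
            rw [this, eq_inv_iff_mul_eq_one, ← pow_two, hx2] at hconj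
            exact hζ1 hconj
          · rw [h, hx2]; exact mem_zpowers ζ
          · exfalso
            have h5 : g = x⁻¹ := by rw [h]; apply eq_inv_of_mul_eq_one_left; rw [← pow_succ, hx4]
            rw [h5] at hgy'
            have h6 : Commute x y := by
              have : Commute x⁻¹ y := hgy'
              exact Commute.inv_left_iff.mp this
            have : y * x * y⁻¹ = x := by rw [← h6.eq, mul_inv_cancel_right]
            rw [this, eq_inv_iff_mul_eq_one, ← pow_two, hx2] at hconj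
            exact hζ1 hconj
        · exfalso
          obtain ⟨k, hk⟩ := hw'
          simp only at hk
          have h5 : Commute w x := by rw [← hk]; exact (Commute.refl x).zpow_left k
          have h6 : Commute y x := by
            have h7 : Commute (y * w) x := hgx'
            have h8 := h7.mul_left h5.inv_left
            rwa [mul_inv_cancel_right] at h8
          have : y * x * y⁻¹ = x := by rw [h6.eq, mul_inv_cancel_right]
          rw [this, eq_inv_iff_mul_eq_one, ← pow_two, hx2] at hconj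
          exact hζ1 hconj
      have h2 := Subgroup.card_le_of_le h1
      rw [Nat.card_zpowers, hζo] at h2
      exact h2
    have c1 : ({x, x ^ 3, y, y * x, y * x ^ 2, y * x ^ 3} : Finset G).card ≤ 6 := Finset.card_le_six
    have c2 : ({y, y * x, y * x ^ 2, y * x ^ 3} : Finset G).card ≤ 4 := Finset.card_le_four
    rw [Nat.card_congr (Subgroup.topEquiv (G := G)).toEquiv] at s1
    calc Nat.card G ≤ _ := s1
      _ ≤ 6 * (4 * 2) := Nat.mul_le_mul c1 (s2.trans (Nat.mul_le_mul c2 s3))
      _ = 48 := by norm_num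
  have hUn : U.Normal := by
    have h1 := U.card_mul_index
    rw [hU24] at h1
    have h2 : U.index ≤ 2 := by omega
    have h3 : U.index ≠ 0 := Subgroup.index_ne_zero_of_finite
    rcases (show U.index = 1 ∨ U.index = 2 by omega) with h | h
    · rw [index_eq_one.mp h]; infer_instance
    · exact normal_of_index_eq_two h
  refine ⟨U, hUn, ?_⟩
  have hrelU : Cfsg.Agent.Lib.SLTwoThree.Rel (⟨x, hxU⟩ : U) ⟨y, hyU⟩ ⟨α, hαU⟩ :=
    ⟨Subtype.ext hrel.x4, Subtype.ext hrel.sq, Subtype.ext hrel.conj, Subtype.ext hrel.gx, Subtype.ext hrel.gy,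
      Subtype.ext hrel.g3⟩
  apply Cfsg.Agent.Lib.SLTwoThree.equiv_SL hrelU hU24
  rw [eq_top_iff]
  rintro ⟨u, hu⟩ -
  have hle : U ≤ (Subgroup.closure {(⟨x, hxU⟩ : U), ⟨y, hyU⟩, ⟨α, hαU⟩}).map U.subtype := by
    conv_lhs => rw [hU]
    rw [closure_le]
    rintro v (rfl | rfl | rfl)
    · exact ⟨⟨v, hxU⟩, subset_closure (by simp), rfl⟩
    · exact ⟨⟨v, hyU⟩, subset_closure (by simp), rfl⟩
    · exact ⟨⟨v, hαU⟩, subset_closure (by simp), rfl⟩
  obtain ⟨u', h1, h2⟩ := hle hu
  have h3 : u' = ⟨u, hu⟩ := Subtype.ext h2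
  rw [h3] at h1
  exact h1


/-- Let G be a finite solvable group with O(G) = 1 whose Sylow 2-subgroup T is dihedral of order at least 8 or semidihedral, with G ≠ T and Z(T) normal in G. Then G has a normal subgroup isomorphic to SL₂(3). -/
theorem result {G : Type*} [Group G] [Finite G] (hsol : IsSolvable G) (hO : Cfsg.oddCore G = ⊥) (T : Sylow 2 G) (hT : (∃ n : ℕ, 4 ≤ n ∧ Nonempty (↥(T : Subgroup G) ≃* DihedralGroup n)) ∨ Cfsg.IsQuasiDihedral ↥(T : Subgroup G)) (hne : (T : Subgroup G) ≠ ⊤) (hZ : ((T : Subgroup G) ⊓ Subgroup.centralizer ((T : Subgroup G) : Set G)).Normal) : ∃ U : Subgroup G, U.Normal ∧ Nonempty (↥U ≃* Matrix.SpecialLinearGroup (Fin 2) (ZMod 3)) := by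
  classical
  have hf2 : Fact (Nat.Prime 2) := ⟨Nat.prime_two⟩
  have hsol' : Group.IsSolvable G := hsol
  have hCQ : centralizer (Cfsg.pCore 2 G : Set G) ≤ Cfsg.pCore 2 G := Cfsg.Agent.Lib.Cores.centralizer_pCore_le hO
  have hDS : DS (T : Subgroup G) := by
    rcases hT with ⟨n, hn, ⟨e⟩⟩ | h
    · have hev : Even n := by
        have hc : Nat.card (T : Subgroup G) = 2 * n := by rw [Nat.card_congr e.toEquiv, DihedralGroup.nat_card]
        obtain ⟨k, hk⟩ := IsPGroup.iff_card.mp T.isPGroup'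
        rw [hk] at hc
        rcases k with _ | _ | k
        · omega
        · omega
        · exact ⟨2 ^ k, by rw [pow_succ, pow_succ] at hc; omega⟩
      exact (ds_dihedral hn hev).congr e.symm
    · exact ds_quasi h
  exact main T hne hDS hCQ hZ


end Cfsg.Agent.S2879
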