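import Cfsg.Statements.S2880
import Cfsg.Agent.Lib.ExtraCount

set_option autoImplicit false
open Cfsg

namespace Cfsg.Agent.S2880

open Cfsg.Agent.Lib.ExtraCount


/-- Let E be an extraspecial 2-group of order 2^(2m+1) of plus type, that is, containing an elementary abelian subgroup of order 2^(m+1) (equivalently, a central product of m dihedral groups of order 8). Then E has exactly 2^(2m) − 2^m elements of order 4. -/
theorem result {E : Type*} [Group E] [Finite E] (m : ℕ) (hm : 1 ≤ m) (hE : Cfsg.IsExtraspecial 2 E) (hcard : Nat.card E = 2 ^ (2 * m + 1)) (hplus : ∃ A : Subgroup E, Cfsg.IsElementaryAbelian 2 A ∧ Nat.card A = 2 ^ (m + 1)) : Nat.card {x : E // orderOf x = 4} = 2 ^ (2 * m) - 2 ^ m := by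
  have h : Hyp E := Hyp.of_isExtraspecial hE
  obtain ⟨A, ⟨hAc, hA2⟩, hAcard⟩ := hplus
  have h1 := h.card_centralizer_mul A
  rw [hcard, hAcard] at h1
  have hAC : A ≤ Subgroup.centralizer (A : Set E) := by
    intro a ha
    rw [Subgroup.mem_centralizer_iff]
    intro b hb
    have := hAc.is_comm.comm (⟨b, hb⟩ : A) ⟨a, ha⟩
    exact congrArg Subtype.val this
  have h2 : Nat.card (A ⊓ Subgroup.center E : Subgroup E) ≤ 2 := by
    rw [← h.card_center]
    exact Subgroup.card_le_of_le inf_le_right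
  have h3 : Nat.card (Subgroup.centralizer (A : Set E)) ≤ Nat.card A := by
    rw [hAcard]
    have h4 : Nat.card (Subgroup.centralizer (A : Set E)) * 2 ^ (m + 1) ≤ 2 ^ (m + 1) * 2 ^ (m + 1) := by
      rw [h1]
      calc 2 ^ (2 * m + 1) * Nat.card (A ⊓ Subgroup.center E : Subgroup E) ≤ 2 ^ (2 * m + 1) * 2 :=
            Nat.mul_le_mul_left _ h2
        _ = 2 ^ (m + 1) * 2 ^ (m + 1) := by ring
    exact Nat.le_of_mul_le_mul_right h4 (by positivity)
  have h5 : Subgroup.centralizer (A : Set E) = A :=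
    (Subgroup.eq_of_le_of_card_ge hAC h3).symm
  have h6 := h.card_order_four A hA2 h5
  rw [hcard, hAcard] at h6
  have e1 : 2 ^ (2 * m + 1) = 2 * 2 ^ (2 * m) := by ring
  have e2 : 2 ^ (m + 1) = 2 * 2 ^ m := by ring
  omega


end Cfsg.Agent.S2880
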