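import Cfsg.Statements.S2881
import Cfsg.Agent.S2880

set_option autoImplicit false
open Cfsg

namespace Cfsg.Agent.S2881

/-- Let E be an extraspecial 2-group of order 2^(2m+1) of plus type (containing an elementary abelian subgroup of order 2^(m+1)), and let ω be an automorphism of E of order 5 whose fixed points are exactly the centre of E. Then m is divisible by 4. -/
theorem result {E : Type*} [Group E] [Finite E] (m : ℕ) (hm : 1 ≤ m) (hE : Cfsg.IsExtraspecial 2 E) (hcard : Nat.card E = 2 ^ (2 * m + 1)) (hplus : ∃ A : Subgroup E, Cfsg.IsElementaryAbelian 2 A ∧ Nat.card A = 2 ^ (m + 1)) (ω : E ≃* E) (hω : orderOf ω = 5) (hfix : ∀ x : E, ω x = x ↔ x ∈ Subgroup.center E) : 4 ∣ m := by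
  have hN := Cfsg.Agent.S2880.result m hm hE hcard hplus
  have hfin : Finite {x : E // orderOf x = 4} := inferInstance
  have h5 : Fact (Nat.Prime 5) := ⟨by norm_num⟩
  -- the group generated by `ω` acts on the elements of order 4
  let P : Subgroup (MulAut E) := Subgroup.zpowers (ω : MulAut E)
  have hP : IsPGroup 5 P := IsPGroup.of_card (n := 1) (by
    rw [Nat.card_zpowers, pow_one]; exact hω)
  let act : MulAction P {x : E // orderOf x = 4} :=
    { smul := fun s x => ⟨(s : MulAut E) (x : E), by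
        rw [MulEquiv.orderOf_eq]; exact x.2⟩
      one_smul := fun x => Subtype.ext rfl
      mul_smul := fun s t x => Subtype.ext rfl }
  have hmod := hP.card_modEq_card_fixedPoints {x : E // orderOf x = 4}
  have hfp : MulAction.fixedPoints P {x : E // orderOf x = 4} = ∅ := by
    rw [Set.eq_empty_iff_forall_notMem]
    intro x hx
    have h1 := hx ⟨ω, Subgroup.mem_zpowers _⟩
    have h2 : ω (x : E) = x := congrArg Subtype.val h1
    have h3 := (hfix x).1 h2
    have h4 := orderOf_dvd_natCard (⟨x, h3⟩ : Subgroup.center E)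
    rw [Subgroup.orderOf_mk, x.2, hE.2] at h4
    norm_num at h4
  rw [hfp, hN] at hmod
  simp only [Nat.card_eq_fintype_card, Fintype.card_eq_zero] at hmod
  have hdvd : 5 ∣ 2 ^ (2 * m) - 2 ^ m := (Nat.modEq_zero_iff_dvd).1 hmod
  have h6 : 2 ^ (2 * m) - 2 ^ m = 2 ^ m * (2 ^ m - 1) := by
    rw [Nat.mul_sub, mul_one]; congr 1; rw [← pow_add]; congr 1; ring
  rw [h6] at hdvd
  have h7 : 5 ∣ 2 ^ m - 1 := by
    rcases (Nat.Prime.dvd_mul (by norm_num)).1 hdvd with h | h
    · have := (Nat.prime_dvd_prime_iff_eq (by norm_num) (by norm_num)).1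
        (Nat.Prime.dvd_of_dvd_pow (by norm_num : Nat.Prime 5) h)
      norm_num at this
    · exact h
  have h8 : 2 ^ m % 5 = 1 := by
    have : 1 ≤ 2 ^ m := Nat.one_le_two_pow
    omega
  have h9 : m = 4 * (m / 4) + m % 4 := (Nat.div_add_mod m 4).symm
  rw [h9, pow_add, pow_mul, Nat.mul_mod, Nat.pow_mod] at h8
  norm_num at h8
  have h10 : m % 4 < 4 := Nat.mod_lt _ (by norm_num)
  interval_cases hh : m % 4
  · exact Nat.dvd_of_mod_eq_zero hh
  · norm_num at h8
  · norm_num at h8
  · norm_num at h8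


end Cfsg.Agent.S2881
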