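import Cfsg.Statements.S5170
import Cfsg.Agent.Lib.MathieuFus

set_option autoImplicit false
set_option linter.unusedVariables false
open Cfsg

namespace Cfsg.Agent.S5170

open Cfsg.Agent.Lib.Golay Cfsg.Agent.Lib.MathieuFus
open scoped Pointwise

/-- the central involution -/
def z : ℕ := 976448692869377735270425038196672544

/-- generators of the Sylow subgroup, all conjugate to `z` -/
def L : List ℕ := [976448692869377735270425038196672544, 21159163873795149579542675899648055, 70399228063273750146191920654811874, 111890735759189500967275039606037505, 154011290965101378516425393633478085, 228758467070986392801249166517880259, 610467988597677537367918574735234161, 727786351360932490696593070100616302, 976990105829392847739289005721748544, 984202951082164080105044112956360736, 984724508489452699215480746259449888, 984235865005994746954145143334668320, 961365507626256404119956257276790816, 965128854020860192151391391390468128, 970499966350631336865513127433832480, 963721886883755259286232606933354528, 980224387687010295957922729495201824, 975346028712660580592452217730074656, 966182099583441531322624363496310816,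 968708902336673183175954409307867168, 983548720921252936276249910206105632, 981818691054096003685363657089320992, 979121071158219704299181131031480352, 972512676110088067912772961567868960, 971592882964418941354553515258775584, 967812279691448225500382947153381408]

def st : List (ℕ × ℕ × ℕ × ℕ) := [(0, 476055431504776548970297421310496005, 0, 21159163873795149579542675899648055), (0, 591464243746308280809839759074673073, 0, 70399228063273750146191920654811874), (0, 591488399977701624889524741586240036, 0, 111890735759189500967275039606037505), (0, 499964312599464012396575275766532464, 0, 154011290965101378516425393633478085), (0, 541634231168936752164274729990110611, 0, 228758467070986392801249166517880259), (0, 506962920078450277476230909264255396, 0, 610467988597677537367918574735234161), (0, 166264601320917005577621621745098985, 0, 727786351360932490696593070100616302), (0, 966396391414817211404995468575507020, 0, 976990105829392847739289005721748544), (0, 11982175195837312693981031461050498, 0, 984202951082164080105044112956360736), (0, 923795624947839032812922439112624663,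 0, 984724508489452699215480746259449888), (0, 974422238081544939122441376219924512, 0, 984235865005994746954145143334668320), (0, 144466162962135203502688988102132919, 0, 961365507626256404119956257276790816), (0, 977067454333978429425288521388752945, 0, 965128854020860192151391391390468128), (0, 17336765616481856487196109896617025, 0, 970499966350631336865513127433832480), (0, 984363140085273155288445662158951456, 0, 963721886883755259286232606933354528), (0, 984805244350785654318549907389058222, 0, 980224387687010295957922729495201824), (0, 66371942952411383078355963853476974, 0, 975346028712660580592452217730074656), (0, 975762185657913870064463068361034817, 0, 966182099583441531322624363496310816), (0, 984492065355537866714755179917379761, 0, 968708902336673183175954409307867168), (0, 984690252025280836465891900345748549, 0, 983548720921252936276249910206105632), (0, 967413106580819012034646168507023473, 0, 981818691054096003685363657089320992), (0, 984600954493542229527233097511372803, 0, 979121071158219704299181131031480352), (0, 984719201436894218010764615764413889, 0, 972512676110088067912772961567868960),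 (0, 984493369334060478447889424982281248, 0, 971592882964418941354553515258775584), (0, 983113089370880564384757388293506062, 0, 967812279691448225500382947153381408)]

def c2 : ℕ := 5359790266897531377903919335277600

def c4 : ℕ := 2679895114105362279307534166687744

def stepsX : List (ℕ × ℕ) := [(4845570, 6053905), (13062145, 13938692), (13062145, 7221256), (13062145, 13062145), (4845570, 4845570), (13938692, 13938692), (7221256, 7221256), (11952160, 11952160)]

theorem hLin : ∀ c ∈ L, inM c = true := by decide +kernel

theorem hG : ∀ c, inM c = true → valid c = true ∧ toPerm c ∈ M24 := fun c h => ⟨valid_of_inM h, toPerm_mem_M24 h⟩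

theorem hLv : ∀ c ∈ L, valid c = true := fun c hc => valid_of_inM (hLin c hc)

theorem hzL : z ∈ L := by decide +kernel

theorem hz1 : toPerm z ≠ 1 := toPerm_ne_one (hLv _ hzL) (i := 4) (by norm_num) (by decide +kernel)

theorem hzc : (L.all fun c => Nat.beq (mulC z c) (mulC c z)) = true := by decide +kernel

theorem hcen : ∀ c ∈ M24, (∀ w ∈ WL L, c * w = w * c) → c = 1 ∨ c = toPerm z := by
  intro c hc hw
  refine center_eq (x0 := 4) (X := 8241104) hLv (hLv _ hzL) (hG _ (hLin _ hzL)).2 (by norm_num) hzc
    (by decide +kernel) (fun g hg hX => fixRun_sound hg stepsX 8241104 (by decide +kernel) hX) ?_ hc hw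
  have h : ∀ y : GolayPt, fxC L 4 (ix y) = true → y = pt 4 ∨ y = pt (img z (ix (pt 4))) := by decide +kernel
  intro y hy
  rw [toPerm_apply (hLv _ hzL)]
  exact h y hy

theorem col2 : colOK L c2 = true := by decide +kernel
theorem col4 : colOK L c4 = true := by decide +kernel

theorem hO : ∀ y : GolayPt, Nat.beq (img z (ix y)) (ix y) = true ↔ y ∈ mset 8536111 := by decide +kernel

theorem hWG : WL L ≤ M24 := WL_le fun c hc => (hG c (hLin c hc)).2

variable {g : Equiv.Perm GolayPt}

theorem Oiff (hg : g ∈ NW M24 L) (y : GolayPt) : g y ∈ mset 8536111 ↔ y ∈ mset 8536111 :=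
  fix_z (comm_z hcen hz1 (hG _ (hLin _ hzL)).2 (zc_of hLv (hLv _ hzL) hzc) hg) (hLv _ hzL) hO y

theorem g0 (hg : g ∈ NW M24 L) (h23 : g (pt 23) = pt 23) : g (pt 0) = pt 0 := by
  have h1 : Fx (WL L) (pt 23) (pt 0) := fx_of_col hLv col2 (by decide +kernel) (by decide +kernel) (by decide +kernel)
  have h2 := fx_check hLv (h1.map (NW_norm hg))
  rw [h23] at h2
  have h3 : ∀ y : GolayPt, fxC L (ix (pt 23)) (ix y) = true → y = pt 23 ∨ y = pt 0 := by decide +kernel
  rcases h3 _ h2 with h | h
  · exact absurd h (apply_ne h23 (by decide +kernel) rfl)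
  · exact h

theorem stab23 {u : Equiv.Perm GolayPt} (hu : u ∈ WL L) (h23 : u (pt 23) = pt 23) :
    (u (pt 1) = pt 1 ∨ u (pt 1) = pt 2) ∧ (u (pt 2) = pt 2 ∨ u (pt 2) = pt 1) := by
  have h0 : u (pt 0) = pt 0 := g0 (WL_le_NW hWG hu) h23
  have h1 := (col_iff hLv col4 hu (pt 1) (pt 23)).mp (by decide +kernel)
  have h2 := (col_iff hLv col4 hu (pt 2) (pt 23)).mp (by decide +kernel)
  rw [h23] at h1 h2
  have h3 : ∀ y : GolayPt, img c4 (ix y) = img c4 (ix (pt 23)) → y ≠ pt 23 → y ≠ pt 0 → y = pt 1 ∨ y = pt 2 := by
    decide +kernel
  exact ⟨h3 _ h1 (apply_ne h23 (by decide +kernel) rfl) (apply_ne h0 (by decide +kernel) rfl),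
    (h3 _ h2 (apply_ne h23 (by decide +kernel) rfl) (apply_ne h0 (by decide +kernel) rfl)).symm⟩

theorem g12 (hg : g ∈ NW M24 L) (h23 : g (pt 23) = pt 23) :
    (g (pt 1) = pt 1 ∨ g (pt 1) = pt 2) ∧ (g (pt 2) = pt 1 ∨ g (pt 2) = pt 2) := by
  have h0 := g0 hg h23
  have h1 : Ox (WL L) (pt 23) (pt 1) := ox_of_two fun u hu h => (stab23 hu h).1
  have h1' : Ox (WL L) (pt 23) (pt 2) := ox_of_two fun u hu h => (stab23 hu h).2
  have h2 := ox_check hLv (h1.map (NW_norm hg))
  have h2' := ox_check hLv (h1'.map (NW_norm hg))
  rw [h23] at h2 h2'
  have h3 : ∀ y : GolayPt, oxC L (ix (pt 23)) (ix y) = true → y ≠ pt 23 → y ≠ pt 0 → y = pt 1 ∨ y = pt 2 := by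
    decide +kernel
  exact ⟨h3 _ h2 (apply_ne h23 (by decide +kernel) rfl) (apply_ne h0 (by decide +kernel) rfl),
    h3 _ h2' (apply_ne h23 (by decide +kernel) rfl) (apply_ne h0 (by decide +kernel) rfl)⟩

theorem g3 (hg : g ∈ NW M24 L) (h23 : g (pt 23) = pt 23) (h1 : g (pt 1) = pt 1) :
    g (pt 2) = pt 2 ∧ g (pt 3) ∈ mset 147496 ∧ g (pt 5) ∈ mset 147496 := by
  have h0 := g0 hg h23
  have h2 : g (pt 2) = pt 2 := by
    rcases (g12 hg h23).2 with h | h
    · exact absurd h (apply_ne h1 (by decide +kernel) rfl)
    · exact h
  have h3 := (Oiff hg (pt 3)).mpr (by decide +kernel)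
  have h5 := (Oiff hg (pt 5)).mpr (by decide +kernel)
  have h4 : ∀ y : GolayPt, y ∈ mset 8536111 → y ≠ pt 23 → y ≠ pt 0 → y ≠ pt 1 → y ≠ pt 2 → y ∈ mset 147496 := by
    decide +kernel
  exact ⟨h2, h4 _ h3 (apply_ne h23 (by decide +kernel) rfl) (apply_ne h0 (by decide +kernel) rfl)
    (apply_ne h1 (by decide +kernel) rfl) (apply_ne h2 (by decide +kernel) rfl),
    h4 _ h5 (apply_ne h23 (by decide +kernel) rfl) (apply_ne h0 (by decide +kernel) rfl)
    (apply_ne h1 (by decide +kernel) rfl) (apply_ne h2 (by decide +kernel) rfl)⟩

theorem g5 (hg : g ∈ NW M24 L) (h23 : g (pt 23) = pt 23) (h1 : g (pt 1) = pt 1) (h3 : g (pt 3) = pt 3) :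
    g (pt 5) = pt 5 := by
  obtain ⟨h2, -, h5⟩ := g3 hg h23 h1
  have h6 : Fx (WL L) (pt 3) (pt 5) := fx_of_col hLv col2 (by decide +kernel) (by decide +kernel) (by decide +kernel)
  have h7 := fx_check hLv (h6.map (NW_norm hg))
  rw [h3] at h7
  have h8 : ∀ y : GolayPt, fxC L (ix (pt 3)) (ix y) = true → y ∈ mset 147496 → y ≠ pt 3 → y = pt 5 := by
    decide +kernel
  exact h8 _ h7 h5 (apply_ne h3 (by decide +kernel) rfl)

theorem hN : NW M24 L ≤ WL L ∧ ∃ k, Nat.card ↥(NW M24 L) = 2 ^ k := by
  have hWK := WL_le_NW hWG
  have key : NW M24 L ⊓ FS [] ≤ WL L ∧ ∃ k, Nat.card ↥(NW M24 L ⊓ FS []) = 2 ^ k := by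
    refine sift_step (b := 23) (O := mset 8536111) hWK ?_ (tr_exists hLv (by decide +kernel) (by simp) (by norm_num))
      ⟨3, by decide +kernel⟩ ?_
    · intro g hg _
      exact (Oiff hg _).mpr (by decide +kernel)
    refine sift_step (b := 1) (O := mset 6) hWK ?_ (tr_exists hLv (by decide +kernel) (by simp) (by norm_num))
      ⟨1, by decide +kernel⟩ ?_
    · intro g hg h
      have h1 := (g12 hg (h 23 (by simp))).1
      have h2 : ∀ y : GolayPt, y = pt 1 ∨ y = pt 2 → y ∈ mset 6 := by decide +kernel
      exact h2 _ h1
    refine sift_step (b := 3) (O := mset 147496) hWK ?_ (tr_exists hLv (by decide +kernel) (by simp) (by norm_num))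
      ⟨2, by decide +kernel⟩ ?_
    · intro g hg h
      exact (g3 hg (h 23 (by simp)) (h 1 (by simp))).2.1
    refine sift_step (b := 4) (O := mset 8241104) hWK ?_ (tr_exists hLv (by decide +kernel) (by simp) (by norm_num))
      ⟨4, by decide +kernel⟩ ?_
    · intro g hg h
      have h1 := (Oiff hg (pt 4)).not.mpr (by decide +kernel)
      have h2 : ∀ y : GolayPt, y ∉ mset 8536111 → y ∈ mset 8241104 := by decide +kernel
      exact h2 _ h1
    refine sift_end ?_
    intro g hg h
    have h23 := h 23 (by simp)
    have h1 := h 1 (by simp)
    have h3 := h 3 (by simp)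
    exact base_fix (NW_mem hg) h23 (g0 hg h23) h1 (g3 hg h23 h1).1 h3 (g5 hg h23 h1 h3) (h 4 (by simp))
  rwa [FS_nil, inf_top_eq] at key

/-- The 2-fusion system of the Mathieu group M₂₄ (as the explicit permutation group of the 24 points preserving the binary Golay code) on a Sylow 2-subgroup is simple: saturated, over a nontrivial 2-group, with no normal subsystem other than the trivial one and itself. -/
theorem result (S : Sylow 2 Cfsg.M24) : (Cfsg.groupFusionSystem (S : Subgroup Cfsg.M24)).IsSimple 2 :=
  simple_of_data hLin hG hzL hz1 hcen hN (st := st) (by decide +kernel) S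

end Cfsg.Agent.S5170
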