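import Cfsg.Statements.S2882
import Cfsg.Agent.S5170
import Cfsg.Agent.Lib.FusionSelfNorm

set_option autoImplicit false
open Cfsg

namespace Cfsg.Agent.S2882

open Cfsg.Agent.Lib.Golay Cfsg.Agent.Lib.MathieuFus

theorem self_norm_iff {G : Type*} [Group G] {P : Subgroup G} (h : Subgroup.normalizer (P : Set G) = P) (g : G) :
    Subgroup.normalizer ((P.map (MulAut.conj g).toMonoidHom : Subgroup G) : Set G) = P.map (MulAut.conj g).toMonoidHom := by
  apply le_antisymm _ Subgroup.le_normalizer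
  intro x hx
  have h1 : g⁻¹ * x * g ∈ Subgroup.normalizer (P : Set G) := by
    rw [Subgroup.mem_normalizer_iff]
    intro y
    have h2 := Subgroup.mem_normalizer_iff.mp hx (g * y * g⁻¹)
    have e1 : g * y * g⁻¹ ∈ P.map (MulAut.conj g).toMonoidHom ↔ y ∈ P := by
      constructor
      · rintro ⟨z, hz, hzy⟩
        have h3 : g * z * g⁻¹ = g * y * g⁻¹ := hzy
        have h4 : z = y := by simpa using h3
        rw [← h4]; exact hz
      · intro hy; exact ⟨y, hy, rfl⟩
    have e2 : x * (g * y * g⁻¹) * x⁻¹ ∈ P.map (MulAut.conj g).toMonoidHom ↔ g⁻¹ * x * g * y * (g⁻¹ * x * g)⁻¹ ∈ P := by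
      constructor
      · rintro ⟨z, hz, hzy⟩
        have h3 : g * z * g⁻¹ = x * (g * y * g⁻¹) * x⁻¹ := hzy
        have h4 : z = g⁻¹ * x * g * y * (g⁻¹ * x * g)⁻¹ := by
          calc z = g⁻¹ * (g * z * g⁻¹) * g := by group
            _ = _ := by rw [h3]; group
        rw [← h4]; exact hz
      · intro hy
        refine ⟨_, hy, ?_⟩
        change g * (g⁻¹ * x * g * y * (g⁻¹ * x * g)⁻¹) * g⁻¹ = _
        group
    rw [← e1, h2, e2]
  rw [h] at h1
  refine ⟨g⁻¹ * x * g, h1, ?_⟩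
  change g * (g⁻¹ * x * g) * g⁻¹ = x
  group


/-- In the Mathieu group of degree 24 (realised as the automorphism group of the extended binary Golay code) every Sylow 2-subgroup is self-normalizing. -/
theorem result (S : Sylow 2 ↥Cfsg.M24) : Subgroup.normalizer ((S : Subgroup ↥Cfsg.M24) : Set ↥Cfsg.M24) = (S : Subgroup ↥Cfsg.M24) := by
  have : Fact (Nat.Prime 2) := ⟨Nat.prime_two⟩
  obtain ⟨hNW, k, hk⟩ := Cfsg.Agent.S5170.hN
  have hWG := Cfsg.Agent.S5170.hWG
  have hp : IsPGroup 2 (WL Cfsg.Agent.S5170.L) := (IsPGroup.of_card hk).to_le (WL_le_NW hWG)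
  obtain ⟨P, hP⟩ := Cfsg.Agent.Lib.FusionSelfNorm.exists_sylow_eq 2 ((WL Cfsg.Agent.S5170.L).subgroupOf Cfsg.M24)
    (hp.comap_of_injective _ (Subgroup.subtype_injective _)) (by
      intro g hg
      rw [Subgroup.mem_subgroupOf]
      apply hNW
      refine ⟨g.2, ?_⟩
      have hle : (WL Cfsg.Agent.S5170.L).map (MulAut.conj (g : Equiv.Perm GolayPt)).toMonoidHom ≤ WL Cfsg.Agent.S5170.L := by
        rintro _ ⟨w, hw, rfl⟩
        have := hg ⟨w, hWG hw⟩ (Subgroup.mem_subgroupOf.mpr hw)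
        exact Subgroup.mem_subgroupOf.mp this
      refine Subgroup.mem_normalizer_iff_map_conj_eq.mpr ?_
      exact Subgroup.eq_of_le_of_card_ge hle (by
        rw [Subgroup.card_map_of_injective (MulAut.conj (g : Equiv.Perm GolayPt)).injective]))
  have hPn : Subgroup.normalizer ((P : Subgroup ↥Cfsg.M24) : Set ↥Cfsg.M24) = (P : Subgroup ↥Cfsg.M24) := by
    apply le_antisymm _ Subgroup.le_normalizer
    intro g hg
    rw [hP, Subgroup.mem_subgroupOf]
    apply hNW
    refine ⟨g.2, ?_⟩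
    have hle : (WL Cfsg.Agent.S5170.L).map (MulAut.conj (g : Equiv.Perm GolayPt)).toMonoidHom ≤ WL Cfsg.Agent.S5170.L := by
      rintro _ ⟨w, hw, rfl⟩
      have h1 : (⟨w, hWG hw⟩ : ↥Cfsg.M24) ∈ (P : Subgroup ↥Cfsg.M24) := by
        rw [hP, Subgroup.mem_subgroupOf]; exact hw
      have h2 := (Subgroup.mem_normalizer_iff.mp hg _).mp h1
      rw [hP, Subgroup.mem_subgroupOf] at h2
      exact h2
    refine Subgroup.mem_normalizer_iff_map_conj_eq.mpr ?_
    exact Subgroup.eq_of_le_of_card_ge hle (by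
      rw [Subgroup.card_map_of_injective (MulAut.conj (g : Equiv.Perm GolayPt)).injective])
  obtain ⟨g, hg⟩ := MulAction.exists_smul_eq ↥Cfsg.M24 P S
  have h1 := self_norm_iff hPn g
  have h2 : (S : Subgroup ↥Cfsg.M24) = (P : Subgroup ↥Cfsg.M24).map (MulAut.conj g).toMonoidHom := by
    rw [← hg]; rfl
  rw [h2]
  exact h1


end Cfsg.Agent.S2882
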