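import Cfsg.Statements.S2928
import Cfsg.Agent.Lib.H12SylA6

set_option autoImplicit false
open Cfsg

namespace Cfsg.Agent.S2928

open Cfsg.Agent.Lib.H12SylA

/-- Let n ≥ 8 and let H be a subgroup of the symmetric group of degree n whose generalized Fitting subgroup F*(H) is quasisimple. If H contains a Sylow 2-subgroup of the alternating group of degree n, then F*(H) is isomorphic to an alternating group of degree m for some m ∈ {n − 3, n − 2, n − 1, n}. -/
theorem result (n : ℕ) (hn : 8 ≤ n) (H : Subgroup (Equiv.Perm (Fin n))) (hF : Cfsg.IsQuasisimple ↥(Cfsg.generalizedFittingSubgroup ↥H)) (hS : ∃ P : Sylow 2 ↥(alternatingGroup (Fin n)), ((P : Subgroup ↥(alternatingGroup (Fin n))).map (alternatingGroup (Fin n)).subtype) ≤ H) : ∃ m : ℕ, (m = n - 3 ∨ m = n - 2 ∨ m = n - 1 ∨ m = n) ∧ Nonempty (↥(Cfsg.generalizedFittingSubgroup ↥H) ≃* ↥(alternatingGroup (Fin m))) := by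
  have hp : Fact (Nat.Prime 2) := ⟨Nat.prime_two⟩
  obtain ⟨P, hP⟩ := hS
  obtain ⟨Q, hQ, T⟩ := exists_blocks n P
  have hT : ∀ i v, ∃ t : H, Tr (Q i) v t := by
    intro i v
    obtain ⟨t, ht, htr⟩ := T i v
    have htH : (t : Equiv.Perm (Fin n)) ∈ H := hP ⟨t, ht, rfl⟩
    exact ⟨⟨t, htH⟩, ⟨fun u => htr.on u, fun x hx => htr.off x hx⟩⟩
  have h64 : 64 ∣ Nat.card H := by
    have h1 : 2 ^ 6 ∣ Nat.card (alternatingGroup (Fin n)) := by
      have hnt : Nontrivial (Fin n) := Fin.nontrivial_iff_two_le.2 (by omega)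
      have h2 := two_mul_nat_card_alternatingGroup (α := Fin n)
      have h3 : 2 ^ 7 ∣ Nat.card (Equiv.Perm (Fin n)) := by
        rw [Nat.card_eq_fintype_card, Fintype.card_perm, Fintype.card_fin]
        exact Dvd.dvd.trans (by decide) (Nat.factorial_dvd_factorial hn)
      rw [← h2] at h3
      exact Nat.dvd_of_mul_dvd_mul_left (k := 2) (by norm_num) (by rw [show (2 : ℕ) * 2 ^ 6 = 2 ^ 7 by norm_num]; exact h3)
    have h2 := P.pow_dvd_card_of_pow_dvd_card h1
    have h3 : Nat.card (P : Subgroup (alternatingGroup (Fin n))) ∣ Nat.card H := by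
      have h4 : Nat.card ((P : Subgroup (alternatingGroup (Fin n))).map (alternatingGroup (Fin n)).subtype) =
          Nat.card (P : Subgroup (alternatingGroup (Fin n))) :=
        Subgroup.card_map_of_injective (alternatingGroup (Fin n)).subtype_injective
      rw [← h4]
      exact Subgroup.card_dvd_of_le hP
    exact (by norm_num : (64 : ℕ) = 2 ^ 6) ▸ h2.trans h3
  have hLn : (Cfsg.generalizedFittingSubgroup ↥H).Normal := inferInstance
  exact orbit_case hF Cfsg.Agent.Lib.Layer.centralizer_genFitting_le hn hQ hT h64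

end Cfsg.Agent.S2928
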