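import Cfsg.Statements.S2933
import Cfsg.Agent.Lib.InvU3c
import Cfsg.Agent.Lib.InvU3e
import Cfsg.Agent.Lib.InvU3h
import Cfsg.Agent.Lib.InvU3i
import Cfsg.Agent.Lib.ThInv5

set_option autoImplicit false
open Cfsg

namespace Cfsg.Agent.S2933

theorem count_sq (r m : ℕ) : Nat.card {x : Fin r → Multiplicative (ZMod (2 ^ (m + 1))) // x ^ 2 = 1} = 2 ^ r := by
  have e : {x : Fin r → Multiplicative (ZMod (2 ^ (m + 1))) // x ^ 2 = 1} ≃
      (Fin r → (powMonoidHom 2 : Multiplicative (ZMod (2 ^ (m + 1))) →* _).ker) :=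
    { toFun := fun x i => ⟨x.1 i, congrFun x.2 i⟩
      invFun := fun y => ⟨fun i => (y i).1, funext fun i => (y i).2⟩
      left_inv := fun x => rfl
      right_inv := fun y => rfl }
  rw [Nat.card_congr e, Nat.card_pi, Finset.prod_const, Finset.card_univ, Fintype.card_fin,
    IsCyclic.card_powMonoidHom_ker]
  congr 1
  have h1 : Nat.card (Multiplicative (ZMod (2 ^ (m + 1)))) = 2 ^ (m + 1) := Nat.card_zmod _
  rw [h1, pow_succ]
  exact Nat.gcd_eq_right (Dvd.intro_left _ rfl)

/-- Let T be a 2-subgroup of a finite group G, V ≤ Z(T) a four-group, and t, ρ ∈ N_G(V) ∩ N_G(T) elements of order 2 and 3 with t commuting with ρ and with V. If [V, ρ] = V and C_T(t) = V, then T is elementary abelian of order 16, or homocyclic of rank 2 (ℤ/2ⁿ × ℤ/2ⁿ for some n ≥ 1), or isomorphic to a Sylow 2-subgroup of PSL₃(4) or of PSU₃(4). -/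
theorem result {G : Type*} [Group G] [Finite G] (T V : Subgroup G) (hT : IsPGroup 2 ↥T) (hVT : V ≤ T ⊓ Subgroup.centralizer (T : Set G)) (hV : Nat.card ↥V = 4 ∧ ∀ v ∈ V, v ^ 2 = 1) (t ρ : G) (ht : orderOf t = 2) (hρ : orderOf ρ = 3) (htn : t ∈ Subgroup.normalizer (V : Set G) ⊓ Subgroup.normalizer (T : Set G)) (hρn : ρ ∈ Subgroup.normalizer (V : Set G) ⊓ Subgroup.normalizer (T : Set G)) (htρ : t * ρ = ρ * t) (htV : t ∈ Subgroup.centralizer (V : Set G)) (hVρ : ⁅V, Subgroup.zpowers ρ⁆ = V) (hCt : T ⊓ Subgroup.centralizer ({t} : Set G) = V) : (Nat.card ↥T = 16 ∧ ∀ x ∈ T, x ^ 2 = 1) ∨ (∃ n : ℕ, 1 ≤ n ∧ Nonempty (↥T ≃* Multiplicative (ZMod (2 ^ n)) × Multiplicative (ZMod (2 ^ n)))) ∨ (∃ (F : Type) (_ : Field F) (_ : Fintype F), Fintype.card F = 4 ∧ ∀ P : Sylow 2 (Matrix.ProjectiveSpecialLinearGroup (Fin 3) F), Nonempty (↥T ≃* ↥(P : Subgroup (Matrix.ProjectiveSpecialLinearGroup (Fin 3) F)))) ∨ (∃ (F : Type) (_ : Field F) (_ : Fintype F), Fintype.card F = 16 ∧ ∀ P : Sylow 2 (Cfsg.PSU 3 F 4), Nonempty (↥T ≃*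 ↥(P : Subgroup (Cfsg.PSU 3 F 4)))) := by
  haveI : Fact (Nat.Prime 2) := ⟨Nat.prime_two⟩
  have htT : t ∈ Subgroup.normalizer (T : Set G) := htn.2
  have hρT : ρ ∈ Subgroup.normalizer (T : Set G) := hρn.2
  let α : MulAut T := T.normalizerMonoidHom ⟨t, htT⟩
  let σ : MulAut T := T.normalizerMonoidHom ⟨ρ, hρT⟩
  have hα : ∀ x : T, ((α x : T) : G) = t * x * t⁻¹ := fun x => rfl
  have hσ : ∀ x : T, ((σ x : T) : G) = ρ * x * ρ⁻¹ := fun x => rfl
  have ht2 : t * t = 1 := by rw [← sq, ← ht]; exact pow_orderOf_eq_one t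
  have htinv : t⁻¹ = t := inv_eq_of_mul_eq_one_left ht2
  have hρ3 : ρ * ρ * ρ = 1 := by
    have h1 := pow_orderOf_eq_one ρ
    rw [hρ, pow_succ, pow_two] at h1
    exact h1
  have haa : ∀ x, α (α x) = x := by
    intro x
    apply Subtype.ext
    rw [hα, hα, htinv]
    calc t * (t * x * t) * t = (t * t) * x * (t * t) := by group
      _ = x := by rw [ht2]; group
  have hσ3 : ∀ x, σ (σ (σ x)) = x := by
    intro x
    apply Subtype.ext
    rw [hσ, hσ, hσ]
    calc ρ * (ρ * (ρ * x * ρ⁻¹) * ρ⁻¹) * ρ⁻¹ = (ρ * ρ * ρ) * x * (ρ * ρ * ρ)⁻¹ := by group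
      _ = x := by rw [hρ3]; group
  have har : ∀ x, α (σ x) = σ (α x) := by
    intro x
    apply Subtype.ext
    rw [hα, hσ, hσ, hα]
    calc t * (ρ * x * ρ⁻¹) * t⁻¹ = (t * ρ) * x * (t * ρ)⁻¹ := by group
      _ = (ρ * t) * x * (ρ * t)⁻¹ := by rw [htρ]
      _ = ρ * (t * x * t⁻¹) * ρ⁻¹ := by group
  have hVT' : V ≤ T := hVT.trans inf_le_left
  let C : Subgroup T := V.subgroupOf T
  have hCmem : ∀ x : T, x ∈ C ↔ (x : G) ∈ V := fun x => Subgroup.mem_subgroupOf
  have hC : ∀ x : T, x ∈ C ↔ α x = x := by
    intro x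
    rw [hCmem, ← hCt, Subgroup.mem_inf, Subgroup.mem_centralizer_singleton_iff]
    constructor
    · rintro ⟨-, h⟩
      apply Subtype.ext
      rw [hα, ← h]; group
    · intro h
      refine ⟨x.2, ?_⟩
      have h1 : t * (x : G) * t⁻¹ = x := by rw [← hα, h]
      calc (x : G) * t = (t * (x : G) * t⁻¹) * t := by rw [h1]
        _ = t * x := by group
  have hVcomm : ∀ x ∈ C, ∀ y : T, x * y = y * x := by
    intro x hx y
    have h1 := (hVT ((hCmem x).1 hx)).2
    exact Subtype.ext ((Subgroup.mem_centralizer_iff.1 h1 y y.2).symm)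
  have hsq : ∀ x ∈ C, x * x = 1 := by
    intro x hx
    apply Subtype.ext
    have := hV.2 x ((hCmem x).1 hx)
    rw [sq] at this
    exact this
  have hCcard : Nat.card C = 4 := by
    rw [← hV.1]
    exact Nat.card_congr (Subgroup.subgroupOfEquivOfLe hVT').toEquiv
  have hne : C ≠ ⊥ := by
    intro h
    rw [h, Subgroup.card_bot] at hCcard
    omega
  have hσC : ∀ x ∈ C, σ x ∈ C := by
    intro x hx
    rw [hC, har, (hC x).1 hx]
  -- no non-trivial fixed points of `σ` on `C`
  have hfix : ∀ x ∈ C, σ x = x → x = 1 := by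
    by_contra hcon
    push Not at hcon
    obtain ⟨x, hx, hσx, hx1⟩ := hcon
    have hxV := (hCmem x).1 hx
    -- all commutators lie in ⟨x⟩
    have hx2 : (x : G) * x = 1 := congrArg Subtype.val (hsq x hx)
    have key : ∀ v ∈ V, ρ * v * ρ⁻¹ = v ∨ ρ * v * ρ⁻¹ = x * v := by
      intro v hv
      by_contra hcon
      push Not at hcon
      obtain ⟨hc1, hc2⟩ := hcon
      have hvx : v ≠ (x : G) := by
        rintro rfl
        apply hc1
        have := congrArg Subtype.val hσx
        rw [hσ] at this
        exact this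
      have hv1 : v ≠ 1 := by
        rintro rfl
        apply hc1; group
      have hx1' : (x : G) ≠ 1 := fun h => hx1 (Subtype.ext h)
      have hρv : ρ * v * ρ⁻¹ ∈ V := by
        have := (hCmem _).1 (hσC ⟨v, hVT' hv⟩ ((hCmem _).2 hv))
        rw [hσ] at this
        exact this
      have hρv1 : ρ * v * ρ⁻¹ ≠ 1 := by
        intro h
        apply hv1
        have : v = ρ⁻¹ * (ρ * v * ρ⁻¹) * ρ := by group
        rw [this, h]; group
      have hρvx : ρ * v * ρ⁻¹ ≠ x := by
        intro h
        apply hvx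
        have h1 : v = ρ⁻¹ * (ρ * v * ρ⁻¹) * ρ := by group
        have h2 : ρ * (x : G) * ρ⁻¹ = x := by
          have := congrArg Subtype.val hσx
          rw [hσ] at this
          exact this
        rw [h1, h]
        nth_rewrite 1 [← h2]
        group
      have hxv : (x : G) * v ∈ V := mul_mem hxV hv
      have hxv1 : (x : G) * v ≠ 1 := by
        intro h
        apply hvx
        calc v = (x * x) * v := by rw [hx2, one_mul]
          _ = x * (x * v) := by group
          _ = x := by rw [h, mul_one]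
      have hxvx : (x : G) * v ≠ x := by
        intro h
        exact hv1 (mul_eq_left.mp h)
      have hxvv : (x : G) * v ≠ v := by
        intro h
        exact hx1' (mul_eq_right.mp h)
      classical
      have hsub : (({1, (x : G), v, x * v, ρ * v * ρ⁻¹} : Finset G) : Set G) ⊆ (V : Set G) := by
        intro y hy
        simp only [Finset.coe_insert, Finset.coe_singleton, Set.mem_insert_iff, Set.mem_singleton_iff] at hy
        rcases hy with rfl | rfl | rfl | rfl | rfl
        · exact one_mem V
        · exact hxV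
        · exact hv
        · exact hxv
        · exact hρv
      have h5 : Set.ncard (({1, (x : G), v, x * v, ρ * v * ρ⁻¹} : Finset G) : Set G) = 5 := by
        rw [Set.ncard_coe_finset, Finset.card_insert_of_notMem, Finset.card_insert_of_notMem,
          Finset.card_insert_of_notMem, Finset.card_insert_of_notMem, Finset.card_singleton]
        · simp only [Finset.mem_singleton]
          exact fun h => hc2 h.symm
        · simp only [Finset.mem_insert, Finset.mem_singleton, not_or]
          exact ⟨fun h => hxvv h.symm, fun h => hc1 h.symm⟩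
        · simp only [Finset.mem_insert, Finset.mem_singleton, not_or]
          exact ⟨fun h => hvx h.symm, fun h => hxvx h.symm, fun h => hρvx h.symm⟩
        · simp only [Finset.mem_insert, Finset.mem_singleton, not_or]
          exact ⟨fun h => hx1' h.symm, fun h => hv1 h.symm, fun h => hxv1 h.symm, fun h => hρv1 h.symm⟩
      have h6 := Set.ncard_le_ncard hsub (Set.toFinite _)
      have h7 : Set.ncard (V : Set G) = 4 := by rw [← hV.1]; exact (Nat.card_coe_set_eq _).symm
      omega
    -- every ρ^i acts by `v ↦ v` or `v ↦ x v`, so the commutators are in ⟨x⟩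
    have hρx : ρ * (x : G) * ρ⁻¹ = x := by
      have := congrArg Subtype.val hσx
      rw [hσ] at this
      exact this
    have key3 : ∀ v ∈ V, ρ * v * ρ⁻¹ = v := by
      intro v hv
      rcases key v hv with h | h
      · exact h
      · -- then ρ³ acts as v ↦ x v
        exfalso
        have h3 : ρ * (ρ * (ρ * v * ρ⁻¹) * ρ⁻¹) * ρ⁻¹ = v := by
          calc ρ * (ρ * (ρ * v * ρ⁻¹) * ρ⁻¹) * ρ⁻¹ = (ρ * ρ * ρ) * v * (ρ * ρ * ρ)⁻¹ := by group
            _ = v := by rw [hρ3]; group
        have h4 : ρ * (x * v) * ρ⁻¹ = v := by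
          calc ρ * (x * v) * ρ⁻¹ = (ρ * x * ρ⁻¹) * (ρ * v * ρ⁻¹) := by group
            _ = x * (x * v) := by rw [hρx, h]
            _ = (x * x) * v := by group
            _ = v := by rw [hx2, one_mul]
        rw [h, h4, h] at h3
        exact hx1 (Subtype.ext (mul_eq_right.mp h3))
    have hbot : ⁅V, Subgroup.zpowers ρ⁆ = ⊥ := by
      rw [Subgroup.commutator_eq_bot_iff_le_centralizer]
      intro v hv
      rw [Subgroup.mem_centralizer_iff]
      intro y hy
      obtain ⟨k, rfl⟩ := hy
      have h1 : Commute ρ v := by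
        show ρ * v = v * ρ
        calc ρ * v = (ρ * v * ρ⁻¹) * ρ := by group
          _ = v * ρ := by rw [key3 v hv]
      exact (h1.zpow_left k).eq
    rw [hbot] at hVρ
    rw [← hVρ, Subgroup.card_bot] at hV
    have := hV.1
    omega
  have htr : ∀ x y, x ∈ C → y ∈ C → x ≠ 1 → y ≠ 1 → ∃ k : ℕ, (σ : T → T)^[k] x = y := by
    intro x y hx hy hx1 hy1
    by_contra hcon
    push Not at hcon
    have c0 : x ≠ y := hcon 0
    have c1 : σ x ≠ y := hcon 1
    have c2 : σ (σ x) ≠ y := hcon 2
    have n1 : σ x ≠ 1 := fun h => hx1 (by rw [← map_one σ] at h; exact σ.injective h)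
    have n2 : σ (σ x) ≠ 1 := fun h => n1 (by rw [← map_one σ] at h; exact σ.injective h)
    have d1 : σ x ≠ x := fun h => hx1 (hfix x hx h)
    have d2 : σ (σ x) ≠ σ x := fun h => n1 (hfix _ (hσC x hx) h)
    have d3 : σ (σ x) ≠ x := by
      intro h
      have h1 := congrArg σ h
      rw [hσ3] at h1
      exact d1 h1.symm
    classical
    have hsub : (({1, x, σ x, σ (σ x), y} : Finset T) : Set T) ⊆ (C : Set T) := by
      intro z hz
      simp only [Finset.coe_insert, Finset.coe_singleton, Set.mem_insert_iff, Set.mem_singleton_iff] at hz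
      rcases hz with rfl | rfl | rfl | rfl | rfl
      · exact one_mem C
      · exact hx
      · exact hσC _ hx
      · exact hσC _ (hσC _ hx)
      · exact hy
    have h5 : Set.ncard (({1, x, σ x, σ (σ x), y} : Finset T) : Set T) = 5 := by
      rw [Set.ncard_coe_finset, Finset.card_insert_of_notMem, Finset.card_insert_of_notMem,
        Finset.card_insert_of_notMem, Finset.card_insert_of_notMem, Finset.card_singleton]
      · simp only [Finset.mem_singleton]
        exact c2
      · simp only [Finset.mem_insert, Finset.mem_singleton, not_or]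
        exact ⟨fun h => d2 h.symm, c1⟩
      · simp only [Finset.mem_insert, Finset.mem_singleton, not_or]
        exact ⟨fun h => d1 h.symm, fun h => d3 h.symm, c0⟩
      · simp only [Finset.mem_insert, Finset.mem_singleton, not_or]
        exact ⟨fun h => hx1 h.symm, fun h => n1 h.symm, fun h => n2 h.symm, fun h => hy1 h.symm⟩
    have h6 := Set.ncard_le_ncard hsub (Set.toFinite _)
    have h7 : Set.ncard (C : Set T) = 4 := by rw [← hCcard]; exact (Nat.card_coe_set_eq _).symm
    omega
  obtain ⟨K, hK, hK2, hKf, lam, ι, hKC, hD⟩ := Lib.InvU3.exists_D hT α σ haa har C hC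
    (fun x hx y _ => hVcomm x hx y) hsq hne htr
  have hKn : Nat.card K = 2 ^ 2 := by rw [hKC, hCcard]; norm_num
  rcases Lib.InvU3.main (by rw [hKn]; norm_num) _ T α σ ι rfl hD with hab | hna
  · rcases Lib.InvU3.abelian_cases hD hab with ⟨h1, h2⟩ | ⟨h1, -⟩
    · left
      refine ⟨by rw [h2, hKn]; norm_num, fun x hx => ?_⟩
      have := congrArg Subtype.val (h1 ⟨x, hx⟩)
      rw [sq]; exact this
    · right; left
      let _ : CommGroup T := { (inferInstance : Group T) with mul_comm := hab }
      obtain ⟨m, r, ⟨e⟩⟩ := Lib.ThInv5.homocyclic_of_transitive (A := T) hT (by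
        intro x y hx hx2 hy hy2
        obtain ⟨k, hk⟩ := htr x y ((hC x).2 (h1 x (by rw [← sq]; exact hx2)))
          ((hC y).2 (h1 y (by rw [← sq]; exact hy2))) hx hy
        refine ⟨σ ^ k, ?_⟩
        rw [← hk]
        clear hk
        induction k with
        | zero => rfl
        | succ k ih => rw [pow_succ', MulAut.mul_apply, Function.iterate_succ_apply', ih])
      have hcount : Nat.card {x : T // x ^ 2 = 1} = 4 := by
        rw [← hCcard]
        refine Nat.card_congr (Equiv.subtypeEquivRight fun x => ?_)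
        constructor
        · intro hx
          exact (hC x).2 (h1 x (by rw [← sq]; exact hx))
        · intro hx
          rw [sq]; exact hsq x hx
      have hcount2 : Nat.card {x : Fin r → Multiplicative (ZMod (2 ^ m)) // x ^ 2 = 1} = 4 := by
        rw [← hcount]
        refine (Nat.card_congr (e.toEquiv.subtypeEquiv fun x => ?_)).symm
        show x ^ 2 = 1 ↔ (e x) ^ 2 = 1
        rw [← map_pow, map_eq_one_iff e e.injective]
      rcases m with _ | m
      · exfalso
        have : Subsingleton (Fin r → Multiplicative (ZMod (2 ^ 0))) := by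
          have h3 : Subsingleton (Multiplicative (ZMod (2 ^ 0))) := by
            rw [pow_zero]
            exact inferInstanceAs (Subsingleton (ZMod 1))
          infer_instance
        have h4 : Nat.card {x : Fin r → Multiplicative (ZMod (2 ^ 0)) // x ^ 2 = 1} ≤ 1 := by
          exact Finite.card_le_one_iff_subsingleton.2 inferInstance
        omega
      · rw [count_sq] at hcount2
        have hr : r = 2 := by
          have : (4 : ℕ) = 2 ^ 2 := by norm_num
          rw [this] at hcount2
          exact Nat.pow_right_injective le_rfl hcount2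
        subst hr
        refine ⟨m + 1, by omega, ⟨e.trans ?_⟩⟩
        exact { (finTwoArrowEquiv _) with
                map_mul' := fun x y => rfl }
  · right; right
    rcases Lib.InvU3.ident hD hna (by
      intro x
      rw [hKn]
      exact hσ3 x) hKn with ⟨F, i1, i2, hF, hS⟩ | ⟨F, i1, i2, hF, hS⟩
    · right
      exact ⟨F, i1, i2, hF, hS⟩
    · left
      exact ⟨F, i1, i2, hF, hS⟩

end Cfsg.Agent.S2933
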