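import Cfsg.Statements.S2934
import Cfsg.Agent.Lib.NonCycFix3
import Cfsg.Agent.Lib.ActSemi
import Cfsg.Agent.Lib.HBBasic

set_option autoImplicit false
open Cfsg

namespace Cfsg.Agent.S2934

open scoped commutatorElement
open Subgroup Cfsg.Agent.Lib Cfsg.Agent.Lib.NonCycFix Cfsg.Agent.Lib.ActSemi

/-- a criterion for extraspecial groups -/
theorem isExtraspecial_of {E : Type*} [Group E] [Finite E] {p : ℕ} [hp : Fact p.Prime] (hE : IsPGroup p E)
    (hcard : Nat.card (center E) = p)
    (hcomm : ∀ x y : E, ⁅x, y⁆ ∈ center E) (hpow : ∀ x : E, x ^ p ∈ center E) (hne : center E ≠ ⊤) :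
    IsExtraspecial p E := by
  have hle : commutator E ≤ center E := by
    rw [_root_.commutator_def, commutator_le]
    intro a _ b _
    exact hcomm a b
  have hneb : commutator E ≠ ⊥ := by
    intro h
    apply hne
    rw [eq_top_iff]
    intro x _
    rw [mem_center_iff]
    intro y
    have h1 : ⁅y, x⁆ ∈ commutator E := by
      rw [_root_.commutator_def]
      exact commutator_mem_commutator (mem_top _) (mem_top _)
    rw [h, mem_bot, commutatorElement_eq_one_iff_commute] at h1
    exact h1.eq
  have heq : commutator E = center E := by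
    apply Subgroup.eq_of_le_of_card_ge hle
    rw [hcard]
    obtain ⟨k, hk⟩ := IsPGroup.iff_card.mp (hE.to_subgroup (commutator E))
    rw [hk]
    have hk0 : k ≠ 0 := by
      rintro rfl
      rw [pow_zero, Subgroup.card_eq_one] at hk
      exact hneb hk
    calc p = p ^ 1 := (pow_one p).symm
      _ ≤ p ^ k := Nat.pow_le_pow_right hp.out.pos (by omega)
  refine ⟨⟨hE, ?_, heq⟩, hcard⟩
  apply le_antisymm
  · exact HBBasic.frattini_le_of_pow_mem (p := p) (center E) (fun x => hpow x) hle
  · rw [← heq]
    exact HBBasic.commutator_le_frattini hE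

/-- Let p be an odd prime, W a finite 2-group and E a non-cyclic abelian p-subgroup of Aut(W) such that, for every nontrivial e ∈ E, the fixed points of e in W contain at most one involution. Then E has order 9, W is extraspecial of order 2⁵, 2⁷ or 2⁹, and the common fixed points of E in W form exactly the centre Z(W). -/
theorem result {W : Type*} [Group W] [Finite W] (hW : IsPGroup 2 W) {p : ℕ} [Fact p.Prime] (hp : p ≠ 2) (E : Subgroup (MulAut W)) (hE : IsPGroup p ↥E) (hab : IsMulCommutative ↥E) (hnc : ¬ IsCyclic ↥E) (hfix : ∀ e ∈ E, e ≠ 1 → ∀ x y : W, orderOf x = 2 → orderOf y = 2 → e x = x → e y = y → x = y) : Nat.card ↥E = 9 ∧ Cfsg.IsExtraspecial 2 W ∧ (Nat.card W = 2 ^ 5 ∨ Nat.card W = 2 ^ 7 ∨ Nat.card W = 2 ^ 9) ∧ {x : W | ∀ e ∈ E, e x = x} = (Subgroup.center W : Set W) := by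
  classical
  haveI : Finite (MulAut W) := by
    apply Finite.of_injective (fun e : MulAut W => (e : W → W))
    intro a b hab
    exact MulEquiv.ext fun x => congrFun hab x
  let φ : E →* MulAut W := E.subtype
  let i : W →* W ⋊[φ] E := SemidirectProduct.inl
  let j : E →* W ⋊[φ] E := SemidirectProduct.inr
  have hi : Function.Injective i := SemidirectProduct.inl_injective
  have hj : Function.Injective j := SemidirectProduct.inr_injective
  haveI : Finite (W ⋊[φ] E) := Finite.of_equiv _ SemidirectProduct.equivProd.symm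
  have hconj : ∀ (a : E) (x : W), j a * i x * (j a)⁻¹ = i ((a : MulAut W) x) := fun a x => conj_inl φ a x
  have hcomm : ∀ (a : E) (x : W), j a * i x = i x * j a ↔ (a : MulAut W) x = x := by
    intro a x
    rw [← mul_inv_eq_iff_eq_mul, hconj]
    exact ⟨fun h => hi h, fun h => by rw [h]⟩
  have hinv : ∀ x : W, i x ≠ 1 → i x * i x = 1 → orderOf x = 2 := by
    intro x h1 h2
    apply orderOf_eq_prime
    · rw [← map_mul, ← pow_two] at h2
      exact hi (h2.trans (map_one i).symm)
    · rintro rfl; exact h1 (map_one i)
  have S : Setup p (KG φ) (KA φ) :=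
    { hp2 := hp
      hW := hW.of_surjective i.rangeRestrict i.rangeRestrict_surjective
      hE := hE.of_surjective j.rangeRestrict j.rangeRestrict_surjective
      hab := by
        refine isMulCommutative_iff_of_setLike.mpr ?_
        rintro _ ⟨a, rfl⟩ _ ⟨b, rfl⟩
        have h := isMulCommutative_iff_of_setLike.mp hab a a.2 b b.2
        have h' : a * b = b * a := Subtype.ext h
        show j a * j b = j b * j a
        rw [← map_mul, h', map_mul]
      hnc := by
        intro h
        apply hnc
        haveI : IsCyclic j.range := h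
        exact isCyclic_of_injective j.rangeRestrict fun a b hab => hj (congrArg Subtype.val hab)
      hEW := by
        haveI := KG_normal φ
        exact le_normalizer_of_normal
      faith := by
        rintro _ ⟨a, rfl⟩ h
        have h1 : a = 1 := by
          apply Subtype.ext
          apply MulEquiv.ext
          intro x
          exact (hcomm a x).1 (h (i x) ⟨x, rfl⟩)
        show j a = 1
        rw [h1, map_one]
      hfix := by
        rintro _ ⟨a, rfl⟩ ha1 _ ⟨x, rfl⟩ _ ⟨y, rfl⟩ hx1 hxx hy1 hyy hax hay
        have ha1' : (a : MulAut W) ≠ 1 := by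
          intro h
          apply ha1
          have : a = 1 := Subtype.ext h
          show j a = 1
          rw [this, map_one]
        have := hfix a a.2 ha1' x y (hinv x hx1 hxx) (hinv y hy1 hyy) ((hcomm a x).1 hax) ((hcomm a y).1 hay)
        rw [this] }
  obtain ⟨_, X⟩ := S.exists_ex'
  obtain ⟨z, rfl⟩ := X.zU
  change Ex p (KG φ) (KA φ) (i z) at X
  have hz1 : z ≠ 1 := by rintro rfl; exact X.z1 (map_one i)
  have hmem : ∀ x : W, i x ∈ KG φ := fun x => ⟨x, rfl⟩
  have hone : ∀ x : W, (i x = 1 ∨ i x = i z) ↔ (x = 1 ∨ x = z) := by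
    intro x
    rw [hi.eq_iff, ← map_one i, hi.eq_iff]
  have hcen : ∀ x : W, x ∈ center W ↔ x = 1 ∨ x = z := by
    intro x
    rw [← hone]
    constructor
    · intro h
      apply X.cen (i x) (hmem x)
      rintro _ ⟨y, rfl⟩
      show i x * i y = i y * i x
      rw [← map_mul, ← mem_center_iff.1 h y, map_mul]
    · intro h
      rw [mem_center_iff]
      intro g
      apply hi
      rw [map_mul, map_mul]
      rcases h with h | h
      · rw [h, mul_one, one_mul]
      · rw [h]; exact (X.zc (i g) (hmem g)).symm
  have hcardc : Nat.card (center W) = 2 := by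
    have h1 : ((center W : Subgroup W) : Set W) = {1, z} := by
      ext x; rw [SetLike.mem_coe, hcen]; rfl
    have h2 : Nat.card ((center W : Subgroup W) : Set W) = 2 := by
      rw [h1, Nat.card_coe_set_eq, Set.ncard_pair (Ne.symm hz1)]
    exact h2
  have hcardW : Nat.card W = 2 ^ 5 ∨ Nat.card W = 2 ^ 7 ∨ Nat.card W = 2 ^ 9 := by
    have := X.card_U
    rwa [card_KG] at this
  refine ⟨?_, ?_, hcardW, ?_⟩
  · have := X.card_E
    rwa [card_KA] at this
  · apply isExtraspecial_of hW hcardc
    · intro x y
      rw [hcen, ← hone]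
      have h1 : i ⁅x, y⁆ = i x * i y * (i x)⁻¹ * (i y)⁻¹ := by
        rw [commutatorElement_def, map_mul, map_mul, map_mul, map_inv, map_inv]
      rw [h1]
      rcases X.cc (i x) (hmem x) (i y) (hmem y) with h | h
      · left; rw [h]; group
      · right; rw [h]; group
    · intro x
      rw [hcen, ← hone, map_pow, pow_two]
      exact X.sq (i x) (hmem x)
    · intro h
      rw [h, Nat.card_congr (Subgroup.topEquiv (G := W)).toEquiv] at hcardc
      rw [hcardc] at hcardW
      norm_num at hcardW
  · ext x
    rw [Set.mem_setOf_eq, SetLike.mem_coe, hcen]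
    constructor
    · intro h
      rw [← hone]
      apply X.fixE (i x) (hmem x)
      rintro _ ⟨a, rfl⟩
      exact (hcomm a x).2 (h a a.2)
    · rintro (rfl | rfl) e he
      · exact map_one e
      · exact (hcomm ⟨e, he⟩ x).1 (X.zE _ ⟨⟨e, he⟩, rfl⟩)

end Cfsg.Agent.S2934
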