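import Cfsg.Statements.S2968
import Cfsg.Agent.Lib.Isolated

set_option autoImplicit false
open Cfsg

namespace Cfsg.Agent.S2968

open Cfsg.Agent.Lib.Isolated

/-- Let G be a finite group, p a prime, P a Sylow p-subgroup of G and x ∈ P an element of p-power order which is isolated in G (the only conjugate of x commuting with x is x itself). Then x lies in the centre of P, and the subgroup generated by x is both strongly closed and weakly closed in P with respect to G. -/
theorem result {G : Type*} [Group G] [Finite G] {p : ℕ} [Fact p.Prime] (P : Sylow p G) (x : G) (hxP : x ∈ (P : Subgroup G)) (hx : ∃ k : ℕ, orderOf x = p ^ k) (hiso : Cfsg.IsIsolated x) : x ∈ (P : Subgroup G) ⊓ Subgroup.centralizer ((P : Subgroup G) : Set G) ∧ Cfsg.IsStronglyClosed (Subgroup.zpowers x) (P : Subgroup G) ∧ Cfsg.IsWeaklyClosed (Subgroup.zpowers x) (P : Subgroup G) := by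
  refine ⟨⟨hxP, ?_⟩, ⟨?_, ?_⟩, ⟨?_, ?_⟩⟩
  · show x ∈ Subgroup.centralizer _
    rw [Subgroup.mem_centralizer_iff]
    intro r hr
    exact (commute_of_mem_pgroup hiso P.isPGroup' hxP hr).symm
  · rw [Subgroup.zpowers_le]; exact hxP
  · intro y hy g hg
    rw [conj_pow_eq hiso hx P.isPGroup' hxP hy hg]
    exact hy
  · rw [Subgroup.zpowers_le]; exact hxP
  · intro g hg
    have h1 : g * x * g⁻¹ ∈ (P : Subgroup G) := by
      apply hg
      exact ⟨x, Subgroup.mem_zpowers x, by simp⟩
    have h2 := conj_pow_eq hiso hx P.isPGroup' hxP (Subgroup.mem_zpowers x) h1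
    rw [MonoidHom.map_zpowers]
    congr 1


end Cfsg.Agent.S2968
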