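import Cfsg.Statements.S2970
import Cfsg.Agent.Lib.Isolated
import Mathlib

set_option autoImplicit false
open Cfsg

namespace Cfsg.Agent.S2970

open Cfsg.Agent.Lib.Isolated

/-- An automorphism of a cyclic `p`-group, given by conjugation, that fixes a nontrivial element has `p`-power order. -/
theorem aux {G : Type*} [Group G] {p : ℕ} [Fact p.Prime] {c y x : G} {e : ℕ} (hc : orderOf c = p ^ e)
    (hy : y * c * y⁻¹ ∈ Subgroup.zpowers c) (hx : x ∈ Subgroup.zpowers c) (hx1 : x ≠ 1)
    (hyx : y * x * y⁻¹ = x) : y ^ (p ^ e) * c * (y ^ (p ^ e))⁻¹ = c := by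
  obtain ⟨k, hk⟩ := Subgroup.mem_zpowers_iff.mp hy
  obtain ⟨m, hm⟩ := Subgroup.mem_zpowers_iff.mp hx
  have hk' : y * c * y⁻¹ = c ^ k := hk.symm
  have hm' : x = c ^ m := hm.symm
  have hpk : (p : ℤ) ∣ k - 1 := by
    have h1 : c ^ (m * (k - 1)) = 1 := by
      have : (c ^ k) ^ m = c ^ m := by
        rw [← hk', conj_zpow, ← hm', hyx]
      rw [← zpow_mul] at this
      rw [mul_sub, zpow_sub, mul_comm m k, this]; simp
    have h2 : ((p ^ e : ℕ) : ℤ) ∣ m * (k - 1) := by
      rw [← hc]; exact orderOf_dvd_iff_zpow_eq_one.mpr h1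
    by_contra hcon
    have hcop : IsCoprime ((p ^ e : ℕ) : ℤ) (k - 1) := by
      rw [Nat.cast_pow]
      apply IsCoprime.pow_left
      exact (Nat.prime_iff_prime_int.mp Fact.out).irreducible.coprime_iff_not_dvd.mpr hcon
    have h3 : ((p ^ e : ℕ) : ℤ) ∣ m := hcop.dvd_of_dvd_mul_right h2
    apply hx1
    rw [hm']
    rw [← hc] at h3
    exact orderOf_dvd_iff_zpow_eq_one.mp h3
  have h4 : ∀ n : ℕ, y ^ n * c * (y ^ n)⁻¹ = c ^ (k ^ n) := by
    intro n
    induction n with
    | zero => simp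
    | succ n ih =>
      have : y ^ (n + 1) * c * (y ^ (n + 1))⁻¹ = y * (y ^ n * c * (y ^ n)⁻¹) * y⁻¹ := by
        rw [pow_succ']; group
      rw [this, ih, ← conj_zpow, hk', ← zpow_mul, pow_succ']
  rw [h4]
  have h5 : ((p : ℤ) ^ (e + 1)) ∣ k ^ p ^ e - 1 ^ p ^ e := dvd_sub_pow_of_dvd_sub hpk e
  rw [one_pow] at h5
  have h6 : ((p ^ e : ℕ) : ℤ) ∣ k ^ p ^ e - 1 := by
    rw [Nat.cast_pow]
    exact (pow_dvd_pow _ (Nat.le_succ e)).trans h5
  rw [← hc] at h6
  have h7 := orderOf_dvd_iff_zpow_eq_one.mp h6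
  rw [hc, zpow_sub, zpow_one] at h7
  exact mul_inv_eq_one.mp h7


/-- Let G be a finite group, p a prime and x ∈ G an element of p-power order which is isolated in G. Then the image of x in any quotient G ⧸ N is isolated in G ⧸ N; and if x ≠ 1 and the Sylow p-subgroups of G are cyclic, then G has a normal p-complement. -/
theorem result {G : Type*} [Group G] [Finite G] {p : ℕ} [Fact p.Prime] (x : G) (hx : ∃ k : ℕ, orderOf x = p ^ k) (hiso : Cfsg.IsIsolated x) : (∀ (N : Subgroup G) [N.Normal], Cfsg.IsIsolated (QuotientGroup.mk x : G ⧸ N)) ∧ (x ≠ 1 → (∀ P : Sylow p G, IsCyclic ↥(P : Subgroup G)) → Cfsg.HasNormalPComplement p G) := by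
  refine ⟨fun N _ => isIsolated_mk hiso hx N, ?_⟩
  intro hx1 hcyc
  -- choose a Sylow subgroup containing x
  have hpx : IsPGroup p ↥(Subgroup.zpowers x) := by
    obtain ⟨k, hk⟩ := hx
    exact IsPGroup.of_card (n := k) (by rw [Nat.card_zpowers, hk])
  obtain ⟨P, hP⟩ := hpx.exists_le_sylow
  have hxP : x ∈ (P : Subgroup G) := hP (Subgroup.mem_zpowers x)
  obtain ⟨⟨c, hcP⟩, hc⟩ := (hcyc P).exists_generator
  have hPz : ∀ y ∈ (P : Subgroup G), y ∈ Subgroup.zpowers c := by
    intro y hy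
    obtain ⟨n, hn⟩ := Subgroup.mem_zpowers_iff.mp (hc ⟨y, hy⟩)
    exact Subgroup.mem_zpowers_iff.mpr ⟨n, by simpa using congrArg Subtype.val hn⟩
  have hPz' : (P : Subgroup G) = Subgroup.zpowers c :=
    le_antisymm hPz (by rw [Subgroup.zpowers_le]; exact hcP)
  obtain ⟨e, he⟩ := IsPGroup.iff_card.mp P.isPGroup'
  have hce : orderOf c = p ^ e := by
    rw [← Nat.card_zpowers, ← hPz', he]
  have hNC : Subgroup.normalizer ((P : Subgroup G) : Set G) ≤ Subgroup.centralizer ((P : Subgroup G) : Set G) := by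
    -- the quotient N/C is a p-group and a p'-group
    have hPC : (P : Subgroup G) ≤ Subgroup.centralizer ((P : Subgroup G) : Set G) := by
      intro a ha
      rw [Subgroup.mem_centralizer_iff]
      intro b hb
      obtain ⟨i, rfl⟩ := Subgroup.mem_zpowers_iff.mp (hPz a ha)
      obtain ⟨j, rfl⟩ := Subgroup.mem_zpowers_iff.mp (hPz b hb)
      rw [← zpow_add, ← zpow_add, add_comm]
    set N := Subgroup.normalizer ((P : Subgroup G) : Set G)
    set C := Subgroup.centralizer ((P : Subgroup G) : Set G)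
    have hCn : (C.subgroupOf N).Normal := inferInstance
    have hpg : IsPGroup p (↥N ⧸ C.subgroupOf N) := by
      intro q
      induction q using QuotientGroup.induction_on with
      | H y =>
      refine ⟨e, ?_⟩
      rw [← QuotientGroup.mk_pow, QuotientGroup.eq_one_iff, Subgroup.mem_subgroupOf]
      have hyn := Subgroup.mem_normalizer_iff.mp y.2
      have h1 : (y : G) * c * (y : G)⁻¹ ∈ Subgroup.zpowers c := hPz _ ((hyn c).mp hcP)
      have h2 : (y : G) * x * (y : G)⁻¹ = x :=
        hiso y (commute_of_mem_pgroup hiso P.isPGroup' hxP ((hyn x).mp hxP))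
      have h3 := aux hce h1 (hPz x hxP) hx1 h2
      rw [Subgroup.mem_centralizer_iff]
      intro b hb
      obtain ⟨j, rfl⟩ := Subgroup.mem_zpowers_iff.mp (hPz b hb)
      have h4 : Commute ((y : G) ^ p ^ e) c := by
        have := congrArg (· * ((y : G) ^ p ^ e)) h3
        simpa [Commute, SemiconjBy] using this
      have h5 := (h4.zpow_right j).eq
      simpa using h5.symm
    obtain ⟨j, hj⟩ := IsPGroup.iff_card.mp hpg
    have hidx : C.relIndex N = p ^ j := by
      rw [← hj]; rfl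
    have hdvd : C.relIndex N ∣ (P : Subgroup G).relIndex N := Subgroup.relIndex_dvd_of_le_left N hPC
    have hdvd2 : (P : Subgroup G).relIndex N ∣ (P : Subgroup G).index := Subgroup.relIndex_dvd_index_of_le Subgroup.le_normalizer
    have hnd : ¬ p ∣ (P : Subgroup G).index := P.not_dvd_index
    have hj0 : j = 0 := by
      by_contra hj0
      apply hnd
      exact (dvd_pow_self p hj0).trans (hidx ▸ hdvd.trans hdvd2)
    rw [hj0, pow_zero] at hidx
    exact Subgroup.relIndex_eq_one.mp hidx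
  refine ⟨P, (MonoidHom.transferSylow P hNC).ker, inferInstance, ?_⟩
  exact MonoidHom.ker_transferSylow_isComplement' P hNC


end Cfsg.Agent.S2970
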