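import Cfsg.Statements.S2971
import Cfsg.Agent.S2970
import Cfsg.Agent.Lib.NormalRankTwo
import Mathlib

set_option autoImplicit false
open Cfsg

namespace Cfsg.Agent.S2971

/-- Let G be a finite group and p an odd prime such that G has p-rank at most 1 (no elementary abelian subgroup of order p²). If x ∈ G is an isolated element of order p, then x is central modulo the largest normal subgroup of G of order prime to p. -/
theorem result {G : Type*} [Group G] [Finite G] {p : ℕ} [Fact p.Prime] (hp : p ≠ 2) (hrk : Cfsg.PRankLE p 1 G) (x : G) (hx : orderOf x = p) (hiso : Cfsg.IsIsolated x) : Cfsg.InZStar p x := by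
  have hpp : p.Prime := Fact.out
  have hcyc : ∀ P : Sylow p G, IsCyclic ↥(P : Subgroup G) := by
    intro P
    by_contra hnc
    obtain ⟨z, hz, hzp, N, hN, hzN, hNc, hNe, -⟩ :=
      Cfsg.Agent.Lib.NormalRankTwo.exists_normal_rank_two hp _ ↥(P : Subgroup G) rfl P.isPGroup' hnc
    have hNcomm : IsMulCommutative N := IsPGroup.isMulCommutative_of_card_eq_prime_sq hNc
    have h1 := hrk (N.map (P : Subgroup G).subtype) ?_ ?_
    · rw [Subgroup.card_map_of_injective (P : Subgroup G).subtype_injective, hNc] at h1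
      have := (Nat.pow_le_pow_iff_right hpp.one_lt).mp h1
      omega
    · rw [isMulCommutative_iff_of_setLike]
      rintro _ ⟨a, ha, rfl⟩ _ ⟨b, hb, rfl⟩
      have := isMulCommutative_iff_of_setLike.mp hNcomm a ha b hb
      rw [← map_mul, this, map_mul]
    · rintro _ ⟨a, ha, rfl⟩
      rw [← map_pow, hNe a ha, map_one]
  have hx1 : x ≠ 1 := by
    rintro rfl
    rw [orderOf_one] at hx
    exact hpp.one_lt.ne hx
  obtain ⟨P, K, hK, hKP⟩ := (S2970.result x ⟨1, by rw [hx, pow_one]⟩ hiso).2 hx1 hcyc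
  have hKc : (Nat.card K).Coprime p := by
    have h1 : (P : Subgroup G).index = Nat.card K := hKP.index_eq_card
    rw [← h1, Nat.coprime_comm]
    exact (Nat.Prime.coprime_iff_not_dvd hpp).mpr P.not_dvd_index
  have hle : K ≤ pPrimeCore p G := le_sSup ⟨hK, hKc⟩
  intro g
  apply hle
  have hcP := hcyc P
  have htop := hKP.sup_eq_top
  have hmem : ∀ y : G, ∃ a ∈ (P : Subgroup G), (QuotientGroup.mk y : G ⧸ K) = QuotientGroup.mk a := by
    intro y
    have hy : y ∈ K ⊔ (P : Subgroup G) := by rw [htop]; trivial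
    obtain ⟨k, hk, a, ha, rfl⟩ := Subgroup.mem_sup_of_normal_left.mp hy
    refine ⟨a, ha, ?_⟩
    rw [QuotientGroup.mk_mul, (QuotientGroup.eq_one_iff k).mpr hk, one_mul]
  rw [← QuotientGroup.eq_one_iff]
  obtain ⟨a, ha, ea⟩ := hmem g
  obtain ⟨b, hb, eb⟩ := hmem x
  rw [QuotientGroup.mk_mul, QuotientGroup.mk_mul, QuotientGroup.mk_mul, QuotientGroup.mk_inv, QuotientGroup.mk_inv, ea, eb]
  have hab : a * b = b * a := by
    have hcc : IsMulCommutative ↥(P : Subgroup G) := inferInstance
    exact isMulCommutative_iff_of_setLike.mp hcc a ha b hb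
  rw [← QuotientGroup.mk_mul, hab, QuotientGroup.mk_mul]
  group

end Cfsg.Agent.S2971
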