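import Cfsg.Statements.S2972
import Mathlib
import Cfsg.Agent.Lib.ZStarMin

set_option autoImplicit false
open Cfsg

namespace Cfsg.Agent.S2972

open Subgroup

/-- Let G be a finite group, p a prime and x ∈ G an isolated element of order p (the only conjugate of x commuting with x is x) which is not central modulo the largest normal subgroup of order prime to p, while x is central modulo the largest normal subgroup of order prime to p in every proper subgroup containing x, and the image of x is so in every quotient of G by a nontrivial normal subgroup (a minimal counterexample to the Z*_p statement). Then the derived subgroup G' is a non-abelian simple group and G = G'⟨x⟩. -/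
theorem result {G : Type*} [Group G] [Finite G] {p : ℕ} [Fact p.Prime] (x : G) (hx : orderOf x = p) (hiso : Cfsg.IsIsolated x) (hnz : ¬ Cfsg.InZStar p x) (hmin : ∀ (H : Subgroup G) (hxH : x ∈ H), H ≠ ⊤ → Cfsg.InZStar p (⟨x, hxH⟩ : ↥H)) (hquot : ∀ (N : Subgroup G) [N.Normal], N ≠ ⊥ → Cfsg.InZStar p (QuotientGroup.mk x : G ⧸ N)) : IsSimpleGroup ↥(commutator G) ∧ ¬ IsMulCommutative ↥(commutator G) ∧ commutator G ⊔ Subgroup.zpowers x = ⊤ := by
  have hp : p.Prime := Fact.out
  have hcore := Lib.ZStarMin.core_eq_bot hnz hquot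
  have hxZ := Lib.ZStarMin.not_mem_center hnz
  have htop : ∀ M : Subgroup G, M.Normal → x ∈ M → M = ⊤ := fun M hM hxM =>
    Lib.ZStarMin.eq_top_of_normal hiso hnz hmin hquot hxM
  have hG' : commutator G ≠ ⊥ := by
    intro h
    apply hxZ
    rw [mem_center_iff]
    intro g
    have h1 : g * x * g⁻¹ * x⁻¹ ∈ commutator G := commutator_mem_commutator (mem_top g) (mem_top x)
    rw [h, mem_bot] at h1
    exact commutatorElement_eq_one_iff_mul_comm.mp h1
  obtain ⟨N, hNn, hN1, hNle, hNmin⟩ := Lib.Cores.exists_minNormal_le inferInstance hG'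
  have hNx := Lib.ZStarMin.sup_zpowers_eq_top hx hiso hnz hmin hquot hN1 hNmin
  have hG'N : commutator G ≤ N := by
    rw [← Subgroup.Normal.quotient_commutative_iff_commutator_le]
    refine ⟨⟨fun a b => ?_⟩⟩
    obtain ⟨a, rfl⟩ := QuotientGroup.mk_surjective a
    obtain ⟨b, rfl⟩ := QuotientGroup.mk_surjective b
    obtain ⟨n, hn, _, ⟨k, rfl⟩, rfl⟩ := mem_sup_of_normal_left.mp (hNx ▸ mem_top a : a ∈ N ⊔ zpowers x)
    obtain ⟨m, hm, _, ⟨l, rfl⟩, rfl⟩ := mem_sup_of_normal_left.mp (hNx ▸ mem_top b : b ∈ N ⊔ zpowers x)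
    rw [QuotientGroup.mk_mul, QuotientGroup.mk_mul, (QuotientGroup.eq_one_iff n).mpr hn,
      (QuotientGroup.eq_one_iff m).mpr hm, one_mul, one_mul, ← QuotientGroup.mk_mul,
      ← QuotientGroup.mk_mul]
    exact congrArg _ (Commute.zpow_zpow_self x k l).eq
  have hNG : N = commutator G := le_antisymm hNle hG'N
  rw [← hNG]
  have hNnc : ¬ IsMulCommutative ↥N := by
    intro hab
    have hsol : Group.IsSolvable N := by
      let _ : CommGroup N := { (inferInstance : Group N) with mul_comm := hab.is_comm.comm }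
      infer_instance
    obtain ⟨r, hr, -, hNel⟩ := Lib.MinNormSolv.elementary_of_minimal hN1 hNmin
    have : Fact r.Prime := ⟨hr⟩
    have hNr : IsPGroup r N := Lib.SubgroupTools.isPGroup_of_forall_pow_eq_one hNel
    by_cases hrp : r = p
    · subst hrp
      apply hxZ
      apply Lib.ZStarMin.mem_center_of_pgroup hiso (p := r)
      have h1 : IsPGroup r ↥(N ⊔ zpowers x) := by
        have h2 : IsPGroup r ↥(zpowers x) := by
          apply IsPGroup.of_card (n := 1)
          rw [Nat.card_zpowers, hx, pow_one]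
        exact hNr.to_sup_of_normal_left h2
      rw [hNx] at h1
      exact h1.of_equiv Subgroup.topEquiv
    · apply hN1
      rw [eq_bot_iff, ← hcore]
      apply Lib.Cores.le_pPrimeCore hNn
      obtain ⟨k, hk⟩ := IsPGroup.iff_card.mp hNr
      rw [hk]
      exact Nat.Coprime.pow_left k ((Nat.coprime_primes hr hp).mpr hrp)
  refine ⟨?_, hNnc, hNx⟩
  have hnt : Nontrivial N := (Subgroup.nontrivial_iff_ne_bot N).mpr hN1
  refine ⟨fun K hK => ?_⟩
  by_cases hK1 : K = ⊥
  · exact Or.inl hK1
  right
  obtain ⟨S, hSn, hS1, hSK, hSmin⟩ := Lib.Cores.exists_minNormal_le hK hK1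
  suffices hStop : S = ⊤ by
    rw [eq_top_iff, ← hStop]; exact hSK
  -- `p` divides `|S|`
  have hpS : p ∣ Nat.card S := by
    by_contra hnd
    apply hS1
    have h1 : S ≤ Cfsg.pPrimeCore p N := Lib.Cores.le_pPrimeCore hSn
      (((Nat.Prime.coprime_iff_not_dvd hp).mpr hnd).symm)
    have h2 : Cfsg.pPrimeCore p N = ⊥ := by
      have := Lib.Cores.map_pPrimeCore_subtype_le p N
      rw [hcore, le_bot_iff] at this
      exact (Subgroup.map_eq_bot_iff_of_injective _ N.subtype_injective).mp this
    rw [h2] at h1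
    exact le_bot_iff.mp h1
  set T : Subgroup G := S.map N.subtype with hT
  have hTN : T ≤ N := map_subtype_le S
  have hT1 : T ≠ ⊥ := fun h => hS1 ((Subgroup.map_eq_bot_iff_of_injective _ N.subtype_injective).mp h)
  have hTn : ∀ n ∈ N, ∀ t ∈ T, n * t * n⁻¹ ∈ T := by
    rintro n hn _ ⟨t, ht, rfl⟩
    exact ⟨⟨n, hn⟩ * t * ⟨n, hn⟩⁻¹, hSn.conj_mem t ht _, rfl⟩
  have hNT : N ≤ normalizer (T : Set G) := fun n hn => mem_normalizer_fintype (hTn n hn)
  by_cases hxT : ∀ t ∈ T, x * t * x⁻¹ ∈ T
  · have hxn : x ∈ normalizer (T : Set G) := mem_normalizer_fintype hxT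
    have hTnor : T.Normal := by
      rw [← normalizer_eq_top_iff, eq_top_iff, ← hNx]
      exact sup_le hNT (zpowers_le.mpr hxn)
    rcases hNmin T hTnor hTN with h | h
    · exact absurd h hT1
    · rw [eq_top_iff]
      intro y _
      have : (y : G) ∈ T := by rw [h]; exact y.2
      obtain ⟨z, hz, e⟩ := this
      have : z = y := Subtype.ext e
      exact this ▸ hz
  · exfalso
    -- `T ∩ xTx⁻¹ = 1`
    have hTx : T ⊓ T.map (MulAut.conj x).toMonoidHom = ⊥ := by
      set T' := T.map (MulAut.conj x).toMonoidHom with hT'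
      have hT'n : ∀ n ∈ N, ∀ t ∈ T', n * t * n⁻¹ ∈ T' := by
        rintro n hn _ ⟨t, ht, rfl⟩
        refine ⟨(x⁻¹ * n * x) * t * (x⁻¹ * n * x)⁻¹, hTn _ ?_ t ht, ?_⟩
        · have := hNn.conj_mem n hn x⁻¹
          rwa [inv_inv] at this
        · simp only [MulEquiv.coe_toMonoidHom, MulAut.conj_apply]
          group
      have h1 : ((T ⊓ T').subgroupOf N).Normal := by
        refine ⟨fun a ha n => ?_⟩
        have ha' := mem_subgroupOf.mp ha
        exact mem_subgroupOf.mpr ⟨hTn n n.2 a ha'.1, hT'n n n.2 a ha'.2⟩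
      have h2 : (T ⊓ T').subgroupOf N ≤ S := by
        intro a ha
        obtain ⟨z, hz, e⟩ := (mem_subgroupOf.mp ha).1
        have : z = a := Subtype.ext e
        exact this ▸ hz
      rcases hSmin _ h1 h2 with h | h
      · rw [subgroupOf_eq_bot] at h
        rw [eq_bot_iff]
        intro a ha
        exact h.le_bot ⟨ha, hTN ha.1⟩
      · exfalso
        apply hxT
        have h3 : T ≤ T' := by
          rintro _ ⟨s, hs, rfl⟩
          rw [← h] at hs
          exact (mem_subgroupOf.mp hs).2
        have h4 : T = T' := by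
          apply Subgroup.eq_of_le_of_card_ge h3
          rw [hT', Subgroup.card_map_of_injective (MulAut.conj x).injective]
        intro t ht
        rw [h4, hT']
        exact ⟨t, ht, rfl⟩
    -- a Sylow subgroup containing `x`
    have hpx : IsPGroup p ↥(zpowers x) := by
      apply IsPGroup.of_card (n := 1)
      rw [Nat.card_zpowers, hx, pow_one]
    obtain ⟨P, hP⟩ := hpx.exists_le_sylow
    have hxP : x ∈ (P : Subgroup G) := hP (mem_zpowers x)
    have h5 : Lib.LocBase.IsSyl p ((P : Subgroup G) ⊓ N) N :=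
      (Lib.LocBase.isSyl_top P).inf_normal le_top (by rw [normalizer_eq_top])
    have h6 : Lib.LocBase.IsSyl p ((P : Subgroup G) ⊓ N ⊓ T) T := h5.inf_normal hTN hNT
    have h7 : (P : Subgroup G) ⊓ N ⊓ T = ⊥ := by
      rw [eq_bot_iff]
      rintro t ⟨⟨ht1, -⟩, ht3⟩
      rw [← hTx]
      refine ⟨ht3, t, ht3, ?_⟩
      have h8 := (Lib.Isolated.commute_of_mem_pgroup hiso P.isPGroup' hxP ht1).eq
      simp only [MulEquiv.coe_toMonoidHom, MulAut.conj_apply]
      rw [h8, mul_inv_cancel_right]
    apply h6.ndvd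
    rw [h7, relIndex_bot_left, hT, Subgroup.card_map_of_injective N.subtype_injective]
    exact hpS

end Cfsg.Agent.S2972
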