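import Cfsg.Statements.S2975
import Mathlib
import Cfsg.Agent.Lib.ZStarMin
import Cfsg.Agent.Lib.GroupUtil

set_option autoImplicit false
open Cfsg

namespace Cfsg.Agent.S2975

open Subgroup

/-- Let G be a finite group, p a prime and x ∈ G an isolated element of order p (the only conjugate of x commuting with x is x) which is not central modulo the largest normal subgroup of order prime to p, while x is central modulo the largest normal subgroup of order prime to p in every proper subgroup containing x, and the image of x is so in every quotient of G by a nontrivial normal subgroup (a minimal counterexample to the Z*_p statement). Then for every prime q, every q-subgroup of G that is normalized by x and maximal among the q-subgroups normalized by x is either trivial or a Sylow q-subgroup of G; and C_G(x) permutes the x-invariant Sylow q-subgroups of G transitively by conjugation. -/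
theorem result {G : Type*} [Group G] [Finite G] {p : ℕ} [Fact p.Prime] (x : G) (hx : orderOf x = p) (hiso : Cfsg.IsIsolated x) (hnz : ¬ Cfsg.InZStar p x) (hmin : ∀ (H : Subgroup G) (hxH : x ∈ H), H ≠ ⊤ → Cfsg.InZStar p (⟨x, hxH⟩ : ↥H)) (hquot : ∀ (N : Subgroup G) [N.Normal], N ≠ ⊥ → Cfsg.InZStar p (QuotientGroup.mk x : G ⧸ N)) (q : ℕ) [Fact q.Prime] : (∀ Q : Subgroup G, IsPGroup q ↥Q → x ∈ Subgroup.normalizer (Q : Set G) → (∀ R : Subgroup G, IsPGroup q ↥R → x ∈ Subgroup.normalizer (R : Set G) → Q ≤ R → R = Q) → Q = ⊥ ∨ ∃ S : Sylow q G, (S : Subgroup G) = Q) ∧ (∀ S₁ S₂ : Sylow q G, x ∈ Subgroup.normalizer ((S₁ : Subgroup G) : Set G) → x ∈ Subgroup.normalizer ((S₂ : Subgroup G) : Set G) → ∃ c ∈ Subgroup.centralizer ({x} : Set G), (S₁ : Subgroup G).map (MulAut.conj c).toMonoidHom = (S₂ : Subgroup G)) := by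
  have hp : p.Prime := Fact.out
  have hq : q.Prime := Fact.out
  have hcore := Lib.ZStarMin.core_eq_bot hnz hquot
  have hxZ := Lib.ZStarMin.not_mem_center hnz
  have hx1 : x ≠ 1 := by
    rintro rfl
    exact hxZ (one_mem _)
  have hpx : IsPGroup p ↥(zpowers x) := by
    apply IsPGroup.of_card (n := 1)
    rw [Nat.card_zpowers, hx, pow_one]
  constructor
  · intro Q hQ hxQ hQmax
    by_cases hQ1 : Q = ⊥
    · exact Or.inl hQ1
    right
    by_cases hqp : q = p
    · subst hqp
      have h1 : IsPGroup q ↥(Q ⊔ zpowers x) := by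
        apply Lib.LocBase.isPGroup_sup hQ hpx
        exact zpowers_le.mpr hxQ
      obtain ⟨P, hP⟩ := h1.exists_le_sylow
      refine ⟨P, ?_⟩
      refine hQmax P P.isPGroup' ?_ (le_sup_left.trans hP)
      exact le_normalizer (hP (mem_sup_right (mem_zpowers x)))
    · set M := normalizer (Q : Set G) with hM
      have hMne : M ≠ ⊤ := by
        intro h
        have hQn : Q.Normal := normalizer_eq_top_iff.mp h
        apply hQ1
        rw [eq_bot_iff, ← hcore]
        apply Lib.Cores.le_pPrimeCore hQn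
        obtain ⟨k, hk⟩ := IsPGroup.iff_card.mp hQ
        rw [hk]
        exact Nat.Coprime.pow_left k ((Nat.coprime_primes hq hp).mpr hqp)
      have hQM : Q ≤ M := le_normalizer
      have hZ := hmin M hxQ hMne
      obtain ⟨R, hR, hQR⟩ := Lib.LocBase.exists_isSyl_ge hQ hQM
      -- `K R` is normalised by `x`
      set K := (Cfsg.pPrimeCore p M).map M.subtype with hK
      have hKM : K ≤ M := map_subtype_le _
      have hKn : M ≤ normalizer (K : Set G) := by
        intro m hm
        apply mem_normalizer_fintype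
        rintro _ ⟨o, ho, rfl⟩
        exact ⟨⟨m, hm⟩ * o * ⟨m, hm⟩⁻¹, (Cfsg.pPrimeCore_normal p M).conj_mem o ho _, rfl⟩
      have hRK : R ≤ normalizer (K : Set G) := hR.le.trans hKn
      have hxc : ∀ m ∈ M, m * x * m⁻¹ * x⁻¹ ∈ K := fun m hm => ⟨_, hZ ⟨m, hm⟩, rfl⟩
      set L := R ⊔ K with hL
      have hxL : x ∈ normalizer (L : Set G) := by
        apply mem_normalizer_fintype
        intro l hl
        obtain ⟨r, hr, k, hk, rfl⟩ := (Lib.SubgroupTools.mem_sup_of_le_normalizer' hRK).mp
          (by rwa [hL, SetLike.mem_coe, sup_comm] at hl)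
        have h1 : x * k * x⁻¹ ∈ K := (mem_normalizer_iff.mp (hKn hxQ) k).mp hk
        have h2 : x * r * x⁻¹ ∈ L := by
          have h3 := hxc r⁻¹ (M.inv_mem (hR.le hr))
          have e : x * r * x⁻¹ = r * (r⁻¹ * x * r⁻¹⁻¹ * x⁻¹) := by group
          rw [e]
          exact L.mul_mem (le_sup_left (α := Subgroup G) hr) (le_sup_right (α := Subgroup G) h3)
        have e : x * (r * k) * x⁻¹ = (x * r * x⁻¹) * (x * k * x⁻¹) := by group
        rw [e]
        exact L.mul_mem h2 (le_sup_right (α := Subgroup G) h1)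
      have hLM : L ≤ M := sup_le hR.le hKM
      have hLcop : (Nat.card L).Coprime p := by
        have h1 := Lib.SubgroupTools.card_sup_mul_card_inf hRK
        have h2 : (Nat.card K * Nat.card R).Coprime p := by
          rw [mul_comm]
          apply Nat.Coprime.mul_left
          · obtain ⟨k, hk⟩ := IsPGroup.iff_card.mp hR.pgroup
            rw [hk]
            exact Nat.Coprime.pow_left k ((Nat.coprime_primes hq hp).mpr hqp)
          · rw [hK, Lib.Cores.card_map_subtype]
            exact Lib.Cores.coprime_card_pPrimeCore p M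
        rw [← h1, sup_comm] at h2
        exact Nat.Coprime.coprime_mul_right h2
      have hcopx : (Nat.card (zpowers x)).Coprime (Nat.card L) := by
        rw [Nat.card_zpowers, hx]
        exact hLcop.symm
      have hzs : Group.IsSolvable (zpowers x) := inferInstance
      obtain ⟨R₁, hR1L, hR1q, hR1i, hR1x⟩ := Lib.CoprimeAction.exists_invariant_sylow
        (A := zpowers x) (K := L) (zpowers_le.mpr hxL) hcopx (Or.inl hzs) q
      have hR1 : Lib.LocBase.IsSyl q R₁ L := ⟨hR1L, hR1q, hR1i⟩
      -- `Q ≤ R₁`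
      have hQR1 : Q ≤ R₁ := by
        have h1 : IsPGroup q ↥(Q ⊔ R₁) := Lib.LocBase.isPGroup_sup hQ hR1q (hR1L.trans hLM)
        have h2 := hR1.eq_of_le h1 (sup_le (hQR.trans (le_sup_left (α := Subgroup G))) hR1L) le_sup_right
        calc Q ≤ Q ⊔ R₁ := le_sup_left
          _ = R₁ := h2.symm
      have h3 : R₁ = Q := hQmax R₁ hR1q (hR1x (mem_zpowers x)) hQR1
      have hRL : Lib.LocBase.IsSyl q R L := hR.of_le (le_sup_left (α := Subgroup G)) hLM
      have h4 : Nat.card R = Nat.card Q := by
        rw [← h3]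
        exact le_antisymm (hR1.card_le hRL.pgroup hRL.le) (hRL.card_le hR1.pgroup hR1.le)
      have h5 : Q = R := Subgroup.eq_of_le_of_card_ge hQR h4.le
      -- `Q` is Sylow in its normalizer
      obtain ⟨S, hS⟩ := hQ.exists_le_sylow
      refine ⟨S, ?_⟩
      by_contra hne
      have hlt : Q < S := lt_of_le_of_ne hS (Ne.symm hne)
      have h6 := Lib.GroupUtil.lt_inf_normalizer_of_isPGroup S.isPGroup' hlt
      have h7 : IsPGroup q ↥((S : Subgroup G) ⊓ normalizer (Q : Set G)) :=
        S.isPGroup'.to_le inf_le_left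
      have h8 := hR.card_le h7 inf_le_right
      rw [h4] at h8
      exact h6.ne (Subgroup.eq_of_le_of_card_ge h6.le h8)
  · intro S₁ S₂ h1 h2
    obtain ⟨g, hg⟩ := MulAction.exists_smul_eq G S₁ S₂
    have hg' : (S₁ : Subgroup G).map (MulAut.conj g).toMonoidHom = (S₂ : Subgroup G) := by
      rw [← hg]; rfl
    set N := normalizer ((S₁ : Subgroup G) : Set G) with hN
    have hgx : g⁻¹ * x * g ∈ N := by
      apply mem_normalizer_fintype
      intro s hs
      have h3 : g * s * g⁻¹ ∈ (S₂ : Subgroup G) := by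
        rw [← hg']; exact ⟨s, hs, rfl⟩
      have h4 : x * (g * s * g⁻¹) * x⁻¹ ∈ (S₂ : Subgroup G) := (mem_normalizer_iff.mp h2 _).mp h3
      rw [← hg'] at h4
      obtain ⟨t, ht, e⟩ := h4
      simp only [MulEquiv.coe_toMonoidHom, MulAut.conj_apply] at e
      have e2 : g⁻¹ * x * g * s * (g⁻¹ * x * g)⁻¹ = t := by
        calc g⁻¹ * x * g * s * (g⁻¹ * x * g)⁻¹ = g⁻¹ * (x * (g * s * g⁻¹) * x⁻¹) * g := by group
          _ = g⁻¹ * (g * t * g⁻¹) * g := by rw [e]
          _ = t := by group
      rw [e2]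
      exact ht
    -- common Sylow `p`-subgroup in `N`
    obtain ⟨T, hT, hxT⟩ := Lib.LocBase.exists_isSyl_ge hpx (zpowers_le.mpr h1)
    have hpgx : IsPGroup p ↥(zpowers (g⁻¹ * x * g)) := by
      apply IsPGroup.of_card (n := 1)
      rw [Nat.card_zpowers, pow_one, ← hx]
      have : g⁻¹ * x * g = MulAut.conj g⁻¹ x := by simp
      rw [this]
      exact (MulAut.conj g⁻¹).orderOf_eq x
    obtain ⟨m, hm, hle⟩ := hT.exists_conj_le hpgx (zpowers_le.mpr hgx)
    have h5 : (m * g⁻¹) * x * (m * g⁻¹)⁻¹ ∈ T := by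
      apply hle
      refine ⟨g⁻¹ * x * g, mem_zpowers _, ?_⟩
      simp only [MulEquiv.coe_toMonoidHom, MulAut.conj_apply]
      group
    have h6 := Lib.Isolated.conj_pow_eq hiso ⟨1, by rw [hx, pow_one]⟩ hT.pgroup
      (hxT (mem_zpowers x)) (mem_zpowers x) h5
    refine ⟨g * m⁻¹, ?_, ?_⟩
    · rw [mem_centralizer_singleton_iff]
      calc g * m⁻¹ * x = (m * g⁻¹)⁻¹ * x := by group
        _ = (m * g⁻¹)⁻¹ * ((m * g⁻¹) * x * (m * g⁻¹)⁻¹) := by rw [h6]
        _ = _ := by group
    · rw [← hg']
      have h7 : (S₁ : Subgroup G).map (MulAut.conj m⁻¹).toMonoidHom = (S₁ : Subgroup G) :=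
        Lib.LocBase.map_conj_eq_of_mem (N.inv_mem hm)
      conv_rhs => rw [← h7]
      rw [Subgroup.map_map]
      congr 1
      ext y
      simp only [MulEquiv.coe_toMonoidHom, MonoidHom.comp_apply, MulAut.conj_apply]
      group

end Cfsg.Agent.S2975
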