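import Cfsg.Statements.S2989
import Cfsg.Agent.Lib.QmCL4

set_option autoImplicit false
open Cfsg

namespace Cfsg.Agent.S2989

open Cfsg.Agent.Lib.QmCore Cfsg.Agent.Lib.ChermakDelgado

/-- Let G be a finite group and S a Sylow p-subgroup of G in the basic pushing-up situation (G ≠ 1, C_G(O_p(G)) ≤ O_p(G), S lies in a unique maximal subgroup of G, and some quotient of G is isomorphic to PSL₂ over a field of order a power of p), and suppose that S centralizes Z(J(S)), where J(S) is generated by the abelian subgroups of S of largest order (that is, J̃(S) = C_S(Z(J(S))) = S). Call a subgroup R of S centrally large if |R|·|Z(R)| is as large as possible among subgroups of S, and let S_Φ be the subgroup generated by the Frattini subgroups Φ(Q) of those minimal centrally large subgroups Q of S whose Ω₁(Z(Q)) has the largest order among minimal centrally large subgroups. Then Z(S) or S_Φ is normal in G; and if S_Φ = 1, the minimal centrally large subgroups of S are exactly the abelian subgroups of S of largest order, and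 at least one of them is elementary abelian. -/
theorem result {G : Type*} [Group G] [Finite G] {p : ℕ} [Fact p.Prime] (S : Subgroup G) (hE : Cfsg.IsPushingUpSituation p S) (hJ : S ≤ Subgroup.centralizer (Cfsg.centerThompsonAOf S : Set G)) : ((S ⊓ Subgroup.centralizer (S : Set G)).Normal ∨ ((Cfsg.frattiniOfMinimalCLJoin p ↥S).map S.subtype).Normal) ∧ (Cfsg.frattiniOfMinimalCLJoin p ↥S = ⊥ → (∀ Q : Subgroup ↥S, Cfsg.IsMinimalCentrallyLarge Q ↔ Q ∈ Cfsg.maxAbelianSubgroups ↥S) ∧ ∃ A ∈ Cfsg.maxAbelianSubgroups ↥S, Cfsg.IsElementaryAbelian p A) := by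
  have hp : p.Prime := Fact.out
  constructor
  · obtain ⟨P, hP, h1 | ⟨q, f⟩⟩ := cl_main hE hJ (Z₀ := (S ⊓ Subgroup.centralizer (S : Set G))) le_rfl
    · exact Or.inl h1
    · right
      subst hP
      exact f.sphi_normal
  · intro h
    have hSp : IsPGroup p S := by
      obtain ⟨-, ⟨P, rfl⟩, -⟩ := hE
      exact P.2
    obtain ⟨⟨Q, hQ, hc⟩, -⟩ := mz_spec (p := p) ↥S
    have hQp : IsPGroup p ↥Q := hSp.to_subgroup _
    have h1 : fr Q ≤ Cfsg.frattiniOfMinimalCLJoin p ↥S :=
      le_iSup (fun Q : {Q : Subgroup ↥S // Cfsg.IsMinimalCentrallyLarge Q ∧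
        Nat.card ↥(Cfsg.omegaOneCenter p Q) = Cfsg.maxOmegaCenterOfMinimalCL p ↥S} =>
        (frattini ↥(Q : Subgroup ↥S)).map (Q : Subgroup ↥S).subtype) ⟨Q, hQ, hc⟩
    rw [h, le_bot_iff] at h1
    have hab : Q ≤ Subgroup.centralizer (Q : Set ↥S) := by
      intro x hx
      rw [Subgroup.mem_centralizer_iff_commutator_eq_one]
      intro y hy
      have h2 := comm_mem_fr hQp hy hx
      rwa [h1, Subgroup.mem_bot] at h2
    have hab' : IsMulCommutative Q := Cfsg.Agent.Lib.ChermakDelgado.isMulCommutative_iff.2 hab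
    have h3 := mcl_abelian_iff hQ hab'
    refine ⟨h3, Q, (h3 Q).1 hQ, hab', fun x hx => ?_⟩
    have h2 := pow_mem_fr hQp hx
    rwa [h1, Subgroup.mem_bot] at h2

end Cfsg.Agent.S2989
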