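import Cfsg.Statements.S2990
import Cfsg.Agent.Lib.QmCL3

set_option autoImplicit false
open Cfsg

namespace Cfsg.Agent.S2990

open Cfsg.Agent.Lib.QmCore Cfsg.Agent.Lib.ChermakDelgado

/-- Let G be a finite group and S a Sylow p-subgroup of G in the basic pushing-up situation (G ≠ 1, C_G(O_p(G)) ≤ O_p(G), S lies in a unique maximal subgroup of G, and some quotient of G is isomorphic to PSL₂ over a field of order a power of p), and suppose that S centralizes Z(J(S)), where J(S) is generated by the abelian subgroups of S of largest order (that is, J̃(S) = C_S(Z(J(S))) = S). Call a subgroup R of S centrally large if |R|·|Z(R)| is as large as possible among subgroups of S, let Q be a minimal centrally large subgroup of S and let S_MCL be the subgroup generated by all minimal centrally large subgroups of S. Then the derived subgroup [Q, Q] is characteristic in S; Z(S) ∩ [Q, Q] or S_MCL is normal in G; and if [Q, Q] = 1, the minimal centrally large subgroups of S are exactly the abelian subgroups of S of largest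 order. -/
theorem result {G : Type*} [Group G] [Finite G] {p : ℕ} [Fact p.Prime] (S : Subgroup G) (hE : Cfsg.IsPushingUpSituation p S) (hJ : S ≤ Subgroup.centralizer (Cfsg.centerThompsonAOf S : Set G)) (Q : Subgroup ↥S) (hQ : Cfsg.IsMinimalCentrallyLarge Q) : (⁅Q, Q⁆).Characteristic ∧ (((S ⊓ Subgroup.centralizer (S : Set G)) ⊓ (⁅Q, Q⁆).map S.subtype).Normal ∨ ((Cfsg.minimalCentrallyLargeJoin ↥S).map S.subtype).Normal) ∧ (⁅Q, Q⁆ = ⊥ → ∀ R : Subgroup ↥S, Cfsg.IsMinimalCentrallyLarge R ↔ R ∈ Cfsg.maxAbelianSubgroups ↥S) := by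
  have hp : p.Prime := Fact.out
  refine ⟨mcl_comm_char hQ, ?_, fun h R => mcl_abelian_iff hQ ?_ R⟩
  · set R := Q.map S.subtype with hR
    have hRm : MCLin S R := (mclin_iff S Q).1 hQ
    have hD : (⁅Q, Q⁆).map S.subtype = ⁅R, R⁆ := Subgroup.map_commutator _ _ _
    rw [hD]
    obtain ⟨P, hP, h1 | ⟨q, f⟩⟩ := cl_main hE hJ (Z₀ := (S ⊓ Subgroup.centralizer (S : Set G)) ⊓ ⁅R, R⁆) inf_le_left
    · exact Or.inl h1
    · right
      subst hP
      have hn : (⁅R, R⁆ : Subgroup G).Normal := f.comm_normal hRm
      have hV : Cfsg.omegaOne p (Subgroup.normalClosure ((((P : Subgroup G) ⊓ Subgroup.centralizer ((P : Subgroup G) : Set G)) ⊓ ⁅R, R⁆ : Subgroup G) : Set G)) ≤ ⁅R, R⁆ :=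
        (Cfsg.Agent.Lib.ThompsonJ.omegaOne_le _).trans (Subgroup.normalClosure_le_normal (SetLike.coe_subset_coe.2 inf_le_right))
      exact FFV.join_normal (f.mcl_join hRm hV)
  · rw [Cfsg.Agent.Lib.ChermakDelgado.isMulCommutative_iff, ← Subgroup.commutator_eq_bot_iff_le_centralizer]; exact h

end Cfsg.Agent.S2990
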