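import Cfsg.Statements.S2999
import Cfsg.Agent.Lib.QmConj2
import Mathlib

set_option autoImplicit false
open Cfsg

namespace Cfsg.Agent.S2999

open Cfsg.Agent.Lib.QmCore

open scoped commutatorElement

/-- Let p be a prime and let P and V be subgroups of a finite group with V elementary abelian, P normalizing V and acting faithfully on it (P ∩ C(V) = 1). Suppose P is p-minimal (a Sylow p-subgroup T of P is not normal and lies in a unique maximal subgroup M of P) and A ≤ T is an elementary abelian subgroup such that: |V/C_V(A)| ≤ |A| while |A₀|·|C_V(A₀)| < |A|·|C_V(A)| for every nontrivial proper subgroup A₀ of A; [C_V(T), P] ≠ 1; and P = ⟨A, xAx⁻¹⟩ for every x ∈ P outside M. Then, with q = |A|, there is a field F with q elements such that P ≅ SL₂(F), C_V(A) = [V, A]·C_V(P), and P acts on V/C_V(P) as SL₂(F) on its natural two-dimensional module. -/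
theorem result {G : Type*} [Group G] [Finite G] {p : ℕ} [Fact p.Prime] (V P : Subgroup G) (hV : Cfsg.IsElementaryAbelian p V) (hPV : P ≤ Subgroup.normalizer (V : Set G)) (hfaith : P ⊓ Subgroup.centralizer (V : Set G) = ⊥) (hmin : Cfsg.IsPMinimal p ↥P) (T : Sylow p ↥P) (M : Subgroup ↥P) (hM : IsCoatom M) (hTM : (T : Subgroup ↥P) ≤ M) (A : Subgroup G) (hAT : A ≤ ((T : Subgroup ↥P).map P.subtype)) (hAel : Cfsg.IsElementaryAbelian p A) (hi : Nat.card ↥V ≤ Nat.card ↥A * Nat.card ↥(V ⊓ Subgroup.centralizer ((A : Subgroup G) : Set G)) ∧ ∀ A₀ : Subgroup G, A₀ ≤ A → A₀ ≠ ⊥ → A₀ ≠ A → Nat.card ↥A₀ * Nat.card ↥(V ⊓ Subgroup.centralizer ((A₀ : Subgroup G) : Set G)) < Nat.card ↥A * Nat.card ↥(V ⊓ Subgroup.centralizer ((A : Subgroup G) : Set G))) (hii : ⁅(V ⊓ Subgroup.centralizer ((((T : Subgroup ↥P).map P.subtype) : Subgroup G) : Set G)), P⁆ ≠ ⊥) (hiii : ∀ x : ↥P, x ∉ M → A ⊔ A.map (MulAut.conj (x : G)).toMonoidHom = P) : ∃ (F : Type) (_ : Field F) (_ : Fintype F),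 Fintype.card F = Nat.card ↥A ∧ Nonempty (↥P ≃* Matrix.SpecialLinearGroup (Fin 2) F) ∧ (V ⊓ Subgroup.centralizer ((A : Subgroup G) : Set G)) = ⁅V, A⁆ ⊔ (V ⊓ Subgroup.centralizer ((P : Subgroup G) : Set G)) ∧ Cfsg.ActsAsSL2OnSection F ⊤ P V (V ⊓ Subgroup.centralizer ((P : Subgroup G) : Set G)) := by
  classical
  have hp : p.Prime := Fact.out
  have hVc : ∀ x ∈ V, ∀ y ∈ V, x * y = y * x := fun x hx y hy =>
    congrArg Subtype.val (hV.1.is_comm.comm (⟨x, hx⟩ : ↥V) ⟨y, hy⟩)
  have hφ : ∀ g : ↥P, P.subtype g ∈ Subgroup.normalizer (V : Set G) := fun g => hPV g.2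
  set X := AM V hVc P.subtype hφ with hXdef
  have hAP : A ≤ P := by
    intro a ha
    obtain ⟨b, -, rfl⟩ := hAT ha
    exact b.2
  set A' : Subgroup ↥P := A.subgroupOf P with hA'
  have hmapA : A'.map P.subtype = A := Subgroup.map_subgroupOf_eq_of_le hAP
  have hcardA : Nat.card A' = Nat.card A := Nat.card_congr (Subgroup.subgroupOfEquivOfLe hAP).toEquiv
  have hA'T : A' ≤ (T : Subgroup ↥P) := by
    intro a ha
    obtain ⟨b, hb, hab⟩ := hAT (show (a : G) ∈ A from ha)
    rwa [← Subtype.ext hab]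
  have hcardmap : ∀ B : Subgroup ↥P, Nat.card (B.map P.subtype) = Nat.card B := fun B =>
    (Nat.card_congr (B.equivMapOfInjective P.subtype P.subtype_injective).toEquiv).symm
  have hXt : ∀ x : X, p • x = 0 := fun x => AM.v_inj (by rw [AM.v_nsmul]; exact hV.2 _ x.v_mem)
  have hf : ∀ g : ↥P, (∀ x : X, g • x = x) → g = 1 := by
    intro g hg
    have h1 : (g : G) ∈ P ⊓ Subgroup.centralizer (V : Set G) := by
      refine ⟨g.2, Subgroup.mem_centralizer_iff.2 fun v hv => ?_⟩
      exact ((AM.smul_eq_iff g (AM.mk v hv)).1 (hg (AM.mk v hv))).symm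
    rw [hfaith, Subgroup.mem_bot] at h1
    exact Subtype.ext h1
  have hab : ∀ a ∈ A', ∀ b ∈ A', a * b = b * a := fun a ha b hb =>
    Subtype.ext (congrArg (Subtype.val : ↥A → G) (hAel.1.is_comm.comm (⟨(a : G), ha⟩ : ↥A) ⟨(b : G), hb⟩))
  have hcardX : Nat.card X = Nat.card V := AM.card V hVc P.subtype hφ
  have hoff : Nat.card X ≤ Nat.card A' * Nat.card (fx A' : AddSubgroup X) := by
    rw [hcardX, hcardA, AM.card_fx, hmapA]; exact hi.1
  have hAm : ∀ B ≤ A', B ≠ ⊥ → B ≠ A' →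
      Nat.card B * Nat.card (fx B : AddSubgroup X) < Nat.card A' * Nat.card (fx A' : AddSubgroup X) := by
    intro B hB hB1 hB2
    rw [AM.card_fx, AM.card_fx, hmapA, hcardA, ← hcardmap B]
    apply hi.2
    · rw [← hmapA]; exact Subgroup.map_mono hB
    · intro h
      rw [Subgroup.map_eq_bot_iff_of_injective _ P.subtype_injective] at h
      exact hB1 h
    · intro h
      apply hB2
      apply Subgroup.map_injective P.subtype_injective
      rw [h, hmapA]
  have hii' : ∃ v ∈ (fx (T : Subgroup ↥P) : AddSubgroup X), ∃ g : ↥P, g • v ≠ v := by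
    by_contra hcon
    push Not at hcon
    apply hii
    rw [eq_bot_iff, Subgroup.commutator_le]
    rintro v ⟨hv, hv'⟩ g hg
    have h1 : (AM.mk v hv : X) ∈ (fx (T : Subgroup ↥P) : AddSubgroup X) := (AM.mem_fx _).2 hv'
    have h2 := (AM.smul_eq_iff _ _).1 (hcon _ h1 ⟨g, hg⟩)
    have h3 : g * v = v * g := h2
    rw [Subgroup.mem_bot, commutatorElement_def, ← h3]; group
  have gen : ∀ g, g ∉ M → A' ⊔ cj g A' = ⊤ := by
    intro g hg
    apply Subgroup.map_injective P.subtype_injective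
    have h1 : (cj g A').map P.subtype = A.map (MulAut.conj (g : G)).toMonoidHom := by
      rw [cj, Subgroup.map_map, ← hmapA, Subgroup.map_map]
      rfl
    rw [Subgroup.map_sup, hmapA, ← MonoidHom.range_eq_map, Subgroup.range_subtype, h1]
    exact hiii g hg
  -- nontrivial A
  have hAne : A' ≠ ⊥ := by
    intro h
    have hMne : ∃ g, g ∉ M := by
      by_contra hcon
      push Not at hcon
      exact hM.1 (eq_top_iff.2 fun g _ => hcon g)
    obtain ⟨g, hg⟩ := hMne
    have h1 := gen g hg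
    rw [h, cj, Subgroup.map_bot, sup_idem] at h1
    apply hg
    have : g ∈ (⊥ : Subgroup ↥P) := by rw [h1]; trivial
    rw [Subgroup.mem_bot] at this
    rw [this]; exact one_mem M
  obtain ⟨n, hn⟩ := (IsPGroup.iff_card (p := p)).1 (T.2.to_le hA'T)
  have hn0 : n ≠ 0 := by
    rintro rfl
    apply hAne
    rw [pow_zero] at hn
    exact Subgroup.eq_bot_of_card_eq A' hn
  haveI : Fintype (GaloisField p n) := Fintype.ofFinite _
  have hF : Fintype.card (GaloisField p n) = Nat.card A' := by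
    rw [← Nat.card_eq_fintype_card, GaloisField.card p n hn0, hn]
  obtain ⟨N, hinj, hfx, -, -⟩ := ff_core hXt hf hmin T hM hTM hA'T hab hoff hAm hii' gen (GaloisField p n) hF
  have htop : (⊤ : Subgroup ↥P).map P.subtype = P := by
    rw [← MonoidHom.range_eq_map, Subgroup.range_subtype]
  have hsubtop : AM.sub (fx (⊤ : Subgroup ↥P) : AddSubgroup X) = V ⊓ Subgroup.centralizer ((P : Subgroup G) : Set G) := by
    rw [AM.sub_fx, htop]
  refine ⟨GaloisField p n, inferInstance, inferInstance, hF.trans hcardA, ⟨MulEquiv.ofBijective N.ρ ⟨hinj, N.surj⟩⟩, ?_,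
    acts_of_nat_quot N hsubtop⟩
  rw [← hsubtop]
  have h1 : AM.sub (fx A' : AddSubgroup X) = V ⊓ Subgroup.centralizer ((A : Subgroup G) : Set G) := by
    rw [AM.sub_fx, hmapA]
  have h2 : AM.sub (cm A' : AddSubgroup X) = ⁅V, A⁆ := by
    rw [AM.sub_cm, hmapA]
  rw [← h1, ← h2, ← AM.sub_sup, hfx]

end Cfsg.Agent.S2999
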