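import Cfsg.Statements.S3020
import Cfsg.Agent.Lib.ConjSylow
import Cfsg.Agent.Lib.PCoreTools

set_option autoImplicit false
open Cfsg

namespace Cfsg.Agent.S3020

open Cfsg.Agent.Lib.ConjSylow Cfsg.Agent.Lib.PCoreTools



/-- Let G be a finite group, p a prime and H an abelian p-subgroup of G that is extremely closed (for every g, the subgroup generated by H and g H g⁻¹ meets N_G(H) exactly in H). Then for every g ∈ G, the subgroup T generated by H and g H g⁻¹ is the product of H with O_{p'}(T), and H meets O_{p'}(T) trivially; that is, O_{p'}(T) is a normal p-complement of H in T. -/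
theorem result {G : Type*} [Group G] [Finite G] {p : ℕ} [Fact p.Prime] (H : Subgroup G) (hHp : IsPGroup p H) (hHab : IsMulCommutative H) (hcl : Cfsg.IsExtremelyClosed H) (g : G) (T : Subgroup G) (hT : T = H ⊔ H.map (MulAut.conj g).toMonoidHom) : H ⊔ (Cfsg.pPrimeCore p ↥T).map T.subtype = T ∧ H ⊓ (Cfsg.pPrimeCore p ↥T).map T.subtype = ⊥ := by
  have hpp : IsPGroup p H := hHp
  have hHT : H ≤ T := by rw [hT]; exact le_sup_left
  have hcl' : T ⊓ Subgroup.normalizer (H : Set G) = H := by rw [hT]; exact hcl g
  have hsyl : IsSylowIn p H T := by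
    apply isSylowIn_of_normalizer hHp hHT
    rw [hcl']
    exact ⟨le_rfl, hHp, by rw [Subgroup.relIndex_self]; exact (Fact.out : p.Prime).one_lt.not_ge ∘ Nat.le_of_dvd one_pos⟩
  set P := hsyl.toSylow with hP
  have hPc : (P : Subgroup T) = H.subgroupOf T := rfl
  have hNC : Subgroup.normalizer ((P : Subgroup T) : Set T) ≤ Subgroup.centralizer ((P : Subgroup T) : Set T) := by
    intro y hy
    have hyH : (y : G) ∈ H := by
      rw [← hcl']
      refine Subgroup.mem_inf.2 ⟨y.2, ?_⟩
      apply mem_normalizer_of_forall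
      intro h hh
      have := conj_mem_of_mem_normalizer hy (x := ⟨h, hHT hh⟩) (Subgroup.mem_subgroupOf.2 hh)
      exact Subgroup.mem_subgroupOf.1 this
    rw [Subgroup.mem_centralizer_iff]
    intro z hz
    have hzH : (z : G) ∈ H := Subgroup.mem_subgroupOf.1 hz
    apply Subtype.ext
    have := hHab
    exact setLike_mul_comm hzH hyH
  have hcompl := MonoidHom.ker_transferSylow_isComplement' P hNC
  set K := (MonoidHom.transferSylow P hNC).ker with hK
  have hKcard : (Nat.card K).Coprime p := by
    rw [Nat.coprime_comm, (Fact.out : p.Prime).coprime_iff_not_dvd]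
    exact MonoidHom.not_dvd_card_ker_transferSylow P hNC
  have hKle : K ≤ Cfsg.pPrimeCore p T := le_sSup ⟨inferInstance, hKcard⟩
  constructor
  · apply le_antisymm
    · exact sup_le hHT (Subgroup.map_subtype_le _)
    · intro t ht
      have : (⟨t, ht⟩ : T) ∈ K ⊔ (P : Subgroup T) := by
        rw [hcompl.sup_eq_top]; trivial
      obtain ⟨k, hk, q, hq, hkq⟩ := Subgroup.mem_sup_of_normal_left.1 this
      have h1 : t = (k : G) * (q : G) := by
        have := congrArg Subtype.val hkq
        exact this.symm
      rw [h1, sup_comm]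
      refine Subgroup.mul_mem_sup ⟨k, hKle hk, rfl⟩ (Subgroup.mem_subgroupOf.1 hq)
  · apply inf_eq_bot_of_isPGroup (p := p) hHp
    rw [Subgroup.card_map_of_injective T.subtype_injective]
    exact not_dvd_card_pPrimeCore p


end Cfsg.Agent.S3020
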