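import Cfsg.Statements.S3038
import Cfsg.Agent.Lib.H17Pc9
import Cfsg.Agent.S3049

set_option autoImplicit false
open Cfsg

namespace Cfsg.Agent.S3038

open Cfsg.Agent.Lib

/-- Let G be a finite group and p an odd prime with O_{p'}(G) = 1. Suppose that G has p-rank at most 2 and that some element x of order p is isolated in G and not central. Then F*(G) is a non-abelian simple group, and for every Sylow p-subgroup P of F*(G), either no conjugate of x lies in P and P is cyclic, or some conjugate of x lies in P and either P is extraspecial of order p³ and exponent p, or p = 3 and P has order 3^{2k+1} for some k ≥ 2 and is of maximal class (nilpotency class 2k). Since O_{p'}(G) = 1, such an x is not central modulo O_{p'}(G): the hypotheses describe a counterexample to the Z*_p statement in p-rank at most 2, and the conclusion records the structure it would have. -/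
theorem result {G : Type*} [Group G] [Finite G] {p : ℕ} [Fact p.Prime] (hp : p ≠ 2) (hcore : Cfsg.pPrimeCore p G = ⊥)
    (hrank : Cfsg.PRankLE p 2 G) (x : G) (hx : orderOf x = p) (hiso : Cfsg.IsIsolated x) (hnc : x ∉ Subgroup.center G) :
    IsSimpleGroup ↥(Cfsg.generalizedFittingSubgroup G) ∧ ¬ IsMulCommutative ↥(Cfsg.generalizedFittingSubgroup G) ∧
    ∀ P : Sylow p ↥(Cfsg.generalizedFittingSubgroup G),
      ((∀ g : G, g * x * g⁻¹ ∉ ((P : Subgroup ↥(Cfsg.generalizedFittingSubgroup G)).map (Cfsg.generalizedFittingSubgroup G).subtype)) ∧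
          IsCyclic ↥(P : Subgroup ↥(Cfsg.generalizedFittingSubgroup G))) ∨
      ((∃ g : G, g * x * g⁻¹ ∈ ((P : Subgroup ↥(Cfsg.generalizedFittingSubgroup G)).map (Cfsg.generalizedFittingSubgroup G).subtype)) ∧
        ((Cfsg.IsExtraspecial p ↥(P : Subgroup ↥(Cfsg.generalizedFittingSubgroup G)) ∧
            Nat.card (P : Subgroup ↥(Cfsg.generalizedFittingSubgroup G)) = p ^ 3 ∧
            ∀ y ∈ (P : Subgroup ↥(Cfsg.generalizedFittingSubgroup G)), y ^ p = 1) ∨
         (p = 3 ∧ ∃ k : ℕ, 2 ≤ k ∧ Nat.card (P : Subgroup ↥(Cfsg.generalizedFittingSubgroup G)) = 3 ^ (2 * k + 1) ∧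
            ∃ _ : Group.IsNilpotent ↥(P : Subgroup ↥(Cfsg.generalizedFittingSubgroup G)),
              Group.nilpotencyClass ↥(P : Subgroup ↥(Cfsg.generalizedFittingSubgroup G)) = 2 * k))) := by
  classical
  obtain ⟨hsimple, hna⟩ := S3049.result hp hcore hrank x hx hiso hnc
  refine ⟨hsimple, hna, fun P => ?_⟩
  by_cases hc : ∃ g : G, g * x * g⁻¹ ∈ ((P : Subgroup ↥(Cfsg.generalizedFittingSubgroup G)).map
      (Cfsg.generalizedFittingSubgroup G).subtype)
  · right
    refine ⟨hc, ?_⟩
    obtain ⟨g, v, hv, hvg⟩ := hc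
    have hvg' : (v : G) = g * x * g⁻¹ := hvg
    have h1 : IsIsolated (g * x * g⁻¹) := H1IsoRank.isIsolated_conj hiso g
    have h2 : orderOf v = p := by
      have e1 : orderOf v = orderOf (v : G) := (Subgroup.orderOf_coe v).symm
      rw [e1, hvg', ← hx]
      have := (MulAut.conj g).orderOf_eq x
      rwa [MulAut.conj_apply] at this
    have h3 : IsIsolated v := by
      intro k hk
      apply Subtype.ext
      have := h1 (k : G) (by
        rw [← hvg']
        exact congrArg Subtype.val hk)
      rw [← hvg'] at this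
      exact this
    exact H17Pc.main_simple hna hp (PRankInj.of_injective (generalizedFittingSubgroup G).subtype
      (Subgroup.subtype_injective _) hrank) P h2 h3 hv
  · left
    push Not at hc
    refine ⟨hc, ?_⟩
    by_contra hncyc
    have hKn : (generalizedFittingSubgroup G).Normal := inferInstance
    -- a Sylow subgroup containing `x`
    have hxp : IsPGroup p (Subgroup.zpowers x) := IsPGroup.of_card (n := 1) (by rw [Nat.card_zpowers, hx, pow_one])
    obtain ⟨R, hR⟩ := hxp.exists_le_sylow
    have hxR : x ∈ (R : Subgroup G) := hR (Subgroup.mem_zpowers x)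
    have hN := (S2969.result x ⟨1, by rw [pow_one]; exact hx⟩ hiso).1 _ R.isPGroup' hxR
    obtain ⟨T, hT⟩ := H1IsoRank.exists_sylow_inf (L := generalizedFittingSubgroup G) hKn.isSubnormal R
    obtain ⟨k, hk⟩ := MulAction.exists_smul_eq ↥(generalizedFittingSubgroup G) T P
    have hTcyc : ¬ IsCyclic ↥(T : Subgroup ↥(generalizedFittingSubgroup G)) := by
      intro h
      apply hncyc
      rw [← hk, Sylow.coe_subgroup_smul]
      exact isCyclic_of_surjective (Subgroup.equivSMul (MulAut.conj k) (T : Subgroup ↥(generalizedFittingSubgroup G))).toMonoidHom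
        (Subgroup.equivSMul (MulAut.conj k) (T : Subgroup ↥(generalizedFittingSubgroup G))).surjective
    have hTcyc' : ¬ IsCyclic (⊤ : Subgroup ↥(T : Subgroup ↥(generalizedFittingSubgroup G))) := by
      intro hh
      exact hTcyc (isCyclic_of_surjective (Subgroup.topEquiv (G := ↥(T : Subgroup ↥(generalizedFittingSubgroup G)))).toMonoidHom
        Subgroup.topEquiv.surjective)
    obtain ⟨E, -, -, hE, hEc⟩ := NormalRankTwoIn.exists_normal_in hp T.isPGroup' ⊤ hTcyc'
    have hE1 : ∃ a ∈ E, a ≠ 1 := by
      by_contra hcon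
      push Not at hcon
      have : E = ⊥ := (Subgroup.eq_bot_iff_forall E).2 hcon
      rw [this, Subgroup.card_bot] at hEc
      have := (Fact.out : p.Prime).one_lt
      nlinarith
    obtain ⟨a, haE, ha1⟩ := hE1
    have hE2 : ∃ b ∈ E, b ∉ Subgroup.zpowers a := by
      by_contra hcon
      push Not at hcon
      have h1 : Nat.card E ≤ Nat.card (Subgroup.zpowers a) := Subgroup.card_le_of_le hcon
      rw [hEc, Nat.card_zpowers] at h1
      have h2 := Nat.le_of_dvd (Fact.out : p.Prime).pos (orderOf_dvd_of_pow_eq_one (hE.2 a haE))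
      have := (Fact.out : p.Prime).one_lt
      nlinarith
    obtain ⟨b, hbE, hba⟩ := hE2
    have hTR : ∀ t : ↥(T : Subgroup ↥(generalizedFittingSubgroup G)), ((t : ↥(generalizedFittingSubgroup G)) : G) ∈ (R : Subgroup G) := by
      intro t
      have h : ∀ u : ↥(generalizedFittingSubgroup G), u ∈ (T : Subgroup ↥(generalizedFittingSubgroup G)) →
          (u : G) ∈ (R : Subgroup G) := by
        intro u hu
        rw [hT, Subgroup.mem_subgroupOf] at hu
        exact hu
      exact h _ t.2
    have hxc : ∀ t : ↥(T : Subgroup ↥(generalizedFittingSubgroup G)), Commute ((t : ↥(generalizedFittingSubgroup G)) : G) x := by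
      intro t
      have := hN (Subgroup.le_normalizer (hTR t))
      rw [Subgroup.mem_centralizer_singleton_iff] at this
      exact this
    obtain ⟨i, j, hij⟩ := H1IsoRank.rank_rel hrank (a := ((a : ↥(generalizedFittingSubgroup G)) : G)) (b := ((b : ↥(generalizedFittingSubgroup G)) : G)) (c := x)
      (congrArg (fun t : ↥(T : Subgroup ↥(generalizedFittingSubgroup G)) => ((t : ↥(generalizedFittingSubgroup G)) : G))
        (congrArg Subtype.val (hE.1.is_comm.comm ⟨a, haE⟩ ⟨b, hbE⟩)))
      (hxc a) (hxc b) (congrArg (fun t : ↥(T : Subgroup ↥(generalizedFittingSubgroup G)) => ((t : ↥(generalizedFittingSubgroup G)) : G)) (hE.2 a haE))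
      (congrArg (fun t : ↥(T : Subgroup ↥(generalizedFittingSubgroup G)) => ((t : ↥(generalizedFittingSubgroup G)) : G)) (hE.2 b hbE))
      (by rw [← hx, pow_orderOf_eq_one]) (fun h => ha1 (Subtype.ext (Subtype.ext h))) (by
        rintro ⟨i, hi⟩
        exact hba ⟨i, Subtype.ext (Subtype.ext hi)⟩)
    have hxT : x = ((((a ^ i * b ^ j : ↥(T : Subgroup ↥(generalizedFittingSubgroup G))) : ↥(generalizedFittingSubgroup G)) : G)) := hij
    apply hc (k : G)
    rw [← hk, Sylow.coe_subgroup_smul]
    refine ⟨k * ((a ^ i * b ^ j : ↥(T : Subgroup ↥(generalizedFittingSubgroup G))) : ↥(generalizedFittingSubgroup G)) * k⁻¹, ?_, ?_⟩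
    · exact Subgroup.smul_mem_pointwise_smul _ (MulAut.conj k) _ (a ^ i * b ^ j : ↥(T : Subgroup ↥(generalizedFittingSubgroup G))).2
    · rw [hxT]; rfl

end Cfsg.Agent.S3038
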