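import Cfsg.Statements.S3104
import Cfsg.Agent.Lib.S4R6E
import Cfsg.Agent.Lib.S4R6F
import Cfsg.Agent.Lib.CFCore
import Cfsg.Agent.Lib.L32H51
import Cfsg.Agent.S2553
import Cfsg.Agent.S3103

set_option autoImplicit false
open Cfsg

namespace Cfsg.Agent.S3104

open Cfsg.Agent.Lib Cfsg.Agent.Lib.S4R6 Cfsg.Agent.Lib.FratConstr in
theorem caseA {X : Type*} [Group X] [Finite X] (hns : ¬ Group.IsSolvable (X ⧸ Cfsg.pCore 2 X))
    (hC : Subgroup.centralizer ((pCore 2 X : Subgroup X) : Set X) ≤ pCore 2 X)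
    (h4 : Cfsg.SectionalPRankLE 2 4 ↥(Cfsg.pCore 2 X)) (hO : pPrimeCore 2 (X ⧸ Cfsg.pCore 2 X) = ⊥) :
    (Nonempty (X ⧸ Cfsg.pCore 2 X ≃* Matrix.ProjectiveSpecialLinearGroup (Fin 3) (ZMod 2))) ∨
        (∃ n : ℕ, 5 ≤ n ∧ n ≤ 8 ∧ Nonempty (X ⧸ Cfsg.pCore 2 X ≃* ↥(alternatingGroup (Fin n)))) ∨
        (∃ n : ℕ, 5 ≤ n ∧ n ≤ 7 ∧ Nonempty (X ⧸ Cfsg.pCore 2 X ≃* Equiv.Perm (Fin n))) := by
  have : Fact (Nat.Prime 2) := ⟨Nat.prime_two⟩
  obtain ⟨V, _, _, _, D, hV⟩ := exists_rep hC h4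
  obtain ⟨σ, hσ, -⟩ := exists_quot hC D
  obtain ⟨g, hg⟩ := exists_pad hV σ hσ
  let e : X ⧸ Cfsg.pCore 2 X ≃* g.range := MonoidHom.ofInjective hg
  have h1 : pPrimeCore 2 g.range = ⊥ := by
    rw [← CFCore.pPrimeCore_map_equiv e, hO, Subgroup.map_bot]
  have h2 : pCore 2 g.range = ⊥ := by
    rw [← Cores.map_pCore_equiv 2 e, Cores.pCore_quotient_pCore, Subgroup.map_bot]
  have h3 : g.range ≠ ⊥ := by
    intro h
    apply hns
    haveI : Subsingleton g.range := by rw [h]; infer_instance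
    haveI : Subsingleton (X ⧸ Cfsg.pCore 2 X) := e.toEquiv.subsingleton
    infer_instance
  rcases Cfsg.Agent.S2553.result g.range h3 h1 h2 with ⟨n, hn, hn', ⟨a⟩⟩ | ⟨⟨a⟩⟩ | ⟨⟨a⟩⟩ | ⟨⟨a⟩⟩
  · exact Or.inr (Or.inl ⟨n, hn, hn', ⟨e.trans a⟩⟩)
  · exact Or.inr (Or.inr ⟨5, by norm_num, by norm_num, ⟨e.trans a⟩⟩)
  · exact Or.inr (Or.inr ⟨6, by norm_num, by norm_num, ⟨e.trans a⟩⟩)
  · obtain ⟨b⟩ := L32H51.gl_psl
    exact Or.inl ⟨(e.trans a).trans b⟩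

/-- Let X be a finite nonsolvable 2-constrained group with no nontrivial normal subgroup of odd order such that O₂(X) has sectional 2-rank at most 4, and write Q for X/O₂(X). Then Q is isomorphic to the projective special linear group of dimension 3 over the field with 2 elements, to an alternating group of degree n with 5 ≤ n ≤ 8, to a symmetric group of degree n with 5 ≤ n ≤ 7, or else O₃(Q) has order 3 and Q/O₃(Q) is isomorphic to the alternating or the symmetric group of degree 5 (so Q is the direct product of a group of order 3 with the alternating group of degree 5, or an extension of that direct product by a group of order 2). If moreover X itself has sectional 2-rank at most 4, then Q is not isomorphic to the symmetric group of degree 6 or 7 nor to the alternating group of degree 8. -/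
theorem result {X : Type*} [Group X] [Finite X] (hns : ¬ Group.IsSolvable X) (hc : Cfsg.IsPConstrained 2 X) (hO : Cfsg.oddCore X = ⊥)
    (h4 : Cfsg.SectionalPRankLE 2 4 ↥(Cfsg.pCore 2 X)) :
    ((∃ (F : Type) (_ : Field F) (_ : Fintype F), Fintype.card F = 2 ∧
          Nonempty (X ⧸ Cfsg.pCore 2 X ≃* Matrix.ProjectiveSpecialLinearGroup (Fin 3) F)) ∨
        (∃ n : ℕ, 5 ≤ n ∧ n ≤ 8 ∧ Nonempty (X ⧸ Cfsg.pCore 2 X ≃* ↥(alternatingGroup (Fin n)))) ∨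
        (∃ n : ℕ, 5 ≤ n ∧ n ≤ 7 ∧ Nonempty (X ⧸ Cfsg.pCore 2 X ≃* Equiv.Perm (Fin n))) ∨
        (Nat.card ↥(Cfsg.pCore 3 (X ⧸ Cfsg.pCore 2 X)) = 3 ∧
          (Nonempty ((X ⧸ Cfsg.pCore 2 X) ⧸ Cfsg.pCore 3 (X ⧸ Cfsg.pCore 2 X) ≃* ↥(alternatingGroup (Fin 5))) ∨
            Nonempty ((X ⧸ Cfsg.pCore 2 X) ⧸ Cfsg.pCore 3 (X ⧸ Cfsg.pCore 2 X) ≃* Equiv.Perm (Fin 5))))) ∧
      (Cfsg.SectionalPRankLE 2 4 X →
        ¬ (Nonempty (X ⧸ Cfsg.pCore 2 X ≃* Equiv.Perm (Fin 6)) ∨ Nonempty (X ⧸ Cfsg.pCore 2 X ≃* Equiv.Perm (Fin 7)) ∨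
            Nonempty (X ⧸ Cfsg.pCore 2 X ≃* ↥(alternatingGroup (Fin 8))))) := by
  have hC : Subgroup.centralizer ((pCore 2 X : Subgroup X) : Set X) ≤ pCore 2 X :=
    (Cfsg.Agent.Lib.PConstraint.isPConstrained_iff_of_pPrimeCore_eq_bot hO).mp hc
  have hnsQ : ¬ Group.IsSolvable (X ⧸ Cfsg.pCore 2 X) := by
    intro hs
    apply hns
    have : Fact (Nat.Prime 2) := ⟨Nat.prime_two⟩
    have h1 : IsPGroup 2 (pCore 2 X) := Cfsg.Agent.Lib.Cores.isPGroup_pCore 2 _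
    haveI : Group.IsNilpotent (pCore 2 X) := h1.isNilpotent
    haveI : Group.IsSolvable (pCore 2 X) := inferInstance
    apply Group.isSolvable_of_ker_le_range (pCore 2 X).subtype (QuotientGroup.mk' (pCore 2 X))
    rw [Subgroup.range_subtype, QuotientGroup.ker_mk']
  refine ⟨?_, ?_⟩
  · by_cases hOQ : pPrimeCore 2 (X ⧸ Cfsg.pCore 2 X) = ⊥
    · rcases caseA hnsQ hC h4 hOQ with h | h | h
      · exact Or.inl ⟨ZMod 2, inferInstance, inferInstance, ZMod.card 2, h⟩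
      · exact Or.inr (Or.inl h)
      · exact Or.inr (Or.inr (Or.inl h))
    · obtain ⟨f, hf⟩ := Cfsg.Agent.S3103.result hc hO h4
      have h3 := Cfsg.Agent.Lib.S4R6.odd_core_case f hf hnsQ (Cfsg.Agent.Lib.Cores.pCore_quotient_pCore 2 X) hOQ
      exact Or.inr (Or.inr (Or.inr (Cfsg.Agent.Lib.S4R6.case_B f hf hnsQ h3)))
  · intro h4X
    rintro (⟨⟨e⟩⟩ | ⟨⟨e⟩⟩ | ⟨⟨e⟩⟩)
    · exact Cfsg.Agent.Lib.S4R6.no_six hC h4 h4X e.symm.toMonoidHom e.symm.injective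
    · obtain ⟨j, hj⟩ := Cfsg.Agent.Lib.S4R6.six_in_seven
      exact Cfsg.Agent.Lib.S4R6.no_six hC h4 h4X (e.symm.toMonoidHom.comp j) (e.symm.injective.comp hj)
    · obtain ⟨j, hj⟩ := Cfsg.Agent.Lib.S4R6.six_in_alt8
      exact Cfsg.Agent.Lib.S4R6.no_six hC h4 h4X (e.symm.toMonoidHom.comp j) (e.symm.injective.comp hj)

end Cfsg.Agent.S3104
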