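import Cfsg.Statements.S3189
import Cfsg.Agent.Lib.H32E8f
import Cfsg.Agent.Lib.H15Deg2p

set_option autoImplicit false
open Cfsg

namespace Cfsg.Agent.S3189

/-- Let G be a non-abelian finite simple group whose Sylow 2-subgroup S is elementary abelian of order 8, and suppose the centralizer of every involution of G is solvable. Then the normalizer of S modulo the centralizer of S has order 7. -/
theorem result {G : Type*} [Group G] [Finite G]
    [IsSimpleGroup G] (hG : ¬ IsMulCommutative G) (S : Sylow 2 G)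
    (hS : Cfsg.IsElementaryAbelian 2 (S : Subgroup G)) (hS8 : Nat.card ↥(S : Subgroup G) = 8)
    (hC : ∀ t : G, orderOf t = 2 → Group.IsSolvable ↥(Subgroup.centralizer ({t} : Set G))) :
    (Subgroup.centralizer ((S : Subgroup G) : Set G)).relIndex (Subgroup.normalizer ((S : Subgroup G) : Set G)) = 7 := by
  classical
  by_contra hne
  have hperf : commutator G = ⊤ := by
    haveI := Fintype.ofFinite G
    exact Lib.H15Deg2p.perfect hG
  obtain ⟨hSc, hSe⟩ := hS
  have hcomm : ∀ a ∈ (S : Subgroup G), ∀ b ∈ (S : Subgroup G), a * b = b * a := by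
    intro a ha b hb
    have := hSc.is_comm.comm (⟨a, ha⟩ : (S : Subgroup G)) ⟨b, hb⟩
    exact congrArg Subtype.val this
  obtain ⟨f, hf⟩ : ∃ f, f = (S : Subgroup G).normalizerMonoidHom := ⟨_, rfl⟩
  have hker : f.ker = (Subgroup.centralizer ((S : Subgroup G) : Set G)).subgroupOf
      (Subgroup.normalizer ((S : Subgroup G) : Set G)) := by
    rw [hf]; exact Subgroup.normalizerMonoidHom_ker _
  have hval : ∀ (n : Subgroup.normalizer ((S : Subgroup G) : Set G)) (v : (S : Subgroup G)),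
      ((f n v : (S : Subgroup G)) : G) = n * v * (n : G)⁻¹ := fun n v => by rw [hf]; rfl
  have hcard : Nat.card f.range = (Subgroup.centralizer ((S : Subgroup G) : Set G)).relIndex
      (Subgroup.normalizer ((S : Subgroup G) : Set G)) := by
    rw [Subgroup.relIndex, ← hker, Subgroup.index_ker]
  have hodd : Odd (Nat.card f.range) := by
    rw [hcard]
    have h1 : (S : Subgroup G) ≤ Subgroup.centralizer ((S : Subgroup G) : Set G) := by
      intro a ha
      rw [Subgroup.mem_centralizer_iff]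
      intro b hb
      exact hcomm b hb a ha
    have h2 : Subgroup.centralizer ((S : Subgroup G) : Set G) ≤
        Subgroup.normalizer ((S : Subgroup G) : Set G) := Subgroup.centralizer_le_normalizer _
    have h3 := Subgroup.relIndex_mul_relIndex _ _ _ h1 h2
    have h4 := Subgroup.relIndex_mul_index (h1.trans h2)
    have h5 : ¬ 2 ∣ (S : Subgroup G).index := S.not_dvd_index
    rw [← Nat.not_even_iff_odd, even_iff_two_dvd]
    intro h
    apply h5
    rw [← h4, ← h3]
    exact (h.mul_left _).mul_right _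
  obtain ⟨t, ht1, ⟨a, ⟨n, hn⟩, ha1, ha3, hat⟩, htrans⟩ := Lib.H32E8f.trans_data hS8 f.range hodd (by
    intro v hv
    have := Lib.H81SelfNorm.sylow_cent_normalizer hperf S hSc v.2 (by
      intro n hn
      have h1 := hv (f ⟨n, hn⟩) ⟨_, rfl⟩
      have h2 := congrArg Subtype.val h1
      rw [hval] at h2
      exact mul_inv_eq_iff_eq_mul.1 h2)
    exact Subtype.ext this) (by rw [hcard]; exact hne)
  have ht1' : (t : G) ≠ 1 := fun h => ht1 (Subtype.ext h)
  have ht2 : (t : G) ^ 2 = 1 := hSe t t.2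
  have hto : orderOf (t : G) = 2 := orderOf_eq_prime ht2 ht1'
  -- the odd element
  obtain ⟨e, m, hm, hem⟩ := Nat.exists_eq_two_pow_mul_odd (orderOf_pos n).ne'
  obtain ⟨y, hy⟩ : ∃ y, y = n ^ 2 ^ e := ⟨_, rfl⟩
  have hyodd : Odd (orderOf y) := by
    have h1 : y ^ m = 1 := by
      rw [hy, ← pow_mul, ← hem, pow_orderOf_eq_one]
    exact hm.of_dvd_nat (orderOf_dvd_of_pow_eq_one h1)
  have hfy : f y ≠ 1 := by
    intro h
    rw [hy, map_pow, hn] at h
    apply ha1
    have h1 : orderOf a ∣ 2 ^ e := orderOf_dvd_of_pow_eq_one h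
    have h2 : orderOf a ∣ 3 := orderOf_dvd_of_pow_eq_one ha3
    have h3 : Nat.Coprime (2 ^ e) 3 := Nat.Coprime.pow_left _ (by norm_num)
    exact orderOf_eq_one_iff.1 (Nat.eq_one_of_dvd_coprimes h3 h1 h2)
  have hyt : (y : G) * t * (y : G)⁻¹ = t := by
    rw [← hval, hy, map_pow, hn]
    have : ∀ k : ℕ, (a ^ k) t = t := by
      intro k
      induction k with
      | zero => rfl
      | succ k ih => rw [pow_succ, MulAut.mul_apply, hat, ih]
    rw [this]
  have hyt' : (y : G) * t = t * y := mul_inv_eq_iff_eq_mul.1 hyt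
  obtain ⟨s, hs⟩ : ∃ s : (S : Subgroup G), f y s ≠ s := by
    by_contra hcon
    push Not at hcon
    exact hfy (MulEquiv.ext hcon)
  have hs' : (y : G) * s ≠ s * y := by
    intro h
    apply hs
    apply Subtype.ext
    rw [hval, h]; group
  -- the centralizer
  obtain ⟨H, hH⟩ : ∃ H : Subgroup G, H = Subgroup.centralizer ({(t : G)} : Set G) := ⟨_, rfl⟩
  have hmem : ∀ g, g ∈ H ↔ Commute (t : G) g := by
    intro g
    rw [hH, Subgroup.mem_centralizer_singleton_iff]
    exact ⟨fun h => h.symm, fun h => h.symm⟩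
  haveI hsolv : Group.IsSolvable H := by rw [hH]; exact hC t hto
  have hSH : (S : Subgroup G) ≤ H := fun a ha => (hmem a).2 (hcomm t t.2 a ha)
  have hyH : (y : G) ∈ H := (hmem _).2 hyt'.symm
  have htH : (t : G) ∈ H := hSH t.2
  have hyoH : Odd (orderOf (⟨y, hyH⟩ : H)) := by
    rw [Subgroup.orderOf_mk, Subgroup.orderOf_coe]; exact hyodd
  obtain ⟨P, hP⟩ : ∃ P : Sylow 2 H, (P : Subgroup H) = (S : Subgroup G).subgroupOf H :=
    ⟨S.subtype hSH, rfl⟩
  have hPcard : Nat.card (P : Subgroup H) = 8 := by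
    rw [hP, ← hS8]
    exact Nat.card_congr (Subgroup.subgroupOfEquivOfLe hSH).toEquiv
  have hPc : ∀ a ∈ (P : Subgroup H), ∀ b ∈ (P : Subgroup H), a * b = b * a := by
    rw [hP]
    intro a ha b hb
    exact Subtype.ext (hcomm a (Subgroup.mem_subgroupOf.1 ha) b (Subgroup.mem_subgroupOf.1 hb))
  have hyN : (⟨y, hyH⟩ : H) ∈ Subgroup.normalizer ((P : Subgroup H) : Set H) := by
    rw [hP, Subgroup.mem_normalizer_iff]
    intro h
    rw [Subgroup.mem_subgroupOf, Subgroup.mem_subgroupOf]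
    exact Subgroup.mem_normalizer_iff.1 y.2 h
  obtain ⟨k1, k2, k3, k4, T, k5, k6⟩ := Lib.H32E8e.local_data P hPc hPcard (t := ⟨t, htH⟩)
    (by rw [hP]; exact Subgroup.mem_subgroupOf.2 t.2) (by rw [Subgroup.orderOf_mk]; exact hto)
    (fun x => Subtype.ext ((hmem x).1 x.2).eq.symm) hyoH hyN (s := ⟨s, hSH s.2⟩)
    (by rw [hP]; exact Subgroup.mem_subgroupOf.2 s.2) (fun h => hs' (congrArg Subtype.val h))
  obtain ⟨M, hM⟩ := Lib.H76Char.exists_isPModular 2
  have hinv : ∀ u : G, u ∈ (S : Subgroup G) → u ≠ 1 → IsConj (t : G) u := by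
    intro u hu hu1
    obtain ⟨b, ⟨n', hn'⟩, hb⟩ := htrans ⟨u, hu⟩ (fun h => hu1 (congrArg Subtype.val h))
    refine isConj_iff.2 ⟨n', ?_⟩
    rw [← hval, hn', hb]
  refine Lib.H32E8c.main_block (t := (t : G)) hM hto hmem ⟨y, hyH⟩
    (fun h => (Nat.not_even_iff_odd.2 hyoH) (even_iff_two_dvd.2 h)) k3 k1 k2 k4 ?_ ?_ ?_ ?_ ?_
  · intro h
    exact k5 (by rw [h]; exact T.one_mem)
  · exact Lib.H32E8e.prodcond hmem hto _ hyoH T k5 k6
  · refine Lib.H32E8e.prodcond hmem hto _ (by rw [orderOf_inv]; exact hyoH) T (fun h => k5 ?_) k6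
    rw [QuotientGroup.mk_inv, inv_mem_iff] at h
    exact h
  · intro χ hχ
    haveI := Fintype.ofFinite G
    apply Lib.BRCore.eq_triv_of_deg hperf
    rw [(Lib.BlockDefect.charDegree_spec χ.2).1] at hχ
    exact_mod_cast hχ
  · intro χ
    haveI : Fintype (S : Subgroup G) := Fintype.ofFinite _
    obtain ⟨m, hm⟩ := (χ.2.isCharacter.restrict (S : Subgroup G)).classInner_nat
      (Lib.CharBasic.isIrrCharacter_fun_one (G := (S : Subgroup G))).isCharacter
    refine ⟨m, ?_⟩
    rw [Lib.CharBasic.classInner_def, hS8] at hm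
    have h1 : ∑ x : (S : Subgroup G), (χ : G → ℂ) x * (starRingEnd ℂ) 1 =
        (χ : G → ℂ) 1 + 7 * (χ : G → ℂ) t := by
      rw [← Finset.add_sum_erase _ _ (Finset.mem_univ (1 : (S : Subgroup G)))]
      have h2 : ∀ x ∈ (Finset.univ : Finset (S : Subgroup G)).erase 1,
          (χ : G → ℂ) x * (starRingEnd ℂ) 1 = (χ : G → ℂ) t := by
        intro x hx
        have hx1 : (x : G) ≠ 1 := fun h => (Finset.ne_of_mem_erase hx) (Subtype.ext h)
        rw [χ.2.isClassFunction.conj_eq (hinv x x.2 hx1), map_one, mul_one]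
      rw [Finset.sum_congr rfl h2, Finset.sum_const, Finset.card_erase_of_mem (Finset.mem_univ _),
        Finset.card_univ, ← Nat.card_eq_fintype_card, hS8]
      simp
    rw [h1] at hm
    rw [← hm]
    push_cast
    ring

end Cfsg.Agent.S3189
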