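import Cfsg.Statements.S3221
import Cfsg.Agent.Lib.PSQ13
import Cfsg.Agent.Lib.PSQR
import Cfsg.Agent.Lib.PSQZ
import Cfsg.Agent.Lib.PSQI
import Cfsg.Agent.Lib.PSQP
import Cfsg.Agent.S1614

set_option autoImplicit false
open Cfsg

namespace Cfsg.Agent.S3221

open Lib.PSQ Lib.PSQ.Sit Lib.PSQ.Five

theorem final {G : Type*} [Group G] [Finite G] {f : L × L →* G} {s t : G} (H : Five f s t)
    (hsv : Group.IsSolvable ↥(Subgroup.centralizer ({t} : Set G)))
    {F : Type*} [Field F] [Fintype F] (hF : Fintype.card F = 3) : Nonempty (G ≃* Cfsg.PSp 2 F) := by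
  have hsol : ∀ N : Subgroup (G1 t), N.Normal → Group.IsSolvable ↥N → N = ⊥ :=
    Lib.PSQR.sol_bot (fun A hA hne h2 => H.no_two A hA hne h2) (fun A hA _ hodd => H.no_odd A hA hodd)
  have hs : Group.IsSolvable ↥(Subgroup.closure {y : G1 t | y ∈ D1 t ∧ y ≠ t1 t ∧ Commute (t1 t) y}) := by
    have hle : Subgroup.closure {y : G1 t | y ∈ D1 t ∧ y ≠ t1 t ∧ Commute (t1 t) y} ≤
        (Subgroup.centralizer ({t} : Set G)).comap (G1 t).subtype := by
      rw [Subgroup.closure_le]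
      rintro y ⟨-, -, hy⟩
      show y.1 ∈ Subgroup.centralizer {t}
      rw [Subgroup.mem_centralizer_singleton_iff]
      exact (congrArg Subtype.val hy.eq).symm
    let φ : ↥(Subgroup.closure {y : G1 t | y ∈ D1 t ∧ y ≠ t1 t ∧ Commute (t1 t) y}) →* ↥(Subgroup.centralizer ({t} : Set G)) :=
      { toFun := fun y => ⟨y.1.1, hle y.2⟩
        map_one' := rfl
        map_mul' := fun _ _ => rfl }
    have hφ : Function.Injective φ := by
      intro a b hab
      have h5 : a.1.1 = b.1.1 := congrArg (fun z : ↥(Subgroup.centralizer ({t} : Set G)) => z.1) hab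
      exact Subtype.ext (Subtype.ext h5)
    exact Group.isSolvable_of_isSolvable_injective hφ
  have h1 := S1614.result hsol H.hperf H.isClass (t1 t) t_D hs
  have h64 : 64 ∣ Nat.card (G1 t) := by
    rw [← H.toSit.card_S]
    exact Subgroup.card_dvd_of_le H.S_le_G1
  have h128 : ¬ 128 ∣ Nat.card (G1 t) := by
    intro h
    exact H.toSit.not_128 (h.trans (Subgroup.card_subgroup_dvd_card _))
  obtain ⟨hc, hK⟩ := Lib.PSQI.ident h1 h64 h128
  obtain ⟨e⟩ := hK F hF
  have htop := H.top_of_card hc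
  exact ⟨(Subgroup.topEquiv.symm.trans (MulEquiv.subgroupCongr htop.symm)).trans e⟩

/-- Let F be the field with 3 elements and t₀ an involution of PSp₄(3) = PSp₄(F) lying in the centre of a Sylow 2-subgroup. If G is a finite group of even order that has no subgroup of index 2 and contains an involution t whose centralizer C_G(t) is isomorphic to C_{PSp₄(3)}(t₀), then G ≅ PSp₄(3). -/
theorem result {G : Type*} [Group G] [Finite G] (hev : Even (Nat.card G))
    (hG : ∀ H : Subgroup G, H.index ≠ 2) {F : Type*} [Field F] [Fintype F] (hF : Fintype.card F = 3)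
    (U : Sylow 2 (Cfsg.PSp 2 F)) (t₀ : Cfsg.PSp 2 F) (ht₀ : orderOf t₀ = 2) (ht₀U : t₀ ∈ (U : Subgroup (Cfsg.PSp 2 F)))
    (ht₀c : ∀ u ∈ (U : Subgroup (Cfsg.PSp 2 F)), u * t₀ = t₀ * u) (t : G) (ht : orderOf t = 2)
    (e : ↥(Subgroup.centralizer ({t} : Set G)) ≃* ↥(Subgroup.centralizer ({t₀} : Set (Cfsg.PSp 2 F)))) :
    Nonempty (G ≃* Cfsg.PSp 2 F) := by
  obtain ⟨f, s, h⟩ := Lib.PSQP.exists_sit hF U t₀ ht₀ ht₀U ht₀c t ht e
  obtain ⟨P, hP⟩ := h.exists_sylow
  obtain ⟨s', h', hDE⟩ := h.exists_five (fun hiso => Lib.PSQZ.no_isolated h hG P hP hiso)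
  exact final ⟨h', hDE⟩ (Lib.PSQZ.solv h') hF

end Cfsg.Agent.S3221
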