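import Cfsg.Statements.S3222
import Cfsg.Agent.Lib.H4CSe
import Cfsg.Agent.Lib.SwapOrbits

set_option autoImplicit false
open Cfsg

namespace Cfsg.Agent.S3222

/-- Let G be a finite group of even order such that (1) some involution t lying in the centre of a Sylow 2-subgroup of G has C_G(t) ≅ Z₂ × S₄, and (2) every Sylow 2-subgroup S of G satisfies C_G(S′) = S, where S′ is the derived subgroup of S. Then G = C_G(t) if G is solvable, and G ≅ S₆ otherwise. -/
theorem result {G : Type*} [Group G] [Finite G] (hev : Even (Nat.card G))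
    (t : G) (ht : orderOf t = 2) (T : Sylow 2 G) (htT : t ∈ (T : Subgroup G)) (htc : ∀ s ∈ (T : Subgroup G), s * t = t * s)
    (e : ↥(Subgroup.centralizer ({t} : Set G)) ≃* (Multiplicative (ZMod 2) × Equiv.Perm (Fin 4)))
    (h2 : ∀ S : Sylow 2 G, Subgroup.centralizer ((⁅(S : Subgroup G), (S : Subgroup G)⁆ : Subgroup G) : Set G) = (S : Subgroup G)) :
    (Group.IsSolvable G → Subgroup.centralizer ({t} : Set G) = ⊤) ∧
      (¬ Group.IsSolvable G → Nonempty (G ≃* Equiv.Perm (Fin 6))) := by
  obtain ⟨f, hf⟩ := Lib.CSF.CS0.of_equiv ht e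
  obtain ⟨R, hR, hR'⟩ := hf.cs T htc h2
  have s : Lib.CSF.CS t f R := ⟨hf, hR, hR'⟩
  obtain ⟨f', M, s', hMn, hMi, htM, hfM⟩ := s.exists_CSM
  have h : Lib.CSF.CM t f' R M := ⟨s', hMn, hMi, htM, hfM⟩
  by_cases hne : Subgroup.centralizer ({t} : Set G) = ⊤
  · refine ⟨fun _ => hne, fun hns => absurd ?_ hns⟩
    have h4 : Group.IsSolvable (Equiv.Perm (Fin 4)) := Lib.SwapOrbits.isSolvable_perm_fin_four
    have h5 : Group.IsSolvable (Multiplicative (ZMod 2) × Equiv.Perm (Fin 4)) := inferInstance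
    have h6 : Group.IsSolvable (Subgroup.centralizer ({t} : Set G)) :=
      Group.isSolvable_of_isSolvable_injective (f := e.toMonoidHom) e.injective
    have e2 : G ≃* Subgroup.centralizer ({t} : Set G) :=
      (Subgroup.topEquiv.symm).trans (MulEquiv.subgroupCongr hne.symm)
    exact Group.isSolvable_of_isSolvable_injective (f := e2.toMonoidHom) e2.injective
  · refine ⟨fun hs => ?_, fun _ => h.final hne⟩
    exfalso
    obtain ⟨φ⟩ := h.final hne
    have h6 : Group.IsSolvable (Equiv.Perm (Fin 6)) :=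
      Group.isSolvable_of_isSolvable_injective (f := φ.symm.toMonoidHom) φ.symm.injective
    exact Equiv.Perm.not_isSolvable (Fin 6) (by rw [Cardinal.mk_fin]; exact_mod_cast (by norm_num : (5 : ℕ) ≤ 6)) h6

end Cfsg.Agent.S3222
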