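import Cfsg.Statements.S3252
import Cfsg.Agent.Lib.AB68_ASM
import Cfsg.Agent.S0205

set_option autoImplicit false
open Cfsg

namespace Cfsg.Agent.S3252

open Cfsg.Agent.Lib.AB68

/-- Let G be a finite non-solvable group that is the product G = AB of a cyclic subgroup A and a subgroup B all of whose Sylow subgroups are cyclic. Then the quotient of G by its largest solvable normal subgroup is isomorphic to PGL₂(p) for some prime p > 3. -/
theorem result {G : Type*} [Group G] [Finite G] (hG : ¬ Group.IsSolvable G)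
    (A B : Subgroup G) (hA : IsCyclic ↥A) (hB : ∀ (q : ℕ) [Fact q.Prime] (Q : Sylow q ↥B), IsCyclic ↥(Q : Subgroup ↥B))
    (hAB : ∀ g : G, ∃ a ∈ A, ∃ b ∈ B, g = a * b)
    (R : Subgroup G) [hR : R.Normal] (hRs : Group.IsSolvable ↥R) (hRmax : ∀ N : Subgroup G, N.Normal → Group.IsSolvable ↥N → N ≤ R) :
    ∃ (F : Type) (_ : Field F) (_ : Fintype F) (p : ℕ), p.Prime ∧ 3 < p ∧ Fintype.card F = p ∧
      Nonempty ((G ⧸ R) ≃* (GL (Fin 2) F ⧸ Subgroup.center (GL (Fin 2) F))) := by
  have hZ : IsZGroup B := ⟨fun q hq Q => by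
    haveI : Fact q.Prime := ⟨hq⟩
    exact hB q Q⟩
  obtain ⟨R', hR', hRs', hP⟩ := mainI (fun _ _ _ h => Cfsg.Agent.S0205.result h) _ G rfl hG A B hA hZ hAB
  have hle : R' ≤ R := hRmax R' hR' hRs'
  have hmap : R.map (QuotientGroup.mk' R') = ⊥ := by
    apply (pgl_facts hP).2.2.1
    · exact hR.map _ (QuotientGroup.mk'_surjective R')
    · haveI := hRs
      exact Group.isSolvable_of_surjective ((QuotientGroup.mk' R').subgroupMap_surjective R)
  have hge : R ≤ R' := by
    rw [Subgroup.map_eq_bot_iff, QuotientGroup.ker_mk'] at hmap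
    exact hmap
  have heq : R' = R := le_antisymm hle hge
  subst heq
  exact hP

end Cfsg.Agent.S3252
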