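import Cfsg.Statements.S3329
import Cfsg.Agent.Lib.H25Xs
import Cfsg.Agent.Lib.H25Xt
import Cfsg.Agent.Lib.H52A8E
-- import your own Cfsg.Agent.* helpers here

set_option autoImplicit false
open Cfsg

namespace Cfsg.Agent.S3329


open Cfsg.Agent.Lib Cfsg.Agent.Lib.H25X

/-- A 3-local characterization of the alternating group of degree 8. Let G be a finite group whose Sylow 3-subgroup D is elementary abelian of order 9, generated by y and z, and suppose: (i) C_G(D) = D and N_G(D)/D is dihedral of order 8; (ii) D is normal in C_G(y), C_G(y) has order 18, D is normal in N_G(⟨y⟩) and N_G(⟨y⟩)/D is elementary abelian of order 4; (iii) C_G(z) is isomorphic to the direct product of a cyclic group of order 3 and the alternating group of degree 5, and N_G(⟨z⟩) is isomorphic to the subgroup of index 2 of Sym(3) × Sym(5) consisting of the pairs of permutations whose signs agree. Then G is isomorphic to the alternating group of degree 8. -/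
theorem result {G : Type*} [Group G] [Finite G]
    (P : Sylow 3 G) (D : Subgroup G) (hDP : D = P) (y z : G) (hgen : Subgroup.closure {y, z} = D)
    (hcomm : IsMulCommutative D) (hcard : Nat.card D = 9) (hexp : ∀ a ∈ D, a ^ 3 = 1)
    (hC : Subgroup.centralizer (D : Set G) = D)
    (eN : Subgroup.normalizer (D : Set G) ⧸ D.subgroupOf (Subgroup.normalizer (D : Set G)) ≃* DihedralGroup 4)
    (hyn : (D.subgroupOf (Subgroup.centralizer ({y} : Set G))).Normal)
    (hycard : Nat.card (Subgroup.centralizer ({y} : Set G)) = 18)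
    (Ny : Subgroup G) (hNy : Ny = Subgroup.normalizer (Subgroup.zpowers y : Set G))
    (hyN : D ≤ Ny) [hyNn : (D.subgroupOf Ny).Normal]
    (hyNcard : Nat.card (Ny ⧸ D.subgroupOf Ny) = 4) (hyNexp : ∀ g : Ny ⧸ D.subgroupOf Ny, g ^ 2 = 1)
    (eC : Subgroup.centralizer ({z} : Set G) ≃* Multiplicative (ZMod 3) × alternatingGroup (Fin 5))
    (eL : Subgroup.normalizer (Subgroup.zpowers z : Set G) ≃*
      (((Equiv.Perm.sign).comp (MonoidHom.fst (Equiv.Perm (Fin 3)) (Equiv.Perm (Fin 5)))) *
        ((Equiv.Perm.sign).comp (MonoidHom.snd (Equiv.Perm (Fin 3)) (Equiv.Perm (Fin 5))))).ker) :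
    Nonempty (G ≃* alternatingGroup (Fin 8)) := by

  have hD : ∀ x ∈ D, x ∈ Subgroup.closure {y, z} := fun x hx => by rw [hgen]; exact hx
  have hyD : y ∈ D := by rw [← hgen]; exact Subgroup.subset_closure (by simp)
  have hzD : z ∈ D := by rw [← hgen]; exact Subgroup.subset_closure (by simp)
  have small : ∀ w : G, w ∈ D → D ≤ Subgroup.zpowers w → False := by
    intro w hw hle
    have h1 : Nat.card D ∣ Nat.card (Subgroup.zpowers w) := Subgroup.card_dvd_of_le hle
    rw [hcard, Nat.card_zpowers] at h1
    have h2 := orderOf_dvd_of_pow_eq_one (hexp w hw)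
    have h3 := dvd_trans h1 h2
    revert h3; decide
  have hy1 : y ≠ 1 := by
    rintro rfl
    apply small z hzD
    rw [← hgen, Subgroup.closure_le]
    rintro x (rfl | hx)
    · exact one_mem _
    · rw [Set.mem_singleton_iff] at hx
      rw [hx]; exact Subgroup.mem_zpowers z
  have hz1 : z ≠ 1 := by
    rintro rfl
    apply small y hyD
    rw [← hgen, Subgroup.closure_le]
    rintro x (rfl | hx)
    · exact Subgroup.mem_zpowers _
    · rw [Set.mem_singleton_iff] at hx
      rw [hx]; exact one_mem _
  have hzcard : Nat.card (Subgroup.centralizer ({z} : Set G)) = 180 := by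
    rw [Nat.card_congr eC.toEquiv, Nat.card_prod]
    have h1 : Nat.card (Multiplicative (ZMod 3)) = 3 := by
      rw [Nat.card_eq_fintype_card]; rfl
    have h2 : Nat.card (alternatingGroup (Fin 5)) = 60 := by
      have := nat_card_alternatingGroup (α := Fin 5)
      rw [this, Nat.card_eq_fintype_card (α := Fin 5), Fintype.card_fin]; rfl
    rw [h1, h2]
  obtain ⟨ρ, a, b, φ, L⟩ := exists_loc hDP hyD hzD hy1 hz1 hcard hexp hC eN hyn hycard hzcard eL
  exact H52A8.main (endData L)


end Cfsg.Agent.S3329
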