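import Cfsg.Statements.S3333
import Cfsg.Agent.Lib.H25Wt
-- import your own Cfsg.Agent.* helpers here

set_option autoImplicit false
open Cfsg

namespace Cfsg.Agent.S3333


open Cfsg.Agent.Lib Cfsg.Agent.Lib.H25W Cfsg.Agent.Lib.H25Nine

theorem quotE {N : Type*} [Group N] [Finite N] (M : Subgroup N) [M.Normal] (hM : Nat.card M = 9)
    (e : N ⧸ M ≃* DihedralGroup 4) : Nat.card N = 72 ∧ ∃ E : Subgroup N, Nonempty (E ≃* DihedralGroup 4) := by
  have hf2 : Fact (Nat.Prime 2) := ⟨Nat.prime_two⟩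
  have h72 : Nat.card N = 72 := by
    rw [Subgroup.card_eq_card_quotient_mul_card_subgroup M, hM, Nat.card_congr e.toEquiv, DihedralGroup.nat_card]
  refine ⟨h72, ?_⟩
  obtain ⟨E⟩ : Nonempty (Sylow 2 N) := inferInstance
  have hE8 : Nat.card (E : Subgroup N) = 8 := by
    rw [E.card_eq_multiplicity, h72]
    have : (72 : ℕ).factorization 2 = 3 := by
      rw [show 72 = 2 ^ 3 * 9 by norm_num, Nat.factorization_mul (by norm_num) (by norm_num), Nat.prime_two.factorization_pow]
      simp [Nat.factorization_eq_zero_of_not_dvd (show ¬ 2 ∣ 9 by norm_num)]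
    rw [this]; norm_num
  refine ⟨E, ?_⟩
  have hEM : (E : Subgroup N) ⊓ M = ⊥ := by
    apply Subgroup.inf_eq_bot_of_coprime
    rw [hE8, hM]; norm_num
  let f : (E : Subgroup N) →* N ⧸ M := (QuotientGroup.mk' M).comp (E : Subgroup N).subtype
  have hf : Function.Injective f := by
    rw [injective_iff_map_eq_one]
    intro x hx
    have h1 : (x : N) ∈ M := (QuotientGroup.eq_one_iff _).mp hx
    have h2 : (x : N) ∈ (E : Subgroup N) ⊓ M := ⟨x.2, h1⟩
    rw [hEM, Subgroup.mem_bot] at h2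
    exact Subtype.ext h2
  have hc : Nat.card (E : Subgroup N) = Nat.card (N ⧸ M) := by
    rw [hE8, Nat.card_congr e.toEquiv, DihedralGroup.nat_card]
  exact ⟨(MulEquiv.ofBijective f ((Nat.bijective_iff_injective_and_card f).2 ⟨hf, hc⟩)).trans e⟩

theorem not_cyc {G : Type*} [Group G] [Finite G] (S : Subgroup G)
    (hC : Subgroup.centralizer (S : Set G) = S)
    (eN : Subgroup.normalizer (S : Set G) ⧸ S.subgroupOf (Subgroup.normalizer (S : Set G)) ≃* DihedralGroup 4) :
    ¬ IsCyclic S := by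
  intro hcyc
  obtain ⟨x, hx⟩ := hcyc.exists_generator
  have hgen : ∀ y ∈ S, ∃ i : ℤ, y = (x : G) ^ i := by
    intro y hy
    obtain ⟨i, hi⟩ := Subgroup.mem_zpowers_iff.mp (hx ⟨y, hy⟩)
    exact ⟨i, (congrArg Subtype.val hi).symm⟩
  have hconj : ∀ g ∈ Subgroup.normalizer (S : Set G), ∃ i : ℤ, g * (x : G) * g⁻¹ = (x : G) ^ i := fun g hg =>
    hgen _ ((Subgroup.mem_normalizer_iff.mp hg _).mp x.2)
  have key : ∀ g ∈ Subgroup.normalizer (S : Set G), ∀ h ∈ Subgroup.normalizer (S : Set G), (g * h)⁻¹ * (h * g) ∈ S := by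
    intro g hg h hh
    rw [← hC, Subgroup.mem_centralizer_iff]
    intro y hy
    obtain ⟨k, hk⟩ := hgen y hy
    obtain ⟨i, hi⟩ := hconj g hg
    obtain ⟨j, hj⟩ := hconj h hh
    have e1 : (g * h) * (x : G) * (g * h)⁻¹ = (x : G) ^ (i * j) := by
      have : (g * h) * (x : G) * (g * h)⁻¹ = g * (h * x * h⁻¹) * g⁻¹ := by group
      rw [this, hj, ← conj_zpow, hi, zpow_mul]
    have e2 : (h * g) * (x : G) * (h * g)⁻¹ = (x : G) ^ (i * j) := by
      have : (h * g) * (x : G) * (h * g)⁻¹ = h * (g * x * g⁻¹) * h⁻¹ := by group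
      rw [this, hi, ← conj_zpow, hj, mul_comm i j, zpow_mul]
    have e3 : ((g * h)⁻¹ * (h * g)) * (x : G) * ((g * h)⁻¹ * (h * g))⁻¹ = x := by
      have : ((g * h)⁻¹ * (h * g)) * (x : G) * ((g * h)⁻¹ * (h * g))⁻¹ = (g * h)⁻¹ * ((h * g) * x * (h * g)⁻¹) * (g * h) := by group
      rw [this, e2, ← e1]; group
    have e4 : ((g * h)⁻¹ * (h * g)) * y * ((g * h)⁻¹ * (h * g))⁻¹ = y := by
      rw [hk, ← conj_zpow, e3]
    exact (mul_inv_eq_iff_eq_mul.mp e4).symm
  have hcomm : ∀ u v : Subgroup.normalizer (S : Set G) ⧸ S.subgroupOf (Subgroup.normalizer (S : Set G)), u * v = v * u := by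
    intro u v
    obtain ⟨g, rfl⟩ := QuotientGroup.mk_surjective u
    obtain ⟨h, rfl⟩ := QuotientGroup.mk_surjective v
    rw [← QuotientGroup.mk_mul, ← QuotientGroup.mk_mul, QuotientGroup.eq, Subgroup.mem_subgroupOf]
    exact key g g.2 h h.2
  have h1 : eN (eN.symm (DihedralGroup.r 1) * eN.symm (DihedralGroup.sr 0)) = eN (eN.symm (DihedralGroup.sr 0) * eN.symm (DihedralGroup.r 1)) := by
    rw [hcomm]
  rw [map_mul, map_mul, MulEquiv.apply_symm_apply, MulEquiv.apply_symm_apply] at h1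
  revert h1
  decide

/-- Let G be a finite group with a Sylow 3-subgroup S of order 9 that is its own centralizer, with N_G(S)/S dihedral of order 8, and such that C_G(x) ≤ N_G(S) for every non-identity x in S. Then S is normal in G or G is isomorphic to the symmetric group of degree 6. -/
theorem result {G : Type*} [Group G] [Finite G]
    (P : Sylow 3 G) (S : Subgroup G) (hSP : S = P) (hcard : Nat.card S = 9)
    (hC : Subgroup.centralizer (S : Set G) = S)
    (eN : Subgroup.normalizer (S : Set G) ⧸ S.subgroupOf (Subgroup.normalizer (S : Set G)) ≃* DihedralGroup 4)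
    (hcent : ∀ x ∈ S, x ≠ 1 → Subgroup.centralizer ({x} : Set G) ≤ Subgroup.normalizer (S : Set G)) :
    S.Normal ∨ Nonempty (G ≃* Equiv.Perm (Fin 6)) := by

  have hf : Fact (Nat.Prime 3) := ⟨Nat.prime_three⟩
  have hcyc := not_cyc S hC eN
  have hTIS : TIS S :=
    { sylow := ⟨P, hSP.symm⟩
      exp := by
        intro s hs
        by_contra h3
        apply hcyc
        have h1 : orderOf (⟨s, hs⟩ : S) ∣ 3 ^ 2 := by
          have : orderOf (⟨s, hs⟩ : S) ∣ Nat.card S := orderOf_dvd_natCard _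
          rw [hcard] at this
          exact this
        obtain ⟨k, hk, hk'⟩ := (Nat.dvd_prime_pow Nat.prime_three).mp h1
        have h2 : k = 2 := by
          by_contra hk2
          apply h3
          have h4 : orderOf (⟨s, hs⟩ : S) ∣ 3 := by
            rw [hk']
            have : 3 ^ k ∣ 3 ^ 1 := Nat.pow_dvd_pow 3 (by omega)
            simpa using this
          exact congrArg Subtype.val (orderOf_dvd_iff_pow_eq_one.mp h4)
        rw [h2] at hk'
        exact isCyclic_of_orderOf_eq_card (⟨s, hs⟩ : S) (by rw [hk', hcard]; norm_num)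
      comm := comm9 hcard
      cent := hcent }
  have hSN : S ≤ Subgroup.normalizer (S : Set G) := Subgroup.le_normalizer
  obtain ⟨h72, E, ⟨e⟩⟩ := quotE _ (by rw [Nat.card_congr (Subgroup.subgroupOfEquivOfLe hSN).toEquiv]; exact hcard) eN
  obtain ⟨ρ, hρ, hf', cov⟩ := exists_rho hcard _ rfl h72 E e
  obtain ⟨a, b, W⟩ := exists_wr hTIS hcard (le_of_eq hC) hρ hf' cov
  exact recog W h72


end Cfsg.Agent.S3333
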