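import Cfsg.Statements.S3396
import Cfsg.Agent.Lib.CITEppo3

set_option autoImplicit false
open Cfsg

namespace Cfsg.Agent.S3396

theorem no_ti {G : Type*} [Group G] [Finite G] [IsSimpleGroup G] (hna : ¬ ∀ a b : G, a * b = b * a)
    (h : ∀ g : G, g ≠ 1 → IsPrimePow (orderOf g)) (h5 : ¬ 5 ∣ Nat.card G) (h9 : ∀ g : G, orderOf g ≠ 9)
    (hTI : Cfsg.Agent.Lib.CIT.TI2 G) : False := by
  rcases Cfsg.Agent.Lib.CIT.ti_suz hna (Cfsg.Agent.Lib.CIT.cit_of_eppo h) hTI with ⟨F, i1, i2, hch, h4, ⟨e⟩⟩ | hs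
  · have h' : ∀ g : Matrix.ProjectiveSpecialLinearGroup (Fin 2) F, g ≠ 1 → IsPrimePow (orderOf g) := by
      intro g hg
      have h2 := h (e.symm g) (fun h3 => hg (by simpa using h3))
      rwa [MulEquiv.orderOf_eq] at h2
    obtain ⟨p, hchar⟩ := CharP.exists F
    obtain ⟨f, hp, hpf⟩ := FiniteField.card F p
    have hp2 : p = 2 := CharP.eq F hchar hch
    subst hp2
    have hev : Even (Fintype.card F) := by rw [hpf]; exact even_two.pow_of_ne_zero f.pos.ne'
    have h1 := Cfsg.Agent.Lib.CIT.psl_eppo h' h4 (Or.inr (Or.inl ⟨_, hpf⟩))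
    obtain ⟨c, hc⟩ := hev
    have h2 : Fintype.card F = 4 ∨ Fintype.card F = 8 := by omega
    rcases h2 with h2 | h2
    · apply h5
      rw [Nat.card_congr e.toEquiv]
      exact Cfsg.Agent.Lib.CIT.five_dvd_psl (Or.inl h2)
    · obtain ⟨g, hg⟩ := Cfsg.Agent.Lib.CIT.nine_psl (Or.inl h2)
      apply h9 (e.symm g)
      rw [MulEquiv.orderOf_eq, hg]
  · apply h5
    obtain ⟨F, i1, i2, m, hm, hF, ⟨e⟩⟩ := Cfsg.Agent.Lib.SuzukiLie.isoSuzuki_iff.1 hs
    rw [Nat.card_congr e.toEquiv]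
    exact Cfsg.Agent.Lib.CIT.five_dvd_sz hm hF

/-- Let G be a finite group whose order has at least three distinct prime divisors, and suppose every nonidentity element of G has order a power of 2 or a prime other than 5. Then G is isomorphic to PSL₂(7) (here F is any field with 7 elements). In particular a finite group whose set of element orders is {1, 2, 3, 4, 7} is PSL₂(7). -/
theorem result {G : Type*} [Group G] [Finite G]
    {F : Type*} [Field F] [Fintype F] (hF : Fintype.card F = 7)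
    (h3 : 3 ≤ (Nat.card G).primeFactors.card)
    (hord : ∀ g : G, g ≠ 1 → (∃ k : ℕ, orderOf g = 2 ^ k) ∨ ((orderOf g).Prime ∧ orderOf g ≠ 5)) :
    Nonempty (G ≃* Matrix.ProjectiveSpecialLinearGroup (Fin 2) F) := by
  classical
  have h5 : ¬ 5 ∣ Nat.card G := by
    intro h5
    haveI : Fact (Nat.Prime 5) := ⟨by norm_num⟩
    obtain ⟨g, hg⟩ := exists_prime_orderOf_dvd_card' 5 h5
    rcases hord g (by rintro rfl; rw [orderOf_one] at hg; omega) with ⟨k, hk⟩ | ⟨-, h⟩
    · rw [hg] at hk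
      have h1 : 5 ∣ 2 ^ k := ⟨1, by omega⟩
      have := (show Nat.Prime 5 by norm_num).dvd_of_dvd_pow h1
      omega
    · exact h hg
  have h9 : ∀ g : G, orderOf g ≠ 9 := by
    intro g hg
    rcases hord g (by rintro rfl; rw [orderOf_one] at hg; omega) with ⟨k, hk⟩ | ⟨h, -⟩
    · rw [hg] at hk
      have h1 : 3 ∣ 2 ^ k := ⟨3, by omega⟩
      have := (show Nat.Prime 3 by norm_num).dvd_of_dvd_pow h1
      omega
    · rw [hg] at h
      revert h; norm_num
  have hE : ∀ g : G, g ≠ 1 → IsPrimePow (orderOf g) := by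
    intro g hg
    rcases hord g hg with ⟨k, hk⟩ | ⟨h, -⟩
    · rw [hk]
      have hk0 : k ≠ 0 := by
        rintro rfl
        rw [pow_zero] at hk
        exact hg (orderOf_eq_one_iff.1 hk)
      exact Nat.prime_two.isPrimePow.pow hk0
    · exact h.isPrimePow
  have hns : ¬ Group.IsSolvable G := by
    intro hs
    have := Cfsg.Agent.Lib.EPPO.card_primeFactors_le (H := G) hE
    omega
  have hcit := Cfsg.Agent.Lib.CIT.cit_of_eppo hE
  have hfin : ∀ (K : Type) (_ : Field K) (_ : Fintype K), Fintype.card K = 7 →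
      Nonempty (G ≃* Matrix.ProjectiveSpecialLinearGroup (Fin 2) K) →
      Nonempty (G ≃* Matrix.ProjectiveSpecialLinearGroup (Fin 2) F) := by
    intro K _ _ hK ⟨e⟩
    obtain ⟨f⟩ := Cfsg.Agent.Lib.CIT.psl_iso_of_card (F := K) (K := F) 2 (hK.trans hF.symm)
    exact ⟨e.trans f⟩
  rcases hcit.structure hns with hs | ⟨-, N, hN, hidx, F', i1, i2, hF', ⟨e⟩⟩ | ⟨hO, hn, hs, hcq, hTI, hnsq⟩
  · have hna := Cfsg.Agent.Lib.CIT.not_comm_of_not_solvable hns
    obtain ⟨K, i1, i2, hK, ⟨e⟩⟩ := Cfsg.Agent.Lib.CIT.eppo_five hna hE h5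
    simp only [Finset.mem_insert, Finset.mem_singleton] at hK
    rcases hK with hK | hK
    · exact hfin K i1 i2 hK ⟨e⟩
    · exfalso
      obtain ⟨g, hg⟩ := Cfsg.Agent.Lib.CIT.nine_psl hK
      apply h9 (e.symm g)
      rw [MulEquiv.orderOf_eq, hg]
  · exfalso
    apply h5
    have h1 : 5 ∣ Nat.card N := by
      rw [Nat.card_congr e.toEquiv]
      exact Cfsg.Agent.Lib.CIT.five_dvd_psl (Or.inr hF')
    exact h1.trans (Subgroup.card_subgroup_dvd_card N)
  · exfalso
    have hna := Cfsg.Agent.Lib.CIT.not_comm_of_not_solvable hnsq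
    refine no_ti hna (Cfsg.Agent.Lib.CIT.isPrimePow_quot _ hE) ?_ ?_ hTI
    · intro h
      exact h5 (h.trans (Subgroup.card_quotient_dvd_card _))
    · intro x hx
      obtain ⟨g, hg⟩ := Cfsg.Agent.Lib.CIT.exists_order_of_quot _ ⟨x, hx⟩
      exact h9 g hg

end Cfsg.Agent.S3396
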