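import Cfsg.Statements.S3718
import Cfsg.Agent.Lib.H15Rh
import Cfsg.Agent.Lib.H15TE
import Cfsg.Agent.Lib.H15TF
import Cfsg.Agent.Lib.CITSuz
import Cfsg.Agent.S0219

set_option autoImplicit false
open Cfsg

namespace Cfsg.Agent.S3718

open Cfsg.Agent.Lib.H15T Cfsg.Agent.Lib.H15TE Cfsg.Agent.Lib.H15TF

/-- a simple group of even order, not of prime order, has Sylow 2-subgroups of order at least `4` -/
theorem four_le_of_simple {G : Type*} [Group G] [Finite G] [IsSimpleGroup G] (hp : ¬ (Nat.card G).Prime)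
    (hev : 2 ∣ Nat.card G) (S : Sylow 2 G) : 4 ≤ Nat.card S := by
  haveI : Fact (Nat.Prime 2) := ⟨Nat.prime_two⟩
  by_contra hlt
  push Not at hlt
  obtain ⟨n, hn⟩ := S.isPGroup'.exists_card_eq
  have h1 : 2 ∣ Nat.card S := by
    rw [S.card_eq_multiplicity]
    apply dvd_pow_self
    exact ((Nat.prime_two).factorization_pos_of_dvd Nat.card_pos.ne' hev).ne'
  have hpos : 0 < Nat.card S := Nat.card_pos
  have hn' : Nat.card S = 2 := by
    obtain ⟨k, hk⟩ := h1
    omega
  have hcyc : IsCyclic (S : Subgroup G) := isCyclic_of_prime_card hn'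
  obtain ⟨H, hH⟩ := Cfsg.Agent.S0219.result (even_iff_two_dvd.2 hev) S hcyc
  haveI : H.Normal := Subgroup.normal_of_index_eq_two hH
  rcases IsSimpleGroup.eq_bot_or_eq_top_of_normal H inferInstance with h | h
  · rw [h, Subgroup.index_bot] at hH
    rw [hH] at hp
    exact hp Nat.prime_two
  · rw [h, Subgroup.index_top] at hH
    omega

/-- Let G be a finite simple group whose set of element orders contains at most one composite number (at most one element order that is neither 1 nor a prime). Then G is cyclic of prime order, or isomorphic to PSL₂(q) for q ∈ {5, 7, 8, 9, 11, 13, 16}, to PSL₃(4), to the Suzuki group Sz(8), to PSL₂(3ⁿ) with (3ⁿ − 1)/2 and (3ⁿ + 1)/4 both prime, or to PSL₂(2ⁿ) with 2ⁿ − 1 and (2ⁿ + 1)/3 both prime. -/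
theorem result {G : Type*} [Group G] [Finite G] [IsSimpleGroup G]
    (h1 : {n : ℕ | n ∈ Set.range (orderOf : G → ℕ) ∧ 1 < n ∧ ¬ n.Prime}.Subsingleton) :
    (Nat.card G).Prime ∨
    (∃ (F : Type) (_ : Field F) (_ : Fintype F), (Fintype.card F = 5 ∨ Fintype.card F = 7 ∨ Fintype.card F = 8 ∨ Fintype.card F = 9 ∨
        Fintype.card F = 11 ∨ Fintype.card F = 13 ∨ Fintype.card F = 16) ∧ Nonempty (G ≃* Matrix.ProjectiveSpecialLinearGroup (Fin 2) F)) ∨
    (∃ (F : Type) (_ : Field F) (_ : Fintype F), Fintype.card F = 4 ∧ Nonempty (G ≃* Matrix.ProjectiveSpecialLinearGroup (Fin 3) F)) ∨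
    (∃ (F : Type) (_ : Field F) (_ : Fintype F), Fintype.card F = 8 ∧ Nonempty (G ≃* ↥(Cfsg.Lie.Sz F 4))) ∨
    (∃ (F : Type) (_ : Field F) (_ : Fintype F), ∃ n r s : ℕ, r.Prime ∧ s.Prime ∧ 3 ^ n - 1 = 2 * r ∧ 3 ^ n + 1 = 4 * s ∧
        Fintype.card F = 3 ^ n ∧ Nonempty (G ≃* Matrix.ProjectiveSpecialLinearGroup (Fin 2) F)) ∨
    (∃ (F : Type) (_ : Field F) (_ : Fintype F), ∃ n r : ℕ, (2 ^ n - 1).Prime ∧ r.Prime ∧ 2 ^ n + 1 = 3 * r ∧
        Fintype.card F = 2 ^ n ∧ Nonempty (G ≃* Matrix.ProjectiveSpecialLinearGroup (Fin 2) F)) := by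
  haveI : Fact (Nat.Prime 2) := ⟨Nat.prime_two⟩
  by_cases hp : (Nat.card G).Prime
  · exact Or.inl hp
  right
  -- G is not commutative
  have hnc : ∃ a b : G, a * b ≠ b * a := by
    by_contra hcon
    push Not at hcon
    apply hp
    letI : CommGroup G := { (inferInstance : Group G) with mul_comm := hcon }
    exact IsSimpleGroup.prime_card
  by_cases hCIT : ∀ t : G, orderOf t = 2 → IsPGroup 2 (Subgroup.centralizer ({t} : Set G))
  · rcases Cfsg.Agent.Lib.CIT.main_iso (by push Not; exact hnc) hCIT with ⟨F, _, _, -, ⟨e⟩⟩ | h3 | hs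
    · rcases psl2_list h1 F e with h | h | h
      · exact Or.inl h
      · exact Or.inr (Or.inr (Or.inr (Or.inl h)))
      · exact Or.inr (Or.inr (Or.inr (Or.inr h)))
    · exact Or.inr (Or.inl h3)
    · exact Or.inr (Or.inr (Or.inl (suz_list h1 hs)))
  push Not at hCIT
  obtain ⟨t, ht, hC⟩ := hCIT
  obtain ⟨r, hr, hrd, hr2⟩ : ∃ r : ℕ, r.Prime ∧ r ∣ Nat.card (Subgroup.centralizer ({t} : Set G)) ∧ r ≠ 2 := by
    by_contra hcon
    push Not at hcon
    apply hC
    apply IsPGroup.of_card (n := (Nat.card (Subgroup.centralizer ({t} : Set G))).factorization 2)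
    have hne : Nat.card (Subgroup.centralizer ({t} : Set G)) ≠ 0 := Nat.card_pos.ne'
    conv_lhs => rw [← Nat.prod_factorization_pow_eq_self hne]
    rw [Finsupp.prod_of_support_subset (s := {2})]
    · rw [Finset.prod_singleton]
    · intro p hp
      rw [Nat.support_factorization, Nat.mem_primeFactors] at hp
      rw [Finset.mem_singleton]
      exact hcon p hp.1 hp.2.1
    · intro i _; exact pow_zero i
  haveI := Fact.mk hr
  obtain ⟨y, hy⟩ := exists_prime_orderOf_dvd_card' r hrd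
  have hyo : orderOf (y : G) = r := by rw [Subgroup.orderOf_coe]; exact hy
  have hyc : (y : G) * t = t * y := by
    have := y.2
    rw [Subgroup.mem_centralizer_singleton_iff] at this
    exact this.symm ▸ rfl
  have hx : orderOf ((y : G) * t) = 2 * r := by
    rw [orderOf_mul_of_comm hyc, hyo, ht, mul_comm]
    rw [hyo, ht]
    exact (Nat.coprime_primes hr Nat.prime_two).2 hr2
  have hcomp : ∀ z : G, orderOf z ≠ 1 → ¬ (orderOf z).Prime → orderOf z = 2 * r := by
    intro z hz1 hz2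
    apply h1 ⟨⟨z, rfl⟩, ?_, hz2⟩ ⟨⟨_, hx⟩, ?_, ?_⟩
    · have := orderOf_pos z
      omega
    · have := hr.two_le
      omega
    · exact Nat.not_prime_mul (by norm_num) hr.one_lt.ne'
  have h : HypR G r := by
    refine ⟨hr, hr2, fun z hz => ?_, fun z hz => ?_⟩
    · by_cases hz2 : (orderOf z).Prime
      · left; exact ((Nat.prime_dvd_prime_iff_eq Nat.prime_two hz2).1 hz).symm
      · right; apply hcomp z _ hz2
        intro h1; rw [h1] at hz; omega
    · by_cases hz2 : (orderOf z).Prime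
      · left; exact ((Nat.prime_dvd_prime_iff_eq hr hz2).1 hz).symm
      · right; apply hcomp z _ hz2
        intro h1; rw [h1, Nat.dvd_one] at hz
        exact hr.one_lt.ne' hz
  obtain ⟨S⟩ : Nonempty (Sylow 2 G) := inferInstance
  have hev : 2 ∣ Nat.card G := by rw [← ht]; exact orderOf_dvd_natCard t
  have h4 := four_le_of_simple hp hev S
  rcases lt_or_ge (Nat.card S) 8 with hlt | hge
  · have hS : Nat.card S = 4 := by
      obtain ⟨n, hn⟩ := S.isPGroup'.exists_card_eq
      have hn3 : n < 3 := (Nat.pow_lt_pow_iff_right (by norm_num : 1 < 2)).1 (by rw [← hn]; exact hlt)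
      have hn2 : 2 ≤ n := (Nat.pow_le_pow_iff_right (by norm_num : 1 < 2)).1 (by rw [← hn]; exact h4)
      have : n = 2 := by omega
      rw [hn, this]; norm_num
    obtain ⟨F, _, _, ⟨e⟩⟩ := h.four_case S hS
    rcases psl2_list h1 F e with h | h | h
    · exact Or.inl h
    · exact Or.inr (Or.inr (Or.inr (Or.inl h)))
    · exact Or.inr (Or.inr (Or.inr (Or.inr h)))
  · exact (h.big_case S hge _ hx).elim

end Cfsg.Agent.S3718
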