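import Mathlib
import Cfsg.Agent.Lib.GT27Chr
import Cfsg.Agent.Lib.GT27X
import Cfsg.Agent.Lib.GT27Real
import Cfsg.Agent.Lib.GT27Trq
import Cfsg.Agent.Lib.GT27Six
import Cfsg.Agent.Lib.GT27En
import Cfsg.Agent.Lib.GT27Spec
import Cfsg.Agent.Lib.H10GTEnum
import Cfsg.Agent.S1059

set_option autoImplicit false
set_option linter.all false


namespace Cfsg.Agent.S3427
open Cfsg

/-- the data of a group with the hypotheses -/
theorem good {G : Type*} [Group G] [Finite G] (hcard : Nat.card G = 12096)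
    (hs : ∀ g : G, g ^ 7 = 1 ∨ g ^ 8 = 1 ∨ g ^ 12 = 1) (h8 : ∃ g : G, orderOf g = 8) :
    ∃ c0 c1 c2 h : G, Cfsg.Agent.Lib.H10GTEnum.Good c0 c1 c2 h ∧
      (∀ Y : Subgroup G, Subgroup.closure ({c0, c1, c2} : Set G) < Y → Y = ⊤) ∧
      h ∉ Subgroup.closure ({c0, c1, c2} : Set G) := by
  obtain ⟨T, hTn, hTi, hTs, hTc⟩ := Cfsg.Agent.Lib.GT27NS.exists_T hcard hs
  haveI := hTn
  haveI := hTs
  letI : Fintype T := Fintype.ofFinite T
  have hsT : ∀ g : T, g ^ 7 = 1 ∨ g ^ 8 = 1 ∨ g ^ 12 = 1 := by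
    intro g
    rcases hs (g : G) with h | h | h
    · exact Or.inl (Subtype.ext (by rw [Subgroup.coe_pow, h, Subgroup.coe_one]))
    · exact Or.inr (Or.inl (Subtype.ext (by rw [Subgroup.coe_pow, h, Subgroup.coe_one])))
    · exact Or.inr (Or.inr (Subtype.ext (by rw [Subgroup.coe_pow, h, Subgroup.coe_one])))
  obtain ⟨χ, hχ, h1, hf, hint, hodd, hmain⟩ := Cfsg.Agent.Lib.GT27Chr.main hTc hsT
  obtain ⟨c0, c1, c2, e0, e1, e2, e01, e02, e12, hne, hn⟩ := Cfsg.Agent.Lib.GT27Trq.exists_triple hcard hs T hTi (by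
    intro s r hs7 hr3 hrs
    obtain ⟨hr0, hcount⟩ := hmain s r hs7 hr3 hrs
    exact ⟨Cfsg.Agent.Lib.GT27Real.real_of_zero hTc hsT χ hχ h1 hf hint hodd r hr3 hr0, hcount⟩)
  have e012 := Cfsg.Agent.Lib.GT27En.petrie hs ⟨e0, e1, e2, e01, e02, e12⟩ hn
  obtain ⟨-, hmax, h, hn', hh, hb, hd, h0h⟩ := Cfsg.Agent.Lib.GT27X.exists_h hcard hs c0 c1 c2 e0 e1 e2 e01 e02 e12 e012 hne
  exact ⟨c0, c1, c2, h, ⟨e0, e1, e2, e01, e02, e12, e012, hh, hb, hd, h0h⟩, hmax, hn'⟩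

theorem result {G : Type*} [Group G] [Finite G] {F : Type*} [Field F] [Fintype F] (hF : Fintype.card F = 2) :
    Nonempty (G ≃* ↥(Cfsg.Lie.chevG2.group F)) ↔
      (Set.range (orderOf : G → ℕ) = Set.range (orderOf : ↥(Cfsg.Lie.chevG2.group F) → ℕ) ∧ Nat.card G = Nat.card ↥(Cfsg.Lie.chevG2.group F)) := by
  have hM : Nat.card ↥(Cfsg.Lie.chevG2.group F) = 12096 := by
    rw [Cfsg.Agent.S1059.result hF]; norm_num
  haveI : Finite ↥(Cfsg.Lie.chevG2.group F) := Nat.finite_of_card_ne_zero (by rw [hM]; norm_num)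
  constructor
  · rintro ⟨e⟩
    refine ⟨?_, Nat.card_congr e.toEquiv⟩
    ext n
    constructor
    · rintro ⟨g, rfl⟩
      exact ⟨e g, by rw [MulEquiv.orderOf_eq]⟩
    · rintro ⟨g, rfl⟩
      exact ⟨e.symm g, by rw [MulEquiv.orderOf_eq]⟩
  · rintro ⟨hr, hc⟩
    obtain ⟨hsM, m, hm⟩ := Cfsg.Agent.Lib.GT27Spec.spec hF
    rw [hM] at hc
    have hsG : ∀ g : G, g ^ 7 = 1 ∨ g ^ 8 = 1 ∨ g ^ 12 = 1 := by
      intro g
      have h1 : orderOf g ∈ Set.range (orderOf : G → ℕ) := ⟨g, rfl⟩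
      rw [hr] at h1
      obtain ⟨k, hk⟩ := h1
      rcases hsM k with h | h | h
      · left
        rw [← orderOf_dvd_iff_pow_eq_one, ← hk, orderOf_dvd_iff_pow_eq_one]; exact h
      · right; left
        rw [← orderOf_dvd_iff_pow_eq_one, ← hk, orderOf_dvd_iff_pow_eq_one]; exact h
      · right; right
        rw [← orderOf_dvd_iff_pow_eq_one, ← hk, orderOf_dvd_iff_pow_eq_one]; exact h
    have h8G : ∃ g : G, orderOf g = 8 := by
      have h1 : (8 : ℕ) ∈ Set.range (orderOf : ↥(Cfsg.Lie.chevG2.group F) → ℕ) := ⟨m, hm⟩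
      rw [← hr] at h1
      exact h1
    obtain ⟨c0, c1, c2, h, HG, hmaxG, hnG⟩ := good hc hsG h8G
    obtain ⟨d0, d1, d2, k, HM, hmaxM, hnM⟩ := good hM hsM ⟨m, hm⟩
    exact Cfsg.Agent.Lib.H10GTEnum.nonempty_equiv hc hsG hM hsM HG hmaxG hnG HM hmaxM hnM

end Cfsg.Agent.S3427
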