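import Cfsg.Statements.S3501
import Cfsg.Agent.Lib.MinFactor
import Cfsg.Agent.Lib.Derange
import Cfsg.Agent.Lib.ExtPrim

set_option autoImplicit false
open Cfsg

namespace Cfsg.Agent.S3501

open MulAction Cfsg.Agent.Lib.MinFactor Cfsg.Agent.Lib.Derange

/-- one class of derangements, reformulated -/
theorem one_class_iff {G : Type*} [Group G] [Finite G] {Ω : Type*} [MulAction G Ω] :
    Nat.card {c : ConjClasses G // ∃ g : G, ConjClasses.mk g = c ∧ ∀ ω : Ω, g • ω ≠ ω} = 1 ↔
    (∃ g : G, (∀ ω : Ω, g • ω ≠ ω) ∧ ∀ h : G, (∀ ω : Ω, h • ω ≠ ω) → IsConj g h) := by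
  rw [Nat.card_eq_one_iff_unique]
  constructor
  · rintro ⟨hs, ⟨⟨c, g, hg, hgd⟩⟩⟩
    refine ⟨g, hgd, fun h hh => ?_⟩
    have := hs.elim ⟨ConjClasses.mk g, g, rfl, hgd⟩ ⟨ConjClasses.mk h, h, rfl, hh⟩
    exact ConjClasses.mk_eq_mk_iff_isConj.mp (congrArg Subtype.val this)
  · rintro ⟨g, hg, h⟩
    refine ⟨⟨?_⟩, ⟨⟨ConjClasses.mk g, g, rfl, hg⟩⟩⟩
    rintro ⟨c, x, rfl, hx⟩ ⟨d, y, rfl, hy⟩
    apply Subtype.ext
    exact ConjClasses.mk_eq_mk_iff_isConj.mpr ((h x hx).symm.trans (h y hy))

/-- sharply 2-transitive implies one class. -/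
theorem of_sharp {G : Type*} [Group G] [Finite G] {Ω : Type*} [Fintype Ω] [MulAction G Ω] (hΩ : 2 ≤ Fintype.card Ω)
    (h2 : MulAction.IsMultiplyPretransitive G Ω 2)
    (hs : ∀ g : G, g ≠ 1 → ∀ a b : Ω, a ≠ b → g • a = a → g • b ≠ b) :
    ∃ g : G, (∀ ω : Ω, g • ω ≠ ω) ∧ ∀ h : G, (∀ ω : Ω, h • ω ≠ ω) → IsConj g h := by
  classical
  have : Fintype G := Fintype.ofFinite G
  rw [is_two_pretransitive_iff] at h2
  have : Nontrivial Ω := Fintype.one_lt_card_iff_nontrivial.mp hΩ
  have : IsPretransitive G Ω := ⟨fun x y => by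
    by_cases hxy : x = y
    · exact ⟨1, by rw [one_smul, hxy]⟩
    · obtain ⟨g, hg, _⟩ := h2 hxy (Ne.symm hxy)
      exact ⟨g, hg⟩⟩
  set n := Fintype.card Ω with hn
  let D : Finset G := Finset.univ.filter (fun g => ∀ ω : Ω, g • ω ≠ ω)
  have hfix1 : Nat.card (fixedBy Ω (1 : G)) = n := by
    have : fixedBy Ω (1 : G) = Set.univ := by ext x; simp
    rw [this, Nat.card_congr (Equiv.Set.univ Ω), Nat.card_eq_fintype_card]
  have hfixD : ∀ g ∈ D, Nat.card (fixedBy Ω g) = 0 := by
    intro g hg
    have hg' : ∀ ω : Ω, g • ω ≠ ω := (Finset.mem_filter.mp hg).2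
    have : IsEmpty (fixedBy Ω g) := ⟨fun x => hg' x x.2⟩
    exact Nat.card_of_isEmpty
  have hfixle : ∀ g : G, g ≠ 1 → g ∉ D → Nat.card (fixedBy Ω g) = 1 := by
    intro g hg hgD
    have : ∃ ω : Ω, g • ω = ω := by
      by_contra hcon
      push Not at hcon
      exact hgD (Finset.mem_filter.mpr ⟨Finset.mem_univ _, hcon⟩)
    obtain ⟨ω, hω⟩ := this
    rw [Nat.card_eq_one_iff_unique]
    refine ⟨⟨fun a b => ?_⟩, ⟨⟨ω, hω⟩⟩⟩
    apply Subtype.ext
    by_contra hab
    exact hs g hg a b hab a.2 b.2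
  have h1D : (1 : G) ∉ D := by
    intro h
    obtain ⟨ω⟩ := (inferInstance : Nonempty Ω)
    exact (Finset.mem_filter.mp h).2 ω (one_smul _ _)
  have hsum := sum_fix (G := G) (Ω := Ω)
  have hcard : Nat.card G = Fintype.card G := Nat.card_eq_fintype_card
  -- sum over G = sum over D + value at 1 + others
  have hsplit : ∑ g : G, Nat.card (fixedBy Ω g) = n + ∑ g ∈ (Finset.univ.erase (1 : G)) \ D, 1 := by
    have e0 : (Finset.univ : Finset G) = insert 1 (((Finset.univ.erase (1 : G)) \ D) ∪ D) := by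
      ext g
      simp only [Finset.mem_univ, Finset.mem_insert, Finset.mem_union, Finset.mem_sdiff, Finset.mem_erase, true_iff]
      by_cases h : g = 1
      · exact Or.inl h
      · by_cases h' : g ∈ D
        · exact Or.inr (Or.inr h')
        · exact Or.inr (Or.inl ⟨⟨h, trivial⟩, h'⟩)
    conv_lhs => rw [e0]
    rw [Finset.sum_insert, hfix1, Finset.sum_union Finset.sdiff_disjoint, Finset.sum_eq_zero hfixD, add_zero]
    · congr 1
      apply Finset.sum_congr rfl
      intro g hg
      rw [Finset.mem_sdiff, Finset.mem_erase] at hg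
      exact hfixle g hg.1.1 hg.2
    · rw [Finset.mem_union]
      rintro (h | h)
      · simp at h
      · exact h1D h
  rw [hsplit, Finset.sum_const, smul_eq_mul, mul_one] at hsum
  have hDsub : D ⊆ Finset.univ.erase (1 : G) := by
    intro g hg
    rw [Finset.mem_erase]
    exact ⟨fun h => h1D (h ▸ hg), Finset.mem_univ _⟩
  have hc1 : ((Finset.univ.erase (1 : G)) \ D).card = Fintype.card G - 1 - D.card := by
    rw [Finset.card_sdiff_of_subset hDsub, Finset.card_erase_of_mem (Finset.mem_univ _), Finset.card_univ]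
  have hDle : D.card ≤ Fintype.card G - 1 := by
    have := Finset.card_le_card hDsub
    rwa [Finset.card_erase_of_mem (Finset.mem_univ _), Finset.card_univ] at this
  have hGpos : 0 < Fintype.card G := Fintype.card_pos
  have hDcard : D.card = n - 1 := by
    rw [hc1, hcard] at hsum
    omega
  have hDne : D.Nonempty := by
    rw [← Finset.card_pos, hDcard]; omega
  obtain ⟨g, hgD⟩ := hDne
  have hg : ∀ ω : Ω, g • ω ≠ ω := (Finset.mem_filter.mp hgD).2
  refine ⟨g, hg, ?_⟩
  -- card of the centralizer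
  obtain ⟨a, b, hab⟩ := exists_pair_ne Ω
  have hcent : Nat.card (Subgroup.centralizer {g}) ≤ n := by
    rw [hn, ← Nat.card_eq_fintype_card]
    apply Nat.card_le_card_of_injective (fun c : Subgroup.centralizer {g} => (c : G) • a)
    intro c d hcd
    have hcd' : (c : G) • a = (d : G) • a := hcd
    apply Subtype.ext
    by_contra hne
    have hx1 : (c : G)⁻¹ * d ≠ 1 := by
      intro h
      rw [inv_mul_eq_one] at h
      exact hne h
    have hxa : ((c : G)⁻¹ * d) • a = a := by
      rw [mul_smul, ← hcd', inv_smul_smul]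
    have hxg : ((c : G)⁻¹ * d) * g = g * ((c : G)⁻¹ * d) := by
      have hm : (c : G)⁻¹ * d ∈ Subgroup.centralizer {g} := (Subgroup.mul_mem _ (Subgroup.inv_mem _ c.2) d.2)
      rw [Subgroup.mem_centralizer_iff] at hm
      exact (hm g rfl).symm
    have hxga : ((c : G)⁻¹ * d) • (g • a) = g • a := by
      rw [← mul_smul, hxg, mul_smul, hxa]
    exact hs _ hx1 a (g • a) (hg a).symm hxa hxga
  -- |G| ≥ n (n-1)
  have hGge : n * (n - 1) ≤ Nat.card G := by
    have h3 : Function.Surjective (fun x : G => (⟨(x • a, x • b), fun h => hab (MulAction.injective x h)⟩ :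
        {p : Ω × Ω // p.1 ≠ p.2})) := by
      rintro ⟨⟨c, d⟩, hcd⟩
      obtain ⟨x, hx1, hx2⟩ := h2 hab hcd
      exact ⟨x, by simp [hx1, hx2]⟩
    have h4 := Nat.card_le_card_of_surjective _ h3
    have h5 : Nat.card {p : Ω × Ω // p.1 ≠ p.2} = n * (n - 1) := by
      rw [Nat.card_eq_fintype_card, Fintype.card_subtype]
      have : (Finset.univ.filter (fun p : Ω × Ω => p.1 ≠ p.2)) = (Finset.univ : Finset Ω).offDiag := by
        ext ⟨x, y⟩; simp
      rw [this, Finset.offDiag_card, Finset.card_univ]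
      rw [Nat.mul_sub, mul_one]
    rw [h5] at h4
    exact h4
  -- class of g
  let C : Finset G := Finset.univ.filter (fun h => IsConj g h)
  have hCD : C ⊆ D := by
    intro h hh
    have hh' : IsConj g h := (Finset.mem_filter.mp hh).2
    rw [isConj_iff] at hh'
    obtain ⟨c, rfl⟩ := hh'
    refine Finset.mem_filter.mpr ⟨Finset.mem_univ _, fun ω hω => hg (c⁻¹ • ω) ?_⟩
    rw [mul_smul, mul_smul, smul_eq_iff_eq_inv_smul] at hω
    exact hω
  have hCcard : C.card * Nat.card (Subgroup.centralizer {g}) = Nat.card G := by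
    have h6 := MulAction.card_orbit_mul_card_stabilizer_eq_card_group (ConjAct G) g
    have h7 : Fintype.card (orbit (ConjAct G) g) = C.card := by
      rw [← Set.toFinset_card]
      congr 1
      ext x
      rw [Set.mem_toFinset, ConjAct.mem_orbit_conjAct, Finset.mem_filter]
      constructor
      · intro h; exact ⟨Finset.mem_univ _, h.symm⟩
      · intro h; exact h.2.symm
    have h8 : Fintype.card (stabilizer (ConjAct G) g) = Nat.card (Subgroup.centralizer {g}) := by
      rw [← Nat.card_eq_fintype_card]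
      have := ConjAct.stabilizer_eq_centralizer g
      rw [this]
      rfl
    rw [← h7, ← h8, h6, Nat.card_eq_fintype_card]
    rfl
  have hCge : D.card ≤ C.card := by
    rw [hDcard]
    by_contra hlt
    push Not at hlt
    have h9 : Nat.card G ≤ C.card * n := by
      rw [← hCcard]; exact Nat.mul_le_mul_left _ hcent
    have h10 : C.card * n < (n - 1) * n := Nat.mul_lt_mul_of_pos_right hlt (by omega)
    have h11 : n * (n - 1) = (n - 1) * n := mul_comm _ _
    omega
  have hCeq : C = D := Finset.eq_of_subset_of_card_le hCD hCge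
  intro h hh
  have : h ∈ D := Finset.mem_filter.mpr ⟨Finset.mem_univ _, hh⟩
  rw [← hCeq] at this
  exact (Finset.mem_filter.mp this).2

/-- a normal abelian subgroup `N`, transitive, containing all derangements, all of them conjugate. -/
theorem affine_case {G : Type*} [Group G] [Finite G] {Ω : Type*} [Fintype Ω] [MulAction G Ω] [FaithfulSMul G Ω]
    (hΩ : 2 ≤ Fintype.card Ω) [IsPretransitive G Ω] (N : Subgroup G) (hN : N.Normal)
    (hab : ∀ a ∈ N, ∀ b ∈ N, a * b = b * a) (htr : ∀ a b : Ω, ∃ n ∈ N, n • a = b)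
    (hclass : ∀ g h : G, (∀ ω : Ω, g • ω ≠ ω) → (∀ ω : Ω, h • ω ≠ ω) → IsConj g h) :
    (MulAction.IsMultiplyPretransitive G Ω 2 ∧ ∀ g : G, g ≠ 1 → ∀ a b : Ω, a ≠ b → g • a = a → g • b ≠ b) := by
  classical
  have : Fintype G := Fintype.ofFinite G
  have : Nontrivial Ω := Fintype.one_lt_card_iff_nontrivial.mp hΩ
  set n := Fintype.card Ω with hn
  have hreg : ∀ m ∈ N, ∀ ω : Ω, m • ω = ω → m = 1 := by
    intro m hm ω hω
    refine FaithfulSMul.eq_of_smul_eq_smul (α := Ω) (fun x => ?_)
    obtain ⟨k, hk, rfl⟩ := htr ω x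
    rw [one_smul, ← mul_smul, hab m hm k hk, mul_smul, hω]
  have hder : ∀ m ∈ N, m ≠ 1 → ∀ ω : Ω, m • ω ≠ ω := fun m hm h1 ω hω => h1 (hreg m hm ω hω)
  obtain ⟨α⟩ := (inferInstance : Nonempty Ω)
  have hcardN : Nat.card N = n := by
    rw [hn, ← Nat.card_eq_fintype_card]
    refine Nat.card_congr (Equiv.ofBijective (fun m : N => (m : G) • α) ⟨?_, ?_⟩)
    · intro x y hxy
      have hxy' : (x : G) • α = (y : G) • α := hxy
      have := hreg ((x : G)⁻¹ * y) (N.mul_mem (N.inv_mem x.2) y.2) α (by rw [mul_smul, ← hxy', inv_smul_smul])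
      rw [inv_mul_eq_one] at this
      exact Subtype.ext this
    · intro y
      obtain ⟨m, hm, h⟩ := htr α y
      exact ⟨⟨m, hm⟩, h⟩
  -- nontrivial element of N
  obtain ⟨β, hβ⟩ := exists_ne α
  obtain ⟨m0, hm0, hm0β⟩ := htr α β
  have hm01 : m0 ≠ 1 := by rintro rfl; rw [one_smul] at hm0β; exact hβ hm0β.symm
  have hDN : ∀ g : G, (∀ ω : Ω, g • ω ≠ ω) → g ∈ N := by
    intro g hg
    obtain ⟨c, hc⟩ := isConj_iff.mp (hclass m0 g (hder m0 hm0 hm01) hg)
    rw [← hc]
    exact hN.conj_mem m0 hm0 c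
  constructor
  · rw [is_two_pretransitive_iff]
    -- stabilizer of a is transitive on the rest
    have hst : ∀ a b c : Ω, a ≠ b → a ≠ c → ∃ g : G, g • a = a ∧ g • b = c := by
      intro a b c hab' hac
      obtain ⟨m, hm, hmb⟩ := htr a b
      obtain ⟨k, hk, hkc⟩ := htr a c
      have hm1 : m ≠ 1 := by rintro rfl; rw [one_smul] at hmb; exact hab' hmb
      have hk1 : k ≠ 1 := by rintro rfl; rw [one_smul] at hkc; exact hac hkc
      obtain ⟨g, hg⟩ := isConj_iff.mp (hclass m k (hder m hm hm1) (hder k hk hk1))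
      obtain ⟨j, hj, hja⟩ := htr a (g • a)
      have h1 : (j⁻¹ * g) • a = a := by rw [mul_smul, ← hja, inv_smul_smul]
      refine ⟨j⁻¹ * g, h1, ?_⟩
      have h2 : (j⁻¹ * g) * m * (j⁻¹ * g)⁻¹ = k := by
        have : (j⁻¹ * g) * m * (j⁻¹ * g)⁻¹ = j⁻¹ * (g * m * g⁻¹) * j := by group
        rw [this, hg, hab _ (N.inv_mem hj) k hk]
        group
      have h1' : (j⁻¹ * g)⁻¹ • a = a := by rw [inv_smul_eq_iff, h1]
      rw [← hmb, ← mul_smul, ← hkc, ← h2, mul_smul (j⁻¹ * g * m) ((j⁻¹ * g)⁻¹), h1']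
    intro a b c d hab' hcd
    obtain ⟨x, hx⟩ := exists_smul_eq G a c
    have hxb : c ≠ x • b := by
      rw [← hx]; exact fun h => hab' (MulAction.injective x h)
    obtain ⟨y, hy1, hy2⟩ := hst c (x • b) d hxb hcd
    exact ⟨y * x, by rw [mul_smul, hx, hy1], by rw [mul_smul, hy2]⟩
  · -- sharpness by counting
    intro g hg1 a b hab' hga hgb
    have hsum := sum_fix (G := G) (Ω := Ω)
    let D : Finset G := Finset.univ.filter (fun g => ∀ ω : Ω, g • ω ≠ ω)
    have hDcard : D.card + 1 = n := by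
      have e1 : (insert 1 D) = Finset.univ.filter (fun g => g ∈ N) := by
        ext x
        rw [Finset.mem_insert, show (x ∈ Finset.univ.filter (fun g => g ∈ N)) ↔ x ∈ N by simp]
        constructor
        · rintro (rfl | h)
          · exact N.one_mem
          · exact hDN x (Finset.mem_filter.mp h).2
        · intro h
          by_cases hx : x = 1
          · exact Or.inl hx
          · exact Or.inr (Finset.mem_filter.mpr ⟨Finset.mem_univ _, hder x h hx⟩)
      have h1D : (1 : G) ∉ D := by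
        intro h
        exact (Finset.mem_filter.mp h).2 α (one_smul _ _)
      have e2 := congrArg Finset.card e1
      rw [Finset.card_insert_of_notMem h1D] at e2
      rw [e2, ← hcardN, Nat.card_eq_fintype_card, Fintype.card_subtype]
    have hfix1 : Nat.card (fixedBy Ω (1 : G)) = n := by
      have : fixedBy Ω (1 : G) = Set.univ := by ext x; simp
      rw [this, Nat.card_congr (Equiv.Set.univ Ω), Nat.card_eq_fintype_card]
    -- lower bound function
    have hlow : ∑ x : G, (if x ∈ D then 0 else 1) = Fintype.card G - D.card := by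
      rw [Finset.sum_ite]
      simp only [Finset.sum_const_zero, zero_add, Finset.sum_const, smul_eq_mul, mul_one]
      have : (Finset.univ.filter (fun x => x ∉ D)) = Finset.univ \ D := by ext; simp
      rw [this, Finset.card_sdiff_of_subset (Finset.subset_univ _), Finset.card_univ]
    have hge : ∀ x : G, (if x ∈ D then 0 else 1) ≤ Nat.card (fixedBy Ω x) := by
      intro x
      split_ifs with h
      · exact Nat.zero_le _
      · have : ∃ ω : Ω, x • ω = ω := by
          by_contra hcon
          push Not at hcon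
          exact h (Finset.mem_filter.mpr ⟨Finset.mem_univ _, hcon⟩)
        obtain ⟨ω, hω⟩ := this
        have : Nonempty (fixedBy Ω x) := ⟨⟨ω, hω⟩⟩
        exact Nat.card_pos
    have hg2 : 2 ≤ Nat.card (fixedBy Ω g) := by
      have : Nontrivial (fixedBy Ω g) := ⟨⟨⟨a, hga⟩, ⟨b, hgb⟩, fun h => hab' (congrArg Subtype.val h)⟩⟩
      exact Finite.one_lt_card
    have hgD : g ∉ D := fun h => (Finset.mem_filter.mp h).2 a hga
    have h1D : (1 : G) ∉ D := by
      intro h
      exact (Finset.mem_filter.mp h).2 α (one_smul _ _)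
    have hsplit : ∀ f : G → ℕ, ∑ x : G, f x = f 1 + (f g + ∑ x ∈ (Finset.univ.erase (1 : G)).erase g, f x) := by
      intro f
      rw [Finset.add_sum_erase _ f (by simp [hg1]), Finset.add_sum_erase _ f (Finset.mem_univ _)]
    have hrest : ∑ x ∈ (Finset.univ.erase (1 : G)).erase g, (if x ∈ D then 0 else 1) ≤
        ∑ x ∈ (Finset.univ.erase (1 : G)).erase g, Nat.card (fixedBy Ω x) :=
      Finset.sum_le_sum (fun x _ => hge x)
    rw [hsplit] at hsum hlow
    rw [hfix1] at hsum
    rw [if_neg h1D, if_neg hgD] at hlow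
    have hDle : D.card ≤ Fintype.card G := Finset.card_le_univ D
    have hcG : Nat.card G = Fintype.card G := Nat.card_eq_fintype_card
    omega

theorem to_sharp {G : Type*} [Group G] [Finite G] {Ω : Type*} [Fintype Ω] [MulAction G Ω] [FaithfulSMul G Ω] (hΩ : 2 ≤ Fintype.card Ω) (hprim : MulAction.IsPreprimitive G Ω) (hnas : ¬ ∃ T : Subgroup G, T.Normal ∧ IsSimpleGroup T ∧ ¬ IsMulCommutative T ∧ Subgroup.centralizer (T : Set G) = ⊥)
    (hclass : ∀ g h : G, (∀ ω : Ω, g • ω ≠ ω) → (∀ ω : Ω, h • ω ≠ ω) → IsConj g h) :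
    (MulAction.IsMultiplyPretransitive G Ω 2 ∧ ∀ g : G, g ≠ 1 → ∀ a b : Ω, a ≠ b → g • a = a → g • b ≠ b) := by
  classical
  have : Nontrivial Ω := Fintype.one_lt_card_iff_nontrivial.mp hΩ
  have hGnt : Nontrivial G := by
    obtain ⟨a, b, hab⟩ := exists_pair_ne Ω
    obtain ⟨g, hg⟩ := exists_smul_eq G a b
    refine ⟨⟨g, 1, ?_⟩⟩
    rintro rfl
    rw [one_smul] at hg
    exact hab hg
  -- nontrivial normal subgroups are transitive
  have hnormtr : ∀ N : Subgroup G, N.Normal → N ≠ ⊥ → ∀ a b : Ω, ∃ n ∈ N, n • a = b := by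
    intro N hN hN1 a b
    have hf : MulAction.fixedPoints N Ω ≠ Set.univ := by
      intro h
      apply hN1
      apply Lib.ExtPrim.normal_fix_bot N hN a
      intro n hn
      have : a ∈ MulAction.fixedPoints N Ω := by rw [h]; trivial
      exact this ⟨n, hn⟩
    have ht : IsPretransitive N Ω :=
      (inferInstance : MulAction.IsQuasiPreprimitive G Ω).isPretransitive_of_normal hf
    obtain ⟨⟨n, hn⟩, h⟩ := ht.exists_smul_eq a b
    exact ⟨n, hn, h⟩
  obtain ⟨N, hN⟩ := exists_min (G := G)
  have htr := hnormtr N hN.normal hN.ne_bot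
  by_cases hab : IsMulCommutative N
  · exact affine_case hΩ N hN.normal (fun a ha b hb => congrArg Subtype.val (hab.is_comm.comm ⟨a, ha⟩ ⟨b, hb⟩)) htr hclass
  exfalso
  obtain ⟨T, hT⟩ := exists_factor hN hab
  have hTconj : ∀ n ∈ N, ∀ t ∈ T, n * t * n⁻¹ ∈ T := fun n hn t ht =>
    (Subgroup.mem_normalizer_iff.mp (hT.le_norm hn) t).mp ht
  obtain ⟨α⟩ := (inferInstance : Nonempty Ω)
  -- T is not semiregular
  have hT2 : ∃ t0 ∈ T, t0 ≠ 1 ∧ t0 • α = α := by
    by_contra hcon
    push Not at hcon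
    have hder : ∀ t ∈ T, t ≠ 1 → ∀ ω : Ω, t • ω ≠ ω := by
      intro t ht ht1 ω hω
      obtain ⟨n, hn, rfl⟩ := htr α ω
      have h1 : n⁻¹ * t * n ∈ T := by
        have := hTconj n⁻¹ (N.inv_mem hn) t ht
        simpa using this
      refine hcon _ h1 ?_ ?_
      · intro h
        apply ht1
        have : t = n * (n⁻¹ * t * n) * n⁻¹ := by group
        rw [this, h]; group
      · rw [mul_smul, mul_smul, hω, inv_smul_smul]
    -- all nontrivial elements of T have the same order, a prime
    have hTnt : Nontrivial T := (Subgroup.nontrivial_iff_ne_bot T).mpr hT.ne_bot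
    obtain ⟨p, hp, hpd⟩ := Nat.exists_prime_and_dvd (n := Nat.card T) (by
      have := Finite.one_lt_card (α := T); omega)
    have : Fact p.Prime := ⟨hp⟩
    obtain ⟨x, hx⟩ := exists_prime_orderOf_dvd_card' p hpd
    have hx1 : (x : G) ≠ 1 := by
      intro h
      have : x = 1 := Subtype.ext h
      rw [this, orderOf_one] at hx
      exact hp.one_lt.ne hx
    have hpg : IsPGroup p T := by
      intro y
      by_cases hy : y = 1
      · exact ⟨0, by rw [hy]; simp⟩
      · refine ⟨1, ?_⟩
        have hy' : (y : G) ≠ 1 := fun h => hy (Subtype.ext h)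
        obtain ⟨c, hc⟩ := isConj_iff.mp (hclass x y (hder x x.2 hx1) (hder y y.2 hy'))
        have hxp : (x : G) ^ p = 1 := by
          have := pow_orderOf_eq_one x
          rw [hx] at this
          exact_mod_cast congrArg Subtype.val this
        apply Subtype.ext
        rw [pow_one, Subgroup.coe_pow, ← hc, conj_pow, hxp]
        simp
    have hcnt := hpg.center_nontrivial
    obtain ⟨z, hz⟩ := exists_ne (1 : Subgroup.center T)
    apply hz
    have h1 : ((z : T) : G) = 1 := by
      apply hT.inf_cent _ (z : T).2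
      intro t ht
      have := Subgroup.mem_center_iff.mp z.2 ⟨t, ht⟩
      exact (congrArg Subtype.val this).symm
    exact Subtype.ext (Subtype.ext h1)
  obtain ⟨t0, ht0, ht01, ht0α⟩ := hT2
  -- the projection R
  let R : Subgroup G :=
    { carrier := {t | t ∈ T ∧ ∃ c ∈ N, (∀ s ∈ T, c * s = s * c) ∧ (t * c) • α = α}
      mul_mem' := by
        rintro a b ⟨ha, c, hc, hcs, hcα⟩ ⟨hb, d, hd, hds, hdα⟩
        refine ⟨T.mul_mem ha hb, c * d, N.mul_mem hc hd, fun s hs => ?_, ?_⟩
        · rw [mul_assoc, hds s hs, ← mul_assoc, hcs s hs, mul_assoc]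
        · have : a * b * (c * d) = (a * c) * (b * d) := by
            calc a * b * (c * d) = a * (b * c) * d := by group
              _ = a * (c * b) * d := by rw [hcs b hb]
              _ = (a * c) * (b * d) := by group
          rw [this, mul_smul, hdα, hcα]
      one_mem' := ⟨T.one_mem, 1, N.one_mem, fun s _ => by simp, by simp⟩
      inv_mem' := by
        rintro a ⟨ha, c, hc, hcs, hcα⟩
        refine ⟨T.inv_mem ha, c⁻¹, N.inv_mem hc, fun s hs => ?_, ?_⟩
        · rw [inv_mul_eq_iff_eq_mul, ← mul_assoc, hcs s hs, mul_inv_cancel_right]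
        · rw [← mul_inv_rev, inv_smul_eq_iff, hcs a ha, hcα] }
  have hRT : R ≤ T := fun x hx => hx.1
  have hRne : R ≠ T := by
    intro hRT'
    let L : Subgroup G := T ⊓ stabilizer G α
    have hL := hT.simple L inf_le_left (by
      rintro t ht l ⟨hl, hlα⟩
      rw [← hRT'] at ht
      obtain ⟨ht', c, hc, hcs, hcα⟩ := ht
      refine ⟨T.mul_mem (T.mul_mem ht' hl) (T.inv_mem ht'), ?_⟩
      have hlα' : l • α = α := hlα
      show (t * l * t⁻¹) • α = α
      have h1 : t * l * t⁻¹ = (t * c) * l * (t * c)⁻¹ := by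
        calc t * l * t⁻¹ = t * (l * c) * c⁻¹ * t⁻¹ := by group
          _ = t * (c * l) * c⁻¹ * t⁻¹ := by rw [hcs l hl]
          _ = (t * c) * l * (t * c)⁻¹ := by group
      have h2 : (t * c)⁻¹ • α = α := by rw [inv_smul_eq_iff, hcα]
      rw [h1, mul_smul, mul_smul, h2, hlα', hcα])
    rcases hL with h | h
    · have : t0 ∈ L := ⟨ht0, ht0α⟩
      rw [h, Subgroup.mem_bot] at this
      exact ht01 this
    · apply hT.ne_bot
      rw [eq_bot_iff]
      intro t ht
      rw [Subgroup.mem_bot]
      refine FaithfulSMul.eq_of_smul_eq_smul (α := Ω) (fun x => ?_)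
      obtain ⟨n, hn, rfl⟩ := htr α x
      have h1 : n⁻¹ * t * n ∈ T := by
        have := hTconj n⁻¹ (N.inv_mem hn) t ht
        simpa using this
      rw [← h] at h1
      have h2 : (n⁻¹ * t * n) • α = α := h1.2
      rw [mul_smul, mul_smul, inv_smul_eq_iff] at h2
      rw [h2, one_smul]
  obtain ⟨t, ht, htR⟩ := exists_not_conj' R T hRT hRne
  have hder : ∀ c ∈ N, (∀ s ∈ T, c * s = s * c) → ∀ ω : Ω, (t * c) • ω ≠ ω := by
    intro c hc hcs ω hω
    obtain ⟨n, hn, rfl⟩ := htr α ω
    obtain ⟨s, hs, d, hd, hds, rfl⟩ := hT.decomp n hn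
    refine htR s hs ⟨T.mul_mem (T.mul_mem (T.inv_mem hs) ht) hs, d⁻¹ * c * d,
      N.mul_mem (N.mul_mem (N.inv_mem hd) hc) hd, ?_, ?_⟩
    · intro x hx
      calc d⁻¹ * c * d * x = d⁻¹ * c * (d * x) := by group
        _ = d⁻¹ * c * (x * d) := by rw [hds x hx]
        _ = d⁻¹ * (c * x) * d := by group
        _ = d⁻¹ * (x * c) * d := by rw [hcs x hx]
        _ = d⁻¹ * (x * d) * d⁻¹ * c * d := by group
        _ = d⁻¹ * (d * x) * d⁻¹ * c * d := by rw [hds x hx]
        _ = x * (d⁻¹ * c * d) := by group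
    · have h1 : s⁻¹ * t * s * (d⁻¹ * c * d) = (s * d)⁻¹ * (t * c) * (s * d) := by
        have hdi : ∀ x ∈ T, d⁻¹ * x = x * d⁻¹ := by
          intro x hx
          rw [inv_mul_eq_iff_eq_mul, ← mul_assoc, hds x hx, mul_inv_cancel_right]
        calc s⁻¹ * t * s * (d⁻¹ * c * d) = (s⁻¹ * t * s * d⁻¹) * c * d := by group
          _ = (d⁻¹ * (s⁻¹ * t * s)) * c * d := by
              rw [hdi _ (T.mul_mem (T.mul_mem (T.inv_mem hs) ht) hs)]
          _ = d⁻¹ * s⁻¹ * t * (s * c) * d := by group
          _ = d⁻¹ * s⁻¹ * t * (c * s) * d := by rw [hcs s hs]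
          _ = (s * d)⁻¹ * (t * c) * (s * d) := by group
      rw [h1, mul_smul, mul_smul, hω, inv_smul_smul]
  -- conclude that C_N(T) is central
  have hCT : ∀ c ∈ N, (∀ s ∈ T, c * s = s * c) → c = 1 := by
    intro c hc hcs
    have hconj := hclass (t * c) t (hder c hc hcs) (by
      have := hder 1 N.one_mem (fun s _ => by simp)
      simpa using this)
    obtain ⟨g, hg⟩ := isConj_iff.mp hconj
    -- centralizers in N
    let A : Subgroup G := N ⊓ Subgroup.centralizer {t * c}
    let B : Subgroup G := N ⊓ Subgroup.centralizer {t}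
    have hmemA : ∀ x, x ∈ A ↔ x ∈ N ∧ (t * c) * x = x * (t * c) := by
      intro x
      rw [Subgroup.mem_inf, Subgroup.mem_centralizer_iff]
      simp
    have hmemB : ∀ x, x ∈ B ↔ x ∈ N ∧ t * x = x * t := by
      intro x
      rw [Subgroup.mem_inf, Subgroup.mem_centralizer_iff]
      simp
    have hcardAB : Nat.card B ≤ Nat.card A := by
      have hcj : cj g A = B := by
        ext x
        rw [mem_cj, hmemA, hmemB]
        have e1 : t = g * (t * c) * g⁻¹ := hg.symm
        constructor
        · rintro ⟨h1, h2⟩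
          refine ⟨?_, ?_⟩
          · have := hN.normal.conj_mem _ h1 g
            rwa [show g * (g⁻¹ * x * g) * g⁻¹ = x by group] at this
          · calc t * x = g * ((t * c) * (g⁻¹ * x * g)) * g⁻¹ := by conv_lhs => rw [e1]
                                                                   group
              _ = g * ((g⁻¹ * x * g) * (t * c)) * g⁻¹ := by rw [h2]
              _ = x * (g * (t * c) * g⁻¹) := by group
              _ = x * t := by rw [← e1]
        · rintro ⟨h1, h2⟩
          refine ⟨?_, ?_⟩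
          · have := hN.normal.conj_mem _ h1 g⁻¹
            simpa using this
          · have e2 : t * c = g⁻¹ * t * g := by
              conv_rhs => rw [e1]
              group
            rw [e2]
            calc g⁻¹ * t * g * (g⁻¹ * x * g) = g⁻¹ * (t * x) * g := by group
              _ = g⁻¹ * (x * t) * g := by rw [h2]
              _ = g⁻¹ * x * g * (g⁻¹ * t * g) := by group
      rw [← hcj, card_cj]
    have hAB : A ≤ B := by
      intro x hx
      rw [hmemA] at hx
      rw [hmemB]
      obtain ⟨hxN, hx⟩ := hx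
      refine ⟨hxN, ?_⟩
      obtain ⟨s, hs, d, hd, hds, rfl⟩ := hT.decomp x hxN
      -- t c s d = s d t c  →  (t s)(c d) = (s t)(d c)
      have h1 : (t * s) * (c * d) = (s * t) * (d * c) := by
        calc (t * s) * (c * d) = t * (s * c) * d := by group
          _ = t * (c * s) * d := by rw [hcs s hs]
          _ = (t * c) * (s * d) := by group
          _ = (s * d) * (t * c) := hx
          _ = s * (d * t) * c := by group
          _ = s * (t * d) * c := by rw [hds t ht]
          _ = (s * t) * (d * c) := by group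
      -- u = (s t)⁻¹ (t s) = (d c) (c d)⁻¹ ∈ T ∩ C(T)
      have h2 : (s * t)⁻¹ * (t * s) = 1 := by
        apply hT.inf_cent _ (T.mul_mem (T.inv_mem (T.mul_mem hs ht)) (T.mul_mem ht hs))
        intro y hy
        have h3 : (s * t)⁻¹ * (t * s) = (d * c) * (c * d)⁻¹ := by
          rw [inv_mul_eq_iff_eq_mul, ← mul_assoc, ← h1]
          group
        rw [h3]
        have hci : ∀ x ∈ T, c⁻¹ * x = x * c⁻¹ := by
          intro x hx
          rw [inv_mul_eq_iff_eq_mul, ← mul_assoc, hcs x hx, mul_inv_cancel_right]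
        have hdi : ∀ x ∈ T, d⁻¹ * x = x * d⁻¹ := by
          intro x hx
          rw [inv_mul_eq_iff_eq_mul, ← mul_assoc, hds x hx, mul_inv_cancel_right]
        calc (d * c) * (c * d)⁻¹ * y = d * c * d⁻¹ * (c⁻¹ * y) := by group
          _ = d * c * d⁻¹ * (y * c⁻¹) := by rw [hci y hy]
          _ = d * c * (d⁻¹ * y) * c⁻¹ := by group
          _ = d * c * (y * d⁻¹) * c⁻¹ := by rw [hdi y hy]
          _ = d * (c * y) * d⁻¹ * c⁻¹ := by group
          _ = d * (y * c) * d⁻¹ * c⁻¹ := by rw [hcs y hy]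
          _ = (d * y) * c * d⁻¹ * c⁻¹ := by group
          _ = (y * d) * c * d⁻¹ * c⁻¹ := by rw [hds y hy]
          _ = y * ((d * c) * (c * d)⁻¹) := by group
      rw [inv_mul_eq_one] at h2
      calc t * (s * d) = (t * s) * d := by group
        _ = (s * t) * d := by rw [h2]
        _ = s * (t * d) := by group
        _ = s * (d * t) := by rw [hds t ht]
        _ = s * d * t := by group
    have hABeq : A = B := Subgroup.eq_of_le_of_card_ge hAB hcardAB
    apply hN.center_trivial hab c hc
    intro n hn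
    obtain ⟨s, hs, d, hd, hds, rfl⟩ := hT.decomp n hn
    have hdB : d ∈ B := by rw [hmemB]; exact ⟨hd, (hds t ht).symm⟩
    rw [← hABeq, hmemA] at hdB
    have h4 : t * (c * d) = t * (d * c) := by
      calc t * (c * d) = (t * c) * d := by group
        _ = d * (t * c) := hdB.2
        _ = (d * t) * c := by group
        _ = (t * d) * c := by rw [hds t ht]
        _ = t * (d * c) := by group
    have h5 : c * d = d * c := mul_left_cancel h4
    calc c * (s * d) = (c * s) * d := by group
      _ = (s * c) * d := by rw [hcs s hs]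
      _ = s * (c * d) := by group
      _ = s * (d * c) := by rw [h5]
      _ = s * d * c := by group
  -- so N = T is simple
  have hNT : N = T := by
    apply le_antisymm _ hT.le
    intro n hn
    obtain ⟨s, hs, d, hd, hds, rfl⟩ := hT.decomp n hn
    rw [hCT d hd hds, mul_one]
    exact hs
  subst hNT
  apply hnas
  have hsimple : IsSimpleGroup N := by
    have : Nontrivial N := (Subgroup.nontrivial_iff_ne_bot N).mpr hT.ne_bot
    refine ⟨fun L hL => ?_⟩
    have h := hT.simple (L.map N.subtype) (by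
      intro x hx
      obtain ⟨y, _, rfl⟩ := Subgroup.mem_map.mp hx
      exact y.2) (by
      intro t ht l hl
      obtain ⟨y, hy, rfl⟩ := Subgroup.mem_map.mp hl
      refine Subgroup.mem_map.mpr ⟨⟨t, ht⟩ * y * ⟨t, ht⟩⁻¹, hL.conj_mem y hy _, ?_⟩
      simp)
    rcases h with h | h
    · left
      exact (Subgroup.map_eq_bot_iff_of_injective _ N.subtype_injective).mp h
    · right
      rw [eq_top_iff]
      intro x _
      have : (x : G) ∈ L.map N.subtype := by rw [h]; exact x.2
      obtain ⟨y, hy, hyx⟩ := Subgroup.mem_map.mp this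
      have : y = x := Subtype.ext hyx
      rwa [← this]
  refine ⟨N, hN.normal, hsimple, hab, ?_⟩
  by_contra hC
  have hCn : (Subgroup.centralizer (N : Set G)).Normal := by
    have := hN.normal
    infer_instance
  have hCtr := hnormtr _ hCn hC
  apply ht01
  refine FaithfulSMul.eq_of_smul_eq_smul (α := Ω) (fun x => ?_)
  obtain ⟨c, hc, rfl⟩ := hCtr α x
  have := Subgroup.mem_centralizer_iff.mp hc t0 ht0
  rw [one_smul, ← mul_smul, this, mul_smul, ht0α]

/-- Let a finite group G act faithfully and primitively on a finite set Ω with at least two points, and suppose G is not almost simple (it has no non-abelian simple normal subgroup with trivial centralizer). Then the derangements of G form a single conjugacy class if and only if G is sharply 2-transitive (2-transitive, and no non-identity element fixes two points). -/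
theorem result {G : Type*} [Group G] [Finite G] {Ω : Type*} [Fintype Ω] [MulAction G Ω] [FaithfulSMul G Ω] (hΩ : 2 ≤ Fintype.card Ω) (hprim : MulAction.IsPreprimitive G Ω) (hnas : ¬ ∃ T : Subgroup G, T.Normal ∧ IsSimpleGroup T ∧ ¬ IsMulCommutative T ∧ Subgroup.centralizer (T : Set G) = ⊥) :
    Nat.card {c : ConjClasses G // ∃ g : G, ConjClasses.mk g = c ∧ ∀ ω : Ω, g • ω ≠ ω} = 1 ↔ (MulAction.IsMultiplyPretransitive G Ω 2 ∧ ∀ g : G, g ≠ 1 → ∀ a b : Ω, a ≠ b → g • a = a → g • b ≠ b) := by
  rw [one_class_iff]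
  constructor
  · rintro ⟨g, hg, h⟩
    exact to_sharp hΩ hprim hnas (fun x y hx hy => (h x hx).symm.trans (h y hy))
  · rintro ⟨h2, hs⟩
    exact of_sharp hΩ h2 hs

end Cfsg.Agent.S3501
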