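import Cfsg.Statements.S3520
import Cfsg.Agent.Lib.ThreePrimes
import Cfsg.Agent.Lib.PrimNormal
import Cfsg.Agent.Lib.Derange

set_option autoImplicit false
open Cfsg

namespace Cfsg.Agent.S3520

open MulAction Cfsg.Agent.Lib.MinNormal Cfsg.Agent.Lib.PrimNormal

/-- three pairwise non-conjugate derangements -/
theorem three_le {G Ω : Type*} [Group G] [Finite G] [MulAction G Ω] (a b c : G)
    (ha : ∀ ω : Ω, a • ω ≠ ω) (hb : ∀ ω : Ω, b • ω ≠ ω) (hc : ∀ ω : Ω, c • ω ≠ ω)
    (hab : ¬ IsConj a b) (hac : ¬ IsConj a c) (hbc : ¬ IsConj b c) :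
    3 ≤ Nat.card {c : ConjClasses G // ∃ g : G, ConjClasses.mk g = c ∧ ∀ ω : Ω, g • ω ≠ ω} := by
  classical
  have hfin : Finite (ConjClasses G) := Quotient.finite _
  set X := {c : ConjClasses G // ∃ g : G, ConjClasses.mk g = c ∧ ∀ ω : Ω, g • ω ≠ ω} with hX
  let A : X := ⟨ConjClasses.mk a, a, rfl, ha⟩
  let B : X := ⟨ConjClasses.mk b, b, rfl, hb⟩
  let C : X := ⟨ConjClasses.mk c, c, rfl, hc⟩
  have hAB : A ≠ B := fun h => hab (ConjClasses.mk_eq_mk_iff_isConj.mp (congrArg Subtype.val h))
  have hAC : A ≠ C := fun h => hac (ConjClasses.mk_eq_mk_iff_isConj.mp (congrArg Subtype.val h))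
  have hBC : B ≠ C := fun h => hbc (ConjClasses.mk_eq_mk_iff_isConj.mp (congrArg Subtype.val h))
  have := Fintype.ofFinite X
  rw [Nat.card_eq_fintype_card, ← Finset.card_univ]
  have h3 : ({A, B, C} : Finset X).card = 3 := Finset.card_eq_three.mpr ⟨A, B, C, hAB, hAC, hBC, rfl⟩
  rw [← h3]
  exact Finset.card_le_card (Finset.subset_univ _)

theorem orderOf_eq_of_isConj {G : Type*} [Group G] {a b : G} (h : IsConj a b) : orderOf a = orderOf b := by
  obtain ⟨c, hc⟩ := isConj_iff.mp h
  rw [← hc, ← MulAut.conj_apply, MulEquiv.orderOf_eq]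

open scoped Pointwise in
/-- The nonabelian case gives three classes. -/
theorem nonabelian_case {G : Type*} [Group G] [Finite G] {Ω : Type*} [Finite Ω] [MulAction G Ω]
    [FaithfulSMul G Ω] (hΩ : 2 ≤ Nat.card Ω) (hprim : IsPreprimitive G Ω)
    (hnas : ¬ ∃ T : Subgroup G, T.Normal ∧ IsSimpleGroup T ∧ ¬ IsMulCommutative T ∧ Subgroup.centralizer (T : Set G) = ⊥)
    (N : Subgroup G) (hN : MinBy ⊤ N) (hna : ¬ ∀ x ∈ N, ∀ y ∈ N, x * y = y * x) :
    3 ≤ Nat.card {c : ConjClasses G // ∃ g : G, ConjClasses.mk g = c ∧ ∀ ω : Ω, g • ω ≠ ω} := by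
  classical
  have hNn := hN.normal
  obtain ⟨T, hTN, hT⟩ := exists_minBy N N hN.ne_bot (InvBy.self N)
  have hTna := hN.nonabelian_of hT hTN hna
  have hNt : IsPretransitive N Ω := transitive_of_normal hprim N hN.ne_bot
  have hnt : Nonempty Ω := by
    by_contra h
    rw [not_nonempty_iff] at h
    rw [Nat.card_of_isEmpty] at hΩ
    omega
  -- Case I
  have caseI : (∀ t ∈ T, t ≠ 1 → ∀ ω : Ω, t • ω ≠ ω) →
      3 ≤ Nat.card {c : ConjClasses G // ∃ g : G, ConjClasses.mk g = c ∧ ∀ ω : Ω, g • ω ≠ ω} := by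
    intro hder
    obtain ⟨x, hx, y, hy, z, hz, hxp, hyp, hzp, hxy, hxz, hyz⟩ :=
      Cfsg.Agent.Lib.ThreePrimes.exists_three_primes_minBy hT hTna
    have hne1 : ∀ w : G, (orderOf w).Prime → w ≠ 1 := by
      rintro w hw rfl
      rw [orderOf_one] at hw
      exact Nat.not_prime_one hw
    exact three_le x y z (hder x hx (hne1 x hxp)) (hder y hy (hne1 y hyp)) (hder z hz (hne1 z hzp))
      (fun h => hxy (orderOf_eq_of_isConj h)) (fun h => hxz (orderOf_eq_of_isConj h))
      (fun h => hyz (orderOf_eq_of_isConj h))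
  -- N does not lie in a stabiliser
  have hNstab : ∀ α : Ω, ¬ N ≤ stabilizer G α := by
    intro α h
    have h1 : Subsingleton Ω := by
      refine ⟨fun x y => ?_⟩
      have h2 : ∀ x : Ω, x = α := by
        intro x
        obtain ⟨n, hn⟩ := exists_smul_eq N α x
        rw [← hn]
        exact h n.2
      rw [h2 x, h2 y]
    have := Finite.card_le_one_iff_subsingleton.mpr h1
    omega
  by_cases hTN' : T = N
  · -- N is simple
    subst hTN'
    have hsimple : IsSimpleGroup T := by
      have hTnt : Nontrivial T := by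
        rw [Subgroup.nontrivial_iff_ne_bot]; exact hT.ne_bot
      refine { eq_bot_or_eq_top_of_normal := fun M hM => ?_ }
      rcases hT.min (M.map T.subtype) (by
        rintro n hn _ ⟨m, hm, rfl⟩
        exact ⟨⟨n, hn⟩ * m * ⟨n, hn⟩⁻¹, hM.conj_mem m hm _, rfl⟩) (Subgroup.map_subtype_le M) with h | h
      · left
        exact (Subgroup.map_eq_bot_iff_of_injective _ T.subtype_injective).mp h
      · right
        rw [eq_top_iff]
        rintro x _
        have h1 : (x : G) ∈ M.map T.subtype := by rw [h]; exact x.2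
        obtain ⟨m, hm, hmx⟩ := h1
        have : m = x := Subtype.ext hmx
        rw [← this]; exact hm
    have hC : Subgroup.centralizer (T : Set G) ≠ ⊥ := by
      intro hC
      refine hnas ⟨T, hNn, hsimple, ?_, hC⟩
      intro hcomm
      apply hTna
      intro x hx y hy
      exact congrArg Subtype.val (hcomm.is_comm.comm (⟨x, hx⟩ : T) ⟨y, hy⟩)
    have hCn : (Subgroup.centralizer (T : Set G)).Normal := by
      exact invBy_top_iff.mp (InvBy.centralizer hT.inv |> fun _ => (InvBy.centralizer hN.inv))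
    have hCt : IsPretransitive (Subgroup.centralizer (T : Set G)) Ω := transitive_of_normal hprim _ hC
    apply caseI
    intro t ht ht1 ω hω
    exact ht1 (semiregular_of_centralizes (Subgroup.centralizer (T : Set G)) T
      (fun c hc n hn => ((Subgroup.mem_centralizer_iff.mp hc) n hn).symm) ω t ht hω)
  · obtain ⟨g, hg⟩ := hN.exists_conj_le hT hTN hTN'
    have hdec := hN.decomp hT hTN hna
    set B := N ⊓ Subgroup.centralizer (T : Set G) with hB
    obtain ⟨α⟩ := hnt
    set L := N ⊓ stabilizer G α with hL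
    set R := T ⊓ (L ⊔ B) with hR
    have hBN : ∀ n ∈ N, ∀ b ∈ B, n * b * n⁻¹ ∈ B := hdec.invB
    -- elements of L ⊔ B
    have hLB : ∀ x ∈ L ⊔ B, ∃ l ∈ L, ∃ b ∈ B, x = l * b := by
      intro x hx
      have h1 : L ≤ Subgroup.normalizer (B : Set G) := by
        intro l hl
        rw [Subgroup.mem_normalizer_iff]
        intro b
        refine ⟨fun hb => hBN l hl.1 b hb, fun hb => ?_⟩
        have h2 := hBN l⁻¹ (N.inv_mem hl.1) _ hb
        rwa [show l⁻¹ * (l * b * l⁻¹) * l⁻¹⁻¹ = b by group] at h2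
      have h3 := Subgroup.coe_mul_of_left_le_normalizer_right L B h1
      have h4 : x ∈ ((L : Set G) * (B : Set G)) := by rw [← h3]; exact hx
      obtain ⟨l, hl, b, hb, h5⟩ := h4
      exact ⟨l, hl, b, hb, h5.symm⟩
    by_cases hRT : R = T
    · -- (A)
      have hTle : T ≤ L ⊔ B := by rw [← hRT]; exact inf_le_right
      have hinv : InvBy N (T ⊓ L) := by
        -- normalised by L and by B, hence by N = T B
        have hl : ∀ l ∈ L, ∀ x ∈ T ⊓ L, l * x * l⁻¹ ∈ T ⊓ L := by
          intro l hl x hx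
          exact ⟨hT.inv l hl.1 x hx.1, L.mul_mem (L.mul_mem hl hx.2) (L.inv_mem hl)⟩
        have hb : ∀ b ∈ B, ∀ x ∈ T, b * x * b⁻¹ = x := by
          intro b hb x hx
          rw [← hdec.commute x hx b hb, mul_inv_cancel_right]
        intro n hn x hx
        obtain ⟨t, ht, b, hbB, rfl⟩ := hdec.prod n hn
        obtain ⟨l, hlL, b', hb', rfl⟩ := hLB t (hTle ht)
        have e : l * b' * b * x * (l * b' * b)⁻¹ = l * (b' * (b * x * b⁻¹) * b'⁻¹) * l⁻¹ := by group
        rw [e, hb b hbB x hx.1, hb b' hb' x hx.1]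
        exact hl l hlL x hx
      rcases hT.min _ hinv inf_le_left with h | h
      · -- all nontrivial elements of T are derangements
        apply caseI
        intro t ht ht1 ω hω
        apply ht1
        obtain ⟨n, hn⟩ := exists_smul_eq N α ω
        have hn' : (n : G) • α = ω := hn
        have h1 : (n : G)⁻¹ * t * n ∈ T ⊓ L := by
          have h2 : (n : G)⁻¹ * t * n ∈ T := by
            have := hT.inv (n : G)⁻¹ (N.inv_mem n.2) t ht
            rwa [inv_inv] at this
          refine ⟨h2, hTN h2, ?_⟩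
          show ((n : G)⁻¹ * t * n) • α = α
          rw [mul_smul, mul_smul, hn', hω, ← hn', inv_smul_smul]
        rw [h, Subgroup.mem_bot] at h1
        have : t = (n : G) * ((n : G)⁻¹ * t * n) * (n : G)⁻¹ := by group
        rw [this, h1]; group
      · -- T ≤ stabiliser
        exfalso
        have hTL : T ≤ stabilizer G α := by
          intro t ht
          have : t ∈ T ⊓ L := by rw [h]; exact ht
          exact this.2.2
        apply hNstab α
        apply hN.le_of_conj hTN hT.ne_bot
        intro x t ht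
        obtain ⟨n, hn⟩ := exists_smul_eq N (x • α) α
        have hn' : (n : G) • x • α = α := hn
        -- x = n⁻¹ (n x)
        set y := (n : G) * x with hy
        have hyα : y • α = α := by rw [hy, mul_smul]; exact hn'
        -- x t x⁻¹ = y (y⁻¹ x t x⁻¹ y) y⁻¹ with y⁻¹ x = x⁻¹ n⁻¹ x ∈ N
        have hm : x⁻¹ * (n : G)⁻¹ * x ∈ N := by
          have := hNn.conj_mem (n : G)⁻¹ (N.inv_mem n.2) x⁻¹
          rwa [inv_inv] at this
        have h2 := hT.inv _ hm t ht
        have e : x * t * x⁻¹ = y * ((x⁻¹ * (n : G)⁻¹ * x) * t * (x⁻¹ * (n : G)⁻¹ * x)⁻¹) * y⁻¹ := by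
          rw [hy]; group
        rw [e]
        have h3 := hTL h2
        rw [mem_stabilizer_iff, mul_smul, mul_smul]
        rw [mem_stabilizer_iff] at h3
        have h4 : y⁻¹ • α = α := by rw [inv_smul_eq_iff, hyα]
        rw [h4, h3, hyα]
    · -- (B)
      obtain ⟨t, ht, hts⟩ := Cfsg.Agent.Lib.Derange.exists_not_conj' R T inf_le_left hRT
      have ht1 : t ≠ 1 := by
        rintro rfl
        apply hts 1 T.one_mem
        simp
      have hder : ∀ c ∈ B, ∀ ω : Ω, (t * c) • ω ≠ ω := by
        intro c hc ω hω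
        obtain ⟨n, hn⟩ := exists_smul_eq N α ω
        have hn' : (n : G) • α = ω := hn
        obtain ⟨s, hs, d, hd, hnd⟩ := hdec.prod n n.2
        apply hts s hs
        refine ⟨T.mul_mem (T.mul_mem (T.inv_mem hs) ht) hs, ?_⟩
        have h1 : (n : G)⁻¹ * (t * c) * n ∈ L := by
          refine ⟨N.mul_mem (N.mul_mem (N.inv_mem n.2) (N.mul_mem (hTN ht) (hdec.leB hc))) n.2, ?_⟩
          show ((n : G)⁻¹ * (t * c) * n) • α = α
          rw [mul_smul, mul_smul, hn', hω, ← hn', inv_smul_smul]
        have e : s⁻¹ * t * s = ((n : G)⁻¹ * (t * c) * n) * (d⁻¹ * c * d)⁻¹ := by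
          have hst : s⁻¹ * t * s ∈ T := T.mul_mem (T.mul_mem (T.inv_mem hs) ht) hs
          have h2 : (n : G)⁻¹ * (t * c) * n = (s⁻¹ * t * s) * (d⁻¹ * c * d) := by
            rw [hnd]
            have c1 : c * s = s * c := (hdec.commute s hs c hc).symm
            have c2 : d⁻¹ * (s⁻¹ * t * s) = (s⁻¹ * t * s) * d⁻¹ := (hdec.commute _ hst _ (B.inv_mem hd)).symm
            calc (s * d)⁻¹ * (t * c) * (s * d) = d⁻¹ * s⁻¹ * t * (c * s) * d := by group
              _ = d⁻¹ * s⁻¹ * t * (s * c) * d := by rw [c1]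
              _ = (d⁻¹ * (s⁻¹ * t * s)) * c * d := by group
              _ = ((s⁻¹ * t * s) * d⁻¹) * c * d := by rw [c2]
              _ = (s⁻¹ * t * s) * (d⁻¹ * c * d) := by group
          rw [h2, mul_inv_cancel_right]
        rw [e]
        exact (L ⊔ B).mul_mem (le_sup_left (a := L) h1)
          ((L ⊔ B).inv_mem (le_sup_right (a := L) (B.mul_mem (B.mul_mem (B.inv_mem hd) hc) hd)))
      -- the conjugation invariant set of elements lying in a conjugate of T
      let U : G → Prop := fun y => ∃ h : G, y ∈ cj h T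
      have hUc : ∀ a b : G, IsConj a b → U a → U b := by
        rintro a b hab ⟨h, hh⟩
        obtain ⟨c, hc⟩ := isConj_iff.mp hab
        refine ⟨c * h, ?_⟩
        rw [mem_cj] at hh ⊢
        rw [← hc, show (c * h)⁻¹ * (c * a * c⁻¹) * (c * h) = h⁻¹ * a * h by group]
        exact hh
      have hUT : ∀ y ∈ T, U y := fun y hy => ⟨1, by rw [mem_cj]; simpa using hy⟩
      have hTC := hT.inf_centralizer hTna
      have hUnot : ∀ u ∈ T, u ≠ 1 → ∀ x ∈ B, x ≠ 1 → ¬ U (u * x) := by
        rintro u hu hu1 x hx hx1 ⟨h, hh⟩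
        have hxC : x ∈ Subgroup.centralizer (T : Set G) := hx.2
        rcases hN.conj_eq_or_le hT hTN h with h1 | h1
        · rw [h1] at hh
          have hxT : x ∈ T := by
            have := T.mul_mem (T.inv_mem hu) hh
            rwa [inv_mul_cancel_left] at this
          apply hx1
          have : x ∈ T ⊓ Subgroup.centralizer (T : Set G) := ⟨hxT, hxC⟩
          rwa [hTC, Subgroup.mem_bot] at this
        · have h2 := (h1 hh).2
          have huC : u ∈ Subgroup.centralizer (T : Set G) := by
            have := (Subgroup.centralizer (T : Set G)).mul_mem h2 ((Subgroup.centralizer (T : Set G)).inv_mem hxC)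
            rwa [mul_inv_cancel_right] at this
          apply hu1
          have : u ∈ T ⊓ Subgroup.centralizer (T : Set G) := ⟨hu, huC⟩
          rwa [hTC, Subgroup.mem_bot] at this
      -- choose primes
      obtain ⟨x, hx, y, hy, hxp, hyp, hxy, htx⟩ : ∃ x ∈ T, ∃ y ∈ T, (orderOf x).Prime ∧ (orderOf y).Prime ∧
          orderOf x ≠ orderOf y ∧ orderOf t ≠ orderOf x := by
        obtain ⟨x, hx, y, hy, z, hz, hxp, hyp, hzp, hxy, hxz, hyz⟩ :=
          Cfsg.Agent.Lib.ThreePrimes.exists_three_primes_minBy hT hTna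
        by_cases h : orderOf t = orderOf x
        · exact ⟨y, hy, x, hx, hyp, hxp, hxy.symm, by rw [h]; exact hxy⟩
        · exact ⟨x, hx, y, hy, hxp, hyp, hxy, h⟩
      -- move x, y to B
      obtain ⟨x', hx', hxo⟩ := exists_mem_order_of_cj hg hx
      obtain ⟨y', hy', hyo⟩ := exists_mem_order_of_cj hg hy
      have hne1 : ∀ w : G, (orderOf w).Prime → w ≠ 1 := by
        rintro w hw rfl
        rw [orderOf_one] at hw
        exact Nat.not_prime_one hw
      have hx'1 : x' ≠ 1 := hne1 x' (by rw [hxo]; exact hxp)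
      have hy'1 : y' ≠ 1 := hne1 y' (by rw [hyo]; exact hyp)
      refine three_le t (t * x') (t * y') ?_ (hder x' hx') (hder y' hy') ?_ ?_ ?_
      · have := hder 1 B.one_mem
        rwa [mul_one] at this
      · intro h
        exact hUnot t ht ht1 x' hx' hx'1 (hUc _ _ h (hUT t ht))
      · intro h
        exact hUnot t ht ht1 y' hy' hy'1 (hUc _ _ h (hUT t ht))
      · intro h
        -- compare r-th powers
        set r := orderOf x with hr
        have h1 : IsConj ((t * x') ^ r) ((t * y') ^ r) := by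
          obtain ⟨c, hc⟩ := isConj_iff.mp h
          refine isConj_iff.mpr ⟨c, ?_⟩
          rw [← hc, conj_pow]
        have h2 : (t * x') ^ r = t ^ r := by
          rw [(show Commute t x' from hdec.commute t ht x' hx').mul_pow, ← hxo, pow_orderOf_eq_one, mul_one]
        have h3 : (t * y') ^ r = t ^ r * y' ^ r := (show Commute t y' from hdec.commute t ht y' hy').mul_pow r
        rw [h2, h3] at h1
        refine hUnot (t ^ r) (T.pow_mem ht r) ?_ (y' ^ r) (B.pow_mem hy' r) ?_ (hUc _ _ h1 (hUT _ (T.pow_mem ht r)))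
        · intro h4
          rcases (Nat.dvd_prime hxp).mp (orderOf_dvd_of_pow_eq_one h4) with h5 | h5
          · exact ht1 (orderOf_eq_one_iff.mp h5)
          · exact htx h5
        · intro h4
          rcases (Nat.dvd_prime hxp).mp (orderOf_dvd_of_pow_eq_one h4) with h5 | h5
          · exact hy'1 (orderOf_eq_one_iff.mp h5)
          · exact hxy (by rw [← h5, hyo])


/-- Let a finite group G act faithfully and primitively on a finite set Ω with at least two points, suppose G is not almost simple (no non-abelian simple normal subgroup with trivial centralizer), and suppose the derangements of G form exactly two conjugacy classes. Then either Ω has 3 points and G has order 3; or G has a non-trivial abelian normal subgroup N acting regularly, every non-identity element of G fixes at most one point (so, when n > 3, G is a Frobenius group with kernel N), the number n of points is odd and a point stabilizer has order (n − 1)/2; or G is 2-transitive with a non-trivial abelian regular normal subgroup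 and some non-identity element fixes at least two points (a non-Frobenius 2-transitive affine group). -/
theorem result {G : Type*} [Group G] [Finite G] {Ω : Type*} [Fintype Ω] [MulAction G Ω] [FaithfulSMul G Ω] (hΩ : 2 ≤ Fintype.card Ω) (hprim : MulAction.IsPreprimitive G Ω) (hnas : ¬ ∃ T : Subgroup G, T.Normal ∧ IsSimpleGroup T ∧ ¬ IsMulCommutative T ∧ Subgroup.centralizer (T : Set G) = ⊥)
    (hκ : Nat.card {c : ConjClasses G // ∃ g : G, ConjClasses.mk g = c ∧ ∀ ω : Ω, g • ω ≠ ω} = 2) (α : Ω) :
    (Fintype.card Ω = 3 ∧ Nat.card G = 3) ∨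
    ((∃ N : Subgroup G, N.Normal ∧ N ≠ ⊥ ∧ IsMulCommutative N ∧ ∀ ω : Ω, MulAction.stabilizer N ω = ⊥) ∧ (∀ g : G, g ≠ 1 → Nat.card (MulAction.fixedBy Ω g) ≤ 1) ∧ ¬ 2 ∣ Fintype.card Ω ∧
        2 * Nat.card (MulAction.stabilizer G α) = Fintype.card Ω - 1) ∨
    ((∃ N : Subgroup G, N.Normal ∧ N ≠ ⊥ ∧ IsMulCommutative N ∧ ∀ ω : Ω, MulAction.stabilizer N ω = ⊥) ∧ MulAction.IsMultiplyPretransitive G Ω 2 ∧ ∃ g : G, g ≠ 1 ∧ 2 ≤ Nat.card (MulAction.fixedBy Ω g)) := by
  classical
  have hfinΩ : Finite Ω := inferInstance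
  have hΩ' : 2 ≤ Nat.card Ω := by rw [Nat.card_eq_fintype_card]; exact hΩ
  have hGnt : Nontrivial G := by
    by_contra h
    rw [not_nontrivial_iff_subsingleton] at h
    have h1 : Subsingleton Ω := by
      refine ⟨fun x y => ?_⟩
      obtain ⟨g, hg⟩ := exists_smul_eq G x y
      rw [← hg, Subsingleton.elim g 1, one_smul]
    have := Finite.card_le_one_iff_subsingleton.mpr h1
    omega
  obtain ⟨N, _, hN⟩ := exists_minBy (⊤ : Subgroup G) ⊤ top_ne_bot (InvBy.self ⊤)
  have hNn := hN.normal
  by_cases hna : ∀ x ∈ N, ∀ y ∈ N, x * y = y * x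
  swap
  · exfalso
    have := nonabelian_case hΩ' hprim hnas N hN hna
    omega
  have hNt : IsPretransitive N Ω := transitive_of_normal hprim N hN.ne_bot
  have hreg : ∀ n ∈ N, ∀ ω : Ω, n • ω = ω → n = 1 := fun n hn ω h =>
    semiregular_of_centralizes N N hna ω n hn h
  have haff : ∃ N : Subgroup G, N.Normal ∧ N ≠ ⊥ ∧ IsMulCommutative N ∧ ∀ ω : Ω, MulAction.stabilizer N ω = ⊥ := by
    refine ⟨N, hNn, hN.ne_bot, ⟨⟨fun a b => Subtype.ext (hna a a.2 b b.2)⟩⟩, fun ω => ?_⟩
    exact stabilizer_eq_bot_of_semiregular N ω (fun n hn h => hreg n hn ω h)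
  have hderN : ∀ n ∈ N, n ≠ 1 → ∀ ω : Ω, n • ω ≠ ω := fun n hn h1 ω h => h1 (hreg n hn ω h)
  right
  by_cases hB1 : ∀ g : G, g ≠ 1 → Nat.card (fixedBy Ω g) ≤ 1
  · left
    refine ⟨haff, hB1, ?_⟩
    -- derangements are exactly the nontrivial elements of N
    have hcent : ∀ h ∈ stabilizer G α, h ≠ 1 → ∀ n ∈ N, h * n = n * h → n = 1 := by
      intro h hh h1 n hn hc
      by_contra hn1
      have h2 : h • (n • α) = n • α := by rw [← mul_smul, hc, mul_smul, mem_stabilizer_iff.mp hh]
      have h3 : n • α ≠ α := hderN n hn hn1 α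
      have h4 := hB1 h h1
      have h5 : Subsingleton (fixedBy Ω h) := Finite.card_le_one_iff_subsingleton.mp h4
      exact h3 (congrArg Subtype.val (h5.elim ⟨n • α, h2⟩ ⟨α, hh⟩))
    have hNcard : Nat.card N = Fintype.card Ω := by
      rw [← Nat.card_eq_fintype_card]
      refine Nat.card_congr (Equiv.ofBijective (fun n : N => n • α) ⟨fun a b hab => ?_, fun y => exists_smul_eq N α y⟩)
      have hab' : (a : G) • α = (b : G) • α := hab
      have h1 : (b : G)⁻¹ * a = 1 := hreg _ (N.mul_mem (N.inv_mem b.2) a.2) α (by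
        rw [mul_smul, hab', inv_smul_smul])
      exact Subtype.ext (inv_mul_eq_one.mp h1).symm
    have hdec : ∀ g : G, ∃ n ∈ N, ∃ h ∈ stabilizer G α, g = n * h := by
      intro g
      obtain ⟨n, hn⟩ := exists_smul_eq N α (g • α)
      have hn' : (n : G) • α = g • α := hn
      refine ⟨n, n.2, (n : G)⁻¹ * g, ?_, by rw [mul_inv_cancel_left]⟩
      rw [mem_stabilizer_iff, mul_smul, ← hn', inv_smul_smul]
    have hder_mem : ∀ g : G, (∀ ω : Ω, g • ω ≠ ω) → g ∈ N ∧ g ≠ 1 := by
      intro g hg
      refine ⟨?_, ?_⟩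
      · obtain ⟨n, hn, h, hh, rfl⟩ := hdec g
        by_cases h1 : h = 1
        · rw [h1, mul_one]; exact hn
        · exfalso
          -- n ↦ m * h * m⁻¹ * h⁻¹ is injective on N, hence surjective
          let φ : N → N := fun m => ⟨m * (h * (m : G)⁻¹ * h⁻¹), N.mul_mem m.2 (hNn.conj_mem _ (N.inv_mem m.2) h)⟩
          have hφ : Function.Injective φ := by
            intro a b hab
            have hab' : (a : G) * (h * (a : G)⁻¹ * h⁻¹) = b * (h * (b : G)⁻¹ * h⁻¹) := congrArg Subtype.val hab
            have h2 : (b : G)⁻¹ * a = 1 := by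
              apply hcent h hh h1 _ (N.mul_mem (N.inv_mem b.2) a.2)
              have e1 : (b : G)⁻¹ * a = (h * (b : G)⁻¹ * h⁻¹) * (h * (a : G)⁻¹ * h⁻¹)⁻¹ := by
                rw [eq_mul_inv_iff_mul_eq, mul_assoc, hab', inv_mul_cancel_left]
              have e2 : (b : G)⁻¹ * a = h * ((b : G)⁻¹ * a) * h⁻¹ := by
                conv_lhs => rw [e1]
                group
              conv_rhs => rw [e2]
              group
            exact Subtype.ext (inv_mul_eq_one.mp h2).symm
          obtain ⟨m, hm⟩ := (Finite.injective_iff_surjective.mp hφ) ⟨n, hn⟩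
          have hm' : (m : G) * (h * (m : G)⁻¹ * h⁻¹) = n := congrArg Subtype.val hm
          apply hg ((m : G) • α)
          rw [← mul_smul, ← hm']
          have e : (m : G) * (h * (m : G)⁻¹ * h⁻¹) * h * m = m * h := by group
          rw [e, mul_smul, mem_stabilizer_iff.mp hh]
      · rintro rfl
        exact hg α (one_smul _ _)
    -- conjugacy classes inside N
    have hconj : ∀ x ∈ N, x ≠ 1 → Nat.card {y : G // IsConj x y} = Nat.card (stabilizer G α) := by
      intro x hx hx1
      symm
      refine Nat.card_congr (Equiv.ofBijective (fun h : stabilizer G α => (⟨(h : G) * x * (h : G)⁻¹,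
        isConj_iff.mpr ⟨h, rfl⟩⟩ : {y : G // IsConj x y})) ⟨?_, ?_⟩)
      · intro a b hab
        have hab' : (a : G) * x * (a : G)⁻¹ = b * x * (b : G)⁻¹ := congrArg Subtype.val hab
        by_contra hne
        apply hx1
        refine hcent ((b : G)⁻¹ * a) ((stabilizer G α).mul_mem ((stabilizer G α).inv_mem b.2) a.2) ?_ x hx ?_
        · intro h
          exact hne (Subtype.ext (inv_mul_eq_one.mp h).symm)
        · calc (b : G)⁻¹ * a * x = (b : G)⁻¹ * (a * x * (a : G)⁻¹) * a := by group
            _ = (b : G)⁻¹ * (b * x * (b : G)⁻¹) * a := by rw [hab']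
            _ = x * ((b : G)⁻¹ * a) := by group
      · rintro ⟨y, hy⟩
        obtain ⟨c, hc⟩ := isConj_iff.mp hy
        obtain ⟨n, hn, h, hh, hc'⟩ := hdec c⁻¹
        refine ⟨⟨h⁻¹, (stabilizer G α).inv_mem hh⟩, ?_⟩
        apply Subtype.ext
        show h⁻¹ * x * h⁻¹⁻¹ = y
        rw [← hc]
        have hc2 : c = h⁻¹ * n⁻¹ := by rw [← inv_inv c, hc', mul_inv_rev]
        have hcx : n⁻¹ * x * n = x := by rw [hna _ (N.inv_mem hn) x hx, inv_mul_cancel_right]
        rw [hc2]
        calc h⁻¹ * x * h⁻¹⁻¹ = h⁻¹ * (n⁻¹ * x * n) * h⁻¹⁻¹ := by rw [hcx]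
          _ = h⁻¹ * n⁻¹ * x * (h⁻¹ * n⁻¹)⁻¹ := by group
    -- counting
    have hcount : Nat.card {g : G // ∀ ω : Ω, g • ω ≠ ω} = 2 * Nat.card (stabilizer G α) := by
      set X := {c : ConjClasses G // ∃ g : G, ConjClasses.mk g = c ∧ ∀ ω : Ω, g • ω ≠ ω} with hX
      let f : {g : G // ∀ ω : Ω, g • ω ≠ ω} → X := fun g => ⟨ConjClasses.mk g.1, g.1, rfl, g.2⟩
      have h1 : Nat.card {g : G // ∀ ω : Ω, g • ω ≠ ω} = Nat.card (Σ c : X, {g : {g : G // ∀ ω : Ω, g • ω ≠ ω} // f g = c}) :=
        Nat.card_congr (Equiv.sigmaFiberEquiv f).symm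
      have hfinC : Finite (ConjClasses G) := Quotient.finite _
      have := Fintype.ofFinite X
      rw [h1, Nat.card_sigma]
      have h2 : ∀ c : X, Nat.card {g : {g : G // ∀ ω : Ω, g • ω ≠ ω} // f g = c} = Nat.card (stabilizer G α) := by
        rintro ⟨c, g, hgc, hg⟩
        rw [← hconj g (hder_mem g hg).1 (hder_mem g hg).2]
        refine Nat.card_congr (Equiv.ofBijective (fun y => (⟨y.1.1, ?_⟩ : {y : G // IsConj g y})) ⟨?_, ?_⟩)
        · have h3 : ConjClasses.mk y.1.1 = c := congrArg Subtype.val y.2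
          exact (ConjClasses.mk_eq_mk_iff_isConj.mp (h3.trans hgc.symm)).symm
        · intro a b hab
          have hab' : (a.1.1 : G) = b.1.1 := congrArg (Subtype.val : {y : G // IsConj g y} → G) hab
          exact Subtype.ext (Subtype.ext hab')
        · rintro ⟨y, hy⟩
          obtain ⟨d, hd⟩ := isConj_iff.mp hy
          refine ⟨⟨⟨y, ?_⟩, ?_⟩, rfl⟩
          · intro ω hω
            apply hg (d⁻¹ • ω)
            rw [← hd] at hω
            rw [mul_smul, mul_smul] at hω
            rw [eq_inv_smul_iff]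
            exact hω
          · apply Subtype.ext
            show ConjClasses.mk y = c
            rw [← hgc]
            exact (ConjClasses.mk_eq_mk_iff_isConj.mpr hy).symm
      rw [Finset.sum_congr rfl (fun c _ => h2 c), Finset.sum_const, Finset.card_univ, ← Nat.card_eq_fintype_card, hκ,
        smul_eq_mul]
    have hcount2 : Nat.card {g : G // ∀ ω : Ω, g • ω ≠ ω} + 1 = Nat.card N := by
      have e : {g : G // ∀ ω : Ω, g • ω ≠ ω} ≃ {n : N // n ≠ 1} :=
        { toFun := fun g => ⟨⟨g.1, (hder_mem g.1 g.2).1⟩, fun h => (hder_mem g.1 g.2).2 (congrArg Subtype.val h)⟩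
          invFun := fun n => ⟨n.1, hderN n.1 n.1.2 (fun h => n.2 (Subtype.ext h))⟩
          left_inv := fun g => rfl
          right_inv := fun n => rfl }
      rw [Nat.card_congr e]
      have := Fintype.ofFinite N
      rw [Nat.card_eq_fintype_card, Nat.card_eq_fintype_card, Fintype.card_subtype_compl, Fintype.card_subtype_eq]
      have : 0 < Fintype.card N := Fintype.card_pos
      omega
    rw [← hNcard]
    omega
  · right
    refine ⟨haff, ?_, ?_⟩
    · -- a derangement outside N
      push Not at hB1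
      obtain ⟨g, hg1, hg2⟩ := hB1
      obtain ⟨⟨β, hβ⟩, ⟨γ, hγ⟩, hβγ⟩ := Finite.one_lt_card_iff_nontrivial.mp hg2
      have hβ' : g • β = β := hβ
      have hγ' : g • γ = γ := hγ
      have hne : β ≠ γ := fun h => hβγ (Subtype.ext h)
      obtain ⟨z, hz⟩ := exists_smul_eq N β γ
      have hz' : (z : G) • β = γ := hz
      have hz1 : z ≠ 1 := by
        rintro rfl
        rw [OneMemClass.coe_one, one_smul] at hz'
        exact hne hz'
      have hgz : g * z * g⁻¹ = z := by
        have h1 : (z : G)⁻¹ * (g * z * g⁻¹) = 1 := by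
          apply hreg _ (N.mul_mem (N.inv_mem z.2) (hNn.conj_mem z z.2 g)) β
          have h2 : g⁻¹ • β = β := by rw [inv_smul_eq_iff, hβ']
          rw [mul_smul, mul_smul, mul_smul, h2, hz', hγ', ← hz', inv_smul_smul]
        exact (inv_mul_eq_one.mp h1).symm
      let φ : N → N := fun m => ⟨m * (g * (m : G)⁻¹ * g⁻¹), N.mul_mem m.2 (hNn.conj_mem _ (N.inv_mem m.2) g)⟩
      have hφ : ¬ Function.Surjective φ := by
        intro hs
        have hi := Finite.injective_iff_surjective.mpr hs
        apply hz1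
        apply hi
        apply Subtype.ext
        show (z : G) * (g * (z : G)⁻¹ * g⁻¹) = (1 : N) * (g * ((1 : N) : G)⁻¹ * g⁻¹)
        have h1 : g * (z : G)⁻¹ * g⁻¹ = (z : G)⁻¹ := by
          rw [← inv_inj, inv_inv]
          conv_rhs => rw [← hgz]
          group
        rw [h1]
        simp
      have hφ' : ∃ n : N, ∀ m : N, φ m ≠ n := by
        by_contra hcon
        push Not at hcon
        exact hφ hcon
      obtain ⟨n, hn⟩ := hφ'
      have hd : ∀ ω : Ω, ((n : G) * g) • ω ≠ ω := by
        intro ω hω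
        obtain ⟨m, hm⟩ := exists_smul_eq N β ω
        have hm' : (m : G) • β = ω := hm
        apply hn m
        apply Subtype.ext
        show (m : G) * (g * (m : G)⁻¹ * g⁻¹) = n
        have h1 : (n : G)⁻¹ * (m * (g * (m : G)⁻¹ * g⁻¹)) = 1 := by
          apply hreg _ (N.mul_mem (N.inv_mem n.2) (N.mul_mem m.2 (hNn.conj_mem _ (N.inv_mem m.2) g))) (g • ω)
          have h2 : (g * (m : G)⁻¹ * g⁻¹) • g • ω = β := by
            rw [← mul_smul]
            have e : g * (m : G)⁻¹ * g⁻¹ * g = g * (m : G)⁻¹ := by group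
            rw [e, ← hm', mul_smul, inv_smul_smul, hβ']
          rw [mul_smul, mul_smul, h2, hm', inv_smul_eq_iff, ← mul_smul, hω]
        exact (inv_mul_eq_one.mp h1).symm
      have hgN : g ∉ N := fun h => hg1 (hreg g h β hβ')
      have hdN : (n : G) * g ∉ N := by
        intro h
        apply hgN
        have := N.mul_mem (N.inv_mem n.2) h
        rwa [inv_mul_cancel_left] at this
      have hall : ∀ x ∈ N, x ≠ 1 → ∀ y ∈ N, y ≠ 1 → IsConj x y := by
        intro x hx hx1 y hy hy1
        by_contra hcon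
        have hNc : ∀ w ∈ N, ¬ IsConj w ((n : G) * g) := by
          intro w hw h
          obtain ⟨c, hc⟩ := isConj_iff.mp h
          apply hdN
          rw [← hc]
          exact hNn.conj_mem w hw c
        have h3 := three_le x y ((n : G) * g) (hderN x hx hx1) (hderN y hy hy1) hd hcon (hNc x hx) (hNc y hy)
        omega
      rw [MulAction.is_two_pretransitive_iff]
      intro a b c d hab hcd
      obtain ⟨x, hx⟩ := exists_smul_eq N a b
      obtain ⟨y, hy⟩ := exists_smul_eq N c d
      have hx' : (x : G) • a = b := hx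
      have hy' : (y : G) • c = d := hy
      have hx1 : (x : G) ≠ 1 := by
        intro h
        rw [h, one_smul] at hx'
        exact hab hx'
      have hy1 : (y : G) ≠ 1 := by
        intro h
        rw [h, one_smul] at hy'
        exact hcd hy'
      obtain ⟨k, hk⟩ := isConj_iff.mp (hall x x.2 hx1 y y.2 hy1)
      obtain ⟨m, hm⟩ := exists_smul_eq N (k • a) c
      have hm' : (m : G) • k • a = c := hm
      refine ⟨(m : G) * k, by rw [mul_smul, hm'], ?_⟩
      have h1 : k • b = (y : G) • k • a := by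
        rw [← hx', ← hk, ← mul_smul, ← mul_smul, inv_mul_cancel_right]
      rw [mul_smul, h1, ← mul_smul, hna m m.2 y y.2, mul_smul, hm', hy']
    · push Not at hB1
      obtain ⟨g, hg1, hg2⟩ := hB1
      exact ⟨g, hg1, hg2⟩

end Cfsg.Agent.S3520
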