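import Cfsg.Statements.S3554


set_option autoImplicit false
open Cfsg

namespace Cfsg.Agent.S3554


/-- Let G act faithfully and transitively on a finite set and suppose G has a non-trivial cyclic normal subgroup. Then some element of G of prime order fixes no point. -/
theorem result {G Ω : Type*} [Group G] [Finite G] [MulAction G Ω] [FaithfulSMul G Ω] [Finite Ω]
    (htrans : MulAction.IsPretransitive G Ω) (C : Subgroup G) (hC : C.Normal) (hC1 : C ≠ ⊥) (hcyc : IsCyclic ↥C) :
    ∃ g : G, (orderOf g).Prime ∧ ∀ ω : Ω, g • ω ≠ ω := by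
  obtain ⟨⟨c, hcC⟩, hc⟩ := hcyc.exists_generator
  have hc1 : c ≠ 1 := by
    intro h
    apply hC1
    rw [eq_bot_iff]
    intro y hy
    obtain ⟨k, hk⟩ := hc ⟨y, hy⟩
    have := congrArg Subtype.val hk
    simp only [h] at this
    simp at this
    rw [Subgroup.mem_bot, ← this]
  have hn : orderOf c ≠ 1 := by rwa [Ne, orderOf_eq_one_iff]
  have hp := Nat.minFac_prime hn
  have hdvd := Nat.minFac_dvd (orderOf c)
  set p := (orderOf c).minFac with hpdef
  have hpos : 0 < orderOf c := orderOf_pos c
  refine ⟨c ^ (orderOf c / p), ?_, ?_⟩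
  · rw [orderOf_pow_of_dvd (Nat.div_pos (Nat.le_of_dvd hpos hdvd) hp.pos).ne' (Nat.div_dvd_of_dvd hdvd),
      Nat.div_div_self hdvd hpos.ne']
    exact hp
  · intro ω hω
    have hall : ∀ ω' : Ω, c ^ (orderOf c / p) • ω' = ω' := by
      intro ω'
      obtain ⟨x, hx⟩ := MulAction.exists_smul_eq G ω ω'
      have h1 : x⁻¹ * c * x ∈ C := by
        have := hC.conj_mem c hcC x⁻¹
        rwa [inv_inv] at this
      obtain ⟨k, hk⟩ := hc ⟨_, h1⟩
      have hk' : c ^ k = x⁻¹ * c * x := congrArg Subtype.val hk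
      have h2 : x⁻¹ * c ^ (orderOf c / p) * x = (c ^ (orderOf c / p)) ^ k := by
        have : x⁻¹ * c ^ (orderOf c / p) * x = (x⁻¹ * c * x) ^ (orderOf c / p) := by
          have := conj_pow (a := x⁻¹) (b := c) (i := orderOf c / p)
          rw [inv_inv] at this
          exact this.symm
        rw [this, ← hk', ← zpow_natCast, ← zpow_natCast, ← zpow_mul, ← zpow_mul, mul_comm]
      have h3 : (c ^ (orderOf c / p)) ^ k • ω = ω := by
        have : (c ^ (orderOf c / p)) ^ k ∈ MulAction.stabilizer G ω :=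
          Subgroup.zpow_mem _ hω k
        exact this
      rw [← hx]
      have h4 : c ^ (orderOf c / p) • x • ω = x • (x⁻¹ * c ^ (orderOf c / p) * x) • ω := by
        rw [smul_smul, smul_smul]; congr 1; group
      rw [h4, h2, h3]
    have h5 : c ^ (orderOf c / p) = 1 := by
      apply FaithfulSMul.eq_of_smul_eq_smul (α := Ω)
      intro a
      rw [hall, one_smul]
    have h6 := orderOf_dvd_of_pow_eq_one h5
    have h7 : orderOf c / p < orderOf c := Nat.div_lt_self hpos hp.one_lt
    have h8 : 0 < orderOf c / p := Nat.div_pos (Nat.le_of_dvd hpos hdvd) hp.pos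
    exact absurd (Nat.le_of_dvd h8 h6) (by omega)

end Cfsg.Agent.S3554
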