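import Cfsg.Statements.S3555
import Cfsg.Agent.Lib.DerangeInv

set_option autoImplicit false
open Cfsg
open scoped Pointwise

namespace Cfsg.Agent.S3555

/-- Let G act faithfully and transitively on a finite set and suppose every element of G fixing no point is an involution. Then either G is an elementary abelian 2-group, or G is a Frobenius group whose Frobenius kernel is an elementary abelian 2-group: G has a Frobenius complement H, and the elements lying in no conjugate of H, together with the identity, pairwise commute and square to the identity. -/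
theorem result {G Ω : Type*} [Group G] [Finite G] [MulAction G Ω] [FaithfulSMul G Ω] [Finite Ω]
    (htrans : MulAction.IsPretransitive G Ω) (hinv : ∀ g : G, (∀ ω : Ω, g • ω ≠ ω) → orderOf g = 2) :
    (IsMulCommutative G ∧ ∀ g : G, g ^ 2 = 1) ∨
    (∃ H : Subgroup G, Cfsg.IsFrobeniusComplement H ∧
      (∀ x ∈ Cfsg.frobeniusKernel H, x ^ 2 = 1) ∧
      ∀ x ∈ Cfsg.frobeniusKernel H, ∀ y ∈ Cfsg.frobeniusKernel H, x * y = y * x) := by
  classical
  have := htrans
  have : Fintype G := Fintype.ofFinite G
  have : Fintype Ω := Fintype.ofFinite Ω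
  have hne : Nonempty Ω := by
    by_contra hemp
    rw [not_nonempty_iff] at hemp
    have := hinv 1 (fun ω => (hemp.false ω).elim)
    rw [orderOf_one] at this
    exact absurd this (by norm_num)
  have hinv' : ∀ g : G, (∀ ω : Ω, g • ω ≠ ω) → g * g = 1 := by
    intro g hg
    rw [← pow_two, ← hinv g hg]
    exact pow_orderOf_eq_one g
  obtain ⟨α⟩ := hne
  have hne : Nonempty Ω := ⟨α⟩
  obtain ⟨H, hH⟩ : ∃ H : Subgroup G, H = MulAction.stabilizer G α := ⟨_, rfl⟩
  have hconj : ∀ g x : G, x ∈ MulAut.conj g • H ↔ x • (g • α) = g • α := by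
    intro g x
    rw [Subgroup.mem_pointwise_smul_iff_inv_smul_mem, hH, MulAction.mem_stabilizer_iff, ← map_inv, MulAut.smul_def,
      MulAut.conj_apply, inv_inv, mul_smul, mul_smul, inv_smul_eq_iff]
  by_cases hbot : H = ⊥
  · left
    have hN : ∀ x : G, x ∈ Lib.DerangeInv.N G Ω := by
      intro x
      by_cases hx : x = 1
      · left; exact hx
      · right
        intro ω hω
        obtain ⟨g, hg⟩ := MulAction.exists_smul_eq G α ω
        have h1 : x ∈ MulAut.conj g • H := by rw [hconj, hg, hω]
        rw [hbot, Subgroup.smul_bot, Subgroup.mem_bot] at h1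
        exact hx h1
    refine ⟨⟨⟨fun x y => Lib.DerangeInv.N_comm hinv' (hN x) (hN y)⟩⟩, fun g => ?_⟩
    rw [pow_two]
    exact Lib.DerangeInv.N_sq hinv' (hN g)
  · right
    have hker : ∀ x ∈ Cfsg.frobeniusKernel H, x ∈ Lib.DerangeInv.N G Ω := by
      rintro x (hx | hx)
      · left; exact hx
      · right
        intro ω hω
        obtain ⟨g, hg⟩ := MulAction.exists_smul_eq G α ω
        apply hx g
        rw [hconj, hg, hω]
    refine ⟨H, ⟨hbot, ?_, ?_⟩, ?_, ?_⟩
    · intro htop
      apply hbot
      rw [eq_bot_iff]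
      intro x _
      rw [Subgroup.mem_bot]
      apply FaithfulSMul.eq_of_smul_eq_smul (α := Ω)
      intro ω
      obtain ⟨g, hg⟩ := MulAction.exists_smul_eq G α ω
      have h1 : g ∈ H := by rw [htop]; trivial
      have h2 : x ∈ H := by rw [htop]; trivial
      rw [hH, MulAction.mem_stabilizer_iff] at h1 h2
      rw [← hg, h1, h2, one_smul]
    · intro g hg
      rw [eq_bot_iff]
      rintro x ⟨hx1, hx2⟩
      rw [Subgroup.mem_bot]
      by_contra hx
      apply hg
      have h1 : x • α = α := by
        have : x ∈ H := hx1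
        rwa [hH, MulAction.mem_stabilizer_iff] at this
      have h2 := (hconj g x).1 hx2
      rw [hH, MulAction.mem_stabilizer_iff]
      exact (Lib.DerangeInv.eq_of_fix hinv' hx h1 h2).symm
    · intro x hx
      rw [pow_two]
      exact Lib.DerangeInv.N_sq hinv' (hker x hx)
    · intro x hx y hy
      exact Lib.DerangeInv.N_comm hinv' (hker x hx) (hker y hy)

end Cfsg.Agent.S3555
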