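import Cfsg.Statements.S3556
import Cfsg.Agent.Lib.PrimNormal

set_option autoImplicit false
open Cfsg

namespace Cfsg.Agent.S3556

open MulAction Cfsg.Agent.Lib.MinNormal Cfsg.Agent.Lib.PrimNormal

theorem simple_of_minBy_self {G : Type*} [Group G] {N : Subgroup G} (h : MinBy N N) :
    IsSimpleGroup N := by
  have : Nontrivial N := by rw [Subgroup.nontrivial_iff_ne_bot]; exact h.ne_bot
  refine ⟨fun K hK => ?_⟩
  have h1 : InvBy N (K.map N.subtype) := by
    rintro n hn _ ⟨k, hk, rfl⟩
    refine ⟨⟨n, hn⟩ * k * ⟨n, hn⟩⁻¹, hK.conj_mem k hk ⟨n, hn⟩, rfl⟩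
  have h2 : K.map N.subtype ≤ N := by
    rintro _ ⟨k, _, rfl⟩
    exact k.2
  rcases h.min _ h1 h2 with h3 | h3
  · left
    rw [eq_bot_iff]
    intro k hk
    have : (k : G) ∈ K.map N.subtype := ⟨k, hk, rfl⟩
    rw [h3, Subgroup.mem_bot] at this
    exact Subtype.ext this
  · right
    rw [eq_top_iff]
    intro k _
    have : (k : G) ∈ K.map N.subtype := by rw [h3]; exact k.2
    obtain ⟨k', hk', he⟩ := this
    have : k' = k := Subtype.ext he
    rwa [← this]


/-- Let G act faithfully and primitively on a finite set with at least two points, and suppose that for some fixed prime p every element of G fixing no point has order a power of p. Then G is of affine type (it has a regular normal subgroup that is an elementary abelian r-group for some prime r) or almost simple (it has a non-abelian simple normal subgroup with trivial centralizer). -/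
theorem result {G Ω : Type*} [Group G] [Finite G] [MulAction G Ω] [FaithfulSMul G Ω] [Finite Ω]
    (hprim : MulAction.IsPreprimitive G Ω) (hΩ : 2 ≤ Nat.card Ω) (p : ℕ) (hp : p.Prime)
    (hder : ∀ g : G, (∀ ω : Ω, g • ω ≠ ω) → ∃ k : ℕ, orderOf g = p ^ k) :
    (∃ (N : Subgroup G) (r : ℕ), r.Prime ∧ N.Normal ∧ Cfsg.IsElementaryAbelian r N ∧
      MulAction.IsPretransitive N Ω ∧ ∀ a : Ω, MulAction.stabilizer N a = ⊥) ∨
    (∃ T : Subgroup G, T.Normal ∧ IsSimpleGroup ↥T ∧ ¬ IsMulCommutative ↥T ∧
      Subgroup.centralizer (T : Set G) = ⊥) := by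
  have hnt : Nontrivial G := by
    rw [nontrivial_iff]
    by_contra hcon
    push Not at hcon
    have : Subsingleton Ω := by
      refine ⟨fun x y => ?_⟩
      have := hprim.toIsPretransitive
      obtain ⟨g, hg⟩ := exists_smul_eq G x y
      rw [← hg, hcon g 1, one_smul]
    have h1 : Nat.card Ω ≤ 1 := Finite.card_le_one_iff_subsingleton.mpr this
    omega
  obtain ⟨N, -, hN⟩ := exists_minBy (⊤ : Subgroup G) ⊤ top_ne_bot (InvBy.self ⊤)
  have hNn := hN.normal
  have hNt : IsPretransitive N Ω := transitive_of_normal hprim N hN.ne_bot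
  by_cases hab : ∀ x ∈ N, ∀ y ∈ N, x * y = y * x
  · left
    obtain ⟨r, hr, hpow⟩ := hN.elementary hab
    refine ⟨N, r, hr, hNn, ⟨⟨⟨fun x y => Subtype.ext (hab x x.2 y y.2)⟩⟩, hpow⟩, hNt, ?_⟩
    intro a
    apply stabilizer_eq_bot_of_semiregular
    intro n hn hfix
    exact semiregular_of_centralizes N N hab a n hn hfix
  · right
    have hC : Subgroup.centralizer (N : Set G) = ⊥ := by
      by_contra hC
      have hCn : (Subgroup.centralizer (N : Set G)).Normal :=
        invBy_top_iff.mp hN.inv.centralizer
      have hCt := transitive_of_normal hprim (Subgroup.centralizer (N : Set G)) hC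
      have hpg : IsPGroup p N := by
        intro g
        by_cases hg : g = 1
        · exact ⟨0, by rw [hg, one_pow]⟩
        · have hd : ∀ ω : Ω, (g : G) • ω ≠ ω := by
            intro ω hω
            apply hg
            apply Subtype.ext
            exact semiregular_of_centralizes (Subgroup.centralizer (N : Set G)) N
              (fun c hc n hn => ((Subgroup.mem_centralizer_iff.mp hc) n hn).symm) ω g g.2 hω
          obtain ⟨k, hk⟩ := hder g hd
          refine ⟨k, ?_⟩
          rw [← hk, Subgroup.orderOf_coe, pow_orderOf_eq_one]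
      exact hN.not_pgroup hab p hp hpg
    refine ⟨N, hNn, ?_, ?_, hC⟩
    · obtain ⟨T, hTN, hT⟩ := exists_minBy N N hN.ne_bot (InvBy.self N)
      by_cases hTe : T = N
      · rw [hTe] at hT
        exact simple_of_minBy_self hT
      · exfalso
        have hTna := hN.nonabelian_of hT hTN hab
        have D := hN.decomp hT hTN hab
        obtain ⟨x, hxT, hxp, hxne⟩ := exists_prime_ne_of_not_pgroup hp (hT.not_pgroup hTna p hp)
        obtain ⟨g, hg⟩ := hN.exists_conj_le hT hTN hTe
        obtain ⟨b, hbB, hbo⟩ := exists_mem_order_of_cj hg hxT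
        apply hT.ne_bot
        refine bot_of_all_fix (Ω := Ω) N T _ D.commute D.prod ?_
        intro a ha
        by_contra hcon
        push Not at hcon
        obtain ⟨k, hk⟩ := hder a hcon
        have hcomm : Commute a b := D.commute a ha b hbB
        have hder2 : ∀ ω : Ω, (a * b) • ω ≠ ω := by
          intro ω hω
          have h1 : (a * b) ^ orderOf b ∈ stabilizer G ω := Subgroup.pow_mem _ hω _
          rw [hcomm.mul_pow, pow_orderOf_eq_one, mul_one] at h1
          have h2 : (orderOf b).Coprime (orderOf a) := by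
            rw [hbo, hk]
            exact Nat.Coprime.pow_right _ ((Nat.coprime_primes hxp hp).mpr hxne)
          obtain ⟨m, hm⟩ := exists_pow_eq_self_of_coprime h2
          have h3 := Subgroup.pow_mem _ h1 m
          rw [hm] at h3
          exact hcon ω h3
        obtain ⟨j, hj⟩ := hder _ hder2
        have h4 : (a * b) ^ (p ^ j * p ^ k) = 1 := by
          rw [pow_mul, ← hj, pow_orderOf_eq_one, one_pow]
        rw [hcomm.mul_pow, mul_comm (p ^ j), pow_mul a, ← hk, pow_orderOf_eq_one, one_pow, one_mul, hk] at h4
        have h5 := orderOf_dvd_of_pow_eq_one h4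
        rw [hbo, ← pow_add] at h5
        exact hxne ((Nat.prime_dvd_prime_iff_eq hxp hp).mp (hxp.dvd_of_dvd_pow h5))
    · intro hcomm
      apply hab
      intro x hx y hy
      exact congrArg Subtype.val (hcomm.is_comm.comm ⟨x, hx⟩ ⟨y, hy⟩)

end Cfsg.Agent.S3556
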