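import Cfsg.Statements.S3557


set_option autoImplicit false
open Cfsg

namespace Cfsg.Agent.S3557

theorem sylow_orbit {G Ω : Type*} [Group G] [Finite G] [MulAction G Ω] [Finite Ω]
    [MulAction.IsPretransitive G Ω] (p v : ℕ) [Fact p.Prime] (P : Sylow p G) (x : Ω)
    (hv : p ^ v ∣ Nat.card Ω) : p ^ v ∣ (MulAction.stabilizer P x).index := by
  have h1 : (MulAction.stabilizer P x).index * Nat.card (MulAction.stabilizer P x) = Nat.card P :=
    Subgroup.index_mul_card _
  obtain ⟨c, hc⟩ := (P.isPGroup'.to_subgroup (MulAction.stabilizer P x)).exists_card_eq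
  have h2 : (MulAction.stabilizer G x).index * Nat.card (MulAction.stabilizer G x) = Nat.card G :=
    Subgroup.index_mul_card _
  rw [MulAction.index_stabilizer_of_transitive] at h2
  have h3 : Nat.card (MulAction.stabilizer P x) ∣ Nat.card (MulAction.stabilizer G x) := by
    let f : MulAction.stabilizer P x →* MulAction.stabilizer G x :=
      { toFun := fun g => ⟨(g.1 : G), g.2⟩
        map_one' := rfl
        map_mul' := fun _ _ => rfl }
    refine Subgroup.card_dvd_of_injective f ?_
    intro a b hab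
    exact Subtype.ext (Subtype.ext (congrArg (Subtype.val : MulAction.stabilizer G x → G) hab))
  have h4 : p ^ (v + c) ∣ Nat.card G := by
    rw [pow_add, ← h2, ← hc]
    exact Nat.mul_dvd_mul hv h3
  have h5 := P.pow_dvd_card_of_pow_dvd_card h4
  rw [← h1, hc, pow_add] at h5
  exact Nat.dvd_of_mul_dvd_mul_right (pow_pos (Fact.out : p.Prime).pos c) h5

theorem core {G Ω : Type*} [Group G] [Finite G] [MulAction G Ω] [FaithfulSMul G Ω] [Finite Ω]
    (p : ℕ) (hp : p.Prime) (hcard : Nat.card Ω = 2 * p ^ 2)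
    (hcl : ∀ σ : Equiv.Perm Ω, (∀ a b : Ω, ∃ g : G, σ a = g • a ∧ σ b = g • b) → ∃ g : G, ∀ a : Ω, σ a = g • a)
    (P : Subgroup G) (hPG : IsPGroup p P) (horb : ∀ x : Ω, p ^ 2 ∣ (MulAction.stabilizer P x).index) (a1 : Ω) :
    ∃ g : G, (orderOf g).Prime ∧ ∀ ω : Ω, g • ω ≠ ω := by
  classical
  haveI : Fact p.Prime := ⟨hp⟩
  have hp2 := hp.two_le
  -- P is nontrivial
  have horb1 := horb a1
  have hPnt : Nontrivial P := by
    by_contra h
    rw [not_nontrivial_iff_subsingleton] at h
    have h1 : (MulAction.stabilizer P a1).index = 1 := by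
      rw [Subgroup.index_eq_one]
      exact Subsingleton.elim _ _
    rw [h1] at horb1
    have := Nat.le_of_dvd one_pos horb1
    nlinarith
  -- central element of order p
  have hcn : Nontrivial (Subgroup.center P) := hPG.center_nontrivial
  have hcP : IsPGroup p (Subgroup.center P) := hPG.to_subgroup _
  have hpc : p ∣ Nat.card (Subgroup.center P) := by
    obtain ⟨k, hk⟩ := hcP.exists_card_eq
    rw [hk]
    refine dvd_pow_self p ?_
    rintro rfl
    rw [pow_zero] at hk
    have := Finite.one_lt_card_iff_nontrivial.mpr hcn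
    omega
  obtain ⟨z', hz'⟩ := exists_prime_orderOf_dvd_card' (G := Subgroup.center P) p hpc
  obtain ⟨z, hzc⟩ := z'
  have hzo : orderOf z = p := by rw [← hz']; exact Subgroup.orderOf_coe (⟨z, hzc⟩ : Subgroup.center P)
  have hzcomm : ∀ s : P, s * z = z * s := fun s => Subgroup.mem_center_iff.mp hzc s
  have hz1 : z ≠ 1 := by rintro rfl; rw [orderOf_one] at hzo; omega
  have hzp : z ^ p = 1 := by rw [← hzo, pow_orderOf_eq_one]
  by_cases hfix : ∀ ω : Ω, (z : G) • ω ≠ ω
  · exact ⟨z, by rw [Subgroup.orderOf_coe, hzo]; exact hp, hfix⟩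
  push Not at hfix
  obtain ⟨a, ha⟩ := hfix
  have ha' : z • a = a := ha
  -- the orbit of a is pointwise fixed
  have hA : ∀ x ∈ MulAction.orbit P a, z • x = x := by
    rintro _ ⟨s, rfl⟩
    show z • s • a = s • a
    rw [← mul_smul, ← hzcomm, mul_smul, ha']
  -- z moves something
  obtain ⟨b, hb⟩ : ∃ b : Ω, z • b ≠ b := by
    by_contra hcon
    push Not at hcon
    apply hz1
    apply Subtype.ext
    apply FaithfulSMul.eq_of_smul_eq_smul (α := Ω)
    intro x
    rw [OneMemClass.coe_one, one_smul]
    exact hcon x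
  have hbA : b ∉ MulAction.orbit P a := fun h => hb (hA b h)
  -- sizes of the orbits
  have hncard : ∀ x : Ω, (MulAction.stabilizer P x).index = (MulAction.orbit P x).ncard := fun x =>
    MulAction.index_stabilizer P x
  have hdisj : Disjoint (MulAction.orbit P a) (MulAction.orbit P b) := by
    rw [Set.disjoint_left]
    intro x hx hy
    apply hbA
    rw [← MulAction.orbit_eq_iff] at hx hy ⊢
    rw [← hy, hx]
  have hsum : (MulAction.orbit P a).ncard + (MulAction.orbit P b).ncard ≤ 2 * p ^ 2 := by
    rw [← Set.ncard_union_eq hdisj (Set.toFinite _) (Set.toFinite _), ← hcard]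
    exact Set.ncard_le_card _
  have hga := Nat.le_of_dvd (Nat.pos_of_ne_zero Subgroup.index_ne_zero_of_finite) (horb a)
  have hgb := Nat.le_of_dvd (Nat.pos_of_ne_zero Subgroup.index_ne_zero_of_finite) (horb b)
  rw [hncard] at hga hgb
  have hca : (MulAction.orbit P a).ncard = p ^ 2 := by omega
  have hcb : (MulAction.orbit P b).ncard = p ^ 2 := by omega
  have hcover : ∀ x : Ω, x ∈ MulAction.orbit P a ∨ x ∈ MulAction.orbit P b := by
    intro x
    have h1 : (MulAction.orbit P a ∪ MulAction.orbit P b) = Set.univ := by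
      rw [Set.eq_univ_iff_ncard, Set.ncard_union_eq hdisj (Set.toFinite _) (Set.toFinite _), hca, hcb, hcard]
      ring
    have h2 : x ∈ (MulAction.orbit P a ∪ MulAction.orbit P b) := by rw [h1]; trivial
    exact h2
  have hBnot : ∀ x ∈ MulAction.orbit P b, x ∉ MulAction.orbit P a := fun x hx hx' =>
    Set.disjoint_left.mp hdisj hx' hx
  have hAs : ∀ (s : P) (x : Ω), s • x ∈ MulAction.orbit P a ↔ x ∈ MulAction.orbit P a := by
    intro s x
    rw [← MulAction.orbit_eq_iff, ← MulAction.orbit_eq_iff, MulAction.orbit_smul]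
  have hzB : ∀ x ∈ MulAction.orbit P b, z • x ≠ x := by
    rintro _ ⟨s, rfl⟩ h
    apply hb
    have h1 : z • s • b = s • b := h
    rw [← mul_smul, ← hzcomm, mul_smul] at h1
    exact smul_left_cancel s h1
  -- the kernel on A
  let K : Subgroup P :=
    { carrier := {s | ∀ x ∈ MulAction.orbit P a, s • x = x}
      one_mem' := fun x _ => one_smul _ x
      mul_mem' := by
        intro s t hs ht x hx
        rw [mul_smul, ht x hx, hs x hx]
      inv_mem' := by
        intro s hs x hx
        rw [inv_smul_eq_iff, hs x hx] }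
  have hKmem : ∀ s : P, s ∈ K ↔ ∀ x ∈ MulAction.orbit P a, s • x = x := fun s => Iff.rfl
  have hKn : K.Normal := by
    refine ⟨fun k hk s => ?_⟩
    rw [hKmem] at hk ⊢
    intro x hx
    rw [mul_smul, mul_smul, hk (s⁻¹ • x) ((hAs s⁻¹ x).mpr hx), smul_inv_smul]
  have hzK : z ∈ K := hA
  -- M = K ⊔ P_b
  let M : Subgroup P := K ⊔ MulAction.stabilizer P b
  have hMle : MulAction.stabilizer P b ≤ M := le_sup_right
  obtain ⟨e, hPcard⟩ := hPG.exists_card_eq
  have hMidx : M.index = 1 ∨ M.index = p := by
    have h1 : (MulAction.stabilizer P b).relIndex M * M.index = (MulAction.stabilizer P b).index :=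
      Subgroup.relIndex_mul_index hMle
    rw [hncard, hcb] at h1
    have h2 : (MulAction.stabilizer P b).relIndex M ≠ 1 := by
      intro h
      rw [Subgroup.relIndex_eq_one] at h
      have : z ∈ MulAction.stabilizer P b := h (le_sup_left (a := K) hzK)
      exact hb (MulAction.mem_stabilizer_iff.mp this)
    have h3 : M.index ∣ p ^ 2 := Dvd.intro_left _ h1
    obtain ⟨j, hj, hj'⟩ := (Nat.dvd_prime_pow hp).mp h3
    interval_cases j
    · left; rw [hj', pow_zero]
    · right; rw [hj', pow_one]
    · exfalso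
      rw [hj'] at h1
      have h4 : 0 < p ^ 2 := by positivity
      exact h2 (Nat.eq_of_mul_eq_mul_right h4 (by rw [h1, one_mul]))
  have hMn : M.Normal := by
    rcases hMidx with h | h
    · rw [Subgroup.index_eq_one] at h
      rw [h]; infer_instance
    · apply Subgroup.normal_of_index_eq_minFac_card
      rw [h, hPcard]
      have he : e ≠ 0 := by
        rintro rfl
        rw [pow_zero] at hPcard
        have := Finite.one_lt_card_iff_nontrivial.mpr hPnt
        omega
      rw [hp.pow_minFac he]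
  have hMK : ¬ M ≤ K := by
    intro h
    have h1 : K ≤ MulAction.stabilizer P a := by
      intro k hk
      exact hk a (MulAction.mem_orbit_self a)
    have h2 : (MulAction.stabilizer P a).index ∣ M.index := Subgroup.index_dvd_of_le (h.trans h1)
    rw [hncard, hca] at h2
    rcases hMidx with h3 | h3 <;> rw [h3] at h2
    · have := Nat.le_of_dvd one_pos h2
      nlinarith
    · have := Nat.le_of_dvd hp.pos h2
      nlinarith
  -- M stabilises the K-orbits on B
  have hMB : ∀ m ∈ M, ∀ x ∈ MulAction.orbit P b, ∃ k ∈ K, m • x = k • x := by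
    rintro m hm _ ⟨s, rfl⟩
    have h1 : s⁻¹ * m * s ∈ M := by
      have := hMn.conj_mem m hm s⁻¹
      rwa [inv_inv] at this
    rw [Subgroup.mem_sup_of_normal_left] at h1
    obtain ⟨k, hk, t, ht, hkt⟩ := h1
    refine ⟨s * k * s⁻¹, hKn.conj_mem k hk s, ?_⟩
    show m • s • b = (s * k * s⁻¹) • s • b
    have h2 : (s⁻¹ * m * s) • b = k • b := by
      rw [← hkt, mul_smul, MulAction.mem_stabilizer_iff.mp ht]
    rw [← mul_smul, ← mul_smul, inv_mul_cancel_right, mul_smul s k, ← h2, ← mul_smul]
    congr 1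
    group
  -- an element of M central modulo K, of order p modulo K
  let Q := P ⧸ K
  have hQp : IsPGroup p Q := hPG.to_quotient K
  let L : Subgroup Q := M.map (QuotientGroup.mk' K)
  have hLn : L.Normal := hMn.map _ (QuotientGroup.mk'_surjective K)
  have hLnt : L ≠ ⊥ := by
    intro h
    apply hMK
    intro m hm
    have h1 : QuotientGroup.mk' K m ∈ L := ⟨m, hm, rfl⟩
    rw [h, Subgroup.mem_bot] at h1
    exact (QuotientGroup.eq_one_iff m).mp h1
  obtain ⟨y, hyL, hyc, hy1⟩ : ∃ y ∈ L, (∀ q : Q, q * y = y * q) ∧ y ≠ 1 := by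
    have hLp : IsPGroup p L := hQp.to_subgroup L
    have hpL : p ∣ Nat.card L := by
      obtain ⟨k, hk⟩ := hLp.exists_card_eq
      rw [hk]
      refine dvd_pow_self p ?_
      rintro rfl
      rw [pow_zero] at hk
      exact hLnt (Subgroup.card_eq_one.mp hk)
    let act : MulAction Q L := MulAction.compHom L (MulAut.conjNormal (H := L) : Q →* MulAut L)
    have hact : ∀ (q : Q) (l : L), ((act.toSMul.smul q l : L) : Q) = q * l * q⁻¹ := by
      intro q l
      exact MulAut.conjNormal_apply q l
    have h1 : (1 : L) ∈ MulAction.fixedPoints Q L := by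
      intro q
      apply Subtype.ext
      exact (hact q 1).trans (by simp)
    obtain ⟨l, hl, hl1⟩ := hQp.exists_fixed_point_of_prime_dvd_card_of_fixed_point L hpL h1
    refine ⟨l, l.2, ?_, fun h => hl1 (Subtype.ext h.symm)⟩
    intro q
    have h2 := congrArg (Subtype.val : L → Q) (hl q)
    have h3 : q * (l : Q) * q⁻¹ = l := (hact q l).symm.trans h2
    exact mul_inv_eq_iff_eq_mul.mp h3
  obtain ⟨j, hj⟩ : ∃ j, orderOf y = p ^ (j + 1) := by
    obtain ⟨k, hk⟩ := IsPGroup.iff_orderOf.mp hQp y
    cases k with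
    | zero =>
      rw [pow_zero, orderOf_eq_one_iff] at hk
      exact absurd hk hy1
    | succ k => exact ⟨k, hk⟩
  set y' := y ^ (p ^ j) with hy'
  have hy'L : y' ∈ L := L.pow_mem hyL _
  have hy'c : ∀ q : Q, q * y' = y' * q := fun q => (show Commute q y from hyc q).pow_right _
  have hy'1 : y' ≠ 1 := by
    intro h
    have := orderOf_dvd_of_pow_eq_one h
    rw [hj] at this
    have := Nat.le_of_dvd (pow_pos hp.pos j) this
    exact absurd this (not_le.mpr (Nat.pow_lt_pow_right hp.one_lt (Nat.lt_succ_self j)))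
  have hy'p : y' ^ p = 1 := by
    rw [hy', ← pow_mul, ← pow_succ, ← hj, pow_orderOf_eq_one]
  obtain ⟨g, hgM, hgy⟩ := hy'L
  have hgK : g ∉ K := by
    intro h
    apply hy'1
    rw [← hgy]
    exact (QuotientGroup.eq_one_iff g).mpr h
  have hgpK : g ^ p ∈ K := by
    rw [← QuotientGroup.eq_one_iff]
    have : QuotientGroup.mk' K (g ^ p) = y' ^ p := by rw [map_pow, hgy]
    rw [hy'p] at this
    exact this
  have hgc : ∀ s : P, ∃ k ∈ K, g * s = s * g * k := by
    intro s
    refine ⟨(s * g)⁻¹ * (g * s), ?_, by rw [mul_inv_cancel_left]⟩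
    rw [← QuotientGroup.eq_one_iff]
    have h1 : QuotientGroup.mk' K ((s * g)⁻¹ * (g * s)) = 1 := by
      rw [map_mul, map_inv, map_mul, map_mul, hgy, hy'c, inv_mul_cancel]
    exact h1
  have hgA : ∀ x ∈ MulAction.orbit P a, g • x ≠ x := by
    intro x hx h
    apply hgK
    intro w hw
    obtain ⟨s, hs⟩ : ∃ s : P, s • x = w := by
      have h1 : MulAction.orbit P x = MulAction.orbit P a := MulAction.orbit_eq_iff.mpr hx
      rw [← h1] at hw
      exact hw
    obtain ⟨k, hk, hgk⟩ := hgc s
    rw [← hs, ← mul_smul, hgk, mul_smul, hk x hx, mul_smul, h]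
  -- the permutation
  have hzs : ∀ (s : P) (x : Ω), ¬ (x ∈ MulAction.orbit P a) → ¬ (s • x ∈ MulAction.orbit P a) := by
    intro s x hx h
    exact hx ((hAs s x).mp h)
  let σ : Equiv.Perm Ω :=
    { toFun := fun x => if x ∈ MulAction.orbit P a then g • x else z • x
      invFun := fun x => if x ∈ MulAction.orbit P a then g⁻¹ • x else z⁻¹ • x
      left_inv := by
        intro x
        by_cases hx : x ∈ MulAction.orbit P a
        · simp only [if_pos hx, if_pos ((hAs g x).mpr hx), inv_smul_smul]
        · simp only [if_neg hx, if_neg (hzs z x hx), inv_smul_smul]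
      right_inv := by
        intro x
        by_cases hx : x ∈ MulAction.orbit P a
        · simp only [if_pos hx, if_pos ((hAs g⁻¹ x).mpr hx), smul_inv_smul]
        · simp only [if_neg hx, if_neg (hzs z⁻¹ x hx), smul_inv_smul] }
  have hσA : ∀ x ∈ MulAction.orbit P a, σ x = g • x := fun x hx => if_pos hx
  have hσB : ∀ x, x ∉ MulAction.orbit P a → σ x = z • x := fun x hx => if_neg hx
  have hmix : ∀ x ∈ MulAction.orbit P a, ∀ w, w ∉ MulAction.orbit P a → ∃ h : G, σ x = h • x ∧ σ w = h • w := by
    intro x hx w hw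
    have hwB : w ∈ MulAction.orbit P b := (hcover w).resolve_left hw
    obtain ⟨k, hk, hgk⟩ := hMB g hgM w hwB
    refine ⟨((z * k⁻¹ * g : P) : G), ?_, ?_⟩
    · rw [hσA x hx]
      show g • x = (z * k⁻¹ * g) • x
      have hgx := (hAs g x).mpr hx
      rw [mul_smul, K.mul_mem hzK (K.inv_mem hk) (g • x) hgx]
    · rw [hσB w hw]
      show z • w = (z * k⁻¹ * g) • w
      rw [mul_smul, mul_smul, hgk, inv_smul_smul]
  obtain ⟨h, hh⟩ := hcl σ (by
    intro x w
    by_cases hx : x ∈ MulAction.orbit P a
    · by_cases hw : w ∈ MulAction.orbit P a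
      · exact ⟨g, hσA x hx, hσA w hw⟩
      · exact hmix x hx w hw
    · by_cases hw : w ∈ MulAction.orbit P a
      · obtain ⟨h, h1, h2⟩ := hmix w hw x hx
        exact ⟨h, h2, h1⟩
      · exact ⟨z, hσB x hx, hσB w hw⟩)
  have hfpf : ∀ ω : Ω, h • ω ≠ ω := by
    intro ω
    rw [← hh]
    by_cases hx : ω ∈ MulAction.orbit P a
    · rw [hσA ω hx]; exact hgA ω hx
    · rw [hσB ω hx]; exact hzB ω ((hcover ω).resolve_left hx)
  have hpow : h ^ p = 1 := by
    apply FaithfulSMul.eq_of_smul_eq_smul (α := Ω)
    intro x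
    rw [one_smul]
    by_cases hx : x ∈ MulAction.orbit P a
    · have h1 : ∀ n : ℕ, h ^ n • x = g ^ n • x := by
        intro n
        induction n with
        | zero => rw [pow_zero, pow_zero, one_smul, one_smul]
        | succ n ih =>
          rw [pow_succ', mul_smul, ih, ← hh, hσA _ ((hAs _ x).mpr hx), pow_succ', mul_smul]
      rw [h1]
      exact hgpK x hx
    · have h1 : ∀ n : ℕ, h ^ n • x = z ^ n • x := by
        intro n
        induction n with
        | zero => rw [pow_zero, pow_zero, one_smul, one_smul]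
        | succ n ih =>
          rw [pow_succ', mul_smul, ih, ← hh, hσB _ (hzs _ x hx), pow_succ', mul_smul]
      rw [h1, hzp, one_smul]
  refine ⟨h, ?_, hfpf⟩
  have h1 : orderOf h = p := by
    refine orderOf_eq_prime hpow ?_
    rintro rfl
    exact hfpf a (one_smul _ _)
  rw [h1]; exact hp


/-- Let G act faithfully and transitively on a finite set with 2p² points, p a prime, and suppose G is 2-closed: every permutation of the set which, on each ordered pair of points, agrees with some element of G, is itself induced by an element of G. Then some element of G of prime order fixes no point. -/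
theorem result {G Ω : Type*} [Group G] [Finite G] [MulAction G Ω] [FaithfulSMul G Ω] [Finite Ω]
    (htrans : MulAction.IsPretransitive G Ω) (p : ℕ) (hp : p.Prime) (hcard : Nat.card Ω = 2 * p ^ 2)
    (hcl : ∀ σ : Equiv.Perm Ω, (∀ a b : Ω, ∃ g : G, σ a = g • a ∧ σ b = g • b) → ∃ g : G, ∀ a : Ω, σ a = g • a) :
    ∃ g : G, (orderOf g).Prime ∧ ∀ ω : Ω, g • ω ≠ ω := by
  haveI : Fact p.Prime := ⟨hp⟩
  have hΩpos : 0 < Nat.card Ω := by rw [hcard]; have := hp.pos; positivity
  have hne : Nonempty Ω := (Nat.card_pos_iff.mp hΩpos).1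
  obtain ⟨a1⟩ := hne
  let P : Sylow p G := default
  exact core p hp hcard hcl P P.isPGroup' (fun x => sylow_orbit p 2 P x (by rw [hcard]; exact Dvd.intro_left _ rfl)) a1

end Cfsg.Agent.S3557
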