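import Cfsg.Statements.S3593
import Cfsg.Agent.Lib.M12Q
import Cfsg.Agent.Lib.NseEleven
import Cfsg.Agent.Lib.GolayM12b
import Cfsg.Agent.Lib.MElevenInv

set_option autoImplicit false
open Cfsg

namespace Cfsg.Agent.S3593

open Subgroup Cfsg.Agent.Lib.NseTools Cfsg.Agent.Lib.NseEleven Cfsg.Agent.Lib.M12ByOrder

theorem primes95040 (r : ℕ) (hr : r.Prime) (h : r ∣ 95040) : r = 2 ∨ r = 3 ∨ r = 5 ∨ r = 11 := by
  rw [show 95040 = 2 ^ 6 * (3 ^ 3 * (5 * 11)) by norm_num, hr.dvd_mul, hr.dvd_mul, hr.dvd_mul] at h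
  rcases h with h | h | h | h
  · left; exact (Nat.prime_dvd_prime_iff_eq hr Nat.prime_two).1 (hr.dvd_of_dvd_pow h)
  · right; left; exact (Nat.prime_dvd_prime_iff_eq hr Nat.prime_three).1 (hr.dvd_of_dvd_pow h)
  · right; right; left; exact (Nat.prime_dvd_prime_iff_eq hr Nat.prime_five).1 h
  · right; right; right; exact (Nat.prime_dvd_prime_iff_eq hr (by norm_num)).1 h

/-- a group of order 95040 with the right numbers is `M12` -/
theorem main {G : Type*} [Group G] [Finite G] {M : Type*} [Group M] [Finite M] [IsSimpleGroup M]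
    (hG : Nat.card G = 95040) (hM : Nat.card M = 95040)
    (hnse : {c : ℕ | 0 < c ∧ ∃ n : ℕ, c = Nat.card {g : G // orderOf g = n}} =
      {c : ℕ | 0 < c ∧ ∃ n : ℕ, c = Nat.card {g : M // orderOf g = n}}) :
    Nonempty (G ≃* M) := by
  have i11 : Fact (Nat.Prime 11) := ⟨by norm_num⟩
  have i5 : Fact (Nat.Prime 5) := ⟨by norm_num⟩
  have m11 : ∀ P : Sylow 11 M, Nat.card P = 11 := card_sylow_prime (m := 8640) (by rw [hM]) (by norm_num)
  have hM11 : Nat.card {g : M // orderOf g = 11} = 17280 := by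
    obtain ⟨P⟩ : Nonempty (Sylow 11 M) := inferInstance
    rw [card_order_prime m11]
    have h := card_sylow_mul P
    rw [(sylow11 hM P).2.1, hM] at h
    omega
  obtain ⟨z, hz⟩ := exists_prime_orderOf_dvd_card' (G := M) 11 (by rw [hM]; norm_num)
  have hdiv : ∀ n : ℕ, n ≠ 1 → n ≠ 11 → 11 ∣ Nat.card {g : M // orderOf g = n} :=
    fun n h1 h11 => dvd_card_orderOf hz (elt11 hM z hz).1 h1 h11
  have hval : ∀ n : ℕ, Nat.card {g : M // orderOf g = n} = 1 ∨ Nat.card {g : M // orderOf g = n} = 17280 ∨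
      11 ∣ Nat.card {g : M // orderOf g = n} := by
    intro n
    by_cases h1 : n = 1
    · left; rw [h1]; exact card_orderOf_one
    · by_cases h2 : n = 11
      · right; left; rw [h2]; exact hM11
      · right; right; exact hdiv n h1 h2
  have hmem : ∀ n : ℕ, 0 < Nat.card {g : G // orderOf g = n} → Nat.card {g : G // orderOf g = n} = 1 ∨
      Nat.card {g : G // orderOf g = n} = 17280 ∨ 11 ∣ Nat.card {g : G // orderOf g = n} := by
    intro n hn
    have h1 : Nat.card {g : G // orderOf g = n} ∈ {c : ℕ | 0 < c ∧ ∃ n : ℕ, c = Nat.card {g : G // orderOf g = n}} :=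
      ⟨hn, n, rfl⟩
    rw [hnse] at h1
    obtain ⟨-, m, hm⟩ := h1
    rw [hm]
    exact hval m
  have c11 : ∀ P : Sylow 11 G, Nat.card P = 11 := card_sylow_prime (m := 8640) (by rw [hG]) (by norm_num)
  have c5 : ∀ P : Sylow 5 G, Nat.card P = 5 := card_sylow_prime (m := 19008) (by rw [hG]) (by norm_num)
  have n11 : Nat.card (Sylow 11 G) = 1728 := by
    have h0 : 0 < Nat.card (Sylow 11 G) := Nat.card_pos
    have h1 := hmem 11 (by rw [card_order_prime c11]; omega)
    rw [card_order_prime c11] at h1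
    have h2 := card_sylow_modEq_one 11 G
    unfold Nat.ModEq at h2
    omega
  have n5 : 11 ∣ Nat.card (Sylow 5 G) := by
    have h0 : 0 < Nat.card (Sylow 5 G) := Nat.card_pos
    have h1 := hmem 5 (by rw [card_order_prime c5]; omega)
    rw [card_order_prime c5] at h1
    have h2 := card_sylow_modEq_one 5 G
    unfold Nat.ModEq at h2
    omega
  have hGs : IsSimpleGroup G := by
    refine isSimple_of_normalizers (p := 11) (q := 5) (by decide) ?_ c5 ?_ ?_ (by rw [hG]; norm_num)
    · intro P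
      have h := card_sylow_mul P
      rw [n11, hG] at h
      omega
    · intro Q h11
      have h := card_sylow_mul Q
      rw [hG] at h
      have h3 : 11 * 11 ∣ 95040 := by rw [← h]; exact Nat.mul_dvd_mul n5 h11
      revert h3; decide
    · intro r k hr h11 h5 hk hd
      rw [hG] at hd
      have hr' : r ∣ 95040 := (dvd_pow_self r hk.ne').trans hd
      rcases primes95040 r hr hr' with h | h | h | h
      · subst h; exact two_mod11 k hk hd
      · subst h; exact three_mod11 k hk hd
      · exact absurd h h5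
      · exact absurd h h11
  exact unique_95040 hG hM

section

open scoped Pointwise

theorem data : Nat.card ↥Cfsg.Spor.M12 = 95040 ∧ IsSimpleGroup ↥Cfsg.Spor.M12 := by
  have hsq := Cfsg.Agent.Lib.MElevenInv.sq_mem
  let e : ↥Cfsg.Spor.M12 ≃* ↥(MulAction.stabilizer M24 Spor.squareDodecad) :=
    { toFun := fun g => ⟨⟨g.1, g.2.1⟩, g.2.2⟩
      invFun := fun g => ⟨g.1.1, ⟨g.1.2, g.2⟩⟩
      left_inv := fun g => rfl
      right_inv := fun g => rfl
      map_mul' := fun a b => rfl }
  refine ⟨?_, Cfsg.Agent.Lib.Golay.isSimpleGroup_of_mulEquiv e.symm (Cfsg.Agent.Lib.Golay.M12_simple hsq)⟩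
  rw [Nat.card_congr e.toEquiv]
  exact Cfsg.Agent.Lib.Golay.card_stab_dodecad hsq

end

/-- Let M be the Mathieu group M₁₂ (order 95040). If a finite group G has the same order as M and the same set of values of the function 'number of elements of order n' (taken over the element orders n that occur), then G is isomorphic to M. -/
theorem result {G : Type*} [Group G] [Finite G]
    (hcard : Nat.card G = Nat.card ↥Cfsg.Spor.M12)
    (hnse : {c : ℕ | 0 < c ∧ ∃ n : ℕ, c = Nat.card {g : G // orderOf g = n}} =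
      {c : ℕ | 0 < c ∧ ∃ n : ℕ, c = Nat.card {g : ↥Cfsg.Spor.M12 // orderOf g = n}}) :
    Nonempty (G ≃* ↥Cfsg.Spor.M12) := by
  obtain ⟨hM, hS⟩ := data
  have hF : Finite ↥Cfsg.Spor.M12 := Nat.finite_of_card_ne_zero (by rw [hM]; norm_num)
  exact main (by rw [hcard, hM]) hM hnse

end Cfsg.Agent.S3593
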