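import Cfsg.Statements.S3594
import Cfsg.Agent.Lib.M22P

set_option autoImplicit false
open Cfsg

namespace Cfsg.Agent.S3594

open Subgroup Cfsg.Agent.Lib.NseTools Cfsg.Agent.Lib.NseEleven Cfsg.Agent.Lib.M22N

theorem syl_of_nse {G : Type*} [Group G] [Finite G] {M : Type*} [Group M] [Finite M] {p s c : ℕ} [hp : Fact p.Prime]
    (hG : Nat.card G = 443520) (hd : p ∣ 443520) (hsq : ¬ p ^ 2 ∣ 443520) (hp3 : 3 ≤ p)
    (hM : Nat.card {g : M // orderOf g = p} = c) (hs : (p - 1) * s = c)
    (hcent : ∀ z : M, orderOf z = p → Nat.card (centralizer ({z} : Set M)) = p) (hz : ∃ z : M, orderOf z = p)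
    (hnse : {c : ℕ | 0 < c ∧ ∃ n : ℕ, c = Nat.card {g : G // orderOf g = n}} =
      {c : ℕ | 0 < c ∧ ∃ n : ℕ, c = Nat.card {g : M // orderOf g = n}}) : Nat.card (Sylow p G) = s := by
  obtain ⟨z, hz⟩ := hz
  have h1 := sylow_card_prime (G := G) (p := p) (by rw [hG]; exact hd) (by rw [hG]; exact hsq)
  have h0 : 0 < Nat.card (Sylow p G) := Nat.card_pos
  have h2 : Nat.card {g : G // orderOf g = p} ∈ {c : ℕ | 0 < c ∧ ∃ n : ℕ, c = Nat.card {g : G // orderOf g = n}} :=
    ⟨by rw [card_order_prime h1]; exact Nat.mul_pos h0 (by omega), p, rfl⟩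
  rw [hnse] at h2
  obtain ⟨-, n, hn⟩ := h2
  have h3 := card_sylow_modEq_one p G
  rw [card_order_prime h1] at hn
  by_cases hn1 : n = 1
  · rw [hn1, card_orderOf_one] at hn
    exfalso
    have h4 := Nat.eq_one_of_mul_eq_one_left hn
    omega
  · by_cases hnp : n = p
    · rw [hnp, hM, ← hs, mul_comm] at hn
      exact Nat.eq_of_mul_eq_mul_left (by omega) hn
    · exfalso
      have h4 := dvd_card_orderOf hz (hcent z hz) hn1 hnp
      rw [← hn] at h4
      rcases (Nat.Prime.dvd_mul hp.out).1 h4 with h5 | h5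
      · have h6 : Nat.card (Sylow p G) ≡ 0 [MOD p] := (Nat.modEq_zero_iff_dvd).2 h5
        have h7 := h3.symm.trans h6
        have h8 := (Nat.modEq_zero_iff_dvd).1 h7
        exact hp.out.one_lt.ne' (Nat.dvd_one.1 h8)
      · have := Nat.le_of_dvd (by omega) h5
        omega

/-- Let M be the Mathieu group M₂₂ (order 443520). If a finite group G has the same order as M and the same set of values of the function 'number of elements of order n' (taken over the element orders n that occur), then G is isomorphic to M. -/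
theorem result {G : Type*} [Group G] [Finite G]
    (hcard : Nat.card G = Nat.card ↥Cfsg.Spor.M22)
    (hnse : {c : ℕ | 0 < c ∧ ∃ n : ℕ, c = Nat.card {g : G // orderOf g = n}} =
      {c : ℕ | 0 < c ∧ ∃ n : ℕ, c = Nat.card {g : ↥Cfsg.Spor.M22 // orderOf g = n}}) :
    Nonempty (G ≃* ↥Cfsg.Spor.M22) := by
  have hG : Nat.card G = 443520 := by rw [hcard]; exact H_M22.card
  have i11 : Fact (Nat.Prime 11) := ⟨by norm_num⟩
  have i7 : Fact (Nat.Prime 7) := ⟨by norm_num⟩
  have i5 : Fact (Nat.Prime 5) := ⟨by norm_num⟩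
  have hS := simple_M22
  have H := H_M22
  refine iso_of_sylow hG ?_ ?_ ?_
  · exact syl_of_nse hG (by norm_num) (by norm_num) (by norm_num) M22_eleven (by norm_num) (fun z hz => H.c11 hz)
      (exists_elt H (by norm_num) (by norm_num)) hnse
  · exact syl_of_nse hG (by norm_num) (by norm_num) (by norm_num) M22_seven (by norm_num) (fun z hz => H.c7 hz)
      (exists_elt H (by norm_num) (by norm_num)) hnse
  · exact syl_of_nse hG (by norm_num) (by norm_num) (by norm_num) M22_five (by norm_num) (fun z hz => H.c5 hz)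
      (exists_elt H (by norm_num) (by norm_num)) hnse

end Cfsg.Agent.S3594
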