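import Cfsg.Statements.S3595
import Cfsg.Agent.Lib.M23L

set_option autoImplicit false
open Cfsg

namespace Cfsg.Agent.S3595

open Cfsg.Agent.Lib.M23N

/-- Let M be the Mathieu group M₂₃ (order 10200960). If a finite group G has the same order as M and the same set of values of the function 'number of elements of order n' (taken over the element orders n that occur), then G is isomorphic to M. -/
theorem result {G : Type*} [Group G] [Finite G]
    (hcard : Nat.card G = Nat.card ↥Cfsg.Spor.M23)
    (hnse : {c : ℕ | 0 < c ∧ ∃ n : ℕ, c = Nat.card {g : G // orderOf g = n}} =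
      {c : ℕ | 0 < c ∧ ∃ n : ℕ, c = Nat.card {g : ↥Cfsg.Spor.M23 // orderOf g = n}}) :
    Nonempty (G ≃* ↥Cfsg.Spor.M23) := by
  have hG : Nat.card G = 10200960 := by rw [hcard]; exact card_M23
  have i23 : Fact (Nat.Prime 23) := ⟨by norm_num⟩
  have i11 : Fact (Nat.Prime 11) := ⟨by norm_num⟩
  have s23 : Nat.card (Sylow 23 G) = 40320 :=
    syl_of_nse (c := 887040) (by rw [hG]; norm_num) (by rw [hG]; norm_num) (by norm_num)
      (count_of_syl (by norm_num) (by norm_num) syl23 (by norm_num)) (by norm_num) cent23 (exists_ord (by norm_num)) hnse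
  have s11 : Nat.card (Sylow 11 G) = 185472 :=
    syl_of_nse (c := 1854720) (by rw [hG]; norm_num) (by rw [hG]; norm_num) (by norm_num)
      (count_of_syl (by norm_num) (by norm_num) syl11 (by norm_num)) (by norm_num) cent11 (exists_ord (by norm_num)) hnse
  exact iso_of_sylow hG s23 s11 (syl7_of_nse hG hnse) (fun _ => two_of_nse hG hnse)

end Cfsg.Agent.S3595
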