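import Cfsg.Statements.S3626
import Cfsg.Agent.Lib.H26ReeCube

set_option autoImplicit false
open Cfsg

namespace Cfsg.Agent.S3626

theorem exists_copy {H : Type*} [Group H] [Finite H] :
    ∃ (H' : Type) (_ : Group H') (_ : Fintype H'), Fintype.card H' = Nat.card H ∧
      Set.range (orderOf : H' → ℕ) = Set.range (orderOf : H → ℕ) := by
  have : Small.{0} H := inferInstance
  let f : Shrink.{0} H ≃* H := Shrink.mulEquiv
  have : Finite (Shrink.{0} H) := Finite.of_equiv _ f.symm.toEquiv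
  letI : Fintype (Shrink.{0} H) := Fintype.ofFinite _
  refine ⟨Shrink.{0} H, inferInstance, inferInstance, ?_, ?_⟩
  · rw [← Nat.card_eq_fintype_card]; exact Nat.card_congr f.toEquiv
  ext n
  constructor
  · rintro ⟨x, rfl⟩
    exact ⟨f x, MulEquiv.orderOf_eq f x⟩
  · rintro ⟨x, rfl⟩
    exact ⟨f.symm x, MulEquiv.orderOf_eq f.symm x⟩

/-- Let R be the small Ree group over the field with q = 3^(2m+1) ≥ 27 elements. Then there are finite groups of arbitrarily large order with exactly the same set of element orders as R × R × R. -/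
theorem result {K : Type*} [Field K] [Fintype K] {m : ℕ} (hm : 1 ≤ m) (hK : Fintype.card K = 3 ^ (2 * m + 1)) (N : ℕ) :
    ∃ (H : Type) (_ : Group H) (_ : Fintype H), N < Fintype.card H ∧
      Set.range (orderOf : H → ℕ) = Set.range (orderOf : ↥(Cfsg.Lie.twistedG2 K (3 ^ m)) × ↥(Cfsg.Lie.twistedG2 K (3 ^ m)) × ↥(Cfsg.Lie.twistedG2 K (3 ^ m)) → ℕ) := by
  have : CharP K 3 := Lib.TwG2.char3 hK
  let A := Fin (N + 1) → K
  have : Finite (Lib.H26ReeCube.XX K A) := Finite.of_equiv _ SemidirectProduct.equivProd.symm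
  obtain ⟨H', i1, i2, h1, h2⟩ := exists_copy (H := ↥(Cfsg.Lie.twistedG2 K (3 ^ m)) × ↥(Cfsg.Lie.twistedG2 K (3 ^ m)) × Lib.H26ReeCube.XX K A)
  refine ⟨H', i1, i2, ?_, h2.trans (Lib.H26ReeCube.spectrum_ree hm hK A)⟩
  rw [h1]
  have h3 : Nat.card A ≤ Nat.card (↥(Cfsg.Lie.twistedG2 K (3 ^ m)) × ↥(Cfsg.Lie.twistedG2 K (3 ^ m)) × Lib.H26ReeCube.XX K A) := by
    refine Nat.card_le_card_of_injective (fun a => (1, 1, SemidirectProduct.inl (Multiplicative.ofAdd (Matrix.of fun _ _ => a)))) ?_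
    intro a b hab
    have h4 := congrArg (fun z => (Multiplicative.toAdd (z.2.2 : Lib.H26ReeCube.XX K A).left) 0 0) hab
    exact h4
  refine lt_of_lt_of_le ?_ h3
  rw [Nat.card_eq_fintype_card, Fintype.card_fun, Fintype.card_fin]
  have h5 : 1 < Fintype.card K := Fintype.one_lt_card
  calc N < N + 1 := Nat.lt_succ_self N
    _ < Fintype.card K ^ (N + 1) := Nat.lt_pow_self h5

end Cfsg.Agent.S3626
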