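import Cfsg.Statements.S3643
import Cfsg.Agent.Lib.M12DegX
import Cfsg.Agent.Lib.M12DegY

set_option autoImplicit false
open Cfsg

namespace Cfsg.Agent.S3643

open Cfsg.Agent.Lib Cfsg.Agent.Lib.ColTools

/-- transfer of an edge of the degree graph -/
theorem edge {G : Type*} [Group G] [Finite G] {H : Type*} [Group H] [Finite H] (h : Cfsg.degreeGraph G = Cfsg.degreeGraph H) {p q : ℕ}
    (h1 : p ≠ q) (h2 : p.Prime) (h3 : q.Prime) (hχ : ∃ χ : IrrCharacter H, p * q ∣ deg χ) : ∃ χ : IrrCharacter G, p * q ∣ deg χ := by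
  obtain ⟨χ, hχ⟩ := hχ
  have h4 : (Cfsg.degreeGraph H).Adj p q := ⟨h1, h2, h3, deg χ, ⟨χ, PBlock.deg_eq χ⟩, hχ⟩
  rw [← h] at h4
  obtain ⟨-, -, -, d, ⟨χ', hd⟩, hdv⟩ := h4
  exact ⟨χ', by rw [← PBlock.deg_eq, hd]; exact hdv⟩

/-- Let G be a finite group of the same order as the Mathieu group M₁₂ whose character degree graph equals that of M₁₂ (same primes dividing some irreducible complex character degree, same pairs of distinct primes whose product divides some degree). Then G is isomorphic to M₁₂ or to the direct product of the alternating group of degree 4 with M₁₁. -/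
theorem result {G : Type*} [Group G] [Finite G] (hcard : Nat.card G = Nat.card ↥Cfsg.Spor.M12) (hΔ : Cfsg.degreePrimes G = Cfsg.degreePrimes ↥Cfsg.Spor.M12 ∧ Cfsg.degreeGraph G = Cfsg.degreeGraph ↥Cfsg.Spor.M12) :
    Nonempty (G ≃* ↥Cfsg.Spor.M12) ∨ Nonempty (G ≃* alternatingGroup (Fin 4) × ↥Cfsg.Spor.M11) := by
  haveI : IsSimpleGroup ↥Cfsg.Spor.M12 := MTwelve.simple_W
  haveI : Finite ↥Cfsg.Spor.M12 := MTwelve.finite_W
  have hM : Nat.card ↥Cfsg.Spor.M12 = 95040 := MTwelve.card_W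
  obtain ⟨χ, hχ⟩ := edge hΔ.2 (p := 5) (q := 11) (by norm_num) (by norm_num) (by norm_num) (M12DegX.exists_55 hM)
  obtain ⟨χ', hχ'⟩ := edge hΔ.2 (p := 3) (q := 11) (by norm_num) (by norm_num) (by norm_num) (M12DegX.exists_33 hM)
  exact M12DegY.main (hcard.trans hM) hχ hχ'

end Cfsg.Agent.S3643
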