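import Cfsg.Statements.S4782
import Cfsg.Agent.Lib.DegTools

set_option autoImplicit false
open Cfsg

namespace Cfsg.Agent.S4782

open Cfsg.Agent.Lib.DefectZero Cfsg.Agent.Lib.DegTools Cfsg.Agent.Lib

/-- Simple case. -/
theorem prime_of_simple {G : Type*} [Group G] [Finite G] [IsSimpleGroup G] (r s : ℕ)
    (hr : r.Prime) (hs : s.Prime) (hrG : r ∣ Nat.card G)
    (h : ∀ χ : IrrCharacter G, ∀ t : ℕ, t.Prime → t ∣ charDegree (χ : G → ℂ) → t = r ∨ t = s) :
    (Nat.card G).Prime := by
  have : Fact r.Prime := ⟨hr⟩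
  obtain ⟨P⟩ : Nonempty (Sylow r G) := inferInstance
  have hPn : Nontrivial P := by
    rw [← Finite.one_lt_card_iff_nontrivial]
    have h1 : r ∣ Nat.card P := P.dvd_card_of_dvd_card hrG
    exact lt_of_lt_of_le hr.one_lt (Nat.le_of_dvd Nat.card_pos h1)
  have hcn : Nontrivial (Subgroup.center P) := IsPGroup.center_nontrivial P.2
  obtain ⟨⟨⟨z, hzP⟩, hzc⟩, hz1⟩ := exists_ne (1 : Subgroup.center P)
  have hz1' : z ≠ 1 := by
    intro h; apply hz1; ext; exact h
  rw [Subgroup.mem_center_iff] at hzc
  have hPle : (P : Subgroup G) ≤ Subgroup.centralizer ({z} : Set G) := by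
    intro y hy
    rw [Subgroup.mem_centralizer_iff]; rintro v rfl
    exact (congrArg Subtype.val (hzc ⟨y, hy⟩)).symm
  have hidx : ¬ r ∣ (Subgroup.centralizer ({z} : Set G)).index := by
    intro hd
    have h1 : (Subgroup.centralizer ({z} : Set G)).index ∣ (P : Subgroup G).index :=
      Subgroup.index_dvd_of_le hPle
    exact P.not_dvd_index (hd.trans h1)
  apply Burnside.prime_card_of_center_ne_bot
  intro hbot
  have hcent : z ∉ Subgroup.center G := by
    rw [hbot]; exact fun h => hz1' (Subgroup.mem_bot.mp h)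
  obtain ⟨n, ρ, hρ, hn, hχ, hne⟩ := Burnside.exists_irr_not_dvd z hz1' s hs
  have hdeg : charDegree ρ.character = n := by
    have := charDegree_eq (G := G) (χ := ρ.character) ⟨n, ρ, rfl⟩
    rw [Representation.char_one, Module.finrank_fin_fun] at this
    exact_mod_cast this
  have hcop : Nat.Coprime (Module.finrank ℂ (Fin n → ℂ))
      (Subgroup.centralizer ({z} : Set G)).index := by
    rw [Module.finrank_fin_fun]
    rw [Nat.coprime_iff_gcd_eq_one]
    by_contra hg
    obtain ⟨t, ht, htd⟩ := Nat.exists_prime_and_dvd hg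
    have h1 : t ∣ n := htd.trans (Nat.gcd_dvd_left _ _)
    have h2 := htd.trans (Nat.gcd_dvd_right _ _)
    rcases h ⟨ρ.character, n, ρ, hρ, rfl⟩ t ht (by rw [hdeg]; exact h1) with h3 | h3
    · rw [h3] at h2; exact hidx h2
    · rw [h3] at h1; exact hn h1
  have h1 := (CharCentral.zero_or_norm_eq_of_coprime ρ z hcop).resolve_left hχ
  obtain ⟨ω, hω⟩ := (CharValues.norm_character_eq_iff ρ z).mp h1
  have hker : MonoidHom.ker ρ = ⊥ := by
    rcases IsSimpleGroup.eq_bot_or_eq_top_of_normal (MonoidHom.ker ρ) inferInstance with h | h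
    · exact h
    · exfalso
      apply hne
      apply Burnside.character_eq_one_of_trivial ρ
      intro x
      have : x ∈ MonoidHom.ker ρ := by rw [h]; exact Subgroup.mem_top x
      exact this
  apply hcent
  rw [Subgroup.mem_center_iff]
  intro x
  have hinj : Function.Injective ρ := (MonoidHom.ker_eq_bot_iff ρ).mp hker
  apply hinj
  rw [map_mul, map_mul, hω]
  ext v
  simp

theorem solvable_of_two (n : ℕ) : ∀ {G : Type*} [Group G] [Finite G] (p q : ℕ)
    (_ : p.Prime) (_ : q.Prime) (_ : Nat.card G = n)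
    (_ : ∀ χ : IrrCharacter G, ∀ t : ℕ, t.Prime → t ∣ charDegree (χ : G → ℂ) → t = p ∨ t = q),
    Group.IsSolvable G := by
  induction n using Nat.strong_induction_on with
  | _ n ih =>
    intro G _ _ p q hp hq hn h
    by_cases hsub : Subsingleton G
    · infer_instance
    rw [not_subsingleton_iff_nontrivial] at hsub
    by_cases hsimple : IsSimpleGroup G
    · -- simple case
      have hprime : (Nat.card G).Prime := by
        by_cases h1 : p ∣ Nat.card G
        · exact prime_of_simple p q hp hq h1 h
        by_cases h2 : q ∣ Nat.card G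
        · exact prime_of_simple q p hq hp h2 fun χ t ht hd => (h χ t ht hd).symm
        obtain ⟨r, hr, hrG⟩ := Nat.exists_prime_and_dvd (Finite.one_lt_card (α := G)).ne'
        refine prime_of_simple r p hr hp hrG fun χ t ht hd => ?_
        exfalso
        have h3 := hd.trans (charDegree_dvd χ.2)
        rcases h χ t ht hd with h4 | h4
        · rw [h4] at h3; exact h1 h3
        · rw [h4] at h3; exact h2 h3
      have : Fact (Nat.card G).Prime := ⟨hprime⟩
      have hcyc : IsCyclic G := isCyclic_of_prime_card rfl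
      exact Group.isSolvable_of_comm fun a b => by
        let _ := hcyc.commGroup
        exact mul_comm a b
    · -- nontrivial normal subgroup
      have : ∃ N : Subgroup G, N.Normal ∧ N ≠ ⊥ ∧ N ≠ ⊤ := by
        by_contra hcon
        push Not at hcon
        exact hsimple ⟨fun N hN => by
          by_cases h1 : N = ⊥
          · exact Or.inl h1
          · exact Or.inr (hcon N hN h1)⟩
      obtain ⟨N, hN, h1, h2⟩ := this
      have hcN : Nat.card N < n := by
        rw [← hn]
        exact lt_of_le_of_ne (Subgroup.card_le_card_group N)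
          fun h => h2 (Subgroup.eq_top_of_card_eq N h)
      have hcQ : Nat.card (G ⧸ N) < n := by
        have h3 := Subgroup.card_eq_card_quotient_mul_card_subgroup N
        have h4 : 1 < Nat.card N := by
          rw [Subgroup.one_lt_card_iff_ne_bot]; exact h1
        rw [← hn, h3]
        have h5 : 0 < Nat.card (G ⧸ N) := Nat.card_pos
        nlinarith
      have s1 : Group.IsSolvable N := ih _ hcN p q hp hq rfl fun θ t ht hd => by
        obtain ⟨χ, hχ⟩ := exists_dvd_of_normal N θ.2
        exact h χ t ht (hd.trans hχ)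
      have s2 : Group.IsSolvable (G ⧸ N) := ih _ hcQ p q hp hq rfl fun θ t ht hd => by
        obtain ⟨ψ, hψ⟩ := exists_inflate N θ
        exact h ψ t ht (by rw [hψ]; exact hd)
      exact (Group.isSolvable_iff_subgroup_quotient N).mpr ⟨s1, s2⟩

/-- If the finite group G is not solvable, then at least three distinct primes each divide some irreducible complex character degree of G. -/
theorem result {G : Type*} [Group G] [Finite G] (hG : ¬ Group.IsSolvable G) : ∃ p q r : ℕ, p ≠ q ∧ q ≠ r ∧ p ≠ r ∧ p ∈ Cfsg.degreePrimes G ∧ q ∈ Cfsg.degreePrimes G ∧ r ∈ Cfsg.degreePrimes G := by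
  by_contra hcon
  push Not at hcon
  apply hG
  -- all degrees involve at most two primes
  have hex : ∃ p q : ℕ, p.Prime ∧ q.Prime ∧ ∀ t ∈ degreePrimes G, t = p ∨ t = q := by
    by_cases h0 : ∃ p, p ∈ degreePrimes G
    · obtain ⟨p, hp⟩ := h0
      by_cases h1 : ∃ q, q ∈ degreePrimes G ∧ q ≠ p
      · obtain ⟨q, hq, hqp⟩ := h1
        refine ⟨p, q, hp.1, hq.1, fun t ht => ?_⟩
        by_contra hne
        push Not at hne
        exact hcon p q t hqp.symm hne.2.symm hne.1.symm hp hq ht
      · push Not at h1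
        exact ⟨p, p, hp.1, hp.1, fun t ht => Or.inl (h1 t ht)⟩
    · push Not at h0
      exact ⟨2, 2, Nat.prime_two, Nat.prime_two, fun t ht => absurd ht (h0 t)⟩
  obtain ⟨p, q, hp, hq, h⟩ := hex
  exact solvable_of_two _ p q hp hq rfl fun χ t ht hd => h t ⟨ht, _, ⟨χ, rfl⟩, hd⟩

end Cfsg.Agent.S4782
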