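import Mathlib
import Cfsg.Statements.S3669
import Cfsg.Agent.S4782
import Cfsg.Agent.Lib.CharDegrees
import Cfsg.Agent.Lib.BlockDeg
import Cfsg.Agent.Lib.SL25
import Cfsg.Agent.Lib.ClSmall
import Cfsg.Agent.Lib.SubgroupTools

set_option autoImplicit false
open Cfsg

namespace Cfsg.Agent.S3669

open Cfsg.Agent.Lib

theorem degree_dvd_index {G : Type*} [Group G] [Finite G] (A : Subgroup G) [A.Normal]
    (hA : ∀ a ∈ A, ∀ b ∈ A, a * b = b * a) {p : ℕ} (hp : p ∈ Cfsg.degreePrimes G) : p ∣ A.index := by
  obtain ⟨-, d, ⟨χ, rfl⟩, hd⟩ := hp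
  exact hd.trans (CharDegrees.ito χ.2 A hA _ (BlockDeg.charDegree_cast_irr χ).symm)

theorem mem_three {G : Type*} [Group G] [Finite G] (hcard : Nat.card G = 60) {p : ℕ}
    (hp : p ∈ Cfsg.degreePrimes G) : p = 2 ∨ p = 3 ∨ p = 5 := by
  obtain ⟨hpp, d, ⟨χ, rfl⟩, hd⟩ := hp
  have h1 : p ∣ 60 := hcard ▸ hd.trans (BlockDeg.charDegree_dvd_card χ.2)
  have h2 : p ∣ 2 ^ 2 * 3 * 5 := by norm_num; exact h1
  rcases (Nat.Prime.dvd_mul hpp).1 h2 with h | h
  · rcases (Nat.Prime.dvd_mul hpp).1 h with h | h
    · exact Or.inl ((Nat.prime_dvd_prime_iff_eq hpp Nat.prime_two).1 (hpp.dvd_of_dvd_pow h))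
    · exact Or.inr (Or.inl ((Nat.prime_dvd_prime_iff_eq hpp Nat.prime_three).1 h))
  · exact Or.inr (Or.inr ((Nat.prime_dvd_prime_iff_eq hpp Nat.prime_five).1 h))

theorem not_solvable {G : Type*} [Group G] [Finite G] (hcard : Nat.card G = 60)
    (h2 : 2 ∈ Cfsg.degreePrimes G) (h3 : 3 ∈ Cfsg.degreePrimes G) (h5 : 5 ∈ Cfsg.degreePrimes G) :
    ¬ Group.IsSolvable G := by
  intro hsol
  have key : ∀ A : Subgroup G, A.Normal → (∀ a ∈ A, ∀ b ∈ A, a * b = b * a) → Nat.card A ∣ 2 := by
    intro A hAn hA
    have d2 := degree_dvd_index A hA h2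
    have d3 := degree_dvd_index A hA h3
    have d5 := degree_dvd_index A hA h5
    have d6 : 2 * 3 ∣ A.index := Nat.Coprime.mul_dvd_of_dvd_of_dvd (by norm_num) d2 d3
    have d30 : 2 * 3 * 5 ∣ A.index := Nat.Coprime.mul_dvd_of_dvd_of_dvd (by norm_num) d6 d5
    obtain ⟨k, hk⟩ := d30
    have hmul := A.card_mul_index
    rw [hcard, hk] at hmul
    exact ⟨k, by nlinarith⟩
  have hnt : Nontrivial G := by
    rw [← Finite.one_lt_card_iff_nontrivial, hcard]; norm_num
  obtain ⟨p, N, hp, hN, hNc, hNab, hNp⟩ := SubgroupTools.exists_characteristic_elementary G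
  have hNn : N.Normal := inferInstance
  have hNcomm : ∀ a ∈ N, ∀ b ∈ N, a * b = b * a := fun a ha b hb =>
    congrArg Subtype.val (hNab.is_comm.comm ⟨a, ha⟩ ⟨b, hb⟩)
  have hN2 : Nat.card N = 2 := by
    rcases (Nat.dvd_prime Nat.prime_two).1 (key N hNn hNcomm) with h | h
    · exact absurd (Subgroup.card_eq_one.1 h) hN
    · exact h
  have hNcen : N ≤ Subgroup.center G := by
    intro n hn
    rw [Subgroup.mem_center_iff]
    intro g
    by_cases hn1 : n = 1
    · rw [hn1]; simp
    · have h1 : g * n * g⁻¹ ∈ N := hNn.conj_mem n hn g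
      have h4 : g * n * g⁻¹ = n := by
        rw [Nat.card_eq_two_iff' (⟨1, N.one_mem⟩ : N)] at hN2
        obtain ⟨z, hz, hzu⟩ := hN2
        have a1 := hzu ⟨n, hn⟩ (by intro h; exact hn1 (congrArg Subtype.val h))
        have a2 := hzu ⟨g * n * g⁻¹, h1⟩ (by
          intro h
          apply hn1
          have := congrArg Subtype.val h
          simpa using this)
        exact congrArg Subtype.val (a2.trans a1.symm)
      calc g * n = g * n * g⁻¹ * g := by group
        _ = n * g := by rw [h4]
  have hQ : Nat.card (G ⧸ N) = 30 := by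
    have := Subgroup.card_eq_card_quotient_mul_card_subgroup N
    rw [hcard, hN2] at this
    omega
  have hntQ : Nontrivial (G ⧸ N) := by
    rw [← Finite.one_lt_card_iff_nontrivial, hQ]; norm_num
  obtain ⟨q, E, hq, hE, hEc, hEab, hEq⟩ := SubgroupTools.exists_characteristic_elementary (G ⧸ N)
  have hEn : E.Normal := inferInstance
  have hEcard : (Nat.card E).Prime := by
    have hpg : IsPGroup q E := by
      intro x
      refine ⟨1, ?_⟩
      apply Subtype.ext
      rw [pow_one]
      simpa using hEq x.1 x.2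
    have : Fact q.Prime := ⟨hq⟩
    obtain ⟨k, hk⟩ := IsPGroup.iff_card.1 hpg
    have hd : Nat.card E ∣ 30 := hQ ▸ E.card_subgroup_dvd_card
    have hk1 : k ≠ 0 := by
      rintro rfl
      exact hE (Subgroup.card_eq_one.1 (by rw [hk, pow_zero]))
    have hk2 : k < 2 := by
      by_contra hcon
      push Not at hcon
      have h1 : q ^ 2 ∣ 30 := ((pow_dvd_pow q hcon).trans (hk ▸ dvd_rfl)).trans hd
      have hq30 : q ≤ 30 := Nat.le_of_dvd (by norm_num) ((dvd_pow_self q two_ne_zero).trans h1)
      have hsq : Squarefree 30 := by decide +kernel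
      have := hsq q (by rw [← sq]; exact h1)
      exact hq.one_lt.ne' (Nat.isUnit_iff.1 this)
    obtain rfl : k = 1 := by omega
    rw [hk, pow_one]; exact hq
  let M : Subgroup G := E.comap (QuotientGroup.mk' N)
  have hMn : M.Normal := Subgroup.Normal.comap hEn _
  have hcyc : IsCyclic E := by
    have : Fact (Nat.card E).Prime := ⟨hEcard⟩
    exact isCyclic_of_prime_card rfl
  have hMcomm : ∀ a ∈ M, ∀ b ∈ M, a * b = b * a := by
    let f : M →* E := (QuotientGroup.mk' N).subgroupComap E
    have hker : f.ker ≤ Subgroup.center M := by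
      intro x hx
      have h1 : (x : G) ∈ N := by
        have h2 : f x = 1 := hx
        have h3 : (QuotientGroup.mk' N) (x : G) = 1 := congrArg Subtype.val h2
        rwa [← MonoidHom.mem_ker, QuotientGroup.ker_mk'] at h3
      rw [Subgroup.mem_center_iff]
      intro g
      exact Subtype.ext (Subgroup.mem_center_iff.1 (hNcen h1) g)
    intro a ha b hb
    exact congrArg Subtype.val (commutative_of_cyclic_center_quotient f hker ⟨a, ha⟩ ⟨b, hb⟩)
  have hMcard := key M hMn hMcomm
  have hM2 : Nat.card M = Nat.card N * Nat.card E := by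
    have h1 : M.index = E.index := Subgroup.index_comap_of_surjective E (QuotientGroup.mk'_surjective N)
    have h2 := M.card_mul_index
    have h3 := E.card_mul_index
    rw [hcard, h1] at h2
    rw [hQ] at h3
    have h4 : 0 < E.index := Nat.pos_of_ne_zero Subgroup.index_ne_zero_of_finite
    apply Nat.eq_of_mul_eq_mul_right h4
    rw [h2, hN2, mul_assoc, h3]; norm_num
  have := Nat.le_of_dvd (by norm_num) hMcard
  have h6 := hEcard.two_le
  rw [hM2, hN2] at this
  omega

/-- The character degree graph of a finite group has as vertices the primes dividing some irreducible complex character degree, two distinct primes being joined when their product divides some irreducible character degree; two groups have the same character degree graph when they have the same vertices and the same joined pairs. A finite group of order 60 with the same character degree graph as the alternating group A₅ (whose character degrees are 1, 3, 4, 5, so the graph has vertices 2, 3, 5 and no edges) is isomorphic to A₅. -/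
theorem result {G : Type*} [Group G] [Finite G] (hcard : Nat.card G = 60)
    (hΓ : Cfsg.degreePrimes G = Cfsg.degreePrimes (alternatingGroup (Fin 5)) ∧ Cfsg.degreeGraph G = Cfsg.degreeGraph (alternatingGroup (Fin 5))) : Nonempty (G ≃* alternatingGroup (Fin 5)) := by
  have hA5 : Nat.card (alternatingGroup (Fin 5)) = 60 := by
    rw [nat_card_alternatingGroup, Nat.card_eq_fintype_card, Fintype.card_fin]
    rfl
  have hns : ¬ Group.IsSolvable (alternatingGroup (Fin 5)) := by
    intro hs
    apply Equiv.Perm.not_isSolvable_fin_5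
    rw [Group.isSolvable_iff_subgroup_quotient (alternatingGroup (Fin 5))]
    refine ⟨hs, ?_⟩
    have h2 : Nat.card (Equiv.Perm (Fin 5) ⧸ alternatingGroup (Fin 5)) = 2 := alternatingGroup.index_eq_two
    haveI : Fact (Nat.Prime 2) := ⟨Nat.prime_two⟩
    have : IsCyclic (Equiv.Perm (Fin 5) ⧸ alternatingGroup (Fin 5)) := isCyclic_of_prime_card h2
    letI : CommGroup (Equiv.Perm (Fin 5) ⧸ alternatingGroup (Fin 5)) := IsCyclic.commGroup
    infer_instance
  obtain ⟨p, q, r, hpq, hqr, hpr, hp, hq, hr⟩ := Cfsg.Agent.S4782.result hns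
  have hp' := mem_three hA5 hp
  have hq' := mem_three hA5 hq
  have hr' := mem_three hA5 hr
  rw [← hΓ.1] at hp hq hr
  have h235 : 2 ∈ Cfsg.degreePrimes G ∧ 3 ∈ Cfsg.degreePrimes G ∧ 5 ∈ Cfsg.degreePrimes G := by
    rcases hp' with rfl | rfl | rfl <;> rcases hq' with rfl | rfl | rfl <;> rcases hr' with rfl | rfl | rfl <;>
      first | exact absurd rfl hpq | exact absurd rfl hqr | exact absurd rfl hpr | exact ⟨hp, hq, hr⟩ | exact ⟨hp, hr, hq⟩ | exact ⟨hq, hp, hr⟩ | exact ⟨hq, hr, hp⟩ | exact ⟨hr, hp, hq⟩ | exact ⟨hr, hq, hp⟩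
  have hns' := not_solvable hcard h235.1 h235.2.1 h235.2.2
  have := Lib.SL25.isSimpleGroup_of_card_sixty hcard hns'
  exact Lib.ClSmall.equiv_alternating_five hcard

end Cfsg.Agent.S3669
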