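import Mathlib
import Cfsg.Statements.S3670
import Cfsg.Agent.S0283
import Cfsg.Agent.S2366
import Cfsg.Agent.Lib.U33Blk
import Cfsg.Agent.Lib.U33Bor
import Cfsg.Agent.Lib.U33Sol
import Cfsg.Agent.Lib.FFSU3

set_option autoImplicit false
open Cfsg

namespace Cfsg.Agent.S3670

open Cfsg.Agent.Lib Cfsg.Agent.Lib.HermMat Cfsg.Agent.Lib.ClUnitary
open Cfsg.Agent.Lib.SU3Gen (UJ mx mx_inj mx_one)
open scoped commutatorElement

theorem mem_three {n : ℕ} (hn : n ∣ 6048) {p : ℕ} (hp : p.Prime) (hd : p ∣ n) : p = 2 ∨ p = 3 ∨ p = 7 := by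
  have h2 : p ∣ 2 ^ 5 * 3 ^ 3 * 7 := by norm_num; exact hd.trans hn
  rcases (Nat.Prime.dvd_mul hp).1 h2 with h | h
  · rcases (Nat.Prime.dvd_mul hp).1 h with h | h
    · exact Or.inl ((Nat.prime_dvd_prime_iff_eq hp Nat.prime_two).1 (hp.dvd_of_dvd_pow h))
    · exact Or.inr (Or.inl ((Nat.prime_dvd_prime_iff_eq hp Nat.prime_three).1 (hp.dvd_of_dvd_pow h)))
  · exact Or.inr (Or.inr ((Nat.prime_dvd_prime_iff_eq hp (by norm_num)).1 h))

/-- the complete graph on the three primes -/
structure Full (G : Type*) [Group G] : Prop where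
  card : Nat.card G = 6048
  h6 : ∃ d ∈ Cfsg.charDegrees G, 6 ∣ d
  h14 : ∃ d ∈ Cfsg.charDegrees G, 14 ∣ d
  h21 : ∃ d ∈ Cfsg.charDegrees G, 21 ∣ d

theorem Full.finite {G : Type*} [Group G] (h : Full G) : Finite G :=
  Nat.finite_of_card_ne_zero (by rw [h.card]; norm_num)

theorem Full.deg_dvd {G : Type*} [Group G] (h : Full G) {d : ℕ} (hd : d ∈ Cfsg.charDegrees G) : d ∣ 6048 := by
  have := h.finite
  obtain ⟨χ, rfl⟩ := hd
  rw [← h.card]
  exact BlockDeg.charDegree_dvd_card χ.2

theorem Full.mem_iff {G : Type*} [Group G] (h : Full G) (p : ℕ) :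
    p ∈ Cfsg.degreePrimes G ↔ p = 2 ∨ p = 3 ∨ p = 7 := by
  constructor
  · rintro ⟨hp, d, hd, hpd⟩
    exact mem_three (h.deg_dvd hd) hp hpd
  · obtain ⟨d, hd, h6⟩ := h.h6
    obtain ⟨e, he, h21⟩ := h.h21
    rintro (rfl | rfl | rfl)
    · exact ⟨by norm_num, d, hd, (by norm_num : 2 ∣ 6).trans h6⟩
    · exact ⟨by norm_num, d, hd, (by norm_num : 3 ∣ 6).trans h6⟩
    · exact ⟨by norm_num, e, he, (by norm_num : 7 ∣ 21).trans h21⟩

theorem Full.adj_iff {G : Type*} [Group G] (h : Full G) (p q : ℕ) :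
    (Cfsg.degreeGraph G).Adj p q ↔ p ≠ q ∧ (p = 2 ∨ p = 3 ∨ p = 7) ∧ (q = 2 ∨ q = 3 ∨ q = 7) := by
  constructor
  · rintro ⟨hne, hp, hq, d, hd, hpq⟩
    exact ⟨hne, mem_three (h.deg_dvd hd) hp ((dvd_mul_right p q).trans hpq),
      mem_three (h.deg_dvd hd) hq ((dvd_mul_left q p).trans hpq)⟩
  · rintro ⟨hne, hp, hq⟩
    obtain ⟨d, hd, h6⟩ := h.h6
    obtain ⟨e, he, h21⟩ := h.h21
    obtain ⟨f, hf, h14⟩ := h.h14
    rcases hp with rfl | rfl | rfl <;> rcases hq with rfl | rfl | rfl
    · exact absurd rfl hne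
    · exact ⟨hne, by norm_num, by norm_num, d, hd, h6⟩
    · exact ⟨hne, by norm_num, by norm_num, f, hf, h14⟩
    · exact ⟨hne, by norm_num, by norm_num, d, hd, h6⟩
    · exact absurd rfl hne
    · exact ⟨hne, by norm_num, by norm_num, e, he, h21⟩
    · exact ⟨hne, by norm_num, by norm_num, f, hf, h14⟩
    · exact ⟨hne, by norm_num, by norm_num, e, he, h21⟩
    · exact absurd rfl hne

theorem perfect {G : Type*} [Group G] [IsSimpleGroup G] (hcard : Nat.card G = 6048) : commutator G = ⊤ := by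
  rcases (inferInstance : (commutator G).Normal).eq_bot_or_eq_top with h | h
  · exfalso
    have hcomm : ∀ a b : G, a * b = b * a := by
      intro a b
      have h1 : ⁅a, b⁆ ∈ commutator G := Subgroup.commutator_mem_commutator (Subgroup.mem_top a) (Subgroup.mem_top b)
      rw [h, Subgroup.mem_bot, commutatorElement_eq_one_iff_mul_comm] at h1
      exact h1
    let _ : CommGroup G := { (inferInstance : Group G) with mul_comm := hcomm }
    have h2 := IsSimpleGroup.prime_card (α := G)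
    rw [hcard] at h2
    norm_num at h2
  · exact h

theorem charDegrees_equiv {G H : Type*} [Group G] [Group H] (e : G ≃* H) {d : ℕ} (hd : d ∈ Cfsg.charDegrees G) :
    d ∈ Cfsg.charDegrees H := by
  obtain ⟨χ, rfl⟩ := hd
  refine ⟨⟨_, (CharBasic.isIrrCharacter_comp_mulEquiv_iff e.symm).2 χ.2⟩, ?_⟩
  unfold Cfsg.charDegree
  change ⌊((χ : G → ℂ) (e.symm 1)).re⌋₊ = _
  rw [map_one]

theorem exists_equiv {F : Type*} [Field F] [Fintype F] (hF : Fintype.card F = 3 ^ 2) :
    Nonempty (UJ (frob hF) ≃* PSU 3 F 3) := by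
  obtain ⟨f, hf⟩ := FFSU.exists_par hF
  have hch := U33Bor.char_three hF
  refine ⟨MulEquiv.ofBijective f ⟨?_, hf.surj⟩⟩
  rw [injective_iff_map_eq_one]
  intro g hg
  obtain ⟨c, hc⟩ := hf.ker g hg
  have h1 : (mx g).det = 1 := g.1.2
  rw [hc, Matrix.det_smul, Matrix.det_one, Fintype.card_fin, mul_one] at h1
  have h3 : (3 : F) = 0 := by have := CharP.cast_eq_zero F 3; exact_mod_cast this
  have h2 : (c - 1) ^ 3 = 0 := by linear_combination h1 + (c - c ^ 2) * h3
  have h4 : c = 1 := sub_eq_zero.1 (pow_eq_zero_iff (by norm_num) |>.1 h2)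
  apply mx_inj
  rw [hc, h4, one_smul, mx_one]

theorem full_PSU {F : Type*} [Field F] [Fintype F] (hF : Fintype.card F = 9) : Full (PSU 3 F 3) := by
  classical
  have hF' : Fintype.card F = 3 ^ 2 := by rw [hF]; norm_num
  have : Fact (Nat.Prime 3) := ⟨by norm_num⟩
  have hchar : CharP F 3 := U33Bor.char_three hF'
  have hsimp : IsSimpleGroup (Cfsg.PSU 3 F 3) := S0283.result hF' 3 (by norm_num) (by norm_num)
  have hcard : Nat.card (Cfsg.PSU 3 F 3) = 6048 := by
    have h1 := SylU3.card_PSU_three hF'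
    rw [show Nat.gcd 3 (3 + 1) = 1 by norm_num, one_mul] at h1
    rw [h1]
    norm_num
  have hfin : Finite (Cfsg.PSU 3 F 3) := Nat.finite_of_card_ne_zero (by rw [hcard]; norm_num)
  have hord := S2366.result (F := F) 3 (by norm_num) 3 hF'
  obtain ⟨e⟩ := exists_equiv hF'
  have hfinU : Finite (UJ (frob hF')) := Finite.of_equiv _ e.symm.toEquiv
  have hUs : IsSimpleGroup (UJ (frob hF')) := e.isSimpleGroup
  have : Fintype (UJ (frob hF')) := Fintype.ofFinite _
  have : Fintype (PU3.Bo (frob hF')) := Fintype.ofFinite _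
  have hcU : Nat.card (UJ (frob hF')) = 6048 := by rw [Nat.card_congr e.toEquiv, hcard]
  obtain ⟨⟨d, hd, h14⟩, ⟨k, hk, h21⟩⟩ := U33Bor.exists_degrees hF' (perfect hcU)
  refine ⟨hcard, U33Blk.six_dvd hcard ?_, ⟨d, charDegrees_equiv e hd, h14⟩, ⟨k, charDegrees_equiv e hk, h21⟩⟩
  intro g hg
  have h1 : orderOf g ∈ Set.range (orderOf : Cfsg.PSU 3 F 3 → ℕ) := ⟨g, rfl⟩
  rw [hord] at h1
  norm_num at h1
  generalize orderOf g = n at h1 hg
  have h3 : n ∣ 8 ∨ n ∣ 12 ∨ n ∣ 7 := by
    rcases h1 with ((h | h) | h) | h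
    · exact Or.inl (h.trans (by norm_num))
    · exact Or.inr (Or.inl h)
    · exact Or.inl h
    · exact Or.inr (Or.inr h)
  rcases h3 with h | h | h
  · exact absurd (hg.trans h) (by norm_num)
  · exact absurd (hg.trans h) (by norm_num)
  · exact Nat.dvd_antisymm h hg

theorem full_H : Full U33Sol.H := by
  obtain ⟨d, hd, h42⟩ := U33Sol.exists_42
  exact ⟨U33Sol.card_H, ⟨d, hd, (by norm_num : 6 ∣ 42).trans h42⟩, ⟨d, hd, (by norm_num : 14 ∣ 42).trans h42⟩,
    ⟨d, hd, (by norm_num : 21 ∣ 42).trans h42⟩⟩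

/-- The character degree graph of a finite group has as vertices the primes dividing some irreducible complex character degree, two distinct primes being joined when their product divides some irreducible character degree; two groups have the same character degree graph when they have the same vertices and the same joined pairs. Let F be the field with 9 elements and L = PSU(3,3) realised over F (order 6048). There is a finite solvable group of order 6048 with the same character degree graph as L; so L is not determined by its order together with its character degree graph. -/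
theorem result {F : Type*} [Field F] [Fintype F] (hF : Fintype.card F = 9) :
    ∃ (H : Type) (_ : Group H) (_ : Fintype H), Group.IsSolvable H ∧ Nat.card H = 6048 ∧ Cfsg.degreePrimes H = Cfsg.degreePrimes (Cfsg.PSU 3 F 3) ∧ Cfsg.degreeGraph H = Cfsg.degreeGraph (Cfsg.PSU 3 F 3) := by
  classical
  have hP := full_PSU hF
  have hH := full_H
  have := hH.finite
  refine ⟨U33Sol.H, inferInstance, Fintype.ofFinite _, U33Sol.solvable_H, hH.card, ?_, ?_⟩
  · ext p
    rw [hP.mem_iff, hH.mem_iff]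
  · ext p q
    rw [hP.adj_iff, hH.adj_iff]

end Cfsg.Agent.S3670
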