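import Cfsg.Statements.S3699
import Cfsg.Agent.Lib.CITSuz
import Cfsg.Agent.Lib.CitSuzD
import Cfsg.Agent.Lib.ThreePrimes67
import Cfsg.Agent.Lib.SuzukiNoFix
import Cfsg.Agent.S2904

set_option autoImplicit false
open Cfsg

namespace Cfsg.Agent.S3699

set_option linter.all false
open Subgroup Cfsg.Agent.Lib Cfsg.Agent.Lib.CIT Cfsg.Agent.Lib.CitSuz Cfsg.Agent.Lib.SuzukiOvoid Cfsg.Agent.Lib.SuzukiGroup Cfsg.Agent.Lib.SuzukiFin
  Cfsg.Agent.Lib.SuzukiStab Cfsg.Agent.Lib.SuzukiSyl Cfsg.Agent.Lib.SuzukiPts Cfsg.Agent.Lib.SuzukiTor Cfsg.Agent.Lib.SuzukiNoFix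

theorem ord_cases {F : Type*} [Field F] [Finite F] [CharP F 2] (θ : F ≃+* F) (hθ : ∀ x, θ (θ x) = x ^ 2)
    (hne : ∃ x, θ x ≠ x ^ 2) {r s : ℕ} (hr : r.Prime) (hs : s.Prime) (hrs : r ≠ s) {g : Gz θ}
    (hg : orderOf g = r * s) : (r ∣ Nat.card F - 1 ∧ s ∣ Nat.card F - 1) ∨
      (r ∣ Nat.card F ^ 2 + 1 ∧ s ∣ Nat.card F ^ 2 + 1) := by
  rcases types θ hθ hne g with h | ⟨p, h⟩ | ⟨p, p', hpp, h⟩ | h
  · exfalso
    rw [mem_bot] at h
    rw [h, orderOf_one] at hg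
    exact hr.one_lt.ne' (Nat.eq_one_of_mul_eq_one_right hg.symm)
  · exfalso
    have h1 : r * s ∣ 4 := by rw [← hg]; exact orderOf_dvd_of_pow_eq_one (Up_pow4 θ hθ hne h)
    have h2 : r ∣ 2 ^ 2 := (Dvd.intro _ rfl).trans h1
    have h3 : s ∣ 2 ^ 2 := (Dvd.intro_left _ rfl).trans h1
    have h4 := (Nat.prime_dvd_prime_iff_eq hr Nat.prime_two).1 (hr.dvd_of_dvd_pow h2)
    have h5 := (Nat.prime_dvd_prime_iff_eq hs Nat.prime_two).1 (hs.dvd_of_dvd_pow h3)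
    exact hrs (h4.trans h5.symm)
  · left
    have h1 : r * s ∣ Nat.card F - 1 := by
      rw [← hg, ← card_Tp θ hθ hne hpp]
      exact Subgroup.orderOf_dvd_natCard _ h
    exact ⟨(Dvd.intro _ rfl).trans h1, (Dvd.intro_left _ rfl).trans h1⟩
  · right
    exact ⟨h.prime_dvd θ hθ hne hr (by rw [hg]; exact Dvd.intro _ rfl), h.prime_dvd θ hθ hne hs (by rw [hg]; exact Dvd.intro_left _ rfl)⟩

/-- Let `q = 2^(2m+1) ≥ 8` and `S = Sz(q)` the Suzuki group. If a finite group `G` has the same prime graph as `S` (same prime divisors of the order; for distinct primes `r, s` an element of order `rs` in one iff in the other), then `G/O₂(G)` is isomorphic to `S`. The known proof uses the classification of finite simple groups. -/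
theorem result {F : Type*} [Field F] [Fintype F] (m : ℕ) (hm : 1 ≤ m)
    (hF : Fintype.card F = 2 ^ (2 * m + 1)) {G : Type*} [Group G] [Finite G]
    (h : ((∀ r : ℕ, r.Prime → (r ∣ Nat.card ↥(Cfsg.Lie.Sz F (2 ^ (m + 1))) ↔ r ∣ Nat.card G)) ∧
      (∀ r s : ℕ, r.Prime → s.Prime → r ≠ s → ((∃ x : ↥(Cfsg.Lie.Sz F (2 ^ (m + 1))), orderOf x = r * s) ↔ (∃ y : G, orderOf y = r * s))))) :
    Nonempty (G ⧸ Cfsg.pCore 2 G ≃* ↥(Cfsg.Lie.Sz F (2 ^ (m + 1)))) := by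
  classical
  haveI : Fact (Nat.Prime 2) := ⟨Nat.prime_two⟩
  have hchar : CharP F 2 := SuzukiFin.charTwo hF
  have hθ := th_sq hF
  have hne := th_ne hm hF
  obtain ⟨eS⟩ : Nonempty (Cfsg.Lie.Sz F (2 ^ (m + 1)) ≃* Gz (th F m)) :=
    ⟨(SuzukiLie.szEquiv m hm hF).symm.trans (MulEquiv.subgroupCongr (Sz_eq m))⟩
  have hqF : Nat.card F = 2 ^ (2 * m + 1) := by rw [Nat.card_eq_fintype_card, hF]
  have hcard : Nat.card (Cfsg.Lie.Sz F (2 ^ (m + 1))) =
      (2 ^ (2 * m + 1)) ^ 2 * ((2 ^ (2 * m + 1)) ^ 2 + 1) * (2 ^ (2 * m + 1) - 1) := by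
    rw [Nat.card_congr eS.toEquiv, card_G (th F m) hθ hne, hqF]
  obtain ⟨h1, h2⟩ := h
  have hord : ∀ r s : ℕ, r.Prime → s.Prime → r ≠ s → (∃ y : G, orderOf y = r * s) →
      (r ∣ 2 ^ (2 * m + 1) - 1 ∧ s ∣ 2 ^ (2 * m + 1) - 1) ∨
      (r ∣ (2 ^ (2 * m + 1)) ^ 2 + 1 ∧ s ∣ (2 ^ (2 * m + 1)) ^ 2 + 1) := by
    intro r s hr hs hrs hy
    obtain ⟨x, hx⟩ := (h2 r s hr hs hrs).2 hy
    have h3 : orderOf (eS x) = r * s := by rw [← hx]; exact MulEquiv.orderOf_eq eS x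
    have := ord_cases (th F m) hθ hne hr hs hrs h3
    rwa [hqF] at this
  set q := 2 ^ (2 * m + 1) with hq
  have hq8 : 8 ≤ q := by
    calc 8 = 2 ^ 3 := by norm_num
      _ ≤ 2 ^ (2 * m + 1) := Nat.pow_le_pow_right (by norm_num) (by omega)
  have hq2 : 2 ∣ q := dvd_pow_self 2 (by omega)
  have hnd1 : ¬ 2 ∣ q - 1 := by omega
  have hnd2 : ¬ 2 ∣ q ^ 2 + 1 := by
    intro h3
    have h4 : 2 ∣ q ^ 2 := Dvd.dvd.pow hq2 (by norm_num)
    omega
  have hgcd : ∀ r : ℕ, r.Prime → r ∣ q - 1 → r ∣ q ^ 2 + 1 → False := by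
    intro r hr h3 h4
    have h5 : q ^ 2 + 1 = (q - 1) * (q + 1) + 2 := by
      obtain ⟨k, hk⟩ : ∃ k, q = k + 1 := ⟨q - 1, by omega⟩
      rw [hk, Nat.add_sub_cancel]; ring
    rw [h5] at h4
    have h6 : r ∣ 2 := (Nat.dvd_add_right (Dvd.dvd.mul_right h3 _)).1 h4
    have h7 := (Nat.prime_dvd_prime_iff_eq hr Nat.prime_two).1 h6
    exact hnd1 (h7 ▸ h3)
  -- no elements of order `2 r`
  have h2r : ∀ r : ℕ, r.Prime → r ≠ 2 → ∀ y : G, orderOf y ≠ 2 * r := by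
    intro r hr hr2 y hy
    rcases hord 2 r Nat.prime_two hr (Ne.symm hr2) ⟨y, hy⟩ with h3 | h3
    · exact hnd1 h3.1
    · exact hnd2 h3.1
  have hCIT : IsCIT G := by
    intro t ht
    by_contra hcon
    obtain ⟨y, hy, hy1, hyo⟩ := exists_odd_of_not hcon
    have hyn : orderOf y ≠ 1 := fun h3 => hy1 (orderOf_eq_one_iff.1 h3)
    obtain ⟨r, hr, hrd⟩ := Nat.exists_prime_and_dvd hyn
    have hr2 : r ≠ 2 := by
      rintro rfl
      exact (Nat.not_even_iff_odd.2 hyo) (even_iff_two_dvd.2 hrd)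
    have h3 : orderOf (y ^ (orderOf y / r)) = r := by
      rw [orderOf_pow_of_dvd (Nat.div_pos (Nat.le_of_dvd (orderOf_pos y) hrd) hr.pos).ne' (Nat.div_dvd_of_dvd hrd)]
      exact Nat.div_div_self hrd (orderOf_pos y).ne'
    have hc : Commute t (y ^ (orderOf y / r)) := by
      have h4 : Commute t y := (mem_cent.1 hy).symm
      exact h4.pow_right _
    have h5 := hc.orderOf_mul_eq_mul_orderOf_of_coprime (by
      rw [ht, h3]
      exact (Nat.coprime_primes Nat.prime_two hr).2 (Ne.symm hr2))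
    rw [ht, h3] at h5
    exact h2r r hr hr2 _ h5
  have hns : ¬ Group.IsSolvable G := by
    intro hsol
    obtain ⟨r, hr, hrd⟩ := Nat.exists_prime_and_dvd (show q - 1 ≠ 1 by omega)
    have hq20 : 0 < q ^ 2 := by positivity
    obtain ⟨s, hs, hsd⟩ := Nat.exists_prime_and_dvd (show q ^ 2 + 1 ≠ 1 by omega)
    have hr2 : r ≠ 2 := by rintro rfl; exact hnd1 hrd
    have hs2 : s ≠ 2 := by rintro rfl; exact hnd2 hsd
    have hrs : r ≠ s := by rintro rfl; exact hgcd r hr hrd hsd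
    refine ThreePrimes67.three_primes (G := G) (p := 2) (q := r) (r := s) Nat.prime_two hr hs (Ne.symm hr2) (Ne.symm hs2) hrs ?_ ?_ ?_
      (h2r r hr hr2) (h2r s hs hs2) ?_
    · rw [← h1 2 Nat.prime_two, hcard]
      exact Dvd.dvd.mul_right (Dvd.dvd.mul_right (Dvd.dvd.pow hq2 (by norm_num)) _) _
    · rw [← h1 r hr, hcard]
      exact Dvd.dvd.mul_left hrd _
    · rw [← h1 s hs, hcard]
      exact Dvd.dvd.mul_right (Dvd.dvd.mul_left hsd _) _
    · intro y hy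
      rcases hord r s hr hs hrs ⟨y, hy⟩ with h3 | h3
      · exact hgcd s hs h3.2 hsd
      · exact hgcd r hr hrd h3.1
  have hpc : IsPGroup 2 (Cfsg.pCore 2 G) := Fitting.isPGroup_pCore 2
  have h3G : ¬ 3 ∣ Nat.card G := by
    rw [← h1 3 Nat.prime_three, hcard]
    intro h3
    have hq3 : q % 3 = 2 := by
      rw [hq, pow_succ, pow_mul, Nat.mul_mod, Nat.pow_mod]
      norm_num
    have hq23 : (q ^ 2 + 1) % 3 = 2 := by
      rw [Nat.add_mod, Nat.pow_mod, hq3]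
    have hq24 : q ^ 2 % 3 = 1 := by
      rw [Nat.pow_mod, hq3]
    rcases (Nat.Prime.dvd_mul Nat.prime_three).1 h3 with h4 | h4
    · rcases (Nat.Prime.dvd_mul Nat.prime_three).1 h4 with h5 | h5
      · omega
      · omega
    · omega
  have hdq : Nat.card (G ⧸ Cfsg.pCore 2 G) ∣ Nat.card G := Subgroup.card_quotient_dvd_card _
  have hiso : Cfsg.Lie.IsoSuzuki (G ⧸ Cfsg.pCore 2 G) := by
    rcases hCIT.structure hns with hsim | ⟨-, N, -, -, F₂, i1, i2, hF₂, ⟨e⟩⟩ | ⟨-, hnm, hsim, hc, hti, hnsX⟩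
    · have hna := not_comm_of_not_solvable hns
      have hbot := pCore_bot_of_simple hna
      have e0 : G ⧸ Cfsg.pCore 2 G ≃* G :=
        (QuotientGroup.quotientMulEquivOfEq hbot).trans QuotientGroup.quotientBot
      rcases main_iso hna hCIT with ⟨F₂, i1, i2, -, ⟨e⟩⟩ | ⟨F₂, i1, i2, hF₂, ⟨e⟩⟩ | ⟨F₁, i1, i2, m₁, hm₁, hF₁, ⟨e⟩⟩
      · exfalso
        apply h3G
        rw [Nat.card_congr e.toEquiv]
        exact CitSuz.three_dvd_psl2
      · exfalso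
        apply h3G
        rw [Nat.card_congr e.toEquiv]
        exact CitSuz.three_dvd_psl3 hF₂
      · exact ⟨F₁, i1, i2, m₁, hm₁, hF₁, ⟨e0.trans e⟩⟩
    · exfalso
      apply h3G
      refine Dvd.dvd.trans ?_ (Subgroup.card_subgroup_dvd_card N)
      rw [Nat.card_congr e.toEquiv]
      exact CitSuz.three_dvd_psl2
    · rcases ti_suz (not_comm_of_not_solvable hnsX) hc hti with ⟨F₂, i1, i2, -, -, ⟨e⟩⟩ | h3
      · exfalso
        apply h3G
        refine Dvd.dvd.trans ?_ hdq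
        rw [Nat.card_congr e.toEquiv]
        exact CitSuz.three_dvd_psl2
      · exact h3
  obtain ⟨F₁, i1, i2, m₁, hm₁, hF₁, ⟨e₂⟩⟩ := hiso
  have hcard₁ : Nat.card (G ⧸ Cfsg.pCore 2 G) =
      (2 ^ (2 * m₁ + 1)) ^ 2 * ((2 ^ (2 * m₁ + 1)) ^ 2 + 1) * (2 ^ (2 * m₁ + 1) - 1) := by
    have hchar₁ : CharP F₁ 2 := SuzukiFin.charTwo hF₁
    have e₃ := (SuzukiLie.szEquiv m₁ hm₁ hF₁).symm.trans (MulEquiv.subgroupCongr (Sz_eq m₁))
    rw [Nat.card_congr (e₂.trans e₃).toEquiv, card_G (th F₁ m₁) (th_sq hF₁) (th_ne hm₁ hF₁),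
      Nat.card_eq_fintype_card, hF₁]
  have hpr : ∀ r : ℕ, r.Prime → (r ∣ Nat.card G ↔ r ∣ Nat.card (G ⧸ Cfsg.pCore 2 G)) := by
    intro r hr
    have h3 := Subgroup.card_eq_card_quotient_mul_card_subgroup (Cfsg.pCore 2 G)
    constructor
    · intro h4
      by_cases hr2 : r = 2
      · subst hr2
        rw [hcard₁]
        exact Dvd.dvd.mul_right (Dvd.dvd.mul_right (Dvd.dvd.pow (dvd_pow_self 2 (by omega)) (by norm_num)) _) _
      · rw [h3] at h4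
        rcases (Nat.Prime.dvd_mul hr).1 h4 with h5 | h5
        · exact h5
        · exfalso
          obtain ⟨k, hk⟩ := (IsPGroup.iff_card).1 hpc
          rw [hk] at h5
          exact hr2 ((Nat.prime_dvd_prime_iff_eq hr Nat.prime_two).1 (hr.dvd_of_dvd_pow h5))
    · intro h4
      rw [h3]; exact Dvd.dvd.mul_right h4 _
  have hd1 : 2 * m + 1 ∣ 2 * m₁ + 1 := by
    apply dvd_of_primes
    intro r hr h3
    rw [← hcard₁, ← hpr r hr, ← h1 r hr, hcard]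
    exact h3
  have hd2 : 2 * m₁ + 1 ∣ 2 * m + 1 := by
    apply dvd_of_primes
    intro r hr h3
    rw [← hcard₁, ← hpr r hr, ← h1 r hr, hcard] at h3
    exact h3
  have hmm : m₁ = m := by
    have := Nat.dvd_antisymm hd1 hd2
    omega
  subst hmm
  obtain ⟨e₄⟩ := sz_iso hm₁ hF₁ hF
  exact ⟨e₂.trans e₄⟩


end Cfsg.Agent.S3699
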