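import Cfsg.Statements.S3700
import Cfsg.Agent.Lib.CITRad3
import Cfsg.Agent.S2475
import Cfsg.Agent.S3633

set_option autoImplicit false
open Cfsg

namespace Cfsg.Agent.S3700

/-- Let `F` be a finite field with `2^m` elements, `m ≥ 4`. If a finite group `G` has the same prime graph as `PSL(2, F)` (same prime divisors of the order; for distinct primes `r, s` an element of order `rs` in one iff in the other), then `G/O₂(G)` is isomorphic to `PSL(2, F)`. The known proof uses the classification of finite simple groups. -/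
theorem result {F : Type*} [Field F] [Fintype F] (m : ℕ) (hm : 4 ≤ m)
    (hF : Fintype.card F = 2 ^ m) {G : Type*} [Group G] [Finite G]
    (h : ((∀ r : ℕ, r.Prime → (r ∣ Nat.card (Matrix.ProjectiveSpecialLinearGroup (Fin 2) F) ↔ r ∣ Nat.card G)) ∧
      (∀ r s : ℕ, r.Prime → s.Prime → r ≠ s → ((∃ x : (Matrix.ProjectiveSpecialLinearGroup (Fin 2) F), orderOf x = r * s) ↔ (∃ y : G, orderOf y = r * s))))) :
    Nonempty (G ⧸ Cfsg.pCore 2 G ≃* Matrix.ProjectiveSpecialLinearGroup (Fin 2) F) := by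
  classical
  have h2f : Fact (Nat.Prime 2) := ⟨Nat.prime_two⟩
  set q := 2 ^ m with hq
  have hq16 : 16 ≤ q := by
    have : 2 ^ 4 ≤ 2 ^ m := Nat.pow_le_pow_right (by norm_num) hm
    omega
  have hchar : CharP F 2 := by
    obtain ⟨p, hchar⟩ := CharP.exists F
    obtain ⟨f, hp, hpf⟩ := FiniteField.card F p
    have h1 : p ∣ 2 ^ m := by rw [← hq, ← hF, hpf]; exact dvd_pow_self _ f.ne_zero
    have hp2 : p = 2 := (Nat.prime_dvd_prime_iff_eq hp Nat.prime_two).1 (hp.dvd_of_dvd_pow h1)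
    subst hp2
    exact hchar
  have hodd1 : Odd (q - 1) := Cfsg.Agent.Lib.CITRadN.odd_pow_sub (by omega)
  have hodd2 : Odd (q + 1) := by
    obtain ⟨j, hj⟩ := hodd1
    exact ⟨j + 1, by omega⟩
  have hgcd : Nat.gcd 2 (q - 1) = 1 := Nat.coprime_two_left.2 hodd1
  have hspec : ∀ k : ℕ, (∃ x : (Matrix.ProjectiveSpecialLinearGroup (Fin 2) F), orderOf x = k) →
      k ∣ 2 ∨ k ∣ q - 1 ∨ k ∣ q + 1 := by
    intro k hk
    have h1 := Cfsg.Agent.S2475.result (F := F) 2 (by rw [hF]; omega)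
    have h2 : k ∈ Set.range (orderOf : Matrix.ProjectiveSpecialLinearGroup (Fin 2) F → ℕ) := hk
    rw [h1, hF, hgcd, Nat.div_one, Nat.div_one] at h2
    exact h2
  have hcard : Nat.card (Matrix.ProjectiveSpecialLinearGroup (Fin 2) F) = q * (q ^ 2 - 1) := by
    rw [← Cfsg.Agent.Lib.CITRad.card_psl2 hF, hgcd, one_mul]
  have hq2 : q ^ 2 - 1 = 2 ^ (2 * m) - 1 := by rw [hq, ← pow_mul, mul_comm m 2]
  have hfac : q ^ 2 - 1 = (q - 1) * (q + 1) := by rw [hq2]; exact Cfsg.Agent.Lib.CITRadN.fac m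
  have hπ : ∀ ℓ : ℕ, ℓ.Prime → Odd ℓ → (ℓ ∣ Nat.card G ↔ ℓ ∣ 2 ^ (2 * m) - 1) := by
    intro ℓ hℓ hℓ2
    rw [← h.1 ℓ hℓ, hcard, ← hq2]
    refine ⟨fun h1 => ?_, fun h1 => h1.mul_left _⟩
    rcases hℓ.dvd_mul.1 h1 with h3 | h3
    · exact absurd h3 (Cfsg.Agent.Lib.CITRadN.prime_not_dvd_two_pow hℓ hℓ2 _)
    · exact h3
  -- the prime graph
  have hno2 : ∀ ℓ : ℕ, ℓ.Prime → Odd ℓ → ¬ ∃ y : G, orderOf y = 2 * ℓ := by
    intro ℓ hℓ hℓ2 hy
    have hne : 2 ≠ ℓ := by rintro rfl; exact absurd hℓ2 (by decide)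
    rcases hspec _ ((h.2 2 ℓ Nat.prime_two hℓ hne).2 hy) with h1 | h1 | h1
    · have h3 := Nat.le_of_dvd (by norm_num) h1
      have := hℓ.two_le
      omega
    · exact absurd (Cfsg.Agent.Lib.CITRadN.not_two (Odd.of_dvd_nat hodd1 ((dvd_mul_right 2 ℓ).trans h1)) dvd_rfl) (by norm_num)
    · exact absurd (Cfsg.Agent.Lib.CITRadN.not_two (Odd.of_dvd_nat hodd2 ((dvd_mul_right 2 ℓ).trans h1)) dvd_rfl) (by norm_num)
  have hCIT : Cfsg.Agent.Lib.CIT.IsCIT G := by
    intro t ht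
    have key : ∀ d : ℕ, d.Prime → d ∣ Nat.card (Subgroup.centralizer ({t} : Set G)) → d = 2 := by
      intro d hd hdc
      by_contra hd2
      have hdf : Fact d.Prime := ⟨hd⟩
      obtain ⟨y, hy⟩ := exists_prime_orderOf_dvd_card' d hdc
      have hdo : Odd d := hd.odd_of_ne_two hd2
      refine hno2 d hd hdo ⟨t * (y : G), ?_⟩
      have hc : Commute t (y : G) := by
        have := Subgroup.mem_centralizer_singleton_iff.1 y.2
        exact this.symm
      have hyo : orderOf (y : G) = d := by rw [Subgroup.orderOf_coe]; exact hy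
      rw [hc.orderOf_mul_eq_mul_orderOf_of_coprime, ht, hyo]
      rw [ht, hyo]
      exact Nat.coprime_two_left.2 hdo
    exact IsPGroup.of_card (n := (Nat.card (Subgroup.centralizer ({t} : Set G))).primeFactorsList.length)
      (Nat.eq_prime_pow_of_unique_prime_dvd Nat.card_pos.ne' (fun {d} hd hdc => key d hd hdc))
  have hns : ¬ Group.IsSolvable G := by
    obtain ⟨r, hr⟩ := Cfsg.Agent.Lib.CITRadN.exists_prim (N := 2 * m) (by omega) (by omega)
    have hro := hr.odd (by omega)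
    have hr1 : ¬ r ∣ q - 1 := hr.2.2 m (by omega) (by omega)
    have hr2 : r ∣ q + 1 := by
      have h1 : r ∣ (2 ^ m - 1) * (2 ^ m + 1) := by rw [← Cfsg.Agent.Lib.CITRadN.fac]; exact hr.2.1
      rcases hr.1.dvd_mul.1 h1 with h3 | h3
      · exact absurd h3 hr1
      · exact h3
    obtain ⟨s, hs, hsd⟩ := Nat.exists_prime_and_dvd (n := q - 1) (by omega)
    have hso : Odd s := Odd.of_dvd_nat hodd1 hsd
    have hs2 : ¬ s ∣ q + 1 := by
      intro h1
      have h3 := Nat.dvd_sub h1 hsd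
      have h4 : q + 1 - (q - 1) = 2 := by omega
      rw [h4] at h3
      exact hs.one_lt.ne' (Cfsg.Agent.Lib.CITRadN.not_two hso h3)
    have hrs : r ≠ s := by rintro rfl; exact hr1 hsd
    have h2r : (2 : ℕ) ≠ r := by rintro rfl; exact absurd hro (by decide)
    have h2s : (2 : ℕ) ≠ s := by rintro rfl; exact absurd hso (by decide)
    have hnrs : ¬ ∃ y : G, orderOf y = r * s := by
      intro hy
      rcases hspec _ ((h.2 r s hr.1 hs hrs).2 hy) with h1 | h1 | h1
      · exact hr.1.one_lt.ne' (Cfsg.Agent.Lib.CITRadN.not_two hro ((dvd_mul_right r s).trans h1))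
      · exact hr1 ((dvd_mul_right r s).trans h1)
      · exact hs2 ((dvd_mul_left s r).trans h1)
    have hdr : r ∣ Nat.card G := (hπ r hr.1 hro).2 hr.2.1
    have hds : s ∣ Nat.card G := (hπ s hs hso).2 (by rw [← hq2, hfac]; exact hsd.mul_right _)
    have hd2 : 2 ∣ Nat.card G := by
      rw [← h.1 2 Nat.prime_two, hcard, hq]
      exact (dvd_pow_self 2 (by omega)).mul_right _
    have hcard3 : 3 ≤ ({2, r, s} : Finset ℕ).card := by
      rw [Finset.card_insert_of_notMem (by simp [h2r, h2s]), Finset.card_insert_of_notMem (by simpa using hrs),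
        Finset.card_singleton]
    have hsym : ¬ ∃ y : G, orderOf y = s * r := by rw [mul_comm]; exact hnrs
    have hn2r := hno2 r hr.1 hro
    have hn2s := hno2 s hs hso
    have hnr2 : ¬ ∃ y : G, orderOf y = r * 2 := by rw [mul_comm]; exact hn2r
    have hns2 : ¬ ∃ y : G, orderOf y = s * 2 := by rw [mul_comm]; exact hn2s
    refine (Cfsg.Agent.S3633.result (G := G) ({2, r, s} : Finset ℕ) hcard3 ⟨?_, ?_⟩ ⊥ inferInstance).2
    · intro a ha
      simp only [Finset.mem_insert, Finset.mem_singleton] at ha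
      rcases ha with rfl | rfl | rfl
      · exact ⟨Nat.prime_two, hd2⟩
      · exact ⟨hr.1, hdr⟩
      · exact ⟨hs, hds⟩
    · intro a ha b hb hab
      simp only [Finset.mem_insert, Finset.mem_singleton] at ha hb
      rcases ha with rfl | rfl | rfl <;> rcases hb with rfl | rfl | rfl <;>
        first | exact absurd rfl hab | assumption
  have hN : IsPGroup 2 (Cfsg.pCore 2 G) := Cfsg.Agent.Lib.Fitting.isPGroup_pCore 2
  have hNn : (Cfsg.pCore 2 G).Normal := Cfsg.Agent.Lib.Fitting.normal_pCore 2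
  have hX := hCIT.quotient (Cfsg.pCore 2 G) hN
  have hXs : ¬ Group.IsSolvable (G ⧸ Cfsg.pCore 2 G) := by
    intro h1
    have : Group.IsNilpotent (Cfsg.pCore 2 G) := hN.isNilpotent
    exact hns (Cfsg.Agent.Lib.CITRad.isSolvable_of_quot inferInstance h1)
  have hXO : Cfsg.pCore 2 (G ⧸ Cfsg.pCore 2 G) = ⊥ := Cfsg.Agent.Lib.Cores.pCore_quotient_pCore 2 _
  obtain ⟨F', i1, i2, hF', ⟨e⟩⟩ := Cfsg.Agent.Lib.CITRad.core hX hXs hXO hm (by
    intro ℓ hℓ hℓ2
    rw [← hπ ℓ hℓ hℓ2, Subgroup.card_eq_card_quotient_mul_card_subgroup (Cfsg.pCore 2 G)]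
    refine ⟨fun h1 => h1.mul_right _, fun h1 => ?_⟩
    rcases hℓ.dvd_mul.1 h1 with h3 | h3
    · exact h3
    · obtain ⟨k, hk⟩ := IsPGroup.iff_card.1 hN
      rw [hk] at h3
      exact absurd h3 (Cfsg.Agent.Lib.CITRadN.prime_not_dvd_two_pow hℓ hℓ2 _))
  exact ⟨e.trans (Cfsg.Agent.Lib.ClSeven.pslCongr 2 (FiniteField.ringEquivOfCardEq (by rw [hF', hF])))⟩

end Cfsg.Agent.S3700
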