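import Cfsg.Statements.S3711
import Cfsg.Agent.Lib.PhanZa

set_option autoImplicit false
open Cfsg

namespace Cfsg.Agent.S3711

/-- Recognition of unitary groups over the field with 4 elements from a weak Phan system. Let F be a field with 4 elements and n ≥ 4. Let G be a group with subgroups U_0, …, U_{n−1}, each isomorphic to SU(2, 4), and, for consecutive indices, subgroups V_{i,i+1} in which U_i and U_{i+1} form a standard pair (via an isomorphism from SU(3, 4) or PSU(3, 4) carrying the block-diagonal subgroups, or their images, onto U_i and U_{i+1}); suppose U_i and U_j commute elementwise whenever the indices differ by at least 2, that G is generated by the U_i and the V_{i,i+1}, that for each i the subgroup generated by V_{i,i+1} and V_{i+1,i+2} is a homomorphic image of SU(4, 4), that U_i and V_{j,j+1} commute elementwise whenever i ≤ j − 2 or i ≥ j + 3, and that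 V_{i,i+1} and V_{k,k+1} commute elementwise whenever k ≥ i + 3. Then G is a homomorphic image of SU(n+1, 4). (G is not assumed finite.) -/
theorem result {G : Type*} [Group G] (n : ℕ) (hn : 4 ≤ n)
    (F : Type*) [Field F] [Fintype F] (hF : Fintype.card F = 4)
    (U : Fin n → Subgroup G) (e : ∀ i, ↥(Cfsg.SU 2 F 2) ≃* ↥(U i))
    (V : Fin n → Fin n → Subgroup G)
    (h1 : ∀ i j : Fin n, (i : ℕ) + 2 ≤ j → ∀ x ∈ U i, ∀ y ∈ U j, x * y = y * x)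
    (h2 : ∀ i j : Fin n, (i : ℕ) + 1 = j → Cfsg.IsStandardUnitaryPair (V i j) (U i) (U j) F 2)
    (hgen : (⨆ i, U i) ⊔ (⨆ (i : Fin n) (j : Fin n) (_ : (i : ℕ) + 1 = j), V i j) = ⊤)
    (h4 : ∀ i j k : Fin n, (i : ℕ) + 1 = j → (j : ℕ) + 1 = k →
      ∃ g : ↥(Cfsg.SU 4 F 2) →* ↥(V i j ⊔ V j k), Function.Surjective g)
    (h5 : ∀ i j k : Fin n, (j : ℕ) + 1 = k → ((i : ℕ) + 2 ≤ j ∨ (k : ℕ) + 2 ≤ i) →
      ∀ x ∈ U i, ∀ y ∈ V j k, x * y = y * x)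
    (h6 : ∀ i j k l : Fin n, (i : ℕ) + 1 = j → (k : ℕ) + 1 = l → (j : ℕ) + 2 ≤ k →
      ∀ x ∈ V i j, ∀ y ∈ V k l, x * y = y * x) :
    ∃ f : ↥(Cfsg.SU (n + 1) F 2) →* G, Function.Surjective f := by
  obtain ⟨N, rfl⟩ : ∃ N, n = N + 2 := ⟨n - 2, by omega⟩
  have hF' : Fintype.card F = 2 ^ 2 := by rw [hF]; norm_num
  let U' : ℕ → Subgroup G := fun i => if h : i < N + 2 then U ⟨i, h⟩ else ⊥
  let V' : ℕ → Subgroup G := fun i => if h : i + 1 < N + 2 then V ⟨i, by omega⟩ ⟨i + 1, h⟩ else ⊥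
  have hU : ∀ i (h : i < N + 2), U' i = U ⟨i, h⟩ := fun i h => dif_pos h
  have hV : ∀ i (h : i + 1 < N + 2), V' i = V ⟨i, by omega⟩ ⟨i + 1, h⟩ := fun i h => dif_pos h
  have hstd : ∀ i, i + 2 ≤ N + 2 → ∃ ψ : SU 3 F 2 →* G, Lib.Phan.Std ψ (U' i) (U' (i + 1)) (V' i) := by
    intro i hi
    rw [hU i (by omega), hU (i + 1) (by omega), hV i (by omega)]
    exact Lib.Phan.exists_std hF' (h2 ⟨i, by omega⟩ ⟨i + 1, by omega⟩ rfl)
  have hUU : ∀ i j, i + 2 ≤ j → j < N + 2 → ∀ x ∈ U' i, ∀ y ∈ U' j, x * y = y * x := by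
    intro i j hij hj
    rw [hU i (by omega), hU j hj]
    exact h1 ⟨i, by omega⟩ ⟨j, hj⟩ hij
  have hUV : ∀ i j, i + 2 ≤ j → j + 1 < N + 2 → ∀ x ∈ U' i, ∀ y ∈ V' j, x * y = y * x := by
    intro i j hij hj
    rw [hU i (by omega), hV j hj]
    exact h5 ⟨i, by omega⟩ ⟨j, by omega⟩ ⟨j + 1, hj⟩ rfl (Or.inl hij)
  have hVU : ∀ j i, j + 3 ≤ i → i < N + 2 → ∀ x ∈ V' j, ∀ y ∈ U' i, x * y = y * x := by
    intro j i hij hi x hx y hy
    rw [hV j (by omega)] at hx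
    rw [hU i hi] at hy
    exact (h5 ⟨i, by omega⟩ ⟨j, by omega⟩ ⟨j + 1, by omega⟩ rfl (Or.inr (by show j + 1 + 2 ≤ i; omega)) y hy x hx).symm
  have hVV : ∀ i k, i + 3 ≤ k → k + 1 < N + 2 → ∀ x ∈ V' i, ∀ y ∈ V' k, x * y = y * x := by
    intro i k hik hk
    rw [hV i (by omega), hV k hk]
    exact h6 ⟨i, by omega⟩ ⟨i + 1, by omega⟩ ⟨k, by omega⟩ ⟨k + 1, hk⟩ rfl rfl (by show i + 1 + 2 ≤ k; omega)
  have htri : ∀ i, i + 3 ≤ N + 2 → ∃ Ψ : SU 4 F 2 →* G, Function.Injective Ψ ∧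
      Lib.Phan.Std (Ψ.comp (Lib.Phan.blk (Lib.Phan.sh 0 (show 0 + 3 ≤ 4 by omega)))) (U' i) (U' (i + 1)) (V' i) ∧
      Lib.Phan.Std (Ψ.comp (Lib.Phan.blk (Lib.Phan.sh 1 (show 1 + 3 ≤ 4 by omega)))) (U' (i + 1)) (U' (i + 2)) (V' (i + 1)) := by
    intro i hi
    obtain ⟨ψ0, S0⟩ := hstd i (by omega)
    obtain ⟨ψ1, S1⟩ := hstd (i + 1) (by omega)
    obtain ⟨g, hg⟩ := h4 ⟨i, by omega⟩ ⟨i + 1, by omega⟩ ⟨i + 2, by omega⟩ rfl rfl
    have hr : ((V ⟨i, by omega⟩ ⟨i + 1, by omega⟩ ⊔ V ⟨i + 1, by omega⟩ ⟨i + 2, by omega⟩).subtype.comp g).range = V' i ⊔ V' (i + 1) := by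
      rw [MonoidHom.range_comp, MonoidHom.range_eq_top.2 hg, ← MonoidHom.range_eq_map, Subgroup.range_subtype,
        hV i (by omega), hV (i + 1) (by omega)]
    exact Lib.Phan.triple2 hF' S0 S1 hr (hUU i (i + 2) (by omega) (by omega))
  obtain ⟨Φ, hΦ⟩ := Lib.Phan.phan_ind2 hF' U' V' (N + 2) htri hUU hUV hVU hVV N (by omega) le_rfl
  refine ⟨Φ, ?_⟩
  rw [← MonoidHom.range_eq_top, eq_top_iff, ← hgen, sup_le_iff, iSup_le_iff]
  have key : ∀ i (hi : i + 1 < N + 2), U ⟨i, by omega⟩ ≤ Φ.range ∧ U ⟨i + 1, hi⟩ ≤ Φ.range ∧ V ⟨i, by omega⟩ ⟨i + 1, hi⟩ ≤ Φ.range := by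
    intro i hi
    have S := hΦ i (by omega)
    rw [← hU i (by omega), ← hU (i + 1) hi, ← hV i hi]
    refine ⟨?_, ?_, ?_⟩
    · rw [← S.hA]; rintro _ ⟨s, rfl⟩; exact ⟨_, rfl⟩
    · rw [← S.hB]; rintro _ ⟨s, rfl⟩; exact ⟨_, rfl⟩
    · rw [← S.hV]; rintro _ ⟨s, rfl⟩; exact ⟨_, rfl⟩
  constructor
  · intro i
    by_cases h : i.1 + 1 < N + 2
    · exact (key i.1 h).1
    · obtain ⟨j, hj⟩ : ∃ j, i.1 = j + 1 := ⟨i.1 - 1, by omega⟩
      have h5 : i = ⟨j + 1, by omega⟩ := Fin.ext hj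
      rw [h5]; exact (key j (by omega)).2.1
  · rw [iSup_le_iff]; intro i
    rw [iSup_le_iff]; intro j
    rw [iSup_le_iff]; intro hij
    have hj : j = ⟨i.1 + 1, by omega⟩ := Fin.ext hij.symm
    rw [hj]
    exact (key i.1 (by omega)).2.2

end Cfsg.Agent.S3711
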