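import Cfsg.Statements.S3716
import Cfsg.Agent.Lib.H25Wq
-- import your own Cfsg.Agent.* helpers here

set_option autoImplicit false
open Cfsg

namespace Cfsg.Agent.S3716


open Cfsg.Agent.Lib Cfsg.Agent.Lib.H25W Cfsg.Agent.Lib.H25Nine

theorem five {G : Type*} [Group G] [Finite G] {S : Subgroup G} (hc : Nat.card S = 9) 
    {p : ℕ} (hp : p.Prime) (hp5 : 5 ≤ p) {x : G} (hx : x ∈ Subgroup.normalizer (S : Set G)) (hxp : x ^ p = 1) :
    x ∈ Subgroup.centralizer (S : Set G) := by
  classical
  have hf : Fact p.Prime := ⟨hp⟩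
  have := Fintype.ofFinite S
  have hmem : ∀ y : S, x * (y : G) * x⁻¹ ∈ S := fun y => (Subgroup.mem_normalizer_iff.mp hx y).mp y.2
  let f : Function.End S := fun y => ⟨x * (y : G) * x⁻¹, hmem y⟩
  have hfn : ∀ n : ℕ, ∀ y : S, (((f ^ n) y : S) : G) = x ^ n * y * (x ^ n)⁻¹ := by
    intro n
    induction n with
    | zero => intro y; rw [pow_zero, pow_zero, inv_one, one_mul, mul_one]; rfl
    | succ n ih =>
      intro y
      rw [pow_succ']
      show x * (((f ^ n) y : S) : G) * x⁻¹ = _
      rw [ih, pow_succ']; group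
  have hfp : f ^ p ^ 1 = 1 := by
    rw [pow_one]
    funext y
    apply Subtype.ext
    rw [hfn, hxp, inv_one, one_mul, mul_one]
    rfl
  have h1 := Equiv.Perm.card_fixedPoints_modEq hfp
  have h2 : Fintype.card f.fixedPoints = Nat.card (Subgroup.centralizer ({x} : Set G) ⊓ S : Subgroup G) := by
    rw [← Nat.card_eq_fintype_card]
    apply Nat.card_congr
    refine ⟨fun y => ⟨(y : S), ?_, (y : S).2⟩, fun y => ⟨⟨y, y.2.2⟩, ?_⟩, fun y => rfl, fun y => rfl⟩
    · have h3 : f (y : S) = y := y.2
      have h4 : x * ((y : S) : G) * x⁻¹ = y := congrArg Subtype.val h3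
      exact Subgroup.mem_centralizer_singleton_iff.mpr (mul_inv_eq_iff_eq_mul.mp h4).symm
    · have h3 := Subgroup.mem_centralizer_singleton_iff.mp y.2.1
      show f _ = _
      apply Subtype.ext
      show x * (y : G) * x⁻¹ = y
      rw [← h3]; group
  have h3 : Nat.card (Subgroup.centralizer ({x} : Set G) ⊓ S : Subgroup G) ∣ 9 := by
    rw [← hc]
    exact Subgroup.card_dvd_of_le inf_le_right
  rw [h2, ← Nat.card_eq_fintype_card, hc] at h1
  have h4 : Nat.card (Subgroup.centralizer ({x} : Set G) ⊓ S : Subgroup G) = 9 := by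
    set c := Nat.card (Subgroup.centralizer ({x} : Set G) ⊓ S : Subgroup G) with hcd
    have h5 : c ∈ Nat.divisors 9 := Nat.mem_divisors.mpr ⟨h3, by norm_num⟩
    have h6 : Nat.divisors 9 = {1, 3, 9} := by decide
    rw [h6] at h5
    simp only [Finset.mem_insert, Finset.mem_singleton] at h5
    have h7 : (p : ℤ) ∣ (c : ℤ) - 9 := by
      have := (Nat.modEq_iff_dvd.mp h1)
      exact_mod_cast this
    rcases h5 with h5 | h5 | h5
    · exfalso
      rw [h5] at h7
      have h8 : p ∣ 8 := by
        have : (p : ℤ) ∣ 8 := by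
          have := (dvd_neg.mpr h7); norm_num at this; exact this
        exact_mod_cast this
      have h9 : p ∣ 2 ^ 3 := by norm_num; exact h8
      have := (Nat.prime_dvd_prime_iff_eq hp Nat.prime_two).mp (hp.dvd_of_dvd_pow h9)
      omega
    · exfalso
      rw [h5] at h7
      have h8 : p ∣ 6 := by
        have : (p : ℤ) ∣ 6 := by
          have := (dvd_neg.mpr h7); norm_num at this; exact this
        exact_mod_cast this
      have h9 := Nat.le_of_dvd (by norm_num) h8
      have : p = 5 ∨ p = 6 := by omega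
      rcases this with rfl | rfl
      · revert h8; decide
      · revert hp; decide
    · exact h5
  have h5 : Subgroup.centralizer ({x} : Set G) ⊓ S = S := by
    apply Subgroup.eq_of_le_of_card_ge inf_le_right
    rw [h4, hc]
  rw [Subgroup.mem_centralizer_iff]
  intro y hy
  have h6 : y ∈ Subgroup.centralizer ({x} : Set G) ⊓ S := by rw [h5]; exact hy
  exact (Subgroup.mem_centralizer_singleton_iff.mp h6.1)

theorem card72 {G : Type*} [Group G] [Finite G] (M : Sylow 3 G) (hM9 : Nat.card ↥(M : Subgroup G) = 9)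
    (hCM : Subgroup.centralizer ((M : Subgroup G) : Set G) = (M : Subgroup G))
    (N : Subgroup G) (hN : N = Subgroup.normalizer ((M : Subgroup G) : Set G))
    (E : Sylow 2 ↥N) (hE : Nat.card (E : Subgroup N) = 8) : Nat.card N = 72 := by
  have hf : Fact (Nat.Prime 3) := ⟨Nat.prime_three⟩
  have hf2 : Fact (Nat.Prime 2) := ⟨Nat.prime_two⟩
  have hMN : (M : Subgroup G) ≤ N := by rw [hN]; exact Subgroup.le_normalizer
  have h1 : 9 ∣ Nat.card N := by rw [← hM9]; exact Subgroup.card_dvd_of_le hMN
  have h2 : 8 ∣ Nat.card N := by rw [← hE]; exact Subgroup.card_subgroup_dvd_card _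
  have h3 : 72 ∣ Nat.card N := by
    have := Nat.Coprime.mul_dvd_of_dvd_of_dvd (by norm_num : Nat.Coprime 9 8) h1 h2
    exact this
  obtain ⟨m, hm⟩ := h3
  by_contra hne
  have hm1 : m ≠ 1 := by rintro rfl; exact hne hm
  have hm0 : m ≠ 0 := by
    rintro rfl
    have : 0 < Nat.card N := Nat.card_pos
    omega
  obtain ⟨q, hq, hqm⟩ := Nat.exists_prime_and_dvd hm1
  have hq2 : q ≠ 2 := by
    rintro rfl
    have h4 := E.not_dvd_index
    have h5 := (E : Subgroup N).card_mul_index
    rw [hE, hm] at h5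
    have h6 : (E : Subgroup N).index = 9 * m := by omega
    rw [h6] at h4
    exact h4 (Dvd.dvd.mul_left hqm 9)
  have hq3 : q ≠ 3 := by
    rintro rfl
    have h4 := M.not_dvd_index
    have h5 := Subgroup.card_mul_index (M : Subgroup G)
    have h6 := N.card_mul_index
    rw [hM9] at h5
    rw [hm] at h6
    have h7 : (M : Subgroup G).index = 8 * m * N.index := by
      have : 9 * (M : Subgroup G).index = 9 * (8 * m * N.index) := by rw [h5, ← h6]; ring
      omega
    rw [h7] at h4
    apply h4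
    exact Dvd.dvd.mul_right (Dvd.dvd.mul_left hqm 8) _
  have hq5 : 5 ≤ q := by
    have := hq.two_le
    by_contra hlt
    have : q = 4 := by omega
    subst this
    revert hq; decide
  have hfq : Fact q.Prime := ⟨hq⟩
  have hqN : q ∣ Nat.card N := by rw [hm]; exact Dvd.dvd.mul_left hqm 72
  obtain ⟨x, hx⟩ := exists_prime_orderOf_dvd_card' q hqN
  have hxq : (x : G) ^ q = 1 := by
    have : x ^ q = 1 := by rw [← hx]; exact pow_orderOf_eq_one x
    exact_mod_cast congrArg Subtype.val this
  have hxM : (x : G) ∈ (M : Subgroup G) := by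
    rw [← hCM]
    exact five hM9 hq hq5 (by rw [← hN]; exact x.2) hxq
  have h8 : orderOf (x : G) ∣ 9 := by
    rw [← hM9]
    have : orderOf (⟨(x : G), hxM⟩ : (M : Subgroup G)) ∣ Nat.card (M : Subgroup G) := orderOf_dvd_natCard _
    rwa [Subgroup.orderOf_mk] at this
  rw [Subgroup.orderOf_coe, hx] at h8
  have h9 : q ∣ 3 ^ 2 := by norm_num; exact h8
  exact hq3 ((Nat.prime_dvd_prime_iff_eq hq Nat.prime_three).mp (hq.dvd_of_dvd_pow h9))

/-- Let G be a finite group with an elementary abelian Sylow 3-subgroup M of order 9 which is self-centralizing (C_G(M) = M), let N = N_G(M), and suppose C_G(g) ≤ N for every nonidentity g ∈ M. If the Sylow 2-subgroups of N are dihedral of order 8, then G is not simple. -/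
theorem result {G : Type*} [Group G] [Finite G] (M : Sylow 3 G) (hM9 : Nat.card ↥(M : Subgroup G) = 9)
    (hMel : ∀ m ∈ (M : Subgroup G), m ^ 3 = 1)
    (hCM : Subgroup.centralizer ((M : Subgroup G) : Set G) = (M : Subgroup G))
    (N : Subgroup G) (hN : N = Subgroup.normalizer ((M : Subgroup G) : Set G))
    (hCg : ∀ g ∈ (M : Subgroup G), g ≠ 1 → Subgroup.centralizer ({g} : Set G) ≤ N)
    (hS : ∀ S : Sylow 2 ↥N, Nonempty (↥(S : Subgroup ↥N) ≃* DihedralGroup 4)) :
    ¬ IsSimpleGroup G := by

  intro hsimple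
  obtain ⟨E⟩ : Nonempty (Sylow 2 ↥N) := inferInstance
  obtain ⟨e⟩ := hS E
  have hE : Nat.card (E : Subgroup N) = 8 := by
    rw [Nat.card_congr e.toEquiv, DihedralGroup.nat_card]
  have h72 := card72 M hM9 hCM N hN E hE
  have hTIS : TIS (M : Subgroup G) :=
    { sylow := ⟨M, rfl⟩
      exp := hMel
      comm := comm9 hM9
      cent := by rw [← hN]; exact hCg }
  obtain ⟨ρ, hρ, hf, cov⟩ := exists_rho hM9 N hN h72 E e
  obtain ⟨a, b, W⟩ := exists_wr hTIS hM9 (le_of_eq hCM) hρ hf cov
  obtain ⟨K, hK, hi, hSK, -, -⟩ := exists_K W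
  rcases hsimple.eq_bot_or_eq_top_of_normal K hK with h | h
  · rw [h, le_bot_iff] at hSK
    rw [hSK, Subgroup.card_bot] at hM9
    omega
  · rw [h, Subgroup.index_top] at hi
    omega


end Cfsg.Agent.S3716
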