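import Cfsg.Statements.S3805
import Cfsg.Agent.Lib.H25TriI
-- import your own Cfsg.Agent.* helpers here

set_option autoImplicit false
open Cfsg

namespace Cfsg.Agent.S3805


open Cfsg.Agent.Lib Cfsg.Agent.Lib.H25Tri Cfsg.Agent.Lib.H25Nine

theorem four_pts {G : Type*} [Group G] (E : Subgroup G) [Finite E] (hE : Nat.card E = 4) (h2 : ∀ x ∈ E, x * x = 1) :
    ∃ e f : G, e ∈ E ∧ f ∈ E ∧ e ≠ 1 ∧ f ≠ 1 ∧ e ≠ f ∧ e * f = f * e ∧ e * f ≠ 1 ∧
      ∀ x ∈ E, x = 1 ∨ x = e ∨ x = f ∨ x = e * f := by
  classical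
  have := Fintype.ofFinite E
  rw [Nat.card_eq_fintype_card] at hE
  have hn : Nontrivial E := by
    rw [← Fintype.one_lt_card_iff_nontrivial, hE]; norm_num
  obtain ⟨e, he⟩ := exists_ne (1 : E)
  obtain ⟨f, hf⟩ : ∃ f : E, f ∉ ({1, e} : Finset E) := by
    by_contra hcon
    push Not at hcon
    have h1 : (Finset.univ : Finset E) ⊆ {1, e} := fun x _ => hcon x
    have h2 := Finset.card_le_card h1
    rw [Finset.card_univ, hE] at h2
    have h3 := Finset.card_le_two (a := (1 : E)) (b := e)
    omega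
  simp only [Finset.mem_insert, Finset.mem_singleton, not_or] at hf
  have hsq : ∀ x : E, x * x = 1 := fun x => Subtype.ext (h2 x x.2)
  have hinv : ∀ x : E, x⁻¹ = x := fun x => by rw [inv_eq_iff_mul_eq_one]; exact hsq x
  have hcomm : ∀ x y : E, x * y = y * x := by
    intro x y
    have h1 := hinv (x * y)
    rw [mul_inv_rev, hinv, hinv] at h1
    exact h1.symm
  have hef : e * f ≠ 1 := by
    intro h
    have h1 : e = f⁻¹ := eq_inv_of_mul_eq_one_left h
    rw [hinv] at h1
    exact hf.2 h1.symm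
  have hcard : ({1, e, f, e * f} : Finset E).card = 4 := by
    rw [Finset.card_insert_of_notMem, Finset.card_insert_of_notMem, Finset.card_insert_of_notMem, Finset.card_singleton]
    · rw [Finset.mem_singleton]
      intro h
      exact he (mul_eq_right.mp h.symm)
    · simp only [Finset.mem_insert, Finset.mem_singleton, not_or]
      refine ⟨fun h => hf.2 h.symm, fun h => hf.1 (mul_eq_left.mp h.symm)⟩
    · simp only [Finset.mem_insert, Finset.mem_singleton, not_or]
      exact ⟨fun h => he h.symm, fun h => hf.1 h.symm, fun h => hef h.symm⟩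
  have huniv : ({1, e, f, e * f} : Finset E) = Finset.univ := by
    apply Finset.eq_univ_of_card
    rw [hcard, hE]
  refine ⟨e, f, e.2, f.2, fun h => he (Subtype.ext h), fun h => hf.1 (Subtype.ext h), fun h => hf.2 (Subtype.ext h.symm),
    congrArg Subtype.val (hcomm e f), fun h => hef (Subtype.ext h), ?_⟩
  intro x hx
  have h1 : (⟨x, hx⟩ : E) ∈ ({1, e, f, e * f} : Finset E) := by rw [huniv]; exact Finset.mem_univ _
  simp only [Finset.mem_insert, Finset.mem_singleton] at h1
  rcases h1 with h | h | h | h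
  · left; exact congrArg Subtype.val h
  · right; left; exact congrArg Subtype.val h
  · right; right; left; exact congrArg Subtype.val h
  · right; right; right; exact congrArg Subtype.val h

theorem aux {G : Type*} [Group G] [Finite G] (S : Subgroup G) (hS : TIS S) (hcard : Nat.card S = 9)
    (hC : Subgroup.centralizer (S : Set G) ≤ S)
    (hN : Nat.card (Subgroup.normalizer (S : Set G)) = 36)
    (hsq : ∀ x ∈ Subgroup.normalizer (S : Set G), x * x ∈ S) : S.Normal := by
  classical
  have hf2 : Fact (Nat.Prime 2) := ⟨Nat.prime_two⟩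
  have hcyc : ¬ IsCyclic S := by
    intro hcyc
    obtain ⟨g, hg⟩ := hcyc.exists_generator
    have h1 : orderOf g = 9 := by rw [← hcard]; exact orderOf_eq_card_of_forall_mem_zpowers hg
    have h2 : g ^ 3 = 1 := Subtype.ext (hS.exp g g.2)
    have := orderOf_dvd_of_pow_eq_one h2
    rw [h1] at this
    omega
  set N := Subgroup.normalizer (S : Set G) with hNd
  obtain ⟨E⟩ : Nonempty (Sylow 2 N) := inferInstance
  have hE4 : Nat.card (E : Subgroup N) = 4 := by
    rw [E.card_eq_multiplicity, hN]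
    have : (36 : ℕ).factorization 2 = 2 := by
      rw [show 36 = 2 ^ 2 * 9 by norm_num, Nat.factorization_mul (by norm_num) (by norm_num), Nat.prime_two.factorization_pow]
      simp [Nat.factorization_eq_zero_of_not_dvd (show ¬ 2 ∣ 9 by norm_num)]
    rw [this]; norm_num
  set E' : Subgroup G := (E : Subgroup N).map N.subtype with hE'
  have hE4' : Nat.card E' = 4 := by
    rw [← hE4]
    exact (Nat.card_congr (Subgroup.equivMapOfInjective _ _ N.subtype_injective).toEquiv).symm
  have hEN : E' ≤ N := by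
    rintro _ ⟨x, -, rfl⟩
    exact x.2
  have hES : E' ⊓ S = ⊥ := by
    apply Subgroup.inf_eq_bot_of_coprime
    rw [hE4', hcard]; norm_num
  have hE2 : ∀ x ∈ E', x * x = 1 := by
    intro x hx
    have : x * x ∈ E' ⊓ S := ⟨E'.mul_mem hx hx, hsq x (hEN hx)⟩
    rwa [hES, Subgroup.mem_bot] at this
  have hcoset : ∀ x ∈ N, ∃ y ∈ S, ∃ e ∈ E', x = y * e := by
    intro x hx
    have h1 : Function.Injective (fun p : S × E' => (⟨(p.1 : G) * (p.2 : G), N.mul_mem (Subgroup.le_normalizer p.1.2) (hEN p.2.2)⟩ : N)) := by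
      rintro ⟨y, e⟩ ⟨y', e'⟩ h
      have h1 : (y : G) * e = y' * e' := congrArg Subtype.val h
      have h2 : (y' : G)⁻¹ * y = e' * (e : G)⁻¹ := by
        rw [inv_mul_eq_iff_eq_mul, ← mul_assoc, ← h1]; group
      have h3 : (y' : G)⁻¹ * y ∈ E' ⊓ S := ⟨by rw [h2]; exact E'.mul_mem e'.2 (E'.inv_mem e.2), S.mul_mem (S.inv_mem y'.2) y.2⟩
      rw [hES, Subgroup.mem_bot] at h3
      have h4 := h3
      rw [h2] at h4
      rw [Prod.mk.injEq]
      exact ⟨Subtype.ext (inv_mul_eq_one.mp h3).symm, Subtype.ext (mul_inv_eq_one.mp h4).symm⟩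
    have h2 := h1.bijective_of_nat_card_le (by rw [Nat.card_prod, hcard, hE4', hN])
    obtain ⟨⟨y, e⟩, h⟩ := h2.2 ⟨x, hx⟩
    exact ⟨y, y.2, e, e.2, (congrArg Subtype.val h).symm⟩
  obtain ⟨e, f, he, hf, he1, hf1, hef, hcomm, hef1, hall⟩ := four_pts E' hE4' hE2
  have hcent : ∀ x ∈ E', x ≠ 1 → ∃ y ∈ S, x * y ≠ y * x := by
    intro x hx hx1
    by_contra hcon
    push Not at hcon
    have h1 : x ∈ Subgroup.centralizer (S : Set G) := by
      rw [Subgroup.mem_centralizer_iff]
      intro y hy
      exact (hcon y hy).symm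
    have h2 : x ∈ E' ⊓ S := ⟨hx, hC h1⟩
    rw [hES, Subgroup.mem_bot] at h2
    exact hx1 h2
  have hinv : ∀ x ∈ E', ∀ x' ∈ E', x * x' ≠ 1 → (∀ y ∈ S, x * y = y⁻¹ * x) → ∃ y ∈ S, x' * y ≠ y⁻¹ * x' := by
    intro x hx x' hx' hxx h
    by_contra hcon
    push Not at hcon
    obtain ⟨y, hy, hyc⟩ := hcent _ (E'.mul_mem hx hx') hxx
    apply hyc
    rw [mul_assoc, hcon y hy, ← mul_assoc, h _ (S.inv_mem hy), inv_inv, mul_assoc]
  have fin : ∀ s t : G, s ∈ E' → t ∈ E' → s ≠ 1 → t ≠ 1 → s * t = t * s → s * t ≠ 1 →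
      (∀ x ∈ E', x = 1 ∨ x = s ∨ x = t ∨ x = s * t) → (∃ y ∈ S, s * y ≠ y⁻¹ * s) → (∃ y ∈ S, t * y ≠ y⁻¹ * t) → S.Normal := by
    intro s t hs ht hs1 ht1 hst hst1 hall hs' ht'
    obtain ⟨a, b, ha, hb, ha1, hb1, hgen, sa, sb, ta, tb⟩ := H25Tri.pair hS hcard (hEN hs) (hE2 s hs) (hEN ht) (hE2 t ht) hst
      (hcent s hs hs1) hs' (hcent t ht ht1) ht' (hcent _ (E'.mul_mem hs ht) hst1)
    have D : H25Tri.Dat S a b s t :=
      { tis := hS, ha := ha, hb := hb, ha1 := ha1, hb1 := hb1, gen := hgen, hs := hEN hs, ht := hEN ht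
        s2 := hE2 s hs, t2 := hE2 t ht, st := hst, sa := sa, sb := sb, ta := ta, tb := tb
        coset := by
          intro x hx
          obtain ⟨y, hy, e, he, rfl⟩ := hcoset x hx
          refine ⟨y, hy, ?_⟩
          rcases hall e he with rfl | rfl | rfl | rfl
          · left; rw [mul_one]
          · right; left; rfl
          · right; right; left; rfl
          · right; right; right; rfl
        CS := hC, cyc := hcyc, cardN := hN }
    exact D.main
  by_cases hie : ∀ y ∈ S, e * y = y⁻¹ * e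
  · -- use f and e * f
    apply fin f (e * f) hf (E'.mul_mem he hf) hf1 hef1
    · rw [hcomm, mul_assoc, ← hcomm]
    · intro h
      have h1 : f * (e * f) = e * (f * f) := by rw [← mul_assoc, ← hcomm, mul_assoc]
      rw [h1, hE2 f hf, mul_one] at h
      exact he1 h
    · intro x hx
      have h1 : f * (e * f) = e := by rw [← mul_assoc, ← hcomm, mul_assoc, hE2 f hf, mul_one]
      rw [h1]
      rcases hall x hx with h | h | h | h <;> tauto
    · exact hinv e he f hf hef1 hie
    · apply hinv e he (e * f) (E'.mul_mem he hf) _ hie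
      rw [← mul_assoc, hE2 e he, one_mul]; exact hf1
  · by_cases hif : ∀ y ∈ S, f * y = y⁻¹ * f
    · apply fin e (e * f) he (E'.mul_mem he hf) he1 hef1
      · rw [mul_assoc, ← hcomm]
      · rw [← mul_assoc, hE2 e he, one_mul]; exact hf1
      · intro x hx
        have h1 : e * (e * f) = f := by rw [← mul_assoc, hE2 e he, one_mul]
        rw [h1]
        rcases hall x hx with h | h | h | h <;> tauto
      · push Not at hie; exact hie
      · apply hinv f hf (e * f) (E'.mul_mem he hf) _ hif
        rw [hcomm, ← mul_assoc, hE2 f hf, one_mul]; exact he1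
    · apply fin e f he hf he1 hf1 hcomm hef1 hall
      · push Not at hie; exact hie
      · push Not at hif; exact hif


theorem quot {N : Type*} [Group N] [Finite N] (M : Subgroup N) [M.Normal] (hK : IsKleinFour (N ⧸ M)) (hM : Nat.card M = 9) :
    Nat.card N = 36 ∧ ∀ x : N, x * x ∈ M := by
  constructor
  · rw [Subgroup.card_eq_card_quotient_mul_card_subgroup M, hM, hK.card_four]
  · intro x
    rw [← sq, ← QuotientGroup.eq_one_iff, QuotientGroup.mk_pow, ← hK.exponent_two]
    exact Monoid.pow_exponent_eq_one _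


/-- Let G be a finite group whose Sylow 3-subgroup T is elementary abelian of order 9 and self-centralizing, with N_G(T)/T a Klein four-group, and suppose that the centralizer of every nonidentity element of T lies in N_G(T). Then T is normal in G. -/
theorem result {G : Type*} [Group G] [Finite G]
    (T : Sylow 3 G) (hT : Cfsg.IsElementaryAbelian 3 (T : Subgroup G)) (hcard : Nat.card T = 9)
    (hC : Subgroup.centralizer ((T : Subgroup G) : Set G) = T)
    [hn : ((T : Subgroup G).subgroupOf (Subgroup.normalizer ((T : Subgroup G) : Set G))).Normal]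
    (hK : IsKleinFour (↥(Subgroup.normalizer ((T : Subgroup G) : Set G)) ⧸
      (T : Subgroup G).subgroupOf (Subgroup.normalizer ((T : Subgroup G) : Set G))))
    (hloc : ∀ t ∈ (T : Subgroup G), t ≠ 1 →
      Subgroup.centralizer ({t} : Set G) ≤ Subgroup.normalizer ((T : Subgroup G) : Set G)) :
    Subgroup.normalizer ((T : Subgroup G) : Set G) = ⊤ := by
  have hTN : (T : Subgroup G) ≤ Subgroup.normalizer ((T : Subgroup G) : Set G) := Subgroup.le_normalizer
  have hTIS : TIS (T : Subgroup G) :=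
    { sylow := ⟨T, rfl⟩
      exp := hT.2
      comm := by
        intro s hs t ht
        have := hT.1.is_comm.comm ⟨s, hs⟩ ⟨t, ht⟩
        exact congrArg Subtype.val this
      cent := hloc }
  have h9 : Nat.card ((T : Subgroup G).subgroupOf (Subgroup.normalizer ((T : Subgroup G) : Set G))) = 9 := by
    rw [Nat.card_congr (Subgroup.subgroupOfEquivOfLe hTN).toEquiv]
    exact hcard
  obtain ⟨hN, hsq⟩ := quot _ hK h9
  rw [Subgroup.normalizer_eq_top_iff]
  have hcard' : Nat.card (T : Subgroup G) = 9 := hcard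
  have hsq' : ∀ x ∈ Subgroup.normalizer ((T : Subgroup G) : Set G), x * x ∈ (T : Subgroup G) := by
    intro x hx
    have h1 := hsq ⟨x, hx⟩
    rw [Subgroup.mem_subgroupOf] at h1
    exact h1
  exact aux (T : Subgroup G) hTIS hcard' (le_of_eq hC) hN hsq'


end Cfsg.Agent.S3805
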