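import Cfsg.Statements.S3806
import Cfsg.Agent.Lib.BlackburnGen

set_option autoImplicit false
open Cfsg

open Subgroup
open scoped commutatorElement

namespace Cfsg.Agent.S3806

open Cfsg.Agent.Lib.BlackburnHP Cfsg.Agent.Lib.BlackburnChain Cfsg.Agent.Lib.BlackburnChain.MC
open Cfsg.Agent.Lib.BlackburnPower Cfsg.Agent.Lib.BlackburnMain Cfsg.Agent.Lib.BlackburnCons
open Cfsg.Agent.Lib

/-- Let p be a prime and S a finite p-group of order pⁿ (n ≥ 2) of maximal nilpotency class n − 1 whose sectional p-rank is exactly k (every section has p-rank at most k, and some section has p-rank k). If p ≥ k + 2 then the order of S is at most p^(2k). -/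
theorem result {S : Type*} [Group S] [Finite S] (p : ℕ) [Fact p.Prime] (hS : IsPGroup p S) [Group.IsNilpotent S]
    (n : ℕ) (hn : 2 ≤ n) (hcard : Nat.card S = p ^ n) (hmax : Group.nilpotencyClass S = n - 1)
    (k : ℕ) (hk : 1 ≤ k) (hsr : Cfsg.SectionalPRankLE p k S ∧ ¬ Cfsg.SectionalPRankLE p (k - 1) S)
    (hpk : k + 2 ≤ p) : Nat.card S ≤ p ^ (2 * k) := by
  have hp : p.Prime := Fact.out
  rw [hcard]
  apply Nat.pow_le_pow_right hp.pos
  by_contra hlt
  push Not at hlt
  obtain ⟨G, h, h2, hG⟩ := exists_chain (X := S) (n := n) (by omega) hcard hmax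
  obtain ⟨s, -, hs⟩ := exists_unif h (by omega) h2
  rcases Nat.lt_or_ge 1 k with hk1 | hk1
  · -- `G k / G (2k+1)` is elementary abelian
    have hN := h.normal (2 * k + 1)
    have hrank := hsr.1 (G k) ((G (2 * k + 1)).subgroupOf (G k)) ⊤
    have hcomm : ⁅G k, G k⁆ ≤ G (2 * k + 1) := by
      obtain ⟨x, hx, hx'⟩ := h.exists_mem (i := k) (by omega)
      exact h.comm_le_of_gens hk hk (by omega) (by omega) (by omega) hx hx' hx hx'
        (by rw [commutatorElement_self]; exact one_mem _)
    have h1 := hrank ⟨⟨fun a b => by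
      obtain ⟨a, -⟩ := a
      obtain ⟨b, -⟩ := b
      apply Subtype.ext
      show a * b = b * a
      induction a using QuotientGroup.induction_on with
      | H a =>
        induction b using QuotientGroup.induction_on with
        | H b =>
          rw [← QuotientGroup.mk_mul, ← QuotientGroup.mk_mul, QuotientGroup.eq, mem_subgroupOf]
          have h3 : ⁅(b : S)⁻¹, (a : S)⁻¹⁆ ∈ G (2 * k + 1) :=
            hcomm (commutator_mem_commutator (inv_mem b.2) (inv_mem a.2))
          have h4 : (((a * b)⁻¹ * (b * a) : G k) : S) = ⁅(b : S)⁻¹, (a : S)⁻¹⁆ := by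
            simp only [Subgroup.coe_mul, Subgroup.coe_inv, commutatorElement_def]
            group
          rw [h4]; exact h3⟩⟩ ?_
    · rw [Subgroup.card_top] at h1
      have h5 := ((G (2 * k + 1)).subgroupOf (G k)).card_mul_index
      have h6 : Nat.card (G k ⧸ (G (2 * k + 1)).subgroupOf (G k)) = ((G (2 * k + 1)).subgroupOf (G k)).index := rfl
      rw [Nat.card_congr (Subgroup.subgroupOfEquivOfLe (h.anti (by omega))).toEquiv, h.card _ (by omega),
        h.card _ (by omega)] at h5
      rw [h6] at h1
      have h7 : p ^ (n - k) = p ^ (n - (2 * k + 1)) * p ^ (k + 1) := by rw [← pow_add]; congr 1; omega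
      rw [h7] at h5
      have h8 := Nat.eq_of_mul_eq_mul_left (pow_pos hp.pos _) h5
      rw [h8] at h1
      have := (Nat.pow_le_pow_iff_right hp.one_lt).1 h1
      omega
    · rintro a -
      induction a using QuotientGroup.induction_on with
      | H a =>
        rw [← QuotientGroup.mk_pow, QuotientGroup.eq_one_iff, mem_subgroupOf]
        exact pow_mem_of h hs (by omega) (by omega) (by omega) a.2
  · -- `k = 1`
    have hk' : k = 1 := by omega
    subst hk'
    have h1 : (frattini S).index ≤ p ^ 1 := by
      have hcl := hsr.1 (⊤ : Subgroup S) ((frattini S).subgroupOf ⊤) ⊤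
      have h3 := hcl ⟨⟨fun a b => by
        obtain ⟨a, -⟩ := a
        obtain ⟨b, -⟩ := b
        apply Subtype.ext
        show a * b = b * a
        induction a using QuotientGroup.induction_on with
        | H a =>
          induction b using QuotientGroup.induction_on with
          | H b =>
            rw [← QuotientGroup.mk_mul, ← QuotientGroup.mk_mul, QuotientGroup.eq, mem_subgroupOf]
            have h3 : ⁅(b : S)⁻¹, (a : S)⁻¹⁆ ∈ frattini S :=
              H70Frattini.commutator_le_frattini hS
                (commutator_mem_commutator (mem_top _) (mem_top _))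
            have h4 : (((a * b)⁻¹ * (b * a) : (⊤ : Subgroup S)) : S) = ⁅(b : S)⁻¹, (a : S)⁻¹⁆ := by
              simp only [Subgroup.coe_mul, Subgroup.coe_inv, commutatorElement_def]
              group
            rw [h4]; exact h3⟩⟩ ?_
      · rw [Subgroup.card_top] at h3
        have h6 : Nat.card ((⊤ : Subgroup S) ⧸ (frattini S).subgroupOf ⊤) = ((frattini S).subgroupOf ⊤).index := rfl
        rw [h6] at h3
        have h7 : ((frattini S).subgroupOf ⊤).index = (frattini S).index := by
          show (frattini S).relIndex ⊤ = _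
          rw [relIndex_top_right]
        rw [h7] at h3
        exact h3
      · rintro a -
        induction a using QuotientGroup.induction_on with
        | H a =>
          rw [← QuotientGroup.mk_pow, QuotientGroup.eq_one_iff, mem_subgroupOf]
          exact H70Frattini.pow_mem_frattini hS _
    obtain ⟨T, hT, hT2⟩ := BlackburnGen.exists_gen hS h1
    have hcyc : ∃ x : S, (⊤ : Subgroup S) = zpowers x := by
      have hT3 : T.card = 0 ∨ T.card = 1 := by omega
      rcases hT3 with h3 | h3
      · rw [Finset.card_eq_zero] at h3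
        subst h3
        refine ⟨1, ?_⟩
        rw [← hT2]; simp
      · obtain ⟨x, rfl⟩ := Finset.card_eq_one.1 h3
        refine ⟨x, ?_⟩
        rw [← hT2, zpowers_eq_closure]; simp
    obtain ⟨x, hx⟩ := hcyc
    have hab : ∀ a b : S, a * b = b * a := by
      intro a b
      have ha : a ∈ zpowers x := hx ▸ mem_top a
      have hb : b ∈ zpowers x := hx ▸ mem_top b
      obtain ⟨i, rfl⟩ := mem_zpowers_iff.1 ha
      obtain ⟨j, rfl⟩ := mem_zpowers_iff.1 hb
      rw [← zpow_add, ← zpow_add, add_comm]
    obtain ⟨y, hy, hy'⟩ := h.exists_mem (i := 2) (by omega)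
    have h5 := h.comm 1 le_rfl
    have h6 : ⁅G 1, (⊤ : Subgroup S)⁆ = ⊥ := by
      rw [eq_bot_iff, commutator_le]
      intro a _ b _
      rw [mem_bot, commutatorElement_eq_one_iff_mul_comm]
      exact hab a b
    rw [h6] at h5
    rw [← h5, mem_bot] at hy
    exact hy' (by rw [hy]; exact one_mem _)

end Cfsg.Agent.S3806
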