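import Cfsg.Statements.S3807
import Cfsg.Agent.Lib.ExtraOrd
import Cfsg.Agent.Lib.H76PGroup
import Cfsg.Agent.Lib.H76PGroup2

set_option autoImplicit false
open Cfsg

namespace Cfsg.Agent.S3807

open Cfsg.Agent.Lib Subgroup

/-- number of subgroups of order `p` in a group of order `p^2` and exponent `p`. -/
theorem card_subgroups {T : Type*} [Group T] [Finite T] (p : ℕ) [hp : Fact p.Prime] (hT : Nat.card T = p ^ 2)
    (hexp : ∀ t : T, t ^ p = 1) : Nat.card {L : Subgroup T // Nat.card L = p} = p + 1 := by
  classical
  have hord : ∀ t : T, t ≠ 1 → Nat.card (zpowers t) = p := fun t ht => by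
    rw [Nat.card_zpowers]; exact orderOf_eq_prime (hexp t) ht
  let e : {t : T // t ≠ 1} ≃ Σ L : {L : Subgroup T // Nat.card L = p}, {t : L.1 // t ≠ 1} :=
    { toFun := fun t => ⟨⟨zpowers t.1, hord t.1 t.2⟩, ⟨⟨t.1, mem_zpowers t.1⟩, fun h => t.2 (congrArg Subtype.val h)⟩⟩
      invFun := fun s => ⟨s.2.1.1, fun h => s.2.2 (Subtype.ext h)⟩
      left_inv := fun t => rfl
      right_inv := by
        rintro ⟨⟨L, hL⟩, ⟨⟨t, htL⟩, ht⟩⟩
        have ht1 : t ≠ 1 := fun h => ht (Subtype.ext h)
        have h1 : zpowers t = L := Subgroup.eq_of_le_of_card_ge (by rwa [zpowers_le]) (by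
          rw [hL, hord t ht1])
        subst h1
        rfl }
  have h1 : Nat.card {t : T // t ≠ 1} = p ^ 2 - 1 := by
    have h2 : Nat.card {t : T // t ≠ 1} + 1 = Nat.card T := by
      haveI := Fintype.ofFinite T
      rw [Nat.card_eq_fintype_card, Nat.card_eq_fintype_card, Fintype.card_subtype_compl, Fintype.card_subtype_eq]
      have : 0 < Fintype.card T := Fintype.card_pos
      omega
    omega
  have h2 : ∀ L : {L : Subgroup T // Nat.card L = p}, Nat.card {t : L.1 // t ≠ 1} = p - 1 := by
    intro L
    have h2 : Nat.card {t : L.1 // t ≠ 1} + 1 = Nat.card L.1 := by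
      haveI := Fintype.ofFinite L.1
      rw [Nat.card_eq_fintype_card, Nat.card_eq_fintype_card, Fintype.card_subtype_compl, Fintype.card_subtype_eq]
      have : 0 < Fintype.card L.1 := Fintype.card_pos
      omega
    have := L.2
    omega
  haveI := Fintype.ofFinite {L : Subgroup T // Nat.card L = p}
  have h3 : Nat.card {t : T // t ≠ 1} = Nat.card {L : Subgroup T // Nat.card L = p} * (p - 1) := by
    rw [Nat.card_congr e, Nat.card_sigma, Finset.sum_congr rfl (fun L _ => h2 L), Finset.sum_const,
      Finset.card_univ, smul_eq_mul, Nat.card_eq_fintype_card]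
  rw [h1] at h3
  have h4 : p ^ 2 - 1 = (p + 1) * (p - 1) := by
    have := Nat.sq_sub_sq p 1
    simpa using this
  rw [h4] at h3
  have h5 := hp.out.two_le
  exact (Nat.eq_of_mul_eq_mul_right (by omega) h3).symm

/-- Let S be a non-abelian finite p-group with an abelian subgroup A of index p. Then [S : Z(S)] = p·#[S,S], and either [S,S] has order p, S/Z(S) is elementary abelian of order p², and S has exactly p + 1 abelian subgroups of index p; or [S,S] has order at least p² and A is the only abelian subgroup of index p in S. -/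
theorem result {S : Type*} [Group S] [Finite S] (p : ℕ) [Fact p.Prime] (hS : IsPGroup p S) (hna : ¬ IsMulCommutative S)
    (A : Subgroup S) (hA : IsMulCommutative ↥A) (hAi : A.index = p) :
    (Subgroup.center S).index = p * Nat.card (commutator S) ∧
      ((Nat.card (commutator S) = p ∧ Cfsg.IsElementaryAbelian p (⊤ : Subgroup (S ⧸ Subgroup.center S)) ∧
          Nat.card (S ⧸ Subgroup.center S) = p ^ 2 ∧
          Nat.card {B : Subgroup S // IsMulCommutative ↥B ∧ B.index = p} = p + 1) ∨
        (p ^ 2 ≤ Nat.card (commutator S) ∧ ∀ B : Subgroup S, IsMulCommutative ↥B → B.index = p → B = A)) := by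
  have hp : p.Prime := Fact.out
  -- facts on abelian subgroups of index p
  have hco : ∀ B : Subgroup S, B.index = p → IsCoatom B := fun B hB =>
    HBBasic.isCoatom_of_index_prime (by rw [hB]; exact hp)
  have hnor : ∀ B : Subgroup S, B.index = p → B.Normal := fun B hB => HBBasic.normal_of_isCoatom hS (hco B hB)
  have hcomm_of_top : ∀ B : Subgroup S, IsMulCommutative ↥B → B ≠ ⊤ := by
    rintro B hB rfl
    apply hna
    rw [isMulCommutative_iff]
    intro a b
    exact isMulCommutative_iff_of_setLike.mp hB a (mem_top a) b (mem_top b)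
  have hZle : ∀ B : Subgroup S, IsMulCommutative ↥B → B.index = p → center S ≤ B := by
    intro B hB hBi
    by_contra hle
    have h1 : B ⊔ center S = ⊤ := (hco B hBi).2 _ (left_lt_sup.mpr hle)
    have h2 : IsMulCommutative ↥(B ⊔ center S) := by
      rw [← le_centralizer_iff_isMulCommutative]
      have h1 : B ≤ centralizer (B : Set S) := le_centralizer_iff_isMulCommutative.mpr hB
      refine sup_le ?_ (Subgroup.center_le_centralizer _)
      rw [Subgroup.le_centralizer_iff]
      exact sup_le h1 (Subgroup.center_le_centralizer _)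
    exact hcomm_of_top _ h2 h1
  have hAn := hnor A hAi
  have hAco := hco A hAi
  obtain ⟨x, hx⟩ : ∃ x, x ∉ A := by
    by_contra h
    push Not at h
    exact hAco.1 (eq_top_iff.mpr (fun y _ => h y))
  have hAc : ∀ a ∈ A, ∀ b ∈ A, a * b = b * a := fun a ha b hb =>
    isMulCommutative_iff_of_setLike.mp hA a ha b hb
  have hform := H76PGroup.exists_mul_zpow_of_index p A hAi x hx
  have h1 := H76PGroup.card_commutator_mul A hAc x hform
  have h2 : Nat.card {a : A // x * (a : S) * x⁻¹ * (a : S)⁻¹ = 1} = Nat.card (center S) := by
    refine Nat.card_congr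
      { toFun := fun a => ⟨(a.1 : S), ?_⟩
        invFun := fun z => ⟨⟨z.1, hZle A hA hAi z.2⟩, ?_⟩
        left_inv := fun a => rfl
        right_inv := fun z => rfl }
    · obtain ⟨⟨a, haA⟩, ha⟩ := a
      have h3 : Commute x a := by
        change x * a * x⁻¹ * a⁻¹ = 1 at ha
        rw [mul_inv_eq_one, mul_inv_eq_iff_eq_mul] at ha
        exact ha
      rw [Subgroup.mem_center_iff]
      intro g
      obtain ⟨b, hb, k, rfl⟩ := hform g
      have h4 : Commute b a := hAc b hb a haA
      exact h4.mul_left (h3.zpow_left k)
    · have := Subgroup.mem_center_iff.mp z.2 x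
      change x * z.1 * x⁻¹ * z.1⁻¹ = 1
      rw [this]; group
  rw [h2] at h1
  have hZpos : 0 < Nat.card (center S) := Nat.card_pos
  have h3 : (center S).index = p * Nat.card (commutator S) := by
    have h4 := (center S).card_mul_index
    have h5 := A.card_mul_index
    rw [hAi, ← h1, ← h4] at h5
    have h6 : Nat.card (center S) * (p * Nat.card (commutator S)) = Nat.card (center S) * (center S).index := by
      rw [← h5]; ring
    exact (Nat.eq_of_mul_eq_mul_left hZpos h6).symm
  refine ⟨h3, ?_⟩
  obtain ⟨k, hk⟩ := IsPGroup.iff_card.mp (hS.to_subgroup (commutator S))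
  have hk0 : k ≠ 0 := by
    rintro rfl
    rw [pow_zero, Subgroup.card_eq_one, commutator_def, Subgroup.commutator_eq_bot_iff_le_centralizer,
      Subgroup.coe_top, Subgroup.centralizer_univ] at hk
    apply hna
    rw [isMulCommutative_iff]
    intro a b
    exact (Subgroup.mem_center_iff.mp (hk (mem_top b)) a)
  by_cases hk1 : k = 1
  · left
    rw [hk1, pow_one] at hk
    rw [hk] at h3
    have hQc : Nat.card (S ⧸ center S) = p ^ 2 := by rw [← Subgroup.index_eq_card, h3, pow_two]
    have hab : IsMulCommutative (S ⧸ center S) := IsPGroup.isMulCommutative_of_card_eq_prime_sq hQc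
    have hexp : ∀ t : S ⧸ center S, t ^ p = 1 := by
      -- otherwise the quotient is cyclic
      by_contra hne
      push Not at hne
      obtain ⟨t, ht⟩ := hne
      have h4 : orderOf t ∣ p ^ 2 := by rw [← hQc]; exact orderOf_dvd_natCard t
      obtain ⟨j, hj, hj2⟩ := (Nat.dvd_prime_pow hp).mp h4
      have h5 : orderOf t = p ^ 2 := by
        have : ¬ j ≤ 1 := by
          intro hj1
          apply ht
          rw [← orderOf_dvd_iff_pow_eq_one, hj2]
          calc p ^ j ∣ p ^ 1 := pow_dvd_pow p hj1
            _ = p := pow_one p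
        have : j = 2 := by omega
        rw [hj2, this]
      have hcyc : IsCyclic (S ⧸ center S) := isCyclic_of_orderOf_eq_card t (by rw [h5, hQc])
      apply hna
      rw [isMulCommutative_iff]
      exact commutative_of_cyclic_center_quotient (QuotientGroup.mk' (center S)) (by
        rw [QuotientGroup.ker_mk'])
    refine ⟨hk, ⟨?_, fun a _ => hexp a⟩, hQc, ?_⟩
    · rw [isMulCommutative_iff_of_setLike]
      intro a _ b _
      exact isMulCommutative_iff.mp hab a b
    · rw [← card_subgroups p hQc hexp]
      have hker : (QuotientGroup.mk' (center S)).ker = center S := QuotientGroup.ker_mk' _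
      have hsurj := QuotientGroup.mk'_surjective (center S)
      refine Nat.card_congr
        { toFun := fun B => ⟨B.1.map (QuotientGroup.mk' (center S)), ?_⟩
          invFun := fun L => ⟨L.1.comap (QuotientGroup.mk' (center S)), ?_⟩
          left_inv := ?_
          right_inv := ?_ }
      · obtain ⟨B, hB, hBi⟩ := B
        have hZB := hZle B hB hBi
        have h4 : (B.map (QuotientGroup.mk' (center S))).index = p := by
          rw [Subgroup.index_map_eq B hsurj (by rw [hker]; exact hZB), hBi]
        have h5 := (B.map (QuotientGroup.mk' (center S))).card_mul_index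
        rw [h4, hQc, pow_two] at h5
        exact Nat.eq_of_mul_eq_mul_right hp.pos h5
      · obtain ⟨L, hL⟩ := L
        have hL1 : L ≠ ⊥ := by
          rintro rfl
          rw [Subgroup.card_bot] at hL
          exact hp.one_lt.ne hL
        obtain ⟨t, htL, ht1⟩ := (Subgroup.ne_bot_iff_exists_ne_one.mp hL1 : ∃ t : L, t ≠ 1) |>.elim
          (fun t ht => (⟨t.1, t.2, fun h => ht (Subtype.ext h)⟩ : ∃ t : S ⧸ center S, t ∈ L ∧ t ≠ 1))
        have h4 : zpowers t = L := Subgroup.eq_of_le_of_card_ge (by rwa [zpowers_le]) (by
          rw [hL, Nat.card_zpowers, orderOf_eq_prime (hexp t) ht1])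
        obtain ⟨s, rfl⟩ := hsurj t
        constructor
        · have h5 : L.comap (QuotientGroup.mk' (center S)) = center S ⊔ zpowers s := by
            rw [← h4, ← MonoidHom.map_zpowers, Subgroup.comap_map_eq, hker, sup_comm]
          change IsMulCommutative ↥(L.comap (QuotientGroup.mk' (center S)))
          rw [h5]
          apply PGroupOdd.isMulCommutative_sup_zpowers inferInstance
          rw [Subgroup.mem_centralizer_iff]
          intro g hg
          exact (Subgroup.mem_center_iff.mp hg s).symm
        · change (L.comap (QuotientGroup.mk' (center S))).index = p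
          rw [Subgroup.index_comap_of_surjective L hsurj]
          have h5 := L.card_mul_index
          rw [hL, hQc, pow_two] at h5
          exact Nat.eq_of_mul_eq_mul_left hp.pos h5
      · rintro ⟨B, hB, hBi⟩
        apply Subtype.ext
        change (B.map (QuotientGroup.mk' (center S))).comap (QuotientGroup.mk' (center S)) = B
        rw [Subgroup.comap_map_eq, hker, sup_eq_left]
        exact hZle B hB hBi
      · rintro ⟨L, hL⟩
        apply Subtype.ext
        change (L.comap (QuotientGroup.mk' (center S))).map (QuotientGroup.mk' (center S)) = L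
        exact Subgroup.map_comap_eq_self_of_surjective hsurj L
  · right
    have hk2 : 2 ≤ k := by omega
    refine ⟨by rw [hk]; exact Nat.pow_le_pow_right hp.pos hk2, ?_⟩
    intro B hB hBi
    by_contra hBA
    have h4 : A ⊔ B = ⊤ := by
      apply hAco.2
      refine lt_of_le_of_ne le_sup_left ?_
      intro h
      have hBleA : B ≤ A := by rw [h]; exact le_sup_right
      rcases lt_or_eq_of_le hBleA with h5 | h5
      · exact hAco.1 ((hco B hBi).2 _ h5)
      · exact hBA h5
    have h5 : A ⊓ B ≤ center S := by
      have h6 : A ⊔ B ≤ centralizer ((A ⊓ B : Subgroup S) : Set S) := by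
        refine sup_le ?_ ?_
        · rw [Subgroup.le_centralizer_iff]
          exact inf_le_left.trans (le_centralizer_iff_isMulCommutative.mpr hA)
        · rw [Subgroup.le_centralizer_iff]
          exact inf_le_right.trans (le_centralizer_iff_isMulCommutative.mpr hB)
      rw [h4, ← Subgroup.le_centralizer_iff, Subgroup.coe_top, Subgroup.centralizer_univ] at h6
      exact h6
    have h6 : (center S).index ≤ p * p := by
      calc (center S).index ≤ (A ⊓ B).index := by
            refine Nat.le_of_dvd (Nat.pos_of_ne_zero Subgroup.index_ne_zero_of_finite) (Subgroup.index_dvd_of_le h5)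
        _ ≤ A.index * B.index := Subgroup.index_inf_le
        _ = p * p := by rw [hAi, hBi]
    rw [h3, hk] at h6
    have h7 : p ^ k ≤ p := Nat.le_of_mul_le_mul_left h6 hp.pos
    have h8 : p ^ k ≤ p ^ 1 := by rwa [pow_one]
    have := (Nat.pow_le_pow_iff_right hp.one_lt).mp h8
    omega

end Cfsg.Agent.S3807
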