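import Cfsg.Statements.S3808
import Cfsg.Agent.Lib.ExtraOrd

set_option autoImplicit false
open Cfsg

namespace Cfsg.Agent.S3808

open Cfsg.Agent.Lib Subgroup

/-- Let S be a finite p-group with an extraspecial subgroup Q of index p. Then either Z(S) = Z(Q), or S = Q·Z(S) and Z(S) has order p². -/
theorem result {S : Type*} [Group S] [Finite S] (p : ℕ) [Fact p.Prime] (hS : IsPGroup p S) (Q : Subgroup S) (hQ : Cfsg.IsExtraspecial p ↥Q) (hQi : Q.index = p) :
    Subgroup.center S = (Subgroup.center ↥Q).map Q.subtype ∨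
      (Q ⊔ Subgroup.center S = ⊤ ∧ Nat.card (Subgroup.center S) = p ^ 2) := by
  have hp : p.Prime := Fact.out
  have hQco : IsCoatom Q := HBBasic.isCoatom_of_index_prime (by rw [hQi]; exact hp)
  have hQn : Q.Normal := HBBasic.normal_of_isCoatom hS hQco
  -- Z(Q) is central in S
  have hZn : ((Subgroup.center ↥Q).map Q.subtype).Normal := by
    infer_instance
  have hZc : Nat.card ((Subgroup.center ↥Q).map Q.subtype) = p := by
    rw [Subgroup.card_subtype, hQ.2]
  have hZcen : (Subgroup.center ↥Q).map Q.subtype ≤ center S := by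
    have h0 : (Subgroup.center ↥Q).map Q.subtype ≠ ⊥ := by
      intro h
      rw [h, Subgroup.card_bot] at hZc
      exact hp.one_lt.ne hZc
    obtain ⟨z, hz, hzc, hzo⟩ := PGroupOdd.exists_central_mem hS hZn h0
    have : zpowers z = (Subgroup.center ↥Q).map Q.subtype := Subgroup.eq_of_le_of_card_ge (by rwa [zpowers_le]) (by
      rw [hZc, Nat.card_zpowers, hzo])
    rw [← this, zpowers_le]
    exact hzc
  have hinf : Q ⊓ center S = (Subgroup.center ↥Q).map Q.subtype := by
    apply le_antisymm
    · intro x hx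
      refine ⟨⟨x, hx.1⟩, ?_, rfl⟩
      rw [SetLike.mem_coe, Subgroup.mem_center_iff]
      intro y
      exact Subtype.ext (Subgroup.mem_center_iff.mp hx.2 y)
    · exact le_inf (map_subtype_le _) hZcen
  by_cases hle : center S ≤ Q
  · left
    rw [← hinf]
    exact (inf_eq_right.mpr hle).symm
  · right
    have h1 : Q ⊔ center S = ⊤ := by
      apply hQco.2
      exact left_lt_sup.mpr hle
    refine ⟨h1, ?_⟩
    have h2 := SubgroupTools.card_sup_mul_card_inf (N := Q) (H := center S) (by
      rw [Subgroup.normalizer_eq_top]; exact le_top)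
    rw [h1, Subgroup.card_top, ← Q.card_mul_index, hQi, hinf, hZc] at h2
    have hpos : 0 < Nat.card Q := Nat.card_pos
    have h3 : Nat.card Q * (p ^ 2) = Nat.card Q * Nat.card (center S) := by
      rw [← h2]; ring
    exact (Nat.eq_of_mul_eq_mul_left hpos h3).symm

end Cfsg.Agent.S3808
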