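import Cfsg.Statements.S3809
import Cfsg.Agent.Lib.ExtraOrd

set_option autoImplicit false
open Cfsg

namespace Cfsg.Agent.S3809

open Cfsg.Agent.Lib Subgroup

/-- Let S be a finite p-group with an extraspecial subgroup of index p. Then S has order p^(2+2n) for some n ≥ 1, derived length at most 3, and exponent dividing p³. -/
theorem result {S : Type*} [Group S] [Finite S] (p : ℕ) [Fact p.Prime] (hS : IsPGroup p S) (Q : Subgroup S) (hQ : Cfsg.IsExtraspecial p ↥Q) (hQi : Q.index = p) :
    (∃ n : ℕ, 1 ≤ n ∧ Nat.card S = p ^ (2 + 2 * n)) ∧ derivedSeries S 3 = ⊥ ∧ ∀ x : S, x ^ (p ^ 3) = 1 := by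
  have hp : p.Prime := Fact.out
  have hQco : IsCoatom Q := HBBasic.isCoatom_of_index_prime (by rw [hQi]; exact hp)
  have hQn : Q.Normal := HBBasic.normal_of_isCoatom hS hQco
  refine ⟨?_, ?_, ?_⟩
  · obtain ⟨n, hn, hc⟩ := ExtraOrd.exists_card hQ
    refine ⟨n, hn, ?_⟩
    rw [← Q.card_mul_index, hQi, hc]
    ring
  · -- derived length
    have hcyc : IsCyclic (S ⧸ Q) := isCyclic_of_prime_card (p := p) (by
      rw [← Subgroup.index_eq_card, hQi])
    have h1 : commutator S ≤ Q := by
      have : ∀ a b : S ⧸ Q, a * b = b * a := by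
        intro a b
        exact (IsCyclic.commGroup.mul_comm a b)
      rw [commutator_def, Subgroup.commutator_le]
      intro g _ h _
      rw [← QuotientGroup.eq_one_iff]
      have := this (g : S ⧸ Q) (h : S ⧸ Q)
      change ((g * h * g⁻¹ * h⁻¹ : S) : S ⧸ Q) = 1
      rw [QuotientGroup.mk_mul, QuotientGroup.mk_mul, QuotientGroup.mk_mul, this]
      simp
    have h2 : derivedSeries S 1 ≤ Q := by
      rw [derivedSeries_succ, derivedSeries_zero, ← commutator_def]
      exact h1
    have h3 : derivedSeries S 2 ≤ (center Q).map Q.subtype := by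
      rw [derivedSeries_succ]
      calc ⁅derivedSeries S 1, derivedSeries S 1⁆ ≤ ⁅Q, Q⁆ := Subgroup.commutator_mono h2 h2
        _ = (commutator Q).map Q.subtype := by
          rw [commutator_def, Subgroup.map_commutator, ← MonoidHom.range_eq_map, Subgroup.range_subtype]
        _ = _ := by rw [hQ.1.2.2]
    rw [derivedSeries_succ, eq_bot_iff]
    refine (Subgroup.commutator_mono h3 h3).trans ?_
    rw [← Subgroup.map_commutator]
    have : ⁅center Q, center Q⁆ = ⊥ := by
      rw [Subgroup.commutator_eq_bot_iff_le_centralizer]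
      exact Subgroup.center_le_centralizer _
    rw [this, Subgroup.map_bot]
  · intro x
    have h1 : x ^ p ∈ Q := by
      have h2 := Subgroup.pow_index_mem (H := Q) x
      rwa [hQi] at h2
    have h2 : (⟨x ^ p, h1⟩ : Q) ^ p ∈ center Q := ExtraOrd.pow_mem_center hQ _
    have h0 : ∀ z : center Q, z ^ p = 1 := by
      intro z
      have := pow_card_eq_one' (x := z)
      rwa [hQ.2] at this
    have h3 := h0 (⟨(⟨x ^ p, h1⟩ : Q) ^ p, h2⟩ : center Q)
    have h4 := congrArg (fun y : center Q => ((y : Q) : S)) h3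
    simp only [SubmonoidClass.mk_pow, OneMemClass.coe_one] at h4
    rw [← h4, ← pow_mul, ← pow_mul]
    congr 1
    ring

end Cfsg.Agent.S3809
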