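import Cfsg.Statements.S3810
import Cfsg.Agent.Lib.ExtraOrd

set_option autoImplicit false
open Cfsg

namespace Cfsg.Agent.S3810

open Cfsg.Agent.Lib Subgroup

/-- Let S be a finite p-group with an extraspecial subgroup of index p. Then S has an abelian subgroup of index p if and only if S has order p⁴. -/
theorem result {S : Type*} [Group S] [Finite S] (p : ℕ) [Fact p.Prime] (hS : IsPGroup p S) (Q : Subgroup S) (hQ : Cfsg.IsExtraspecial p ↥Q) (hQi : Q.index = p) :
    (∃ A : Subgroup S, IsMulCommutative ↥A ∧ A.index = p) ↔ Nat.card S = p ^ 4 := by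
  have hp : p.Prime := Fact.out
  obtain ⟨n, hn, hc⟩ := ExtraOrd.exists_card hQ
  have hSc : Nat.card S = p ^ (2 + 2 * n) := by
    rw [← Q.card_mul_index, hQi, hc]
    ring
  constructor
  · rintro ⟨A, hA, hAi⟩
    -- A ∩ Q has index at most p in Q
    have h1 : A.relIndex Q ≤ p := by
      calc A.relIndex Q ≤ A.relIndex ⊤ := Subgroup.relIndex_le_of_le_right le_top (by
            rw [Subgroup.relIndex_top_right]; exact Subgroup.index_ne_zero_of_finite)
        _ = p := by rw [Subgroup.relIndex_top_right, hAi]
    have h2 : IsMulCommutative ↥(A.subgroupOf Q) := by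
      rw [isMulCommutative_iff_of_setLike]
      intro a ha b hb
      have := isMulCommutative_iff_of_setLike.mp hA (a : S) ha (b : S) hb
      exact Subtype.ext this
    have h3 := ExtraOrd.card_sq_le hQ h2
    have h4 : Nat.card (A.subgroupOf Q) * A.relIndex Q = Nat.card Q := (A.subgroupOf Q).card_mul_index
    have h5 : Nat.card Q ^ 2 ≤ p ^ 3 * Nat.card Q := by
      calc Nat.card Q ^ 2 = (Nat.card (A.subgroupOf Q) ^ 2) * (A.relIndex Q) ^ 2 := by rw [← h4]; ring
        _ ≤ (p * Nat.card Q) * p ^ 2 := by gcongr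
        _ = _ := by ring
    have hpos : 0 < Nat.card Q := Nat.card_pos
    have h6 : Nat.card Q ≤ p ^ 3 := by
      rw [pow_two] at h5
      exact Nat.le_of_mul_le_mul_right h5 hpos
    rw [hc] at h6
    have h7 := (Nat.pow_le_pow_iff_right hp.one_lt).mp h6
    have h8 : n = 1 := by omega
    rw [hSc, h8]
  · intro h4
    obtain ⟨N, hN, -, hNc⟩ := PGroupOdd.exists_normal_card' hS (N := ⊤) inferInstance (k := 2) (by
      rw [Subgroup.card_top, h4]; exact Nat.pow_le_pow_right hp.pos (by norm_num))
    have hNab : IsMulCommutative N := IsPGroup.isMulCommutative_of_card_eq_prime_sq hNc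
    have h1 := ExtraOrd.index_centralizer_le_of_card_sq hS hN hNc
    have hNC : N ≤ centralizer (N : Set S) := le_centralizer_iff_isMulCommutative.mpr hNab
    have hCn : (centralizer (N : Set S)).Normal := inferInstance
    have hCc : p ^ 3 ≤ Nat.card (centralizer (N : Set S)) := by
      have h2 := (centralizer (N : Set S)).card_mul_index
      rw [h4] at h2
      have h3 : p ^ 3 * p ≤ Nat.card (centralizer (N : Set S)) * p := by
        calc p ^ 3 * p = p ^ 4 := by ring
          _ = _ := h2.symm
          _ ≤ _ := by gcongr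
      exact Nat.le_of_mul_le_mul_right h3 hp.pos
    obtain ⟨A, hAn, hNA, hAC, hAc⟩ := PGroupOdd.exists_normal_card hS hCn hN hNC hNc (k := 3) (by norm_num) hCc
    refine ⟨A, ?_, ?_⟩
    · -- A = N ⟨x⟩ with N central in A
      have hlt : N < A := by
        refine lt_of_le_of_ne hNA ?_
        rintro rfl
        rw [hNc] at hAc
        have := Nat.pow_right_injective hp.two_le hAc
        omega
      obtain ⟨L, hL, hZL, hLN, hLc, x, hxL, hxZ, hxp, hxg, hLe⟩ := PGroupOdd.exists_normal_step hS hN hAn hlt
      have hLA : L = A := Subgroup.eq_of_le_of_card_ge hLN (by rw [hLc, hNc, hAc]; ring_nf; exact le_rfl)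
      rw [← hLA, hLe]
      exact PGroupOdd.isMulCommutative_sup_zpowers hNab (hAC (hLN hxL))
    · have h2 := A.card_mul_index
      rw [h4, hAc] at h2
      have h3 : p ^ 3 * A.index = p ^ 3 * p := by rw [h2]; ring
      exact Nat.eq_of_mul_eq_mul_left (pow_pos hp.pos 3) h3

end Cfsg.Agent.S3810
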