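import Cfsg.Statements.S3824
import Mathlib
import Cfsg.Agent.Lib.Burnside
import Cfsg.Agent.Lib.SylowNumbers

set_option autoImplicit false
open Cfsg

namespace Cfsg.Agent.S3824

theorem aux (n : ℕ) : ∀ {G : Type*} [Group G] [Finite G] (A : Subgroup G) (_ : IsMulCommutative A)
    (_ : ∃ k : ℕ, A.index = 2 ^ k) (_ : Nat.card G = n), Group.IsSolvable G := by
  induction n using Nat.strong_induction_on with
  | _ n ih =>
  intro G _ _ A hA hidx hn
  by_cases hsimple : ∃ N : Subgroup G, N.Normal ∧ N ≠ ⊥ ∧ N ≠ ⊤
  · obtain ⟨N, hN, hbot, htop⟩ := hsimple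
    have hmul : Nat.card N * N.index = Nat.card G := N.card_mul_index
    have hN1 : 1 < Nat.card N := by
      rw [Subgroup.one_lt_card_iff_ne_bot]; exact hbot
    have hN2 : 1 < N.index := by
      have := N.index_ne_zero_of_finite
      have h1 : N.index ≠ 1 := fun h => htop (Subgroup.index_eq_one.mp h)
      omega
    have hlt1 : Nat.card N < n := by
      rw [← hn, ← hmul]; exact lt_mul_of_one_lt_right (by omega) hN2
    have hlt2 : N.index < n := by
      rw [← hn, ← hmul]; exact lt_mul_of_one_lt_left (by omega) hN1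
    obtain ⟨k, hk⟩ := hidx
    have hd1 : (A.subgroupOf N).index ∣ 2 ^ k := by
      rw [← hk]
      have h1 : (A.subgroupOf N).index = A.relIndex (N ⊔ A) := Cfsg.Agent.Lib.SylowNumbers.relIndex_eq_sup A N
      rw [h1, ← Subgroup.relIndex_mul_index (H := A) (K := N ⊔ A) le_sup_right]
      exact Dvd.intro _ rfl
    have hd2 : (A.map (QuotientGroup.mk' N)).index ∣ 2 ^ k := by
      rw [← hk]
      exact Subgroup.index_map_dvd A (QuotientGroup.mk'_surjective N)
    have hs1 : Group.IsSolvable N := by
      obtain ⟨j, -, hj⟩ := (Nat.dvd_prime_pow Nat.prime_two).1 hd1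
      exact ih _ hlt1 (A.subgroupOf N) inferInstance ⟨j, hj⟩ rfl
    have hs2 : Group.IsSolvable (G ⧸ N) := by
      obtain ⟨j, -, hj⟩ := (Nat.dvd_prime_pow Nat.prime_two).1 hd2
      exact ih _ hlt2 (A.map (QuotientGroup.mk' N)) inferInstance ⟨j, hj⟩ rfl
    exact Group.isSolvable_of_ker_le_range N.subtype (QuotientGroup.mk' N) (by simp)
  · push Not at hsimple
    by_cases htriv : Subsingleton G
    · infer_instance
    have : Nontrivial G := not_subsingleton_iff_nontrivial.mp htriv
    have hs : IsSimpleGroup G := ⟨fun N hN => by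
      by_cases h : N = ⊥
      · exact Or.inl h
      · exact Or.inr (hsimple N hN h)⟩
    obtain ⟨k, hk⟩ := hidx
    by_cases hAbot : A = ⊥
    · have hp : IsPGroup 2 G := by
        apply IsPGroup.of_card (n := k)
        rw [← hk, hAbot, Subgroup.index_bot]
      have : Fact (Nat.Prime 2) := ⟨Nat.prime_two⟩
      have := hp.isNilpotent
      infer_instance
    · obtain ⟨a, ha1'⟩ := (Subgroup.ne_bot_iff_exists_ne_one).1 hAbot
      have ha1 : (a : G) ≠ 1 := fun h => ha1' (Subtype.ext h)
      have hle : A ≤ Subgroup.centralizer ({(a : G)} : Set G) := by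
        intro x hx
        rw [Subgroup.mem_centralizer_singleton_iff]
        have := hA.is_comm.comm (⟨x, hx⟩ : A) a
        exact congrArg Subtype.val this
      have hd : (Subgroup.centralizer ({(a : G)} : Set G)).index ∣ 2 ^ k := by
        rw [← hk]; exact Subgroup.index_dvd_of_le hle
      obtain ⟨j, -, hj⟩ := (Nat.dvd_prime_pow Nat.prime_two).1 hd
      have hprime := Cfsg.Agent.Lib.Burnside.prime_card_of_class_prime_pow 2 j Nat.prime_two (a : G) ha1 hj
      have : Fact (Nat.card G).Prime := ⟨hprime⟩
      have hc : IsCyclic G := isCyclic_of_prime_card rfl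
      have := hc.isMulCommutative
      exact Group.isSolvable_of_comm (fun a b => mul_comm' a b)

/-- Every finite group having an abelian subgroup whose index is a power of 2 is solvable. -/
theorem result {G : Type*} [Group G] [Finite G]
    (A : Subgroup G) (hA : IsMulCommutative A) (hidx : ∃ k : ℕ, A.index = 2 ^ k) : Group.IsSolvable G := by
  exact aux _ A hA hidx rfl

end Cfsg.Agent.S3824
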