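import Cfsg.Statements.S3868
import Mathlib
import Cfsg.Agent.Lib.H64MinNonPClosed

set_option autoImplicit false
open Cfsg Cfsg.Agent.Lib.RelSylow Cfsg.Agent.Lib.H64Basic Cfsg.Agent.Lib.H64MinNonPClosed

namespace Cfsg.Agent.S3868

/-- Structure of the non-simple minimal non-p-closed groups. Call a finite group p-closed when its Sylow p-subgroups are normal, and minimal non-p-closed when it is not p-closed but every proper subgroup and every proper quotient is. If such a group G is not simple, then there is a prime q ≠ p such that G has order p · q^e, where e is the multiplicative order of q modulo p, and G has a normal subgroup A of order q^e that is elementary abelian and is a minimal normal subgroup of G (so G is the semidirect product of A by a group of order p acting irreducibly). -/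
theorem result {G : Type*} [Group G] [Finite G] {p : ℕ} [Fact p.Prime]
    (hnc : ¬ Cfsg.IsPClosed p G) (hsub : ∀ H : Subgroup G, H ≠ ⊤ → Cfsg.IsPClosed p ↥H)
    (hquo : ∀ (N : Subgroup G) [N.Normal], N ≠ ⊥ → Cfsg.IsPClosed p (G ⧸ N)) (hns : ¬ IsSimpleGroup G) :
    ∃ q : ℕ, q.Prime ∧ q ≠ p ∧ Nat.card G = p * q ^ orderOf (q : ZMod p) ∧
      ∃ A : Subgroup G, A.Normal ∧ Nat.card ↥A = q ^ orderOf (q : ZMod p) ∧ Cfsg.IsElementaryAbelian q A ∧
        ∀ B : Subgroup G, B.Normal → B ≤ A → B = ⊥ ∨ B = A := by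
  have hnc' := hnc
  unfold Cfsg.IsPClosed at hnc'
  push Not at hnc'
  obtain ⟨P, hPn⟩ := hnc'
  have hnt : Nontrivial G := by
    by_contra h
    rw [not_nontrivial_iff_subsingleton] at h
    apply hPn
    have : (P : Subgroup G) = ⊥ := Subsingleton.elim _ _
    rw [this]; infer_instance
  obtain ⟨N, hNn, hNb, hNt⟩ : ∃ N : Subgroup G, N.Normal ∧ N ≠ ⊥ ∧ N ≠ ⊤ := by
    by_contra hcon
    push Not at hcon
    apply hns
    refine ⟨fun N hN => ?_⟩
    by_cases h : N = ⊥
    · exact Or.inl h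
    · exact Or.inr (hcon N hN h)
  have hB : ∀ M : Subgroup G, M.Normal → M ≠ ⊥ → (M ⊔ (P : Subgroup G)).Normal := by
    intro M hM hMb
    have h1 := hquo M hMb (P.mapSurjective (QuotientGroup.mk'_surjective M))
    rw [Sylow.coe_mapSurjective] at h1
    have h2 : (((P : Subgroup G).map (QuotientGroup.mk' M)).comap (QuotientGroup.mk' M)).Normal := Subgroup.normal_comap _
    rw [Subgroup.comap_map_eq, QuotientGroup.ker_mk', sup_comm] at h2
    exact h2
  have hpN : ¬ p ∣ Nat.card N := by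
    intro hdvd
    obtain ⟨S, hS⟩ := exists_syl p N
    have hSn : S.Normal := normal_of_isSyl hNn hS (le_normalizer_of_isSyl_of_isPClosed (hsub N hNt) hS)
    have hSb : S ≠ ⊥ := by
      rintro rfl
      apply hS.2.2
      rw [Subgroup.relIndex_bot_left]; exact hdvd
    have h1 := hB S hSn hSb
    have h2 : S ≤ P := hS.2.1.le_sylow_of_normal P
    rw [sup_eq_right.2 h2] at h1
    exact hPn h1
  have hPsyl : ∀ H : Subgroup G, (P : Subgroup G) ≤ H → IsSyl p (P : Subgroup G) H := fun H hH =>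
    (isSyl_top_iff P).of_le hH le_top
  have hsup : N ⊔ (P : Subgroup G) = ⊤ := by
    by_contra hne
    have h1 := hPsyl (N ⊔ (P : Subgroup G)) le_sup_right
    exact hPn (normal_of_isSyl (hB N hNn hNb) h1 (le_normalizer_of_isSyl_of_isPClosed (hsub _ hne) h1))
  obtain ⟨q, hq, hqp, -, hG, hcN, hEl, hmin⟩ := core N (P : Subgroup G) hNn hpN P.2 hsup hPn (by
    intro P₀ hP₀ N₀ hN₀ hle hne x hx y hy
    have hpN₀ : ¬ p ∣ Nat.card N₀ := fun h => hpN (h.trans (Subgroup.card_dvd_of_le hN₀))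
    have hP₀p : IsPGroup p P₀ := P.2.to_le hP₀
    have hs : IsSyl p P₀ (N₀ ⊔ P₀) := isSyl_sup hpN₀ hP₀p hle
    have h1 := le_normalizer_of_isSyl_of_isPClosed (hsub _ hne) hs
    have h2 : x * y * x⁻¹ * y⁻¹ ∈ N₀ := mul_mem ((Subgroup.mem_normalizer_iff.1 (hle hx) y).1 hy) (inv_mem hy)
    have h3 : x * y * x⁻¹ * y⁻¹ ∈ P₀ := by
      have h4 := (Subgroup.mem_normalizer_iff.1 (h1 (Subgroup.mem_sup_left hy)) x⁻¹).1 (inv_mem hx)
      have h5 : x * (y * x⁻¹ * y⁻¹) ∈ P₀ := mul_mem hx h4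
      have h6 : x * y * x⁻¹ * y⁻¹ = x * (y * x⁻¹ * y⁻¹) := by group
      rw [h6]; exact h5
    have h4 := eq_one_of_mem hpN₀ hP₀p h2 h3
    rw [mul_inv_eq_one, mul_inv_eq_iff_eq_mul] at h4
    exact h4) hB
  exact ⟨q, hq, hqp, hG, N, hNn, hcN, hEl, hmin⟩

end Cfsg.Agent.S3868
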