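import Cfsg.Statements.S3869
import Mathlib
import Cfsg.Agent.Lib.H64MinNonPClosed

set_option autoImplicit false
open Cfsg Cfsg.Agent.Lib.RelSylow Cfsg.Agent.Lib.H64Basic Cfsg.Agent.Lib.H64MinNonPClosed

namespace Cfsg.Agent.S3869

/-- Let p and q be distinct primes and G a finite non-abelian group with a normal elementary abelian q-subgroup A that is a minimal normal subgroup of G and has index p. Then A has order q^e with e the multiplicative order of q modulo p, and G is minimal non-p-closed: its Sylow p-subgroups are not normal, while in every proper subgroup and in every proper quotient of G the Sylow p-subgroups are normal. -/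
theorem result {G : Type*} [Group G] [Finite G] {p q : ℕ} [Fact p.Prime] (hq : q.Prime) (hpq : q ≠ p)
    (hna : ¬ IsMulCommutative G) (A : Subgroup G) [A.Normal] (hA : Cfsg.IsElementaryAbelian q A) (hidx : A.index = p)
    (hmin : ∀ B : Subgroup G, B.Normal → B ≤ A → B = ⊥ ∨ B = A) :
    Nat.card ↥A = q ^ orderOf (q : ZMod p) ∧ ¬ Cfsg.IsPClosed p G ∧ (∀ H : Subgroup G, H ≠ ⊤ → Cfsg.IsPClosed p ↥H) ∧
      ∀ (N : Subgroup G) [N.Normal], N ≠ ⊥ → Cfsg.IsPClosed p (G ⧸ N) := by
  have hp := (Fact.out : p.Prime)
  have hqf : Fact q.Prime := ⟨hq⟩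
  have hAn : A.Normal := inferInstance
  have hAc : ∀ a ∈ A, ∀ b ∈ A, a * b = b * a := by
    intro a ha b hb
    have := hA.1.is_comm.comm (⟨a, ha⟩ : A) ⟨b, hb⟩
    exact congrArg Subtype.val this
  have hcardQ : Nat.card (G ⧸ A) = p := hidx
  -- A together with any element outside generates
  have hgen : ∀ x : G, x ∉ A → A ⊔ Subgroup.zpowers x = ⊤ := by
    intro x hx
    have h1 : (A ⊔ Subgroup.zpowers x).index ∣ p := by
      rw [← hidx]; exact Subgroup.index_dvd_of_le le_sup_left
    rcases (Nat.dvd_prime hp).1 h1 with h | h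
    · exact Subgroup.index_eq_one.1 h
    · exfalso
      apply hx
      have h2 : A.relIndex (A ⊔ Subgroup.zpowers x) * (A ⊔ Subgroup.zpowers x).index = A.index :=
        Subgroup.relIndex_mul_index le_sup_left
      rw [h, hidx] at h2
      have h3 : A.relIndex (A ⊔ Subgroup.zpowers x) = 1 := by
        have := hp.pos
        exact Nat.eq_of_mul_eq_mul_right this (by rw [h2, one_mul])
      rw [Subgroup.relIndex_eq_one] at h3
      exact h3 (Subgroup.mem_sup_right (Subgroup.mem_zpowers x))
  have hpow : ∀ x : G, x ^ p ∈ A := by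
    intro x
    have := pow_card_eq_one' (x := (QuotientGroup.mk' A x))
    rw [hcardQ, ← map_pow, ← MonoidHom.mem_ker, QuotientGroup.ker_mk'] at this
    exact this
  have hinvn : ∀ x : G, x ∉ A → ∀ B : Subgroup G, B ≤ A → (∀ b ∈ B, x * b * x⁻¹ ∈ B) → B = ⊥ ∨ B = A := by
    intro x hx B hBA hBx
    apply hmin B _ hBA
    rw [← Subgroup.normalizer_eq_top_iff, eq_top_iff, ← hgen x hx]
    refine sup_le ?_ ?_
    · intro a ha
      rw [mem_normalizer_iff_map]
      apply Subgroup.eq_of_le_of_card_ge
      · rintro _ ⟨b, hb, rfl⟩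
        have : (MulAut.conj a).toMonoidHom b = b := by
          show a * b * a⁻¹ = b
          rw [hAc a ha b (hBA hb)]; group
        rw [this]; exact hb
      · rw [card_conj]
    · rw [Subgroup.zpowers_le, mem_normalizer_iff_map]
      apply Subgroup.eq_of_le_of_card_ge
      · rintro _ ⟨b, hb, rfl⟩
        exact hBx b hb
      · rw [card_conj]
  have hnotcen : ∀ x : G, x ∉ A → ∃ a ∈ A, x * a * x⁻¹ ≠ a := by
    intro x hx
    by_contra hcon
    push Not at hcon
    apply hna
    have hxc : ∀ g : G, g * x = x * g := by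
      have : (⊤ : Subgroup G) ≤ Subgroup.centralizer ({x} : Set G) := by
        rw [← hgen x hx]
        refine sup_le ?_ ?_
        · intro a ha
          rw [Subgroup.mem_centralizer_singleton_iff]
          have := hcon a ha
          rw [mul_inv_eq_iff_eq_mul] at this
          exact this.symm
        · rw [Subgroup.zpowers_le, Subgroup.mem_centralizer_singleton_iff]
      intro g
      exact Subgroup.mem_centralizer_singleton_iff.1 (this (Subgroup.mem_top g))
    have hac : ∀ a ∈ A, ∀ g : G, g * a = a * g := by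
      intro a ha
      have : (⊤ : Subgroup G) ≤ Subgroup.centralizer ({a} : Set G) := by
        rw [← hgen x hx]
        refine sup_le ?_ ?_
        · intro b hb
          rw [Subgroup.mem_centralizer_singleton_iff]
          exact hAc b hb a ha
        · rw [Subgroup.zpowers_le, Subgroup.mem_centralizer_singleton_iff]
          exact (hxc a).symm
      intro g
      exact Subgroup.mem_centralizer_singleton_iff.1 (this (Subgroup.mem_top g))
    refine ⟨⟨fun g h => ?_⟩⟩
    have : (⊤ : Subgroup G) ≤ Subgroup.centralizer ({h} : Set G) := by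
      rw [← hgen x hx]
      refine sup_le ?_ ?_
      · intro b hb
        rw [Subgroup.mem_centralizer_singleton_iff]
        exact (hac b hb h).symm
      · rw [Subgroup.zpowers_le, Subgroup.mem_centralizer_singleton_iff]
        exact (hxc h).symm
    exact Subgroup.mem_centralizer_singleton_iff.1 (this (Subgroup.mem_top g))
  have hAtop : A ≠ ⊤ := by
    intro h
    rw [h, Subgroup.index_top] at hidx
    exact hp.one_lt.ne hidx
  obtain ⟨x, hx⟩ : ∃ x : G, x ∉ A := by
    by_contra hcon
    push Not at hcon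
    exact hAtop (eq_top_iff.2 fun g _ => hcon g)
  have hcardA : Nat.card ↥A = q ^ orderOf (q : ZMod p) := by
    apply Cfsg.Agent.Lib.H64Irr.card_eq_of_irreducible_conj hpq A hA x
    · intro a ha; exact hAn.conj_mem a ha x
    · intro a ha
      rw [hAc _ (hpow x) a ha]; group
    · exact hnotcen x hx
    · exact hinvn x hx
  have hpA : ¬ p ∣ Nat.card A := by
    rw [hcardA]
    intro h
    have := hp.dvd_of_dvd_pow h
    exact hpq ((Nat.prime_dvd_prime_iff_eq hp hq).1 this).symm
  have hcardG : Nat.card G = Nat.card A * p := by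
    rw [← A.card_mul_index, hidx]
  have hnotclosed : ¬ Cfsg.IsPClosed p G := by
    intro hcl
    obtain ⟨P⟩ : Nonempty (Sylow p G) := inferInstance
    have hPn := hcl P
    have hPb : (P : Subgroup G) ≠ ⊥ := P.ne_bot_of_dvd_card (by rw [hcardG]; exact Dvd.intro_left _ rfl)
    obtain ⟨y, hy1⟩ := (Subgroup.ne_bot_iff_exists_ne_one).1 hPb
    have hyA : (y : G) ∉ A := by
      intro h
      exact hy1 (Subtype.ext (eq_one_of_mem hpA P.2 h y.2))
    obtain ⟨a, ha, hne⟩ := hnotcen y hyA
    apply hne
    have h1 : (y : G) * a * (y : G)⁻¹ * a⁻¹ ∈ A := mul_mem (hAn.conj_mem a ha y) (inv_mem ha)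
    have h2 : (y : G) * a * (y : G)⁻¹ * a⁻¹ ∈ (P : Subgroup G) := by
      have h3 := hPn.conj_mem _ (inv_mem y.2) a
      have h4 : (y : G) * a * (y : G)⁻¹ * a⁻¹ = (y : G) * (a * (y : G)⁻¹ * a⁻¹) := by group
      rw [h4]; exact mul_mem y.2 h3
    have h5 := eq_one_of_mem hpA P.2 h1 h2
    rwa [mul_inv_eq_one] at h5
  refine ⟨hcardA, hnotclosed, ?_, ?_⟩
  · intro H hH
    by_cases hd : p ∣ Nat.card H
    · obtain ⟨y, hy⟩ := exists_prime_orderOf_dvd_card' (G := H) p hd
      have hyA : (y : G) ∉ A := by
        intro h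
        apply hpA
        have h1 : orderOf (y : G) = p := by rw [Subgroup.orderOf_coe, hy]
        rw [← h1]
        have : orderOf (⟨(y : G), h⟩ : A) = orderOf (y : G) := Subgroup.orderOf_mk _ _
        rw [← this]; exact orderOf_dvd_natCard _
      have hHA : H ⊓ A = ⊥ := by
        rcases hinvn y hyA (H ⊓ A) inf_le_right (by
          intro b hb
          exact Subgroup.mem_inf.2 ⟨mul_mem (mul_mem y.2 (Subgroup.mem_inf.1 hb).1) (inv_mem y.2), hAn.conj_mem b (Subgroup.mem_inf.1 hb).2 y⟩) with h | h
        · exact h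
        · exfalso
          apply hH
          rw [eq_top_iff, ← hgen y hyA]
          refine sup_le (inf_eq_right.1 h) ?_
          rw [Subgroup.zpowers_le]; exact y.2
      apply isPClosed_of_isPGroup
      intro h
      refine ⟨1, ?_⟩
      rw [pow_one]
      have h1 : (h : G) ^ p ∈ H ⊓ A := ⟨pow_mem h.2 p, hpow h⟩
      rw [hHA, Subgroup.mem_bot] at h1
      exact Subtype.ext h1
    · exact isPClosed_of_not_dvd hd
  · intro N hN hNb
    have hcase := hmin (N ⊓ A) inferInstance inf_le_right
    rcases hcase with h | h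
    · exfalso
      -- N is a p-group of order p
      have hNp : IsPGroup p N := by
        intro n
        refine ⟨1, ?_⟩
        rw [pow_one]
        have h1 : (n : G) ^ p ∈ N ⊓ A := ⟨pow_mem n.2 p, hpow n⟩
        rw [h, Subgroup.mem_bot] at h1
        exact Subtype.ext h1
      have hNA : ∃ y ∈ N, y ∉ A := by
        by_contra hcon
        push Not at hcon
        apply hNb
        rw [eq_bot_iff, ← h]
        exact fun n hn => ⟨hn, hcon n hn⟩
      obtain ⟨y, hyN, hyA⟩ := hNA
      obtain ⟨a, ha, hne⟩ := hnotcen y hyA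
      apply hne
      have h1 : y * a * y⁻¹ * a⁻¹ ∈ A := mul_mem (hAn.conj_mem a ha y) (inv_mem ha)
      have h2 : y * a * y⁻¹ * a⁻¹ ∈ N := by
        have h3 := hN.conj_mem _ (inv_mem hyN) a
        have h4 : y * a * y⁻¹ * a⁻¹ = y * (a * y⁻¹ * a⁻¹) := by group
        rw [h4]; exact mul_mem hyN h3
      have h5 := eq_one_of_mem hpA hNp h1 h2
      rwa [mul_inv_eq_one] at h5
    · apply isPClosed_of_isPGroup
      intro g
      obtain ⟨g, rfl⟩ := QuotientGroup.mk'_surjective N g
      refine ⟨1, ?_⟩
      rw [pow_one, ← map_pow, ← MonoidHom.mem_ker, QuotientGroup.ker_mk']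
      exact (inf_eq_right.1 h) (hpow g)

end Cfsg.Agent.S3869
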