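import Cfsg.Statements.S3870
import Mathlib
import Cfsg.Agent.Lib.H64Basic

set_option autoImplicit false
open Cfsg Cfsg.Agent.Lib.RelSylow Cfsg.Agent.Lib.H64Basic

namespace Cfsg.Agent.S3870

/-- Let G be a finite simple group whose Sylow p-subgroups are not normal but such that every proper subgroup of G has a normal Sylow p-subgroup. Then any two distinct Sylow p-subgroups of G intersect trivially, and for every Sylow p-subgroup P the normalizer of every non-identity subgroup of P lies in the normalizer of P. -/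
theorem result {G : Type*} [Group G] [Finite G] [IsSimpleGroup G] {p : ℕ} [Fact p.Prime]
    (hnc : ¬ Cfsg.IsPClosed p G) (hsub : ∀ H : Subgroup G, H ≠ ⊤ → Cfsg.IsPClosed p ↥H) :
    (∀ P Q : Sylow p G, P ≠ Q → (P : Subgroup G) ⊓ (Q : Subgroup G) = ⊥) ∧
      ∀ (P : Sylow p G) (R : Subgroup G), R ≤ P → R ≠ ⊥ →
        Subgroup.normalizer (R : Set G) ≤ Subgroup.normalizer ((P : Subgroup G) : Set G) := by
  have hnotnormal : ∀ D : Subgroup G, D ≠ ⊥ → IsPGroup p D → Subgroup.normalizer (D : Set G) ≠ ⊤ := by
    intro D hD hDp htop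
    have hn : D.Normal := Subgroup.normalizer_eq_top_iff.mp htop
    rcases hn.eq_bot_or_eq_top with h | h
    · exact hD h
    · apply hnc
      intro P
      have : (P : Subgroup G) = D := by
        rw [h]
        have h1 := P.3 hDp (by rw [h]; exact le_top)
        rw [← h1, h]
      rw [this]; exact hn
  have hTI : ∀ n : ℕ, ∀ P Q : Sylow p G, Nat.card G - Nat.card ↥((P : Subgroup G) ⊓ (Q : Subgroup G)) = n →
      P ≠ Q → (P : Subgroup G) ⊓ (Q : Subgroup G) = ⊥ := by
    intro n
    induction n using Nat.strong_induction_on with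
    | _ n ih =>
      intro P Q hn hPQ
      by_contra hD
      have hDP : (P : Subgroup G) ⊓ (Q : Subgroup G) < P := by
        refine lt_of_le_of_ne inf_le_left ?_
        intro h
        apply hPQ
        apply Sylow.ext
        have h1 : (P : Subgroup G) ≤ Q := inf_eq_left.mp h
        exact (P.3 Q.2 h1).symm
      have hDQ : (P : Subgroup G) ⊓ (Q : Subgroup G) < Q := by
        refine lt_of_le_of_ne inf_le_right ?_
        intro h
        apply hPQ
        apply Sylow.ext
        have h1 : (Q : Subgroup G) ≤ P := inf_eq_right.mp h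
        exact Q.3 P.2 h1
      have hDp : IsPGroup p ↥((P : Subgroup G) ⊓ (Q : Subgroup G)) := P.2.to_le inf_le_left
      have hN := hsub _ (hnotnormal _ hD hDp)
      obtain ⟨S, hS, -, hall⟩ := exists_syl_of_isPClosed hN
      have h1 := lt_inf_normalizer P.2 hDP
      have h2 := lt_inf_normalizer Q.2 hDQ
      have h1' := hall _ (P.2.to_le inf_le_left : IsPGroup p ↥((P : Subgroup G) ⊓ Subgroup.normalizer (((P : Subgroup G) ⊓ (Q : Subgroup G) : Subgroup G) : Set G))) inf_le_right
      have h2' := hall _ (Q.2.to_le inf_le_left : IsPGroup p ↥((Q : Subgroup G) ⊓ Subgroup.normalizer (((P : Subgroup G) ⊓ (Q : Subgroup G) : Subgroup G) : Set G))) inf_le_right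
      obtain ⟨T, hT⟩ := hS.2.1.exists_le_sylow
      have key : ∀ R : Sylow p G, (P : Subgroup G) ⊓ (Q : Subgroup G) <
          (R : Subgroup G) ⊓ Subgroup.normalizer (((P : Subgroup G) ⊓ (Q : Subgroup G) : Subgroup G) : Set G) →
          (R : Subgroup G) ⊓ Subgroup.normalizer (((P : Subgroup G) ⊓ (Q : Subgroup G) : Subgroup G) : Set G) ≤ S → R = T := by
        intro R hR1 hR2
        by_contra hRT
        have hlt : (P : Subgroup G) ⊓ (Q : Subgroup G) < (R : Subgroup G) ⊓ (T : Subgroup G) :=
          lt_of_lt_of_le hR1 (le_inf inf_le_left (hR2.trans hT))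
        have hcard : Nat.card ↥((P : Subgroup G) ⊓ (Q : Subgroup G)) < Nat.card ↥((R : Subgroup G) ⊓ (T : Subgroup G)) := by
          refine lt_of_le_of_ne (Subgroup.card_le_of_le hlt.le) ?_
          intro he
          exact hlt.ne (Subgroup.eq_of_le_of_card_ge hlt.le he.ge)
        have hle : Nat.card ↥((R : Subgroup G) ⊓ (T : Subgroup G)) ≤ Nat.card G := Subgroup.card_le_card_group _
        have := ih _ (by omega) R T rfl hRT
        rw [this] at hlt
        exact not_lt_bot hlt
      exact hPQ ((key P h1 h1').trans (key Q h2 h2').symm)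
  have hTI' : ∀ P Q : Sylow p G, P ≠ Q → (P : Subgroup G) ⊓ (Q : Subgroup G) = ⊥ := fun P Q h => hTI _ P Q rfl h
  refine ⟨hTI', ?_⟩
  intro P R hRP hR g hg
  by_contra hcon
  have h1 : g • P ≠ P := by
    intro h
    exact hcon (Sylow.smul_eq_iff_mem_normalizer.1 h)
  have h2 := hTI' (g • P) P h1
  apply hR
  rw [eq_bot_iff, ← h2]
  refine le_inf ?_ hRP
  have : (↑(g • P) : Subgroup G) = (P : Subgroup G).map (MulAut.conj g).toMonoidHom := rfl
  rw [this, ← conj_eq_of_mem_normalizer hg]
  exact Subgroup.map_mono hRP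

end Cfsg.Agent.S3870
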