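import Cfsg.Statements.S3873
import Mathlib
import Cfsg.Agent.Lib.H64MinNonPClosed

set_option autoImplicit false
open Cfsg Cfsg.Agent.Lib.RelSylow Cfsg.Agent.Lib.H64Basic Cfsg.Agent.Lib.H64MinNonPClosed

namespace Cfsg.Agent.S3873

/-- Say that a finite group is p-exponent closed when its elements of order dividing p form a subgroup. Let G be a finite group that is not p-exponent closed, but all of whose proper subgroups and proper quotients are, and suppose G is neither simple nor a p-group. Then there is a prime q ≠ p such that G has order p · q^e, where e is the multiplicative order of q modulo p, and G has a normal elementary abelian subgroup of order q^e that is a minimal normal subgroup of G. -/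
theorem result {G : Type*} [Group G] [Finite G] {p : ℕ} [Fact p.Prime]
    (hnc : ¬ (∃ H : Subgroup G, (H : Set G) = {g : G | g ^ p = 1})) (hsub : ∀ K : Subgroup G, K ≠ ⊤ → (∃ H : Subgroup ↥K, (H : Set ↥K) = {g : ↥K | g ^ p = 1}))
    (hquo : ∀ (N : Subgroup G) [N.Normal], N ≠ ⊥ → (∃ H : Subgroup (G ⧸ N), (H : Set (G ⧸ N)) = {g : (G ⧸ N) | g ^ p = 1}))
    (hns : ¬ IsSimpleGroup G) (hnp : ¬ IsPGroup p G) :
    ∃ q : ℕ, q.Prime ∧ q ≠ p ∧ Nat.card G = p * q ^ orderOf (q : ZMod p) ∧
      ∃ A : Subgroup G, A.Normal ∧ Nat.card ↥A = q ^ orderOf (q : ZMod p) ∧ Cfsg.IsElementaryAbelian q A ∧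
        ∀ B : Subgroup G, B.Normal → B ≤ A → B = ⊥ ∨ B = A := by
  have hp := (Fact.out : p.Prime)
  -- a normal subgroup containing all elements of order dividing p is everything
  have hbig : ∀ E : Subgroup G, (∀ g : G, g ^ p = 1 → g ∈ E) → E = ⊤ := by
    intro E hE
    by_contra hne
    obtain ⟨H, hH⟩ := hsub E hne
    apply hnc
    refine ⟨H.map E.subtype, ?_⟩
    ext g
    constructor
    · rintro ⟨h, hh, rfl⟩
      have h1 : h ∈ {g : ↥E | g ^ p = 1} := by rw [← hH]; exact hh
      have h2 : h ^ p = 1 := h1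
      show (h : G) ^ p = 1
      rw [← Subgroup.coe_pow, h2]; rfl
    · intro hg
      have hg' : g ^ p = 1 := hg
      refine ⟨⟨g, hE g hg'⟩, ?_, rfl⟩
      rw [hH]
      show (⟨g, hE g hg'⟩ : ↥E) ^ p = 1
      exact Subtype.ext hg'
  obtain ⟨P⟩ : Nonempty (Sylow p G) := inferInstance
  -- the preimage of the p-exponent subgroup of a quotient
  have hquoE : ∀ M : Subgroup G, M.Normal → M ≠ ⊥ → ∃ E : Subgroup G, E.Normal ∧ ∀ g : G, g ∈ E ↔ g ^ p ∈ M := by
    intro M hM hMb
    obtain ⟨H, hH⟩ := hquo M hMb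
    have hmem : ∀ g : G, g ∈ H.comap (QuotientGroup.mk' M) ↔ g ^ p ∈ M := by
      intro g
      rw [Subgroup.mem_comap]
      have h1 : (QuotientGroup.mk' M) g ∈ (H : Set (G ⧸ M)) ↔ (QuotientGroup.mk' M) g ∈ {g : G ⧸ M | g ^ p = 1} := by rw [hH]
      have h2 : (QuotientGroup.mk' M) g ∈ {g : G ⧸ M | g ^ p = 1} ↔ g ^ p ∈ M := by
        show ((QuotientGroup.mk' M) g) ^ p = 1 ↔ _
        rw [← map_pow, ← MonoidHom.mem_ker, QuotientGroup.ker_mk']
      exact h1.trans h2
    refine ⟨H.comap (QuotientGroup.mk' M), ⟨?_⟩, hmem⟩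
    intro n hn g
    rw [hmem] at hn ⊢
    rw [conj_pow]
    exact hM.conj_mem _ hn g
  have hnt : Nontrivial G := by
    by_contra h
    rw [not_nontrivial_iff_subsingleton] at h
    apply hnc
    refine ⟨⊤, ?_⟩
    ext g
    simp [Subsingleton.elim g 1]
  -- proper normal subgroups are p'-groups
  have hprime : ∀ N : Subgroup G, N.Normal → N ≠ ⊤ → ¬ p ∣ Nat.card N := by
    intro N hNn hNt hdvd
    obtain ⟨H, hH⟩ := hsub N hNt
    set W : Subgroup G := H.map N.subtype with hW
    have hmemW : ∀ g : G, g ∈ W ↔ g ∈ N ∧ g ^ p = 1 := by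
      intro g
      constructor
      · rintro ⟨h, hh, rfl⟩
        have h1 : h ∈ {g : ↥N | g ^ p = 1} := by rw [← hH]; exact hh
        have h2 : h ^ p = 1 := h1
        refine ⟨h.2, ?_⟩
        show (h : G) ^ p = 1
        rw [← Subgroup.coe_pow, h2]; rfl
      · rintro ⟨hgN, hg⟩
        refine ⟨⟨g, hgN⟩, ?_, rfl⟩
        rw [hH]
        exact Subtype.ext hg
    have hWn : W.Normal := by
      constructor
      intro n hn g
      rw [hmemW] at hn ⊢
      exact ⟨hNn.conj_mem _ hn.1 g, by rw [conj_pow, hn.2]; simp⟩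
    have hWb : W ≠ ⊥ := by
      obtain ⟨z, hz⟩ := exists_prime_orderOf_dvd_card' (G := N) p hdvd
      intro hbot
      have : (z : G) ∈ W := by
        rw [hmemW]
        refine ⟨z.2, ?_⟩
        have := pow_orderOf_eq_one z
        rw [hz] at this
        exact congrArg Subtype.val this
      rw [hbot, Subgroup.mem_bot] at this
      have hz1 : z = 1 := Subtype.ext this
      rw [hz1, orderOf_one] at hz
      exact hp.one_lt.ne hz
    obtain ⟨E, hEn, hE⟩ := hquoE W hWn hWb
    have hEp : IsPGroup p E := by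
      intro g
      refine ⟨2, ?_⟩
      apply Subtype.ext
      have := ((hmemW _).1 ((hE g).1 g.2)).2
      rw [← pow_mul, ← pow_two] at this
      simpa using this
    have hEt := hbig E (fun g hg => by rw [hE, hg]; exact one_mem W)
    apply hnp
    rw [hEt] at hEp
    exact hEp.of_equiv Subgroup.topEquiv
  obtain ⟨N, hNn, hNb, hNt⟩ : ∃ N : Subgroup G, N.Normal ∧ N ≠ ⊥ ∧ N ≠ ⊤ := by
    by_contra hcon
    push Not at hcon
    apply hns
    refine ⟨fun N hN => ?_⟩
    by_cases h : N = ⊥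
    · exact Or.inl h
    · exact Or.inr (hcon N hN h)
  have hpN := hprime N hNn hNt
  obtain ⟨E, hEn, hE⟩ := hquoE N hNn hNb
  have hEt := hbig E (fun g hg => by rw [hE, hg]; exact one_mem N)
  have hgN : ∀ g : G, g ^ p ∈ N := fun g => (hE g).1 (by rw [hEt]; trivial)
  have hPexp : ∀ g ∈ (P : Subgroup G), g ^ p = 1 := fun g hg => eq_one_of_mem hpN P.2 (hgN g) (pow_mem hg p)
  have hsup : N ⊔ (P : Subgroup G) = ⊤ := by
    -- index is coprime to p and a power of p
    have h1 : (N ⊔ (P : Subgroup G)).index ∣ (P : Subgroup G).index := Subgroup.index_dvd_of_le le_sup_right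
    have h2 : (N ⊔ (P : Subgroup G)).index ∣ N.index := Subgroup.index_dvd_of_le le_sup_left
    have h3 : IsPGroup p (G ⧸ N) := by
      intro g
      obtain ⟨g, rfl⟩ := QuotientGroup.mk'_surjective N g
      refine ⟨1, ?_⟩
      rw [pow_one, ← map_pow, ← MonoidHom.mem_ker, QuotientGroup.ker_mk']
      exact hgN g
    obtain ⟨n, hn⟩ := h3.exists_card_eq
    have h4 : N.index = p ^ n := hn
    rw [h4] at h2
    obtain ⟨m, -, hm⟩ := (Nat.dvd_prime_pow hp).1 h2
    rw [← Subgroup.index_eq_one, hm]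
    rcases Nat.eq_zero_or_pos m with h0 | h0
    · rw [h0, pow_zero]
    · exfalso
      apply P.not_dvd_index
      rw [hm] at h1
      exact (dvd_pow_self p h0.ne').trans h1
  have hPn : ¬ (P : Subgroup G).Normal := by
    intro hn
    apply hnc
    refine ⟨P, ?_⟩
    ext g
    constructor
    · intro hg
      exact hPexp g hg
    · intro hg
      have hg' : g ^ p = 1 := hg
      have h1 : IsPGroup p (Subgroup.zpowers g) := by
        by_cases h : g = 1
        · apply IsPGroup.of_card (n := 0)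
          rw [Nat.card_zpowers, h, orderOf_one, pow_zero]
        · apply IsPGroup.of_card (n := 1)
          rw [Nat.card_zpowers, orderOf_eq_prime hg' h, pow_one]
      obtain ⟨h, -, hle⟩ := (isSyl_top_iff P).exists_conj_le h1 le_top
      rw [conj_eq_of_mem_normalizer (by rw [Subgroup.normalizer_eq_top]; trivial)] at hle
      exact hle (Subgroup.mem_zpowers g)
  obtain ⟨q, hq, hqp, -, hG, hcN, hEl, hmin⟩ := core N (P : Subgroup G) hNn hpN P.2 hsup hPn (by
    intro P₀ hP₀ N₀ hN₀ hle hne x hx y hy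
    have hpN₀ : ¬ p ∣ Nat.card N₀ := fun h => hpN (h.trans (Subgroup.card_dvd_of_le hN₀))
    have hP₀p : IsPGroup p P₀ := P.2.to_le hP₀
    have hs : IsSyl p P₀ (N₀ ⊔ P₀) := isSyl_sup hpN₀ hP₀p hle
    obtain ⟨H, hH⟩ := hsub _ hne
    set W : Subgroup G := H.map (N₀ ⊔ P₀).subtype with hW
    have hmemW : ∀ g : G, g ∈ W ↔ g ∈ N₀ ⊔ P₀ ∧ g ^ p = 1 := by
      intro g
      constructor
      · rintro ⟨h, hh, rfl⟩
        have h1 : h ∈ {g : ↥(N₀ ⊔ P₀) | g ^ p = 1} := by rw [← hH]; exact hh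
        have h2 : h ^ p = 1 := h1
        refine ⟨h.2, ?_⟩
        show (h : G) ^ p = 1
        rw [← Subgroup.coe_pow, h2]; rfl
      · rintro ⟨hgN, hg⟩
        refine ⟨⟨g, hgN⟩, ?_, rfl⟩
        rw [hH]
        exact Subtype.ext hg
    have hWp : IsPGroup p W := by
      intro g
      refine ⟨1, ?_⟩
      apply Subtype.ext
      rw [pow_one]
      exact ((hmemW _).1 g.2).2
    have hPW : P₀ = W := hs.eq_of_le hWp (fun g hg => ((hmemW g).1 hg).1) (fun g hg => (hmemW g).2 ⟨Subgroup.mem_sup_right hg, hPexp g (hP₀ hg)⟩)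
    have h2 : x * y * x⁻¹ * y⁻¹ ∈ N₀ := mul_mem ((Subgroup.mem_normalizer_iff.1 (hle hx) y).1 hy) (inv_mem hy)
    have h3 : x * y * x⁻¹ * y⁻¹ ∈ P₀ := by
      have h4 : y * x⁻¹ * y⁻¹ ∈ P₀ := by
        rw [hPW, hmemW]
        refine ⟨mul_mem (mul_mem (Subgroup.mem_sup_left hy) (inv_mem (Subgroup.mem_sup_right hx))) (inv_mem (Subgroup.mem_sup_left hy)), ?_⟩
        rw [conj_pow, inv_pow, hPexp x (hP₀ hx)]; simp
      have h5 : x * (y * x⁻¹ * y⁻¹) ∈ P₀ := mul_mem hx h4
      have h6 : x * y * x⁻¹ * y⁻¹ = x * (y * x⁻¹ * y⁻¹) := by group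
      rw [h6]; exact h5
    have h4 := eq_one_of_mem hpN₀ hP₀p h2 h3
    rw [mul_inv_eq_one, mul_inv_eq_iff_eq_mul] at h4
    exact h4) (by
    intro M hM hMb
    obtain ⟨E, hEn, hE⟩ := hquoE M hM hMb
    have hPE : (P : Subgroup G) ≤ E := fun g hg => by rw [hE, hPexp g hg]; exact one_mem M
    have hME : M ≤ E := fun g hg => by rw [hE]; exact pow_mem hg p
    have hEM : E = M ⊔ (P : Subgroup G) := by
      apply le_antisymm _ (sup_le hME hPE)
      -- images in G ⧸ M
      have h1 : IsPGroup p (E.map (QuotientGroup.mk' M)) := by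
        rintro ⟨_, ⟨e, he, rfl⟩⟩
        refine ⟨1, ?_⟩
        apply Subtype.ext
        rw [pow_one]
        show (QuotientGroup.mk' M e) ^ p = 1
        rw [← map_pow, ← MonoidHom.mem_ker, QuotientGroup.ker_mk']
        exact (hE e).1 he
      have h2 : (P.mapSurjective (QuotientGroup.mk'_surjective M) : Subgroup (G ⧸ M)) ≤ E.map (QuotientGroup.mk' M) := by
        rw [Sylow.coe_mapSurjective]; exact Subgroup.map_mono hPE
      have h3 := (P.mapSurjective (QuotientGroup.mk'_surjective M)).3 h1 h2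
      intro e he
      have h4 : QuotientGroup.mk' M e ∈ (P : Subgroup G).map (QuotientGroup.mk' M) := by
        rw [← Sylow.coe_mapSurjective (QuotientGroup.mk'_surjective M), ← h3]
        exact ⟨e, he, rfl⟩
      have h5 : e ∈ ((P : Subgroup G).map (QuotientGroup.mk' M)).comap (QuotientGroup.mk' M) := h4
      rw [Subgroup.comap_map_eq, QuotientGroup.ker_mk', sup_comm] at h5
      exact h5
    rw [← hEM]; exact hEn)
  exact ⟨q, hq, hqp, hG, N, hNn, hcN, hEl, hmin⟩

end Cfsg.Agent.S3873
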