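import Cfsg.Statements.S3875
import Cfsg.Agent.S0999
import Cfsg.Agent.S3868
import Cfsg.Agent.Lib.H64Basic
import Cfsg.Agent.Lib.ClSLn
import Cfsg.Agent.Lib.ClSL2Syl

set_option autoImplicit false
open Cfsg

namespace Cfsg.Agent.S3875

open Subgroup

theorem min_le_cube (p m : ℕ) : min (p * m) (p * (p ^ 2 - 1) / 2) ≤ p ^ 3 := by
  refine (min_le_right _ _).trans ?_
  calc p * (p ^ 2 - 1) / 2 ≤ p * (p ^ 2 - 1) := Nat.div_le_self _ _
    _ ≤ p * p ^ 2 := by gcongr; omega
    _ = p ^ 3 := by ring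

theorem even_case {p : ℕ} (hp5 : 5 ≤ p) : p * (p ^ 2 - 1) / 2 ≤ (p - 1) * ((p - 1) ^ 2 - 1) := by
  obtain ⟨k, rfl⟩ : ∃ k, p = k + 5 := ⟨p - 5, by omega⟩
  have e1 : (k + 5) ^ 2 - 1 = (k + 4) * (k + 6) := by
    rw [Nat.sub_eq_iff_eq_add (by nlinarith)]; ring
  have e2 : (k + 5 - 1) ^ 2 - 1 = (k + 3) * (k + 5) := by
    have : k + 5 - 1 = k + 4 := by omega
    rw [this, Nat.sub_eq_iff_eq_add (by nlinarith)]; ring
  rw [e1, e2]
  have : k + 5 - 1 = k + 4 := by omega
  rw [this]
  apply Nat.div_le_of_le_mul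
  have : (k + 6) ≤ 2 * (k + 3) := by omega
  calc (k + 5) * ((k + 4) * (k + 6)) ≤ (k + 5) * ((k + 4) * (2 * (k + 3))) := by gcongr
    _ = 2 * ((k + 4) * ((k + 3) * (k + 5))) := by ring

theorem lower {p : ℕ} [hp : Fact p.Prime] {m : ℕ}
    (hleast : ∀ k : ℕ, IsPrimePow k → k % p = 1 → m ≤ k) (n : ℕ) :
    ∀ (H : Type) [Group H] [Finite H], Nat.card H = n → ¬ Cfsg.IsPClosed p H →
      min (p * m) (p * (p ^ 2 - 1) / 2) ≤ Nat.card H := by
  induction n using Nat.strong_induction_on with
  | _ n ih =>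
  intro H _ _ hn hnc
  by_cases hsub : ∀ K : Subgroup H, K ≠ ⊤ → Cfsg.IsPClosed p ↥K
  swap
  · push Not at hsub
    obtain ⟨K, hK, hKn⟩ := hsub
    have hlt : Nat.card K < n := by
      rw [← hn]
      refine lt_of_le_of_ne K.card_le_card_group fun h => hK (Subgroup.eq_top_of_card_eq K h)
    exact (ih _ hlt K rfl hKn).trans K.card_le_card_group
  by_cases hquo : ∀ (N : Subgroup H) [N.Normal], N ≠ ⊥ → Cfsg.IsPClosed p (H ⧸ N)
  swap
  · push Not at hquo
    obtain ⟨N, hN, hNb, hNn⟩ := hquo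
    have h1 := Subgroup.card_mul_index N
    have h3 : 1 < Nat.card N := by
      rw [Subgroup.one_lt_card_iff_ne_bot]; exact hNb
    have h4 : 0 < N.index := Nat.pos_of_ne_zero Subgroup.index_ne_zero_of_finite
    have hlt : Nat.card (H ⧸ N) < Nat.card H := by
      rw [← h1, ← Subgroup.index_eq_card]
      nlinarith
    exact (ih _ (hn ▸ hlt) (H ⧸ N) rfl hNn).trans hlt.le
  by_cases hs : IsSimpleGroup H
  · by_cases hbig : p ^ 3 ≤ Nat.card H
    · exact (min_le_cube p m).trans hbig
    push Not at hbig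
    have hcyc : ¬ IsCyclic H := by
      intro hc
      apply hnc
      intro P
      refine ⟨fun x hx g => ?_⟩
      have : g * x * g⁻¹ = x := by
        rw [hc.isMulCommutative.is_comm.comm g x, mul_inv_cancel_right]
      rwa [this]
    have hdvd : p ∣ Nat.card H := by
      by_contra h
      exact hnc (Lib.H64Basic.isPClosed_of_not_dvd h)
    refine (min_le_right _ _).trans ?_
    rcases Cfsg.Agent.S0999.result hcyc p hp.out hdvd hbig with ⟨F, _, _, hF, hp3, ⟨e⟩⟩ | ⟨k, F, _, _, hF, hpk, hp3, ⟨e⟩⟩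
    · rw [Nat.card_congr e.toEquiv]
      have hodd : Odd (Fintype.card F) := by
        rw [hF]; exact hp.out.odd_of_ne_two (by omega)
      have h1 := Lib.ClSL2Syl.card_PSL2 (F := F) hodd
      rw [hF] at h1
      omega
    · rw [Nat.card_congr e.toEquiv]
      have hq : Fintype.card F = p - 1 := by rw [hF]; omega
      have h1 := Lib.ClSLn.card_PSL_formula (F := F) hq 2 (by norm_num)
      have hk0 : k ≠ 0 := by
        rintro rfl
        norm_num at hpk
        omega
      have hg : Nat.gcd 2 (p - 1 - 1) = 1 := by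
        have h2 : ¬ 2 ∣ p - 1 - 1 := by
          have h3 : 2 ∣ 2 ^ k := dvd_pow_self 2 hk0
          have h4 : 2 ≤ 2 ^ k := Nat.le_of_dvd (by positivity) h3
          omega
        exact (Nat.Prime.coprime_iff_not_dvd Nat.prime_two).2 h2
      rw [hg, one_mul, Finset.prod_range_succ, Finset.prod_range_one] at h1
      norm_num at h1
      have h5 : Nat.card (Matrix.ProjectiveSpecialLinearGroup (Fin 2) F) = (p - 1) * ((p - 1) ^ 2 - 1) := by
        have h6 : 0 < p - 1 - 1 := by omega
        apply Nat.eq_of_mul_eq_mul_left h6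
        rw [h1]; ring
      rw [h5]
      refine even_case ?_
      have : p ≠ 4 := by rintro rfl; exact absurd hp.out (by norm_num)
      omega
  · obtain ⟨q, hq, hqp, hcard, -⟩ := Cfsg.Agent.S3868.result hnc hsub hquo hs
    rw [hcard]
    refine (min_le_left _ _).trans ?_
    gcongr
    have hu : IsUnit (q : ZMod p) := by
      rw [ZMod.isUnit_iff_coprime]
      exact (Nat.coprime_primes hq hp.out).2 hqp
    have h0 : 0 < orderOf (q : ZMod p) := by
      obtain ⟨u, hu⟩ := hu
      rw [← hu, orderOf_units]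
      exact orderOf_pos u
    refine hleast _ (hq.isPrimePow.pow h0.ne') ?_
    have h1 : ((q ^ orderOf (q : ZMod p) : ℕ) : ZMod p) = ((1 : ℕ) : ZMod p) := by
      push_cast
      exact pow_orderOf_eq_one _
    rw [ZMod.natCast_eq_natCast_iff'] at h1
    rw [h1, Nat.mod_eq_of_lt hp.out.one_lt]

/-- groups of order `p * m` -/
theorem exists_affine {p : ℕ} [hp : Fact p.Prime] {m : ℕ} (hm : IsPrimePow m) (hm1 : m % p = 1) :
    ∃ (H : Type) (_ : Group H) (_ : Finite H), Nat.card H = p * m ∧ ¬ Cfsg.IsPClosed p H := by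
  obtain ⟨r, a, hr, ha, rfl⟩ := hm
  have hr' : r.Prime := hr.nat_prime
  have := Fact.mk hr'
  let K := GaloisField r a
  have hK : Nat.card K = r ^ a := GaloisField.card r a ha.ne'
  have hpd : p ∣ Nat.card Kˣ := by
    have h1 : Nat.card Kˣ = r ^ a - 1 := by rw [Nat.card_units, hK]
    rw [h1]
    exact (Nat.modEq_iff_dvd' (Nat.one_le_pow _ _ hr'.pos)).1
      (by show 1 % p = r ^ a % p; rw [hm1, Nat.mod_eq_of_lt hp.out.one_lt])
  have hKfin : Finite K := Nat.finite_of_card_ne_zero (by rw [hK]; exact (pow_pos hr'.pos a).ne')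
  obtain ⟨ζ, hζ⟩ := exists_prime_orderOf_dvd_card' p hpd
  let Z : Subgroup Kˣ := zpowers ζ
  let φ : Z →* MulAut (Multiplicative K) :=
    ((MulAutMultiplicative K).symm.toMonoidHom.comp (DistribMulAction.toAddAut Kˣ K)).comp Z.subtype
  have hφ : ∀ (z : Z) (x : K), φ z (Multiplicative.ofAdd x) = Multiplicative.ofAdd (((z : Kˣ) : K) * x) := fun _ _ => rfl
  have hZ : Nat.card Z = p := by rw [Nat.card_zpowers, hζ]
  have hcard : Nat.card (Multiplicative K ⋊[φ] Z) = p * r ^ a := by
    rw [SemidirectProduct.card, hZ, mul_comm, Nat.card_congr Multiplicative.toAdd, hK]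
  refine ⟨Multiplicative K ⋊[φ] Z, inferInstance, Nat.finite_of_card_ne_zero (by rw [hcard]; exact mul_ne_zero hp.out.ne_zero (pow_pos hr'.pos a).ne'), hcard, ?_⟩
  intro hcl
  have hfin : Finite (Multiplicative K ⋊[φ] Z) := Nat.finite_of_card_ne_zero (by rw [hcard]; exact mul_ne_zero hp.out.ne_zero (pow_pos hr'.pos a).ne')
  -- a Sylow `p`-subgroup containing `ζ`
  let z : Z := ⟨ζ, mem_zpowers ζ⟩
  have hpg : IsPGroup p (SemidirectProduct.inr : Z →* Multiplicative K ⋊[φ] Z).range := by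
    refine IsPGroup.of_card (n := 1) ?_
    rw [Nat.card_congr (MonoidHom.ofInjective SemidirectProduct.inr_injective).symm.toEquiv, hZ, pow_one]
  obtain ⟨P, hP⟩ := hpg.exists_le_sylow
  have hPn := hcl P
  have hpna : ¬ p ∣ r ^ a := by
    intro h
    rw [Nat.dvd_iff_mod_eq_zero, hm1] at h
    exact one_ne_zero h
  have hN : ((SemidirectProduct.inl : Multiplicative K →* Multiplicative K ⋊[φ] Z).range).Normal := by
    rw [SemidirectProduct.range_inl_eq_ker_rightHom]
    infer_instance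
  have hdisj : Disjoint (P : Subgroup (Multiplicative K ⋊[φ] Z)) (SemidirectProduct.inl : Multiplicative K →* Multiplicative K ⋊[φ] Z).range := by
    rw [disjoint_iff]
    apply Subgroup.inf_eq_bot_of_coprime
    obtain ⟨k, hk⟩ := P.2.exists_card_eq
    rw [hk, Nat.card_congr (MonoidHom.ofInjective SemidirectProduct.inl_injective).symm.toEquiv,
      Nat.card_congr Multiplicative.toAdd, hK]
    exact Nat.Coprime.pow_left _ ((hp.out.coprime_iff_not_dvd).2 hpna)
  have hcomm := Subgroup.commute_of_normal_of_disjoint _ _ hPn hN hdisj (SemidirectProduct.inr z)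
    (SemidirectProduct.inl (Multiplicative.ofAdd (1 : K))) (hP ⟨z, rfl⟩) ⟨_, rfl⟩
  have h1 : (SemidirectProduct.inl (φ z (Multiplicative.ofAdd (1 : K))) : Multiplicative K ⋊[φ] Z) =
      SemidirectProduct.inl (Multiplicative.ofAdd (1 : K)) := by
    rw [SemidirectProduct.inl_aut, hcomm.eq, mul_assoc]
    have h5 : (SemidirectProduct.inr z : Multiplicative K ⋊[φ] Z) * SemidirectProduct.inr z⁻¹ = 1 := by
      rw [← map_mul, mul_inv_cancel, map_one]
    rw [h5, mul_one]
  have h2 := SemidirectProduct.inl_injective h1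
  rw [hφ] at h2
  have h3 : ((ζ : Kˣ) : K) * 1 = 1 := Multiplicative.ofAdd.injective h2
  rw [mul_one] at h3
  have h4 : ζ = 1 := Units.ext h3
  rw [h4, orderOf_one] at hζ
  exact hp.out.one_lt.ne hζ

theorem exists_psl {p : ℕ} [hp : Fact p.Prime] (hp5 : 5 ≤ p) :
    ∃ (H : Type) (_ : Group H) (_ : Finite H), Nat.card H = p * (p ^ 2 - 1) / 2 ∧ ¬ Cfsg.IsPClosed p H := by
  have hF : Fintype.card (ZMod p) = p := ZMod.card p
  have hodd : Odd (Fintype.card (ZMod p)) := by
    rw [hF]; exact hp.out.odd_of_ne_two (by omega)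
  have h1 := Lib.ClSL2Syl.card_PSL2 (F := ZMod p) hodd
  rw [hF] at h1
  have hs : IsSimpleGroup (Matrix.ProjectiveSpecialLinearGroup (Fin 2) (ZMod p)) := by
    refine Lib.ClSLn.isSimpleGroup_PSL le_rfl fun _ => ⟨2, ?_, ?_⟩
    · have : ((2 : ℕ) : ZMod p) ≠ 0 := by
        rw [Ne, ZMod.natCast_eq_zero_iff]
        intro h
        have := Nat.le_of_dvd (by norm_num) h
        omega
      exact_mod_cast this
    · intro h
      have : ((3 : ℕ) : ZMod p) = 0 := by
        push_cast
        linear_combination h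
      rw [ZMod.natCast_eq_zero_iff] at this
      have := Nat.le_of_dvd (by norm_num) this
      omega
  refine ⟨Matrix.ProjectiveSpecialLinearGroup (Fin 2) (ZMod p), inferInstance, inferInstance, by omega, ?_⟩
  intro hcl
  obtain ⟨P⟩ : Nonempty (Sylow p (Matrix.ProjectiveSpecialLinearGroup (Fin 2) (ZMod p))) := inferInstance
  have hcop : Nat.Coprime (p ^ 2 - 1) p := by
    rw [Nat.coprime_comm, hp.out.coprime_iff_not_dvd]
    intro h
    have h3 : p ∣ p ^ 2 := dvd_pow_self p (by norm_num)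
    have h4 : p ∣ p ^ 2 - (p ^ 2 - 1) := Nat.dvd_sub h3 h
    have h5 : p ^ 2 - (p ^ 2 - 1) = 1 := by
      have : 1 ≤ p ^ 2 := Nat.one_le_pow _ _ (by omega)
      omega
    rw [h5] at h4
    exact hp.out.one_lt.ne' (Nat.dvd_one.1 h4)
  obtain ⟨k, hk⟩ := P.2.exists_card_eq
  rcases hs.eq_bot_or_eq_top_of_normal _ (hcl P) with h | h
  · -- `p` divides the order
    have h2 : p ∣ Nat.card (Matrix.ProjectiveSpecialLinearGroup (Fin 2) (ZMod p)) := by
      have h3 : p ∣ 2 * Nat.card (Matrix.ProjectiveSpecialLinearGroup (Fin 2) (ZMod p)) := by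
        rw [h1]; exact dvd_mul_right _ _
      rcases hp.out.dvd_mul.1 h3 with h4 | h4
      · have := Nat.le_of_dvd (by norm_num) h4
        omega
      · exact h4
    have h3 := P.dvd_card_of_dvd_card h2
    rw [h, card_bot] at h3
    exact hp.out.one_lt.ne' (Nat.dvd_one.1 h3)
  · rw [h, card_top] at hk
    rw [hk] at h1
    have h2 : p ^ 2 - 1 ∣ 2 * p ^ k := by rw [h1]; exact dvd_mul_left _ _
    have h3 : p ^ 2 - 1 ∣ 2 := (Nat.Coprime.pow_right k hcop).dvd_of_dvd_mul_right h2
    have h4 := Nat.le_of_dvd (by norm_num) h3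
    have h5 : 5 ^ 2 ≤ p ^ 2 := Nat.pow_le_pow_left hp5 2
    omega

/-- Let p be an odd prime and let m be the least prime power congruent to 1 modulo p. Then the least order of a finite group whose Sylow p-subgroups are not normal is the smaller of p · m and p(p² − 1)/2: every finite group whose Sylow p-subgroups are not normal has at least that order, and some group of exactly that order has non-normal Sylow p-subgroups. -/
theorem result (p : ℕ) [Fact p.Prime] (hp : p ≠ 2) (m : ℕ) (hm : IsPrimePow m) (hm1 : m % p = 1)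
    (hleast : ∀ k : ℕ, IsPrimePow k → k % p = 1 → m ≤ k) :
    (∀ (H : Type) [Group H] [Finite H], ¬ Cfsg.IsPClosed p H → min (p * m) (p * (p ^ 2 - 1) / 2) ≤ Nat.card H) ∧
      ∃ (H : Type) (_ : Group H) (_ : Finite H), Nat.card H = min (p * m) (p * (p ^ 2 - 1) / 2) ∧ ¬ Cfsg.IsPClosed p H := by
  refine ⟨fun H _ _ h => lower hleast _ H rfl h, ?_⟩
  by_cases h : p * m ≤ p * (p ^ 2 - 1) / 2
  · rw [min_eq_left h]
    exact exists_affine hm hm1
  · rw [min_eq_right (not_le.1 h).le]
    refine exists_psl ?_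
    have hpp : p.Prime := Fact.out
    by_contra hlt
    push Not at hlt
    have h2 := hpp.two_le
    have h4 : p ≠ 4 := by rintro rfl; exact absurd hpp (by norm_num)
    have h3 : p = 3 := by omega
    subst h3
    apply h
    have : m ≤ 4 := hleast 4 (by
      have : IsPrimePow (2 ^ 2) := Nat.prime_two.isPrimePow.pow (by norm_num)
      norm_num at this
      exact this) (by norm_num)
    norm_num
    omega

end Cfsg.Agent.S3875
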