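import Cfsg.Statements.S3889
import Cfsg.Agent.Lib.MinCover2

set_option autoImplicit false
open Cfsg

namespace Cfsg.Agent.S3889

theorem result {G : Type*} [CommGroup G] [Finite G] (𝓑 : Set (Subgroup G)) (hprop : ∀ B ∈ 𝓑, B ≠ ⊤)
    (hcov : ∀ g : G, ∃ B ∈ 𝓑, g ∈ B) (hdisj : ∀ B ∈ 𝓑, ∀ C ∈ 𝓑, B ≠ C → B ⊓ C = ⊥) :
    (Monoid.exponent G).Prime := by
  obtain ⟨n, hn, h⟩ := Cfsg.Agent.Lib.MinCover2.partition_orderOf (⊤ : Subgroup G)
    (fun x _ y _ => mul_comm x y) 𝓑 (fun B hB h => hprop B hB (top_le_iff.1 h))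
    (fun g _ => hcov g) (fun B hB C hC hne x _ hxB hxC => by
      have : x ∈ B ⊓ C := ⟨hxB, hxC⟩
      rwa [hdisj B hB C hC hne, Subgroup.mem_bot] at this)
  obtain ⟨B, hB, -⟩ := hcov 1
  obtain ⟨w, hw⟩ : ∃ w : G, w ∉ B := by
    by_contra hcon
    push Not at hcon
    exact hprop B hB ((Subgroup.eq_top_iff' B).2 hcon)
  have hw1 : w ≠ 1 := by rintro rfl; exact hw B.one_mem
  have h1 : Monoid.exponent G ∣ n := by
    rw [Monoid.exponent_dvd_iff_forall_pow_eq_one]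
    intro g
    by_cases hg : g = 1
    · rw [hg, one_pow]
    · rw [← h g trivial hg, pow_orderOf_eq_one]
  have h2 : n ∣ Monoid.exponent G := by
    rw [← h w trivial hw1]
    exact Monoid.order_dvd_exponent w
  rw [Nat.dvd_antisymm h1 h2]
  exact hn

end Cfsg.Agent.S3889
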