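import Cfsg.Statements.S3890
import Cfsg.Agent.Lib.MinCover2

set_option autoImplicit false
open Cfsg

namespace Cfsg.Agent.S3890

open Cfsg.Agent.Lib.MinCover Cfsg.Agent.Lib.MinCover2 Subgroup

theorem result {G : Type*} [Group G] [Finite G] (hZ : Subgroup.center G = ⊥) (𝓐 : Finset (Subgroup G))
    (h𝓐 : ((∀ A ∈ 𝓐, A ≠ ⊤) ∧ (∀ g : G, ∃ A ∈ 𝓐, g ∈ A)) ∧ (∀ 𝓑 : Finset (Subgroup G), (∀ A ∈ 𝓑, A ≠ ⊤) ∧ (∀ g : G, ∃ A ∈ 𝓑, g ∈ A) → 𝓐.card ≤ 𝓑.card) ∧ (∀ A ∈ 𝓐, Group.IsNilpotent ↥A)) {p : ℕ} [Fact p.Prime] (P : Sylow p G) (hab : IsMulCommutative ↥(P : Subgroup G))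
    (hnn : ¬ (P : Subgroup G).Normal) :
    (Cfsg.IsElementaryAbelian p (P : Subgroup G) ∧ p < Nat.card ↥(P : Subgroup G)) ∨
    (∃ A ∈ 𝓐, (P : Subgroup G) ≤ A ∧ ¬ p ∣ ((P : Subgroup G).subgroupOf A).index ∧
      IsCoatom (Subgroup.normalizer ((P : Subgroup G) : Set G)) ∧
      (∀ g : G, g ∉ Subgroup.normalizer ((P : Subgroup G) : Set G) →
        ¬ p ∣ Nat.card ↥(Subgroup.normalizer ((P : Subgroup G) : Set G) ⊓
          (Subgroup.normalizer ((P : Subgroup G) : Set G)).map (MulAut.conj g).toMonoidHom)) ∧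
      Subgroup.centralizer ((P : Subgroup G) : Set G) = A) := by
  have hP1 : (P : Subgroup G) ≠ ⊥ := by
    intro h; apply hnn; rw [h]; infer_instance
  by_cases hE : Cfsg.IsElementaryAbelian p (P : Subgroup G) ∧ p < Nat.card ↥(P : Subgroup G)
  · exact Or.inl hE
  right
  obtain ⟨A, hA, hPA⟩ := (le_member_or hZ h𝓐 P hab hP1).resolve_right hE
  have hAC := centralizer_eq hZ h𝓐 P hab hP1 hA hPA
  have hNtop : normalizer ((P : Subgroup G) : Set G) ≠ ⊤ := by
    intro h
    exact hnn (normalizer_eq_top_iff.1 h)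
  refine ⟨A, hA, hPA, ?_, ⟨hNtop, ?_⟩, ?_, hAC⟩
  · have : ((P.subtype hPA : Sylow p A) : Subgroup A) = (P : Subgroup G).subgroupOf A := rfl
    rw [← this]
    exact (P.subtype hPA).not_dvd_index
  · intro M hM
    by_contra hMtop
    have h1 := le_normalizer_of_le hZ h𝓐 P hab hP1 hE M hMtop
      ((centralizer_le_normalizer _).trans hM.le)
    exact absurd h1 (not_le_of_gt hM)
  · intro g hg hdvd
    obtain ⟨x, hx⟩ := exists_prime_orderOf_dvd_card' p hdvd
    have hxo : orderOf (x : G) = p := by rw [Subgroup.orderOf_coe, hx]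
    have hx1 : (x : G) ≠ 1 := by
      intro h; rw [h, orderOf_one] at hxo; exact (Fact.out : p.Prime).one_lt.ne hxo
    -- elements of order p of the normaliser lie in P
    have hmem : ∀ y : G, y ∈ normalizer ((P : Subgroup G) : Set G) → orderOf y = p →
        y ∈ (P : Subgroup G) := by
      intro y hy hyo
      have hyp : IsPGroup p ↥(zpowers y) := IsPGroup.of_card (n := 1) (by
        rw [Nat.card_zpowers, hyo, pow_one])
      have hsup : IsPGroup p ↥((P : Subgroup G) ⊔ (zpowers y : Subgroup G)) :=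
        IsPGroup.to_sup_of_normal_left' P.2 hyp (zpowers_le.2 hy)
      have := P.is_maximal' hsup le_sup_left
      exact this ▸ (le_sup_right (b := zpowers y) (mem_zpowers y))
    have hxP : (x : G) ∈ (P : Subgroup G) := hmem _ x.2.1 hxo
    obtain ⟨y, hy, hyx⟩ := x.2.2
    have hyx' : g * y * g⁻¹ = (x : G) := by
      rw [← hyx]; simp [MulAut.conj_apply]
    have hyo : orderOf y = p := by
      rw [← hxo, ← hyx', Cfsg.Agent.Lib.PiClasses2.orderOf_conj]
    have hyP := hmem y hy hyo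
    -- the conjugate of P
    let P' : Sylow p G := g • P
    have e : ↥(P : Subgroup G) ≃* ↥(P' : Subgroup G) :=
      (P : Subgroup G).equivMapOfInjective _ (MulAut.conj g).injective
    have hab' : IsMulCommutative ↥(P' : Subgroup G) := by
      constructor; constructor
      intro a b
      obtain ⟨a, rfl⟩ := e.surjective a
      obtain ⟨b, rfl⟩ := e.surjective b
      rw [← map_mul, ← map_mul, hab.is_comm.comm]
    have hcard : Nat.card ↥(P' : Subgroup G) = Nat.card ↥(P : Subgroup G) :=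
      (Nat.card_congr e.toEquiv).symm
    have hP1' : (P' : Subgroup G) ≠ ⊥ := by
      intro h
      apply hP1
      rw [← Subgroup.card_eq_one, ← hcard, h, Subgroup.card_bot]
    have hE' : ¬ (Cfsg.IsElementaryAbelian p (P' : Subgroup G) ∧
        p < Nat.card ↥(P' : Subgroup G)) := by
      rintro ⟨⟨-, h1⟩, h2⟩
      apply hE
      refine ⟨⟨hab, ?_⟩, by rwa [hcard] at h2⟩
      intro a ha
      have := h1 (g * a * g⁻¹) ⟨a, ha, by simp [MulAut.conj_apply]⟩
      rw [conj_pow] at this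
      have h3 := congrArg (fun t => g⁻¹ * t * g) this
      simpa [mul_assoc] using h3
    obtain ⟨B, hB, hPB⟩ := (le_member_or hZ h𝓐 P' hab' hP1').resolve_right hE'
    have hxP' : (x : G) ∈ (P' : Subgroup G) := ⟨y, hyP, hyx⟩
    have hAB : A = B := by
      by_contra hne
      exact hx1 (eq_one_of_mem hZ h𝓐 P hab hA hB hne (hPA hxP) (hPB hxP')
        ⟨1, by rw [hxo, pow_one]⟩)
    subst hAB
    apply hg
    rw [mem_normalizer_iff_map_conj_eq]
    have hP'C : (P' : Subgroup G) ≤ normalizer ((P : Subgroup G) : Set G) := by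
      refine hPB.trans ?_
      rw [← hAC]
      exact centralizer_le_normalizer _
    have hsup : IsPGroup p ↥((P : Subgroup G) ⊔ (P' : Subgroup G)) :=
      IsPGroup.to_sup_of_normal_left' P.2 P'.2 hP'C
    have hPP' : (P' : Subgroup G) = P := by
      rw [← P.is_maximal' hsup le_sup_left]
      exact (P'.is_maximal' hsup le_sup_right).symm
    exact hPP'

end Cfsg.Agent.S3890
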