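import Cfsg.Statements.S3891
import Cfsg.Agent.Lib.MinCover2

set_option autoImplicit false
open Cfsg

namespace Cfsg.Agent.S3891

open Cfsg.Agent.Lib.MinCover Cfsg.Agent.Lib.MinCover2 Subgroup

theorem result {G : Type*} [Group G] [Finite G] (hZ : Subgroup.center G = ⊥) (𝓐 : Finset (Subgroup G))
    (h𝓐 : ((∀ A ∈ 𝓐, A ≠ ⊤) ∧ (∀ g : G, ∃ A ∈ 𝓐, g ∈ A)) ∧ (∀ 𝓑 : Finset (Subgroup G), (∀ A ∈ 𝓑, A ≠ ⊤) ∧ (∀ g : G, ∃ A ∈ 𝓑, g ∈ A) → 𝓐.card ≤ 𝓑.card) ∧ (∀ A ∈ 𝓐, Group.IsNilpotent ↥A)) {p : ℕ} [Fact p.Prime] (P : Sylow p G)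
    (hP : IsCyclic ↥(P : Subgroup G) ∨ (IsMulCommutative ↥(P : Subgroup G) ∧ ¬ Cfsg.IsElementaryAbelian p (P : Subgroup G)))
    (hnn : ¬ (P : Subgroup G).Normal) :
    Group.IsNilpotent ↥(Subgroup.centralizer ((P : Subgroup G) : Set G)) ∧
      IsCoatom (Subgroup.normalizer ((P : Subgroup G) : Set G)) ∧
      ∀ M : Subgroup G, IsCoatom M → Subgroup.centralizer ((P : Subgroup G) : Set G) ≤ M →
        M = Subgroup.normalizer ((P : Subgroup G) : Set G) := by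
  have hP1 : (P : Subgroup G) ≠ ⊥ := by
    intro h; apply hnn; rw [h]; infer_instance
  have hab : IsMulCommutative ↥(P : Subgroup G) := by
    rcases hP with h | h
    · exact ⟨⟨fun a b => (IsCyclic.commGroup (α := ↥(P : Subgroup G))).mul_comm a b⟩⟩
    · exact h.1
  have hE : ¬ (Cfsg.IsElementaryAbelian p (P : Subgroup G) ∧ p < Nat.card ↥(P : Subgroup G)) := by
    rintro ⟨h1, h2⟩
    rcases hP with h | h
    · obtain ⟨g, hg⟩ := h.exists_generator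
      have h3 : orderOf g = Nat.card ↥(P : Subgroup G) := orderOf_eq_card_of_forall_mem_zpowers hg
      have h4 : g ^ p = 1 := Subtype.ext (h1.2 g g.2)
      have h5 := Nat.le_of_dvd (Fact.out : p.Prime).pos (orderOf_dvd_of_pow_eq_one h4)
      omega
    · exact h.2 h1
  obtain ⟨A, hA, hPA⟩ := (le_member_or hZ h𝓐 P hab hP1).resolve_right hE
  have hAC := centralizer_eq hZ h𝓐 P hab hP1 hA hPA
  have hNtop : normalizer ((P : Subgroup G) : Set G) ≠ ⊤ := by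
    intro h
    exact hnn (normalizer_eq_top_iff.1 h)
  refine ⟨?_, ⟨hNtop, ?_⟩, ?_⟩
  · rw [hAC]; exact h𝓐.2.2 A hA
  · intro M hM
    by_contra hMtop
    have h1 := le_normalizer_of_le hZ h𝓐 P hab hP1 hE M hMtop
      ((centralizer_le_normalizer _).trans hM.le)
    exact absurd h1 (not_le_of_gt hM)
  · intro M hM hCM
    have h1 := le_normalizer_of_le hZ h𝓐 P hab hP1 hE M hM.1 hCM
    by_contra hne
    exact hNtop (hM.2 _ (lt_of_le_of_ne h1 hne))

end Cfsg.Agent.S3891
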