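import Cfsg.Statements.S3892
import Cfsg.Agent.Lib.MinCover2

set_option autoImplicit false
open Cfsg

namespace Cfsg.Agent.S3892

open Cfsg.Agent.Lib.MinCover Cfsg.Agent.Lib.MinCover2 Subgroup

theorem comm_of_not_sq_dvd {G : Type*} [Group G] [Finite G] {p : ℕ} [hp : Fact p.Prime]
    (h : ¬ p ^ 2 ∣ Nat.card G) (P : Sylow p G) : IsMulCommutative ↥(P : Subgroup G) := by
  obtain ⟨k, hk⟩ := P.2.exists_card_eq
  have hk1 : k ≤ 1 := by
    by_contra hlt
    push Not at hlt
    apply h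
    exact (pow_dvd_pow p hlt).trans (hk ▸ card_subgroup_dvd_card _)
  have hcyc : IsCyclic ↥(P : Subgroup G) := by
    interval_cases k
    · have : Subsingleton ↥(P : Subgroup G) := by
        rw [pow_zero] at hk
        exact (Nat.card_eq_one_iff_unique.1 hk).1
      infer_instance
    · rw [pow_one] at hk
      exact isCyclic_of_prime_card hk
  exact ⟨⟨fun a b => (IsCyclic.commGroup (α := ↥(P : Subgroup G))).mul_comm a b⟩⟩

/-- members containing an element of order `p` centralise it, if `p²` does not divide `|G|` -/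
theorem good {G : Type*} [Group G] [Finite G] {𝓐 : Finset (Subgroup G)} (h𝓐 : IsNMC 𝓐)
    {p : ℕ} (hp : p.Prime) (h : ¬ p ^ 2 ∣ Nat.card G) {x : G} (hx : orderOf x = p) :
    ∀ A ∈ 𝓐, x ∈ A → A ≤ centralizer {x} := by
  intro A hA hxA a ha
  have := Fact.mk hp
  obtain ⟨P⟩ : Nonempty (Sylow p G) := inferInstance
  rw [mem_centralizer_singleton_iff]
  exact mem_centralizer_of_mem h𝓐 P (comm_of_not_sq_dvd h P) hA hxA ⟨1, by rw [hx, pow_one]⟩ ha

/-- lower bound for the size of a nilpotent minimal cover -/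
theorem lower_bound {G : Type*} [Group G] [Finite G] {𝓐 : Finset (Subgroup G)} (h𝓐 : IsNMC 𝓐)
    (T : Finset G) (hT : ∀ x ∈ T, ∀ y ∈ T, x ≠ y → x * y ≠ y * x ∧
      ((∀ A ∈ 𝓐, x ∈ A → A ≤ centralizer {x}) ∨ (∀ A ∈ 𝓐, y ∈ A → A ≤ centralizer {y}))) :
    T.card ≤ 𝓐.card := by
  choose f hf hxf using h𝓐.1.2
  apply Finset.card_le_card_of_injOn f (fun x _ => hf x)
  intro x hx y hy hxy
  by_contra hne
  obtain ⟨h1, h2⟩ := hT x hx y hy hne
  rcases h2 with h2 | h2
  · have := h2 (f x) (hf x) (hxf x) (hxy ▸ hxf y)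
    rw [mem_centralizer_singleton_iff] at this
    exact h1 this.symm
  · have := h2 (f y) (hf y) (hxf y) (hxy ▸ hxf x)
    rw [mem_centralizer_singleton_iff] at this
    exact h1 this

theorem not_sq_dvd_factorial {n p : ℕ} (hp : p.Prime) (h2 : n < 2 * p) (hp2 : 2 < p) :
    ¬ p ^ 2 ∣ n.factorial := by
  rw [hp.pow_dvd_factorial_iff (b := 2) (by
    apply Nat.log_lt_of_lt_pow' (by norm_num)
    nlinarith)]
  simp only [not_le]
  rw [show Finset.Ico 1 2 = {1} from rfl, Finset.sum_singleton, pow_one]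
  rw [Nat.div_lt_iff_lt_mul hp.pos]
  omega

/-- `n ≥ 6`. -/
theorem large {n : ℕ} (hn : 6 ≤ n) {G : Type*} [Group G] (φ : G →* Equiv.Perm (Fin n))
    (hφ : Function.Injective φ) (hr : alternatingGroup (Fin n) ≤ φ.range)
    (𝓐 : Finset (Subgroup G)) : ¬ IsNMC 𝓐 := by
  intro h𝓐
  have hfin : Finite G := Finite.of_injective φ hφ
  obtain ⟨p, hp, hlt, hle⟩ := Nat.exists_prime_lt_and_le_two_mul (n / 2) (by omega)
  have hpn : p < n := by
    rcases Nat.lt_or_ge p n with h | h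
    · exact h
    · exfalso
      have h1 : p = 2 * (n / 2) := by omega
      have h2 : 2 ∣ p := ⟨_, h1⟩
      have h3 := (Nat.prime_dvd_prime_iff_eq Nat.prime_two hp).1 h2
      omega
  have h2p : n < 2 * p := by omega
  have hp5 : 5 ≤ p := by
    have h4 : 3 < p := by omega
    rcases Nat.lt_or_ge p 5 with h | h
    · exfalso
      have h5 : p = 4 := by omega
      rw [h5] at hp
      exact absurd hp (by norm_num)
    · exact h
  have := Fact.mk hp
  have hcardn : Nat.card (Equiv.Perm (Fin n)) = n.factorial := by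
    rw [Nat.card_eq_fintype_card, Fintype.card_perm, Fintype.card_fin]
  have hsq : ¬ p ^ 2 ∣ Nat.card G := by
    intro h
    apply not_sq_dvd_factorial hp h2p (by omega)
    rw [← hcardn]
    exact h.trans (Subgroup.card_dvd_of_injective φ hφ)
  -- an element of order p in the alternating group
  have hnt : Nontrivial (Fin n) := Fin.nontrivial_iff_two_le.2 (by omega)
  have hpA : p ∣ Nat.card (alternatingGroup (Fin n)) := by
    have h1 : 2 * Nat.card (alternatingGroup (Fin n)) = Nat.card (Equiv.Perm (Fin n)) :=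
      two_mul_nat_card_alternatingGroup
    have h2 : p ∣ 2 * Nat.card (alternatingGroup (Fin n)) := by
      rw [h1, hcardn]; exact (hp.dvd_factorial).2 hpn.le
    rcases (Nat.Prime.dvd_mul hp).1 h2 with h | h
    · have := Nat.le_of_dvd (by norm_num) h
      omega
    · exact h
  obtain ⟨x0, hx0⟩ := exists_prime_orderOf_dvd_card' p hpA
  set σ : Equiv.Perm (Fin n) := (x0 : Equiv.Perm (Fin n)) with hσ
  have hσo : orderOf σ = p := by rw [hσ, Subgroup.orderOf_coe, hx0]
  have hcyc : σ.IsCycle := by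
    apply Equiv.Perm.isCycle_of_prime_order' (by rw [hσo]; exact hp)
    rw [Fintype.card_fin, hσo]
    omega
  have hcard : σ.support.card = p := by rw [← hcyc.orderOf, hσo]
  obtain ⟨g, hg⟩ := hr x0.2
  rw [← hσ] at hg
  have hgo : orderOf g = p := by
    rw [← hσo, ← hg]
    exact (orderOf_injective φ hφ g).symm
  obtain ⟨a, ha, -⟩ := id hcyc
  have hpow : ∀ k : ℕ, 0 < k → k < p → (σ ^ k) a ≠ a := by
    intro k hk0 hkp h
    have h1 : σ ^ k = 1 := hcyc.pow_eq_one_iff.2 ⟨a, ha, h⟩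
    have h2 := Nat.le_of_dvd hk0 (orderOf_dvd_of_pow_eq_one h1)
    omega
  have h01 : σ a ≠ a := ha
  have h02 : σ (σ a) ≠ a := hpow 2 (by norm_num) (by omega)
  have h03 : σ (σ (σ a)) ≠ a := hpow 3 (by norm_num) (by omega)
  have h12 : σ (σ a) ≠ σ a := fun h => h01 (σ.injective h)
  set t : Equiv.Perm (Fin n) := Equiv.swap a (σ a) * Equiv.swap (σ a) (σ (σ a)) with ht
  have t0 : t a = σ a := by
    rw [ht, Equiv.Perm.mul_apply, Equiv.swap_apply_of_ne_of_ne h01.symm h02.symm,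
      Equiv.swap_apply_left]
  have t1 : t (σ a) = σ (σ a) := by
    rw [ht, Equiv.Perm.mul_apply, Equiv.swap_apply_left,
      Equiv.swap_apply_of_ne_of_ne h02 h12]
  have t2 : t (σ (σ a)) = a := by
    rw [ht, Equiv.Perm.mul_apply, Equiv.swap_apply_right, Equiv.swap_apply_right]
  have htA : t ∈ alternatingGroup (Fin n) := by
    rw [Equiv.Perm.mem_alternatingGroup, ht, Equiv.Perm.sign_mul, Equiv.Perm.sign_swap h01.symm,
      Equiv.Perm.sign_swap h12.symm]
    rfl
  obtain ⟨h, hh⟩ := hr htA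
  let Y : Subgroup G :=
    { carrier := {u | ∀ i, φ u i ∈ σ.support ↔ i ∈ σ.support}
      one_mem' := by intro i; simp
      mul_mem' := by
        intro u v hu hv i
        rw [map_mul, Equiv.Perm.mul_apply, hu, hv]
      inv_mem' := by
        intro u hu i
        have := hu (φ u⁻¹ i)
        rw [← this, ← Equiv.Perm.mul_apply, ← map_mul, mul_inv_cancel, map_one,
          Equiv.Perm.one_apply] }
  have hY : ∀ u : G, u * g = g * u → u ∈ Y := by
    intro u hu i
    rw [Equiv.Perm.mem_support, Equiv.Perm.mem_support]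
    have h1 : φ u * σ = σ * φ u := by rw [← hg, ← map_mul, hu, map_mul]
    have h2 : σ (φ u i) = φ u (σ i) := by
      rw [← Equiv.Perm.mul_apply, ← h1, Equiv.Perm.mul_apply]
    rw [h2]
    exact (φ u).injective.ne_iff
  have hhY : h ∈ Y := by
    intro i
    rw [hh]
    have hs0 : a ∈ σ.support := Equiv.Perm.mem_support.2 ha
    have hs1 : σ a ∈ σ.support := Equiv.Perm.apply_mem_support.2 hs0
    have hs2 : σ (σ a) ∈ σ.support := Equiv.Perm.apply_mem_support.2 hs1
    by_cases hi0 : i = a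
    · rw [hi0, t0]; simp only [hs0, hs1]
    by_cases hi1 : i = σ a
    · rw [hi1, t1]; simp only [hs1, hs2]
    by_cases hi2 : i = σ (σ a)
    · rw [hi2, t2]; simp only [hs0, hs2]
    · rw [ht, Equiv.Perm.mul_apply, Equiv.swap_apply_of_ne_of_ne hi1 hi2,
        Equiv.swap_apply_of_ne_of_ne hi0 hi1]
  have hYtop : Y ≠ ⊤ := by
    intro htop
    -- a point outside the support
    obtain ⟨b, hb⟩ : ∃ b, b ∉ σ.support := by
      by_contra hcon
      push Not at hcon
      have : σ.support = Finset.univ := Finset.eq_univ_iff_forall.2 hcon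
      rw [this, Finset.card_univ, Fintype.card_fin] at hcard
      omega
    have hs0 : a ∈ σ.support := Equiv.Perm.mem_support.2 ha
    have hab : a ≠ b := by rintro rfl; exact hb hs0
    have hs1 : σ a ∈ σ.support := Equiv.Perm.apply_mem_support.2 hs0
    have hb1 : b ≠ σ a := by rintro rfl; exact hb hs1
    have htA' : Equiv.swap a b * Equiv.swap b (σ a) ∈ alternatingGroup (Fin n) := by
      rw [Equiv.Perm.mem_alternatingGroup, Equiv.Perm.sign_mul, Equiv.Perm.sign_swap hab,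
        Equiv.Perm.sign_swap hb1]
      rfl
    obtain ⟨k, hk⟩ := hr htA'
    have hkY : k ∈ Y := by rw [htop]; trivial
    have h1 := (hkY a).2 hs0
    rw [hk, Equiv.Perm.mul_apply, Equiv.swap_apply_of_ne_of_ne hab h01.symm,
      Equiv.swap_apply_left] at h1
    exact hb h1
  have hgood := good h𝓐 hp hsq hgo
  have hgo' : orderOf (h * g * h⁻¹) = p := by
    rw [Cfsg.Agent.Lib.PiClasses2.orderOf_conj, hgo]
  have hgood' := good h𝓐 hp hsq hgo'
  obtain ⟨A, hA, hgA⟩ := h𝓐.1.2 g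
  obtain ⟨A', hA', hgA'⟩ := h𝓐.1.2 (h * g * h⁻¹)
  have hAA' : A = A' := by
    apply eq_of_le h𝓐 hA hA' hYtop
    · intro u hu
      have := hgood A hA hgA hu
      rw [mem_centralizer_singleton_iff] at this
      exact hY u this
    · intro u hu
      have := hgood' A' hA' hgA' hu
      rw [mem_centralizer_singleton_iff] at this
      have h1 : h⁻¹ * u * h ∈ Y := by
        apply hY
        calc h⁻¹ * u * h * g = h⁻¹ * (u * (h * g * h⁻¹)) * h := by group
          _ = h⁻¹ * (h * g * h⁻¹ * u) * h := by rw [this]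
          _ = g * (h⁻¹ * u * h) := by group
      have h2 := Y.mul_mem (Y.mul_mem hhY h1) (Y.inv_mem hhY)
      have h3 : h * (h⁻¹ * u * h) * h⁻¹ = u := by group
      rwa [h3] at h2
  subst hAA'
  have h1 := hgood A hA hgA hgA'
  rw [mem_centralizer_singleton_iff] at h1
  have h2 := congrArg φ h1
  simp only [map_mul, map_inv, hg, hh] at h2
  have h3 := congrArg (fun f : Equiv.Perm (Fin n) => f (σ a)) h2
  simp only [Equiv.Perm.mul_apply] at h3
  have i1 : t⁻¹ (σ a) = a := by rw [Equiv.Perm.inv_eq_iff_eq, t0]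
  have i2 : t⁻¹ (σ (σ a)) = σ a := by rw [Equiv.Perm.inv_eq_iff_eq, t1]
  rw [i1, i2, t1, t2] at h3
  exact h03 h3.symm

/-- upper bound from an explicit cover -/
theorem upper_bound {G : Type*} [Group G] [Finite G] {𝓐 : Finset (Subgroup G)} (h𝓐 : IsNMC 𝓐)
    (L : List (Subgroup G)) (h1 : ∀ B ∈ L, B ≠ ⊤) (h2 : ∀ g : G, ∃ B ∈ L, g ∈ B) :
    𝓐.card ≤ L.length := by
  classical
  refine (h𝓐.2.1 L.toFinset ⟨?_, ?_⟩).trans (List.toFinset_card_le L)
  · intro B hB
    exact h1 B (List.mem_toFinset.1 hB)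
  · intro g
    obtain ⟨B, hB, hg⟩ := h2 g
    exact ⟨B, List.mem_toFinset.2 hB, hg⟩

open Equiv

def c3 {n : ℕ} (a b c : Fin n) : Perm (Fin n) := swap a b * swap b c

def c5 (a b c : Fin 5) : Perm (Fin 5) := swap 0 1 * swap 1 a * swap a b * swap b c

def T5 : Finset (Perm (Fin 5)) :=
  {c5 2 3 4, c5 2 4 3, c5 3 2 4, c5 3 4 2, c5 4 2 3, c5 4 3 2,
   c3 0 1 2, c3 0 1 3, c3 0 1 4, c3 0 2 3, c3 0 2 4, c3 0 3 4, c3 1 2 3, c3 1 2 4, c3 1 3 4, c3 2 3 4}

def T5' : Finset (Perm (Fin 5)) := insert (swap 0 1 * swap 1 2 * swap 2 3) T5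

def T4 : Finset (Perm (Fin 4)) :=
  {c3 0 1 2, c3 0 1 3, c3 0 2 3, c3 1 2 3, swap 0 1 * swap 1 2 * swap 2 3}

theorem T5_card : T5.card = 16 := by decide +kernel
theorem T5'_card : T5'.card = 17 := by decide +kernel
theorem T4_card : T4.card = 5 := by decide +kernel

theorem T5_comm : ∀ x ∈ T5', ∀ y ∈ T5', x ≠ y → x * y ≠ y * x := by decide +kernel
theorem T4_comm : ∀ x ∈ T4, ∀ y ∈ T4, x ≠ y → x * y ≠ y * x := by decide +kernel

theorem T5_order : ∀ x ∈ T5, x ≠ 1 ∧ (x ^ 3 = 1 ∨ x ^ 5 = 1) := by decide +kernel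
theorem T5_alt : ∀ x ∈ T5, Perm.sign x = 1 := by decide +kernel
theorem T4_order : ∀ x ∈ T4, x = swap 0 1 * swap 1 2 * swap 2 3 ∨ (x ≠ 1 ∧ x ^ 3 = 1) := by
  decide +kernel

def sw5 : List (Perm (Fin 5)) :=
  [swap 0 1, swap 0 2, swap 0 3, swap 0 4, swap 1 2, swap 1 3, swap 1 4, swap 2 3, swap 2 4,
    swap 3 4]

theorem cover5 : ∀ g : Perm (Fin 5), Perm.sign g = 1 ∨ (∃ i, g i = i) ∨
    ∃ s ∈ sw5, g * s = s * g := by decide +kernel

theorem cover5' : ∀ g : Perm (Fin 5), Perm.sign g = 1 → (∃ i, g i = i) ∨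
    ∃ s ∈ [c5 2 3 4, c5 2 4 3, c5 3 2 4, c5 3 4 2, c5 4 2 3, c5 4 3 2], g * s = s * g := by
  decide +kernel

def dt4 : List (Perm (Fin 4)) := [swap 0 1 * swap 2 3, swap 0 2 * swap 1 3, swap 0 3 * swap 1 2]

theorem cover4 : ∀ g : Perm (Fin 4), Perm.sign g = 1 ∨
    ∃ s ∈ dt4, g * s = s * g := by decide +kernel

theorem nc5 : ∀ s ∈ sw5, ∃ g, ¬ g * s = s * g := by decide +kernel
theorem nc4 : ∀ s ∈ dt4, ∃ g, ¬ g * s = s * g := by decide +kernel
theorem nc5' : ∀ s ∈ [c5 2 3 4, c5 2 4 3, c5 3 2 4, c5 3 4 2, c5 4 2 3, c5 4 3 2],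
    Perm.sign s = 1 ∧ ¬ c3 0 1 2 * s = s * c3 0 1 2 := by decide +kernel

theorem alt_ne_top {n : ℕ} (hn : 2 ≤ n) : alternatingGroup (Fin n) ≠ ⊤ := by
  intro h
  have h1 : swap (⟨0, by omega⟩ : Fin n) ⟨1, by omega⟩ ∈ alternatingGroup (Fin n) := by
    rw [h]; trivial
  rw [Equiv.Perm.mem_alternatingGroup, Equiv.Perm.sign_swap (by simp)] at h1
  exact absurd h1 (by decide)

theorem centralizer_ne_top {G : Type*} [Group G] {s g : G} (h : ¬ g * s = s * g) :
    centralizer ({s} : Set G) ≠ ⊤ := by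
  intro htop
  have h1 : g ∈ centralizer ({s} : Set G) := by rw [htop]; trivial
  rw [mem_centralizer_singleton_iff] at h1
  exact h h1

theorem s4 (𝓐 : Finset (Subgroup (Perm (Fin 4)))) : ¬ IsNMC 𝓐 := by
  intro h𝓐
  have hcard : Nat.card (Perm (Fin 4)) = 24 := by
    rw [Nat.card_eq_fintype_card, Fintype.card_perm, Fintype.card_fin]; rfl
  have h1 : T4.card ≤ 𝓐.card := by
    apply lower_bound h𝓐
    intro x hx y hy hne
    refine ⟨T4_comm x hx y hy hne, ?_⟩
    have hg : ∀ z : Perm (Fin 4), z ≠ 1 → z ^ 3 = 1 →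
        ∀ A ∈ 𝓐, z ∈ A → A ≤ centralizer {z} := by
      intro z hz1 hz3
      exact good h𝓐 Nat.prime_three (by rw [hcard]; norm_num)
        (orderOf_eq_prime hz3 hz1)
    rcases T4_order x hx with h | ⟨h2, h3⟩
    · rcases T4_order y hy with h' | ⟨h2, h3⟩
      · exact absurd (h.trans h'.symm) hne
      · exact Or.inr (hg y h2 h3)
    · exact Or.inl (hg x h2 h3)
  have h2 := upper_bound h𝓐 (alternatingGroup (Fin 4) :: dt4.map (fun s => centralizer {s})) (by
    intro B hB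
    rw [List.mem_cons, List.mem_map] at hB
    rcases hB with rfl | ⟨s, hs, rfl⟩
    · exact alt_ne_top (by norm_num)
    · obtain ⟨g, hg⟩ := nc4 s hs
      exact centralizer_ne_top hg) (by
    intro g
    rcases cover4 g with h | ⟨s, hs, h⟩
    · exact ⟨_, List.mem_cons_self, h⟩
    · exact ⟨_, List.mem_cons_of_mem _ (List.mem_map_of_mem hs), by
        rw [mem_centralizer_singleton_iff]; exact h⟩)
  rw [T4_card] at h1
  simp [dt4] at h2
  omega

theorem stab_ne_top (i : Fin 5) : MulAction.stabilizer (Perm (Fin 5)) i ≠ ⊤ := by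
  intro h
  obtain ⟨j, hj⟩ : ∃ j : Fin 5, j ≠ i := by
    clear h; revert i; decide
  have h1 : swap i j ∈ MulAction.stabilizer (Perm (Fin 5)) i := by rw [h]; trivial
  rw [MulAction.mem_stabilizer_iff] at h1
  simp at h1
  exact hj h1

theorem fact5 : Fact (Nat.Prime 5) := ⟨Nat.prime_five⟩

theorem s5 (𝓐 : Finset (Subgroup (Perm (Fin 5)))) : ¬ IsNMC 𝓐 := by
  intro h𝓐
  have hcard : Nat.card (Perm (Fin 5)) = 120 := by
    rw [Nat.card_eq_fintype_card, Fintype.card_perm, Fintype.card_fin]; rfl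
  have h1 : T5'.card ≤ 𝓐.card := by
    apply lower_bound h𝓐
    intro x hx y hy hne
    refine ⟨T5_comm x hx y hy hne, ?_⟩
    have hg : ∀ z ∈ T5, ∀ A ∈ 𝓐, z ∈ A → A ≤ centralizer {z} := by
      intro z hz
      have := fact5
      obtain ⟨hz1, hz3 | hz5⟩ := T5_order z hz
      · exact good h𝓐 Nat.prime_three (by rw [hcard]; norm_num)
          (orderOf_eq_prime hz3 hz1)
      · exact good h𝓐 Nat.prime_five (by rw [hcard]; norm_num)
          (orderOf_eq_prime hz5 hz1)
    unfold T5' at hx hy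
    rw [Finset.mem_insert] at hx hy
    rcases hx with h | h
    · rcases hy with h' | h'
      · exact absurd (h.trans h'.symm) hne
      · exact Or.inr (hg y h')
    · exact Or.inl (hg x h)
  have h2 := upper_bound h𝓐 (alternatingGroup (Fin 5) ::
    ((List.finRange 5).map (fun i => MulAction.stabilizer (Perm (Fin 5)) i) ++
      sw5.map (fun s => centralizer {s}))) (by
    intro B hB
    rw [List.mem_cons, List.mem_append, List.mem_map, List.mem_map] at hB
    rcases hB with rfl | ⟨i, -, rfl⟩ | ⟨s, hs, rfl⟩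
    · exact alt_ne_top (by norm_num)
    · exact stab_ne_top i
    · obtain ⟨g, hg⟩ := nc5 s hs
      exact centralizer_ne_top hg) (by
    intro g
    rcases cover5 g with h | ⟨i, h⟩ | ⟨s, hs, h⟩
    · exact ⟨_, List.mem_cons_self, h⟩
    · exact ⟨_, List.mem_cons_of_mem _ (List.mem_append_left _
        (List.mem_map_of_mem (List.mem_finRange i))), h⟩
    · exact ⟨_, List.mem_cons_of_mem _ (List.mem_append_right _ (List.mem_map_of_mem hs)), by
        rw [mem_centralizer_singleton_iff]; exact h⟩)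
  rw [T5'_card] at h1
  simp [sw5] at h2
  omega

theorem a5 (𝓐 : Finset (Subgroup ↥(alternatingGroup (Fin 5)))) : ¬ IsNMC 𝓐 := by
  intro h𝓐
  have hcard : Nat.card ↥(alternatingGroup (Fin 5)) = 60 := by
    have : Nontrivial (Fin 5) := inferInstance
    rw [nat_card_alternatingGroup, Nat.card_eq_fintype_card, Fintype.card_fin]; rfl
  classical
  let T : Finset ↥(alternatingGroup (Fin 5)) := T5.subtype (· ∈ alternatingGroup (Fin 5))
  have hT : T.card = 16 := by
    rw [Finset.card_subtype, Finset.filter_true_of_mem, T5_card]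
    intro x hx
    exact T5_alt x hx
  have hmemT : ∀ x ∈ T, (x : Perm (Fin 5)) ∈ T5 := by
    intro x hx
    exact Finset.mem_subtype.1 hx
  have h1 : T.card ≤ 𝓐.card := by
    apply lower_bound h𝓐
    intro x hx y hy hne
    have hx' := hmemT x hx
    have hy' := hmemT y hy
    refine ⟨?_, ?_⟩
    · intro h
      exact T5_comm x (Finset.mem_insert_of_mem hx') y (Finset.mem_insert_of_mem hy')
        (fun h => hne (Subtype.ext h)) (congrArg Subtype.val h)
    · left
      have := fact5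
      obtain ⟨hz1, hz3 | hz5⟩ := T5_order _ hx'
      · exact good h𝓐 Nat.prime_three (by rw [hcard]; norm_num)
          (orderOf_eq_prime (Subtype.ext hz3) (fun h => hz1 (congrArg Subtype.val h)))
      · exact good h𝓐 Nat.prime_five (by rw [hcard]; norm_num)
          (orderOf_eq_prime (Subtype.ext hz5) (fun h => hz1 (congrArg Subtype.val h)))
  have h2 := upper_bound h𝓐 (
    ((List.finRange 5).map (fun i => (MulAction.stabilizer (Perm (Fin 5)) i).subgroupOf
        (alternatingGroup (Fin 5))) ++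
      [c5 2 3 4, c5 2 4 3, c5 3 2 4, c5 3 4 2, c5 4 2 3, c5 4 3 2].map
        (fun s => (centralizer {s}).subgroupOf (alternatingGroup (Fin 5))))) (by
    intro B hB
    rw [List.mem_append, List.mem_map, List.mem_map] at hB
    rcases hB with ⟨i, -, rfl⟩ | ⟨s, hs, rfl⟩
    · intro h
      rw [subgroupOf_eq_top] at h
      obtain ⟨g, hg1, hg2⟩ : ∃ g : Perm (Fin 5), Perm.sign g = 1 ∧ g i ≠ i := by
        clear h; revert i; decide +kernel
      exact hg2 (h hg1)
    · intro h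
      rw [subgroupOf_eq_top] at h
      obtain ⟨-, h4⟩ := nc5' s hs
      have h5 : c3 0 1 2 ∈ alternatingGroup (Fin 5) := by
        change Perm.sign (c3 (0 : Fin 5) 1 2) = 1
        decide +kernel
      have h6 := h h5
      rw [mem_centralizer_singleton_iff] at h6
      exact h4 h6) (by
    intro g
    rcases cover5' g g.2 with ⟨i, h⟩ | ⟨s, hs, h⟩
    · exact ⟨_, (List.mem_append_left _
        (List.mem_map_of_mem (List.mem_finRange i))), h⟩
    · exact ⟨_, (List.mem_append_right _ (List.mem_map_of_mem hs)), by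
        rw [mem_subgroupOf, mem_centralizer_singleton_iff]; exact h⟩)
  rw [hT] at h1
  simp at h2
  omega

theorem result (n : ℕ) :
    (5 ≤ n → ¬ ∃ 𝓐 : Finset (Subgroup ↥(alternatingGroup (Fin n))), ((∀ A ∈ 𝓐, A ≠ ⊤) ∧ (∀ g : ↥(alternatingGroup (Fin n)), ∃ A ∈ 𝓐, g ∈ A)) ∧ (∀ 𝓑 : Finset (Subgroup ↥(alternatingGroup (Fin n))), (∀ A ∈ 𝓑, A ≠ ⊤) ∧ (∀ g : ↥(alternatingGroup (Fin n)), ∃ A ∈ 𝓑, g ∈ A) → 𝓐.card ≤ 𝓑.card) ∧ (∀ A ∈ 𝓐, Group.IsNilpotent ↥A)) ∧
    (4 ≤ n → ¬ ∃ 𝓐 : Finset (Subgroup (Equiv.Perm (Fin n))), ((∀ A ∈ 𝓐, A ≠ ⊤) ∧ (∀ g : (Equiv.Perm (Fin n)), ∃ A ∈ 𝓐, g ∈ A)) ∧ (∀ 𝓑 : Finset (Subgroup (Equiv.Perm (Fin n))), (∀ A ∈ 𝓑, A ≠ ⊤) ∧ (∀ g : (Equiv.Perm (Fin n)), ∃ A ∈ 𝓑, g ∈ A) → 𝓐.card ≤ 𝓑.card) ∧ (∀ A ∈ 𝓐, Group.IsNilpotent ↥A)) := by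
  constructor
  · rintro hn ⟨𝓐, h𝓐⟩
    by_cases h6 : 6 ≤ n
    · exact large h6 (alternatingGroup (Fin n)).subtype (Subgroup.subtype_injective _)
        (by rw [Subgroup.range_subtype]) 𝓐 h𝓐
    · have h5 : n = 5 := by omega
      subst h5
      exact a5 𝓐 h𝓐
  · rintro hn ⟨𝓐, h𝓐⟩
    by_cases h6 : 6 ≤ n
    · exact large h6 (MonoidHom.id _) (fun _ _ h => h) (fun x _ => ⟨x, rfl⟩) 𝓐 h𝓐
    · by_cases h5 : n = 5
      · subst h5
        exact s5 𝓐 h𝓐
      · have h4 : n = 4 := by omega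
        subst h4
        exact s4 𝓐 h𝓐

end Cfsg.Agent.S3892
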