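import Cfsg.Statements.S3893
import Cfsg.Agent.Lib.MinCover

set_option autoImplicit false
open Cfsg

namespace Cfsg.Agent.S3893

open Cfsg.Agent.Lib.MinCover Subgroup Matrix

section matrixfacts

variable {F : Type*} [Field F]

def Jm (F : Type*) [Field F] : Matrix (Fin 4) (Fin 4) F :=
  !![0, 0, 0, 1; 0, 0, 1, 0; 0, 1, 0, 0; 1, 0, 0, 0]

theorem Jm_mul_Jm : Jm F * Jm F = 1 := by
  ext i j
  fin_cases i <;> fin_cases j <;> simp [Jm, Matrix.mul_apply, Fin.sum_univ_four]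

theorem col_rel {g : GL (Fin 4) F} (hg : g ∈ Cfsg.Lie.Sp4 F) (i j : Fin 4) :
    g.1 0 i * g.1 3 j + g.1 1 i * g.1 2 j + g.1 2 i * g.1 1 j + g.1 3 i * g.1 0 j = Jm F i j := by
  have h := hg (Pi.single i 1) (Pi.single j 1)
  simp only [Units.coeHom_apply, Matrix.mulVec_single_one, Cfsg.Lie.altForm4, Matrix.col_apply] at h
  refine Eq.trans h ?_
  fin_cases i <;> fin_cases j <;> simp [Jm]

theorem transpose_mul {g : GL (Fin 4) F} (hg : g ∈ Cfsg.Lie.Sp4 F) :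
    g.1ᵀ * Jm F * g.1 = Jm F := by
  ext i j
  rw [← col_rel hg i j]
  simp [Jm, Matrix.mul_apply, Fin.sum_univ_four]
  ring

theorem mul_transpose {g : GL (Fin 4) F} (hg : g ∈ Cfsg.Lie.Sp4 F) :
    g.1 * Jm F * g.1ᵀ = Jm F := by
  have h := transpose_mul hg
  have h1 : (Jm F * g.1ᵀ * Jm F) * g.1 = 1 := by
    calc (Jm F * g.1ᵀ * Jm F) * g.1 = Jm F * (g.1ᵀ * Jm F * g.1) := by
          simp only [Matrix.mul_assoc]
      _ = Jm F * Jm F := by rw [h]
      _ = 1 := Jm_mul_Jm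
  have h2 := mul_eq_one_comm.1 h1
  calc g.1 * Jm F * g.1ᵀ = (g.1 * (Jm F * g.1ᵀ * Jm F)) * Jm F := by
        simp only [Matrix.mul_assoc, Jm_mul_Jm, Matrix.mul_one]
    _ = Jm F := by rw [h2, Matrix.one_mul]

theorem row_rel {g : GL (Fin 4) F} (hg : g ∈ Cfsg.Lie.Sp4 F) (k l : Fin 4) :
    g.1 k 0 * g.1 l 3 + g.1 k 1 * g.1 l 2 + g.1 k 2 * g.1 l 1 + g.1 k 3 * g.1 l 0 = Jm F k l := by
  have h := congrFun (congrFun (mul_transpose hg) k) l
  rw [← h]
  simp [Jm, Matrix.mul_apply, Fin.sum_univ_four]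
  ring

theorem minor_mul (h2 : (2 : F) = 0) (g h : Matrix (Fin 4) (Fin 4) F) (k l i j : Fin 4)
    (Rg : g k 0 * g l 3 + g k 1 * g l 2 + g k 2 * g l 1 + g k 3 * g l 0 = 0)
    (Rh : h 0 i * h 3 j + h 1 i * h 2 j + h 2 i * h 1 j + h 3 i * h 0 j = 0) :
    (g * h) k i * (g * h) l j - (g * h) l i * (g * h) k j =
      (g k 0 * g l 1 - g l 0 * g k 1) * (h 0 i * h 1 j - h 1 i * h 0 j) +
      (g k 0 * g l 2 - g l 0 * g k 2) * (h 0 i * h 2 j - h 2 i * h 0 j) +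
      (g k 1 * g l 3 - g l 1 * g k 3) * (h 1 i * h 3 j - h 3 i * h 1 j) +
      (g k 2 * g l 3 - g l 2 * g k 3) * (h 2 i * h 3 j - h 3 i * h 2 j) := by
  simp only [Matrix.mul_apply, Fin.sum_univ_four]
  linear_combination (h 1 i * h 2 j - h 2 i * h 1 j) * Rg -
    ((g k 0 * g l 3 - g k 3 * g l 0) + 2 * (g k 2 * g l 1 + g k 3 * g l 0)) * Rh +
    ((g k 0 * g l 3 - g k 3 * g l 0) * (h 0 i * h 3 j - h 3 i * h 0 j) +
      (g k 2 * g l 1 + g k 3 * g l 0) * (h 0 i * h 3 j - h 3 i * h 0 j) +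
      (h 2 i * h 1 j + h 3 i * h 0 j) * (g k 0 * g l 3 - g k 3 * g l 0) +
      2 * (g k 2 * g l 1 + g k 3 * g l 0) * (h 2 i * h 1 j + h 3 i * h 0 j)) * h2

theorem Jm_pairOf (p : Fin 4) : Jm F (Cfsg.Lie.pairOf p).1 (Cfsg.Lie.pairOf p).2 = 0 := by
  fin_cases p <;> simp [Jm, Cfsg.Lie.pairOf]

theorem star4_mul (h2 : (2 : F) = 0) {g h : GL (Fin 4) F} (hg : g ∈ Cfsg.Lie.Sp4 F)
    (hh : h ∈ Cfsg.Lie.Sp4 F) :
    Cfsg.Lie.star4 (g.1 * h.1) = Cfsg.Lie.star4 g.1 * Cfsg.Lie.star4 h.1 := by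
  ext p r
  rw [Matrix.mul_apply, Fin.sum_univ_four]
  have := minor_mul h2 g.1 h.1 (Cfsg.Lie.pairOf p).1 (Cfsg.Lie.pairOf p).2
    (Cfsg.Lie.pairOf r).1 (Cfsg.Lie.pairOf r).2 ((row_rel hg _ _).trans (Jm_pairOf p))
    ((col_rel hh _ _).trans (Jm_pairOf r))
  exact this

theorem star4_00 (M : Matrix (Fin 4) (Fin 4) F) :
    Cfsg.Lie.star4 M 0 0 = M 0 0 * M 1 1 - M 1 0 * M 0 1 := rfl
theorem star4_01 (M : Matrix (Fin 4) (Fin 4) F) :
    Cfsg.Lie.star4 M 0 1 = M 0 0 * M 1 2 - M 1 0 * M 0 2 := rfl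
theorem star4_02 (M : Matrix (Fin 4) (Fin 4) F) :
    Cfsg.Lie.star4 M 0 2 = M 0 1 * M 1 3 - M 1 1 * M 0 3 := rfl
theorem star4_03 (M : Matrix (Fin 4) (Fin 4) F) :
    Cfsg.Lie.star4 M 0 3 = M 0 2 * M 1 3 - M 1 2 * M 0 3 := rfl
theorem star4_10 (M : Matrix (Fin 4) (Fin 4) F) :
    Cfsg.Lie.star4 M 1 0 = M 0 0 * M 2 1 - M 2 0 * M 0 1 := rfl
theorem star4_11 (M : Matrix (Fin 4) (Fin 4) F) :
    Cfsg.Lie.star4 M 1 1 = M 0 0 * M 2 2 - M 2 0 * M 0 2 := rfl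
theorem star4_12 (M : Matrix (Fin 4) (Fin 4) F) :
    Cfsg.Lie.star4 M 1 2 = M 0 1 * M 2 3 - M 2 1 * M 0 3 := rfl
theorem star4_13 (M : Matrix (Fin 4) (Fin 4) F) :
    Cfsg.Lie.star4 M 1 3 = M 0 2 * M 2 3 - M 2 2 * M 0 3 := rfl
theorem star4_20 (M : Matrix (Fin 4) (Fin 4) F) :
    Cfsg.Lie.star4 M 2 0 = M 1 0 * M 3 1 - M 3 0 * M 1 1 := rfl
theorem star4_21 (M : Matrix (Fin 4) (Fin 4) F) :
    Cfsg.Lie.star4 M 2 1 = M 1 0 * M 3 2 - M 3 0 * M 1 2 := rfl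
theorem star4_22 (M : Matrix (Fin 4) (Fin 4) F) :
    Cfsg.Lie.star4 M 2 2 = M 1 1 * M 3 3 - M 3 1 * M 1 3 := rfl
theorem star4_23 (M : Matrix (Fin 4) (Fin 4) F) :
    Cfsg.Lie.star4 M 2 3 = M 1 2 * M 3 3 - M 3 2 * M 1 3 := rfl
theorem star4_30 (M : Matrix (Fin 4) (Fin 4) F) :
    Cfsg.Lie.star4 M 3 0 = M 2 0 * M 3 1 - M 3 0 * M 2 1 := rfl
theorem star4_31 (M : Matrix (Fin 4) (Fin 4) F) :
    Cfsg.Lie.star4 M 3 1 = M 2 0 * M 3 2 - M 3 0 * M 2 2 := rfl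
theorem star4_32 (M : Matrix (Fin 4) (Fin 4) F) :
    Cfsg.Lie.star4 M 3 2 = M 2 1 * M 3 3 - M 3 1 * M 2 3 := rfl
theorem star4_33 (M : Matrix (Fin 4) (Fin 4) F) :
    Cfsg.Lie.star4 M 3 3 = M 2 2 * M 3 3 - M 3 2 * M 2 3 := rfl

theorem star4_one : Cfsg.Lie.star4 (1 : Matrix (Fin 4) (Fin 4) F) = 1 := by
  have h4 : ∀ p : Fin 4, p = 0 ∨ p = 1 ∨ p = 2 ∨ p = 3 := by decide
  ext p r
  rcases h4 p with rfl | rfl | rfl | rfl <;> rcases h4 r with rfl | rfl | rfl | rfl <;>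
    simp [star4_00, star4_01, star4_02, star4_03, star4_10, star4_11, star4_12, star4_13, star4_20, star4_21, star4_22, star4_23, star4_30, star4_31, star4_32, star4_33]

end matrixfacts

section

variable {F : Type*} [Field F] (m : ℕ)

/-- `x ↦ x^e` as a ring hom. -/
theorem two_eq_zero [Fintype F] (hF : Fintype.card F = 2 ^ (2 * m + 1)) : (2 : F) = 0 := by
  have h := FiniteField.cast_card_eq_zero F
  rw [hF] at h
  push_cast at h
  exact pow_eq_zero_iff (by omega) |>.1 h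

theorem charP_two [Fintype F] (hF : Fintype.card F = 2 ^ (2 * m + 1)) : CharP F 2 :=
  CharTwo.of_one_ne_zero_of_two_eq_zero one_ne_zero (two_eq_zero m hF)

/-- every element of the Suzuki group satisfies the defining relation -/
theorem mem_Sz [Fintype F] (hF : Fintype.card F = 2 ^ (2 * m + 1)) {g : GL (Fin 4) F}
    (hg : g ∈ Cfsg.Lie.Sz F (2 ^ (m + 1))) :
    g ∈ Cfsg.Lie.Sp4 F ∧ Cfsg.Lie.star4 g.1 = g.1.map (fun x => x ^ (2 ^ (m + 1))) := by
  have h2 := two_eq_zero m hF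
  have hc := charP_two m hF
  let φ : F →+* F := iterateFrobenius F 2 (m + 1)
  have hφ : (fun x : F => x ^ (2 ^ (m + 1))) = φ := by
    ext x; simp [φ, iterateFrobenius_def]
  induction hg using Subgroup.closure_induction with
  | mem x hx => exact hx
  | one =>
    refine ⟨one_mem _, ?_⟩
    rw [hφ]
    simp [star4_one]
  | mul x y _ _ ihx ihy =>
    refine ⟨mul_mem ihx.1 ihy.1, ?_⟩
    rw [hφ] at *
    rw [Units.val_mul, star4_mul h2 ihx.1 ihy.1, ihx.2, ihy.2, Matrix.map_mul]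
  | inv x _ ihx =>
    refine ⟨inv_mem ihx.1, ?_⟩
    rw [hφ] at *
    have e1 : Cfsg.Lie.star4 x.1 * Cfsg.Lie.star4 (x⁻¹).1 = 1 := by
      rw [← star4_mul h2 ihx.1 (inv_mem ihx.1), ← Units.val_mul, mul_inv_cancel, Units.val_one,
        star4_one]
    have e2 : (x⁻¹).1.map φ * x.1.map φ = 1 := by
      rw [← Matrix.map_mul, ← Units.val_mul, inv_mul_cancel, Units.val_one]
      simp
    rw [ihx.2] at e1
    calc Cfsg.Lie.star4 (x⁻¹).1 = ((x⁻¹).1.map φ * x.1.map φ) * Cfsg.Lie.star4 (x⁻¹).1 := by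
          rw [e2, Matrix.one_mul]
      _ = (x⁻¹).1.map φ * (x.1.map φ * Cfsg.Lie.star4 (x⁻¹).1) := by rw [Matrix.mul_assoc]
      _ = (x⁻¹).1.map φ := by rw [e1, Matrix.mul_one]


/-- numbers: `x^a = 1`, `x^(q-1) = 1` -/
theorem eq_one_of_pow [Fintype F] (hF : Fintype.card F = 2 ^ (2 * m + 1)) {x : F} (hx : x ≠ 0)
    (k : ℕ) (hk : k.Coprime (2 * m + 1)) (h : x ^ (2 ^ k - 1) = 1) : x = 1 := by
  have h1 : x ^ (2 ^ (2 * m + 1) - 1) = 1 := by
    rw [← hF]; exact FiniteField.pow_card_sub_one_eq_one x hx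
  have h2 : orderOf x ∣ Nat.gcd (2 ^ k - 1) (2 ^ (2 * m + 1) - 1) :=
    Nat.dvd_gcd (orderOf_dvd_of_pow_eq_one h) (orderOf_dvd_of_pow_eq_one h1)
  rw [Nat.pow_sub_one_gcd_pow_sub_one, hk.gcd_eq_one] at h2
  norm_num at h2
  exact h2

/-- The torus element. -/
def tor (a : Fˣ) : GL (Fin 4) F where
  val := Matrix.diagonal ![(a : F), a ^ (2 ^ (m + 1) - 1), (a⁻¹ : Fˣ) ^ (2 ^ (m + 1) - 1), (a⁻¹ : Fˣ)]
  inv := Matrix.diagonal ![((a⁻¹ : Fˣ) : F), (a⁻¹ : Fˣ) ^ (2 ^ (m + 1) - 1), a ^ (2 ^ (m + 1) - 1), a]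
  val_inv := by
    rw [Matrix.diagonal_mul_diagonal, ← Matrix.diagonal_one]
    congr 1
    ext i
    fin_cases i <;> simp
  inv_val := by
    rw [Matrix.diagonal_mul_diagonal, ← Matrix.diagonal_one]
    congr 1
    ext i
    fin_cases i <;> simp


theorem tor_apply_ne (a : Fˣ) {i j : Fin 4} (h : i ≠ j) : (tor m a).1 i j = 0 :=
  Matrix.diagonal_apply_ne _ h

/-- the diagonal of the torus element -/
def dg (a : Fˣ) : Fin 4 → F :=
  ![(a : F), a ^ (2 ^ (m + 1) - 1), (a⁻¹ : Fˣ) ^ (2 ^ (m + 1) - 1), (a⁻¹ : Fˣ)]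

theorem tor_apply_eq (a : Fˣ) (i : Fin 4) : (tor m a).1 i i = dg m a i :=
  Matrix.diagonal_apply_eq _ i

theorem tor_val (a : Fˣ) : (tor m a).1 = Matrix.diagonal (dg m a) := rfl

theorem altForm4_iff (M : Matrix (Fin 4) (Fin 4) F) (h : Mᵀ * Jm F * M = Jm F) (u v : Fin 4 → F) :
    Cfsg.Lie.altForm4 (M *ᵥ u) (M *ᵥ v) = Cfsg.Lie.altForm4 u v := by
  have e : ∀ u v : Fin 4 → F, Cfsg.Lie.altForm4 u v = u ⬝ᵥ (Jm F *ᵥ v) := by
    intro u v
    simp [Cfsg.Lie.altForm4, Jm, Matrix.mulVec, dotProduct, Fin.sum_univ_four]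
  rw [e, e, Matrix.mulVec_mulVec, Matrix.dotProduct_mulVec, ← Matrix.vecMul_transpose,
    Matrix.vecMul_vecMul, ← Matrix.mul_assoc, h, ← Matrix.dotProduct_mulVec]

theorem mem_Sp4_of (g : GL (Fin 4) F) (h : g.1ᵀ * Jm F * g.1 = Jm F) : g ∈ Cfsg.Lie.Sp4 F :=
  fun u v => altForm4_iff g.1 h u v

theorem tor_mem (h2 : (2 : F) = 0) [Fintype F] (hF : Fintype.card F = 2 ^ (2 * m + 1)) (a : Fˣ) :
    tor m a ∈ Cfsg.Lie.Sz F (2 ^ (m + 1)) := by
  apply Subgroup.subset_closure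
  have ha : (a : F) ≠ 0 := a.ne_zero
  have he : 2 ^ (m + 1) - 1 + 1 = 2 ^ (m + 1) := Nat.sub_add_cancel Nat.one_le_two_pow
  have h3 : (a : F) * (a : F) ^ (2 ^ (m + 1) - 1) = a ^ (2 ^ (m + 1)) := by
    rw [← pow_succ', he]
  have h5 : ((a : F) ^ (2 ^ (m + 1) - 1)) ^ (2 ^ (m + 1)) * a ^ (2 ^ (m + 1) - 1) = a := by
    have : (a : F) ^ (2 ^ (2 * m + 1)) = a := by rw [← hF]; exact FiniteField.pow_card _
    have h6 : ((a : F) ^ (2 ^ (m + 1) - 1)) ^ (2 ^ (m + 1)) * a ^ (2 ^ (m + 1) - 1) * a =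
        a * a := by
      have e1 : (2 ^ (m + 1) - 1) * 2 ^ (m + 1) + (2 ^ (m + 1) - 1) + 1 =
          2 ^ (2 * m + 1) * 2 := by
        have : 2 ^ (m + 1) * 2 ^ (m + 1) = 2 ^ (2 * m + 1) * 2 := by
          rw [← pow_add, ← pow_succ]; congr 1; ring
        rw [← this, add_assoc, he]
        calc (2 ^ (m + 1) - 1) * 2 ^ (m + 1) + 2 ^ (m + 1)
            = (2 ^ (m + 1) - 1 + 1) * 2 ^ (m + 1) := by ring
          _ = _ := by rw [he]
      rw [← pow_mul, ← pow_add, ← pow_succ, e1, pow_mul, this, sq]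
    exact mul_right_cancel₀ ha h6
  have h4 : ∀ p : Fin 4, p = 0 ∨ p = 1 ∨ p = 2 ∨ p = 3 := by decide
  have hne : (2 : ℕ) ^ (m + 1) ≠ 0 := by positivity
  refine ⟨mem_Sp4_of _ ?_, ?_⟩
  · rw [tor_val]
    ext i j
    rw [Matrix.diagonal_transpose, Matrix.mul_diagonal, Matrix.diagonal_mul]
    rcases h4 i with rfl | rfl | rfl | rfl <;> rcases h4 j with rfl | rfl | rfl | rfl <;>
      simp [Jm, dg]
  · rw [tor_val]
    ext i j
    rcases h4 i with rfl | rfl | rfl | rfl <;> rcases h4 j with rfl | rfl | rfl | rfl <;>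
      simp [star4_00, star4_01, star4_02, star4_03, star4_10, star4_11, star4_12, star4_13, star4_20, star4_21, star4_22, star4_23, star4_30, star4_31, star4_32, star4_33, dg]
    · exact h3
    · rw [mul_inv_eq_iff_eq_mul₀ (pow_ne_zero _ ha)]; exact h5.symm
    · rw [mul_inv_eq_iff_eq_mul₀ ha, eq_inv_mul_iff_mul_eq₀ (pow_ne_zero _ (pow_ne_zero _ ha))]
      exact h5
    · rw [← mul_inv, mul_comm, h3]


/-- unipotent element -/
def uu : GL (Fin 4) F where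
  val := !![1, 0, 1, 1; 0, 1, 0, 1; 0, 0, 1, 0; 0, 0, 0, 1]
  inv := !![1, 0, -1, -1; 0, 1, 0, -1; 0, 0, 1, 0; 0, 0, 0, 1]
  val_inv := by
    ext i j
    fin_cases i <;> fin_cases j <;> simp [Matrix.mul_apply, Fin.sum_univ_four]
  inv_val := by
    ext i j
    fin_cases i <;> fin_cases j <;> simp [Matrix.mul_apply, Fin.sum_univ_four]

theorem uu_mem (h2 : (2 : F) = 0) (e : ℕ) (he : e ≠ 0) : uu (F := F) ∈ Cfsg.Lie.Sz F e := by
  apply Subgroup.subset_closure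
  have h4 : ∀ p : Fin 4, p = 0 ∨ p = 1 ∨ p = 2 ∨ p = 3 := by decide
  have h1 : (1 : F) + 1 = 0 := by rw [one_add_one_eq_two, h2]
  refine ⟨mem_Sp4_of _ ?_, ?_⟩
  · ext i j
    rcases h4 i with rfl | rfl | rfl | rfl <;> rcases h4 j with rfl | rfl | rfl | rfl <;>
      simp [Jm, uu, Matrix.mul_apply, Fin.sum_univ_four, h1]
  · ext i j
    rcases h4 i with rfl | rfl | rfl | rfl <;> rcases h4 j with rfl | rfl | rfl | rfl <;>
      simp [star4_00, star4_01, star4_02, star4_03, star4_10, star4_11, star4_12, star4_13, star4_20, star4_21, star4_22, star4_23, star4_30, star4_31, star4_32, star4_33, uu, he] <;> first | linear_combination h2 | linear_combination -h2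

def ww : GL (Fin 4) F where
  val := Jm F
  inv := Jm F
  val_inv := Jm_mul_Jm
  inv_val := Jm_mul_Jm

theorem ww_mem (h2 : (2 : F) = 0) (e : ℕ) (he : e ≠ 0) : ww (F := F) ∈ Cfsg.Lie.Sz F e := by
  apply Subgroup.subset_closure
  have h4 : ∀ p : Fin 4, p = 0 ∨ p = 1 ∨ p = 2 ∨ p = 3 := by decide
  refine ⟨mem_Sp4_of _ ?_, ?_⟩
  · ext i j
    rcases h4 i with rfl | rfl | rfl | rfl <;> rcases h4 j with rfl | rfl | rfl | rfl <;>
      simp [Jm, ww, Matrix.mul_apply, Fin.sum_univ_four]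
  · ext i j
    rcases h4 i with rfl | rfl | rfl | rfl <;> rcases h4 j with rfl | rfl | rfl | rfl <;>
      simp [star4_00, star4_01, star4_02, star4_03, star4_10, star4_11, star4_12, star4_13, star4_20, star4_21, star4_22, star4_23, star4_30, star4_31, star4_32, star4_33, ww, he, Jm] <;> linear_combination -h2

theorem sq_eq_one (h2 : (2 : F) = 0) {x : F} (h : x ^ 2 = 1) : x = 1 := by
  have : (x - 1) ^ 2 = 0 := by linear_combination h + (1 - x) * h2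
  exact sub_eq_zero.1 (pow_eq_zero_iff (two_ne_zero) |>.1 this)

theorem pow_two_pow_eq_one (h2 : (2 : F) = 0) (k : ℕ) {x : F} (h : x ^ (2 ^ k) = 1) : x = 1 := by
  induction k with
  | zero => simpa using h
  | succ k ih =>
    apply ih
    apply sq_eq_one h2
    rw [← pow_mul, ← pow_succ]; exact h

theorem dg_injective [Fintype F] (hF : Fintype.card F = 2 ^ (2 * m + 1)) (hm : 1 ≤ m) {a : Fˣ}
    (ha : a ≠ 1) : Function.Injective (dg m a) := by
  have h2 := two_eq_zero m hF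
  have ha0 : (a : F) ≠ 0 := a.ne_zero
  have ha1 : (a : F) ≠ 1 := fun h => ha (Units.ext h)
  have he : 2 ^ (m + 1) - 1 + 1 = 2 ^ (m + 1) := Nat.sub_add_cancel Nat.one_le_two_pow
  have hinv0 : ((a⁻¹ : Fˣ) : F) ≠ 0 := (a⁻¹).ne_zero
  have hmul : (a : F) * ((a⁻¹ : Fˣ) : F) = 1 := by simp
  have k01 : ∀ x : F, x ≠ 0 → x = x ^ (2 ^ (m + 1) - 1) → x = 1 := by
    intro x hx h
    have e1 : 2 ^ (m + 1) - 1 = (2 ^ m - 1) * 2 + 1 := by
      have := Nat.one_le_two_pow (n := m)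
      rw [pow_succ]; omega
    rw [e1, pow_succ, pow_mul] at h
    have h3 : (x ^ (2 ^ m - 1)) ^ 2 = 1 := by
      have : 1 * x = (x ^ (2 ^ m - 1)) ^ 2 * x := by rw [one_mul]; exact h
      exact (mul_right_cancel₀ hx this).symm
    exact eq_one_of_pow m hF hx m (by
      rw [Nat.coprime_mul_right_add_right]; simp) (sq_eq_one h2 h3)
  have k02 : (a : F) ^ (2 ^ (m + 1)) ≠ 1 := fun h => ha1 (pow_two_pow_eq_one h2 _ h)
  have k03 : (a : F) ≠ ((a⁻¹ : Fˣ) : F) := by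
    intro h
    apply ha1
    apply sq_eq_one h2
    rw [sq]; nth_rw 2 [h]; exact hmul
  have k12 : (a : F) ^ (2 ^ (m + 1) - 1) ≠ ((a⁻¹ : Fˣ) : F) ^ (2 ^ (m + 1) - 1) := by
    intro h
    apply ha1
    have h3 : ((a : F) ^ (2 ^ (m + 1) - 1)) ^ 2 = 1 := by
      rw [sq]; nth_rw 2 [h]; rw [← mul_pow, hmul, one_pow]
    exact eq_one_of_pow m hF ha0 (m + 1) (by
      have : 2 * m + 1 = m + (m + 1) := by ring
      rw [this, Nat.coprime_add_self_right]; simp) (sq_eq_one h2 h3)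
  have k01a : (a : F) ≠ (a : F) ^ (2 ^ (m + 1) - 1) := fun h => ha1 (k01 _ ha0 h)
  have k23 : ((a⁻¹ : Fˣ) : F) ^ (2 ^ (m + 1) - 1) ≠ ((a⁻¹ : Fˣ) : F) := by
    intro h
    have := k01 _ hinv0 h.symm
    rw [this, mul_one] at hmul
    exact ha1 hmul
  have k02' : (a : F) ≠ ((a⁻¹ : Fˣ) : F) ^ (2 ^ (m + 1) - 1) := by
    intro h
    apply k02
    rw [← he, pow_succ]
    nth_rw 2 [h]
    rw [← mul_pow, hmul, one_pow]
  have k13 : (a : F) ^ (2 ^ (m + 1) - 1) ≠ ((a⁻¹ : Fˣ) : F) := by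
    intro h
    apply k02
    rw [← he, pow_succ, h, mul_comm]; exact hmul
  have h4 : ∀ p : Fin 4, p = 0 ∨ p = 1 ∨ p = 2 ∨ p = 3 := by decide
  have d0 : dg m a 0 = (a : F) := rfl
  have d1 : dg m a 1 = (a : F) ^ (2 ^ (m + 1) - 1) := rfl
  have d2 : dg m a 2 = ((a⁻¹ : Fˣ) : F) ^ (2 ^ (m + 1) - 1) := rfl
  have d3 : dg m a 3 = ((a⁻¹ : Fˣ) : F) := rfl
  intro i j hij
  rcases h4 i with rfl | rfl | rfl | rfl <;> rcases h4 j with rfl | rfl | rfl | rfl <;>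
    first
    | rfl
    | (exfalso
       simp only [d0, d1, d2, d3] at hij
       first
       | exact k01a hij
       | exact k01a hij.symm
       | exact k02' hij
       | exact k02' hij.symm
       | exact k03 hij
       | exact k03 hij.symm
       | exact k12 hij
       | exact k12 hij.symm
       | exact k13 hij
       | exact k13 hij.symm
       | exact k23 hij
       | exact k23 hij.symm)

/-- commuting with a regular diagonal matrix -/
theorem diagonal_of_commute {d : Fin 4 → F} (hd : Function.Injective d)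
    (z : Matrix (Fin 4) (Fin 4) F) (h : z * Matrix.diagonal d = Matrix.diagonal d * z)
    {i j : Fin 4} (hij : i ≠ j) : z i j = 0 := by
  have h1 := congrFun (congrFun h i) j
  rw [Matrix.mul_diagonal, Matrix.diagonal_mul] at h1
  have h2 : z i j * (d j - d i) = 0 := by linear_combination h1
  rcases mul_eq_zero.1 h2 with h3 | h3
  · exact h3
  · exact absurd (hd (sub_eq_zero.1 h3)) (Ne.symm hij)

/-- diagonal elements of the Suzuki group -/
theorem eq_tor_of_diagonal [Fintype F] (hF : Fintype.card F = 2 ^ (2 * m + 1)) {z : GL (Fin 4) F}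
    (hz : z ∈ Cfsg.Lie.Sz F (2 ^ (m + 1))) (hd : ∀ i j : Fin 4, i ≠ j → z.1 i j = 0) :
    ∃ a : Fˣ, z = tor m a := by
  obtain ⟨h1, h2⟩ := mem_Sz m hF hz
  have r03 := col_rel h1 0 3
  have r12 := col_rel h1 1 2
  have s00 := congrFun (congrFun h2 0) 0
  rw [star4_00, Matrix.map_apply] at s00
  have z01 := hd 0 1 (by decide)
  have z02 := hd 0 2 (by decide)
  have z03 := hd 0 3 (by decide)
  have z10 := hd 1 0 (by decide)
  have z12 := hd 1 2 (by decide)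
  have z13 := hd 1 3 (by decide)
  have z20 := hd 2 0 (by decide)
  have z21 := hd 2 1 (by decide)
  have z23 := hd 2 3 (by decide)
  have z30 := hd 3 0 (by decide)
  have z31 := hd 3 1 (by decide)
  have z32 := hd 3 2 (by decide)
  have j03 : Jm F 0 3 = 1 := rfl
  have j12 : Jm F 1 2 = 1 := rfl
  rw [j03, z10, z20, z30, z03] at r03
  rw [j12, z01, z21, z31, z32] at r12
  rw [z10, z01] at s00
  have r03' : z.1 0 0 * z.1 3 3 = 1 := by linear_combination r03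
  have r12' : z.1 1 1 * z.1 2 2 = 1 := by linear_combination r12
  have s00' : z.1 0 0 * z.1 1 1 = z.1 0 0 ^ (2 ^ (m + 1)) := by linear_combination s00
  have h0 : z.1 0 0 ≠ 0 := left_ne_zero_of_mul_eq_one r03'
  have he : 2 ^ (m + 1) - 1 + 1 = 2 ^ (m + 1) := Nat.sub_add_cancel Nat.one_le_two_pow
  have e1 : z.1 1 1 = z.1 0 0 ^ (2 ^ (m + 1) - 1) := by
    rw [← he, pow_succ, mul_comm] at s00'
    exact mul_right_cancel₀ h0 s00'
  have e3 : z.1 3 3 = (z.1 0 0)⁻¹ := eq_inv_of_mul_eq_one_right r03'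
  have e2 : z.1 2 2 = ((z.1 0 0)⁻¹) ^ (2 ^ (m + 1) - 1) := by
    rw [inv_pow, ← e1]
    exact eq_inv_of_mul_eq_one_right r12'
  refine ⟨Units.mk0 _ h0, ?_⟩
  apply Units.ext
  rw [tor_val]
  ext i j
  by_cases hij : i = j
  · subst hij
    rw [Matrix.diagonal_apply_eq]
    have h4 : ∀ p : Fin 4, p = 0 ∨ p = 1 ∨ p = 2 ∨ p = 3 := by decide
    rcases h4 i with rfl | rfl | rfl | rfl
    · rfl
    · exact e1
    · rw [e2]; simp [dg]
    · rw [e3]; simp [dg]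
  · rw [Matrix.diagonal_apply_ne _ hij]
    exact hd i j hij

/-- stabiliser of the first line -/
def Bor (H : Subgroup (GL (Fin 4) F)) : Subgroup H where
  carrier := {g | ∀ i : Fin 4, i ≠ 0 → (g : GL (Fin 4) F).1 i 0 = 0}
  one_mem' := by
    intro i hi
    change (1 : Matrix (Fin 4) (Fin 4) F) i 0 = 0
    rw [Matrix.one_apply_ne hi]
  mul_mem' := by
    intro g h hg hh i hi
    change ((g : GL (Fin 4) F).1 * (h : GL (Fin 4) F).1) i 0 = 0
    rw [Matrix.mul_apply]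
    apply Finset.sum_eq_zero
    intro k _
    by_cases hk : k = 0
    · subst hk; rw [hg i hi, zero_mul]
    · rw [hh k hk, mul_zero]
  inv_mem' := by
    intro g hg i hi
    have h1 : ((g : GL (Fin 4) F)⁻¹).1 * (g : GL (Fin 4) F).1 = 1 := by
      rw [← Units.val_mul, inv_mul_cancel, Units.val_one]
    have h2 : ∀ i, ((g : GL (Fin 4) F)⁻¹).1 i 0 * (g : GL (Fin 4) F).1 0 0 =
        (1 : Matrix (Fin 4) (Fin 4) F) i 0 := by
      intro i
      rw [← h1, Matrix.mul_apply]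
      symm
      apply Finset.sum_eq_single 0
      · intro k _ hk
        rw [hg k hk, mul_zero]
      · intro h; exact absurd (Finset.mem_univ _) h
    have h3 := h2 0
    rw [Matrix.one_apply_eq] at h3
    have h4 := h2 i
    rw [Matrix.one_apply_ne hi] at h4
    exact (mul_eq_zero.1 h4).resolve_right (right_ne_zero_of_mul_eq_one h3)

end

theorem result {F : Type*} [Field F] [Fintype F] (m : ℕ) (hm : 1 ≤ m) (hF : Fintype.card F = 2 ^ (2 * m + 1)) :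
    ¬ ∃ 𝓐 : Finset (Subgroup ↥(Cfsg.Lie.Sz F (2 ^ (m + 1)))), ((∀ A ∈ 𝓐, A ≠ ⊤) ∧ (∀ g : ↥(Cfsg.Lie.Sz F (2 ^ (m + 1))), ∃ A ∈ 𝓐, g ∈ A)) ∧ (∀ 𝓑 : Finset (Subgroup ↥(Cfsg.Lie.Sz F (2 ^ (m + 1)))), (∀ A ∈ 𝓑, A ≠ ⊤) ∧ (∀ g : ↥(Cfsg.Lie.Sz F (2 ^ (m + 1))), ∃ A ∈ 𝓑, g ∈ A) → 𝓐.card ≤ 𝓑.card) ∧ (∀ A ∈ 𝓐, Group.IsNilpotent ↥A) := by
  rintro ⟨𝓐, h𝓐⟩
  have h2 := two_eq_zero m hF
  -- a unit different from one
  obtain ⟨a, ha⟩ : ∃ a : Fˣ, a ≠ 1 := by
    have hc : 2 < Fintype.card F := by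
      rw [hF]
      calc 2 = 2 ^ 1 := by norm_num
        _ < 2 ^ (2 * m + 1) := Nat.pow_lt_pow_right (by norm_num) (by omega)
    obtain ⟨x, hx0, hx1⟩ : ∃ x : F, x ≠ 0 ∧ x ≠ 1 := by
      classical
      by_contra hcon
      push Not at hcon
      have : (Finset.univ : Finset F) ⊆ {0, 1} := by
        intro x _
        by_cases hx : x = 0
        · simp [hx]
        · simp [hcon x hx]
      have h3 := Finset.card_le_card this
      have h4 := Finset.card_le_two (a := (0 : F)) (b := 1)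
      rw [Finset.card_univ] at h3
      omega
    exact ⟨Units.mk0 x hx0, fun h => hx1 (congrArg Units.val h)⟩
  have he : 2 ^ (m + 1) ≠ 0 := by positivity
  have hinj := dg_injective m hF hm ha
  let t : ↥(Cfsg.Lie.Sz F (2 ^ (m + 1))) := ⟨tor m a, tor_mem m h2 hF a⟩
  let u : ↥(Cfsg.Lie.Sz F (2 ^ (m + 1))) := ⟨uu, uu_mem h2 _ he⟩
  let w : ↥(Cfsg.Lie.Sz F (2 ^ (m + 1))) := ⟨ww, ww_mem h2 _ he⟩
  have hdiag : ∀ z : ↥(Cfsg.Lie.Sz F (2 ^ (m + 1))), z * t = t * z →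
      ∀ i j : Fin 4, i ≠ j → (z : GL (Fin 4) F).1 i j = 0 := by
    intro z hz i j hij
    apply diagonal_of_commute hinj _ _ hij
    have h3 := congrArg (fun s : ↥(Cfsg.Lie.Sz F (2 ^ (m + 1))) => (s : GL (Fin 4) F).1) hz
    exact h3
  have hdiag' : ∀ z : ↥(Cfsg.Lie.Sz F (2 ^ (m + 1))),
      (∀ i j : Fin 4, i ≠ j → (z : GL (Fin 4) F).1 i j = 0) → z * t = t * z := by
    intro z hz
    obtain ⟨b, hb⟩ := eq_tor_of_diagonal m hF z.2 hz
    apply Subtype.ext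
    apply Units.ext
    change (z : GL (Fin 4) F).1 * (tor m a).1 = (tor m a).1 * (z : GL (Fin 4) F).1
    rw [hb, tor_val, tor_val, Matrix.diagonal_mul_diagonal, Matrix.diagonal_mul_diagonal]
    congr 1
    ext i
    ring
  refine false_of_torus h𝓐 (centralizer {t}) (Bor _) t u ?_ ?_ ?_ ?_ ?_ ?_
  · intro h
    apply ha
    have h3 := congrArg (fun s : ↥(Cfsg.Lie.Sz F (2 ^ (m + 1))) => (s : GL (Fin 4) F).1 0 0) h
    exact Units.ext h3
  · intro z hz hzt b hb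
    rw [mem_centralizer_singleton_iff]
    apply hdiag'
    obtain ⟨c, hc⟩ := eq_tor_of_diagonal m hF z.2 (hdiag z hzt)
    have hc1 : c ≠ 1 := by
      rintro rfl
      apply hz
      apply Subtype.ext
      rw [hc]
      apply Units.ext
      rw [tor_val]
      ext i j
      by_cases hij : i = j
      · subst hij
        rw [Matrix.diagonal_apply_eq]
        have h4 : ∀ p : Fin 4, p = 0 ∨ p = 1 ∨ p = 2 ∨ p = 3 := by decide
        rcases h4 i with rfl | rfl | rfl | rfl <;> simp [dg]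
      · rw [Matrix.diagonal_apply_ne _ hij]
        exact (Matrix.one_apply_ne hij).symm
    have hcinj := dg_injective m hF hm hc1
    intro i j hij
    apply diagonal_of_commute hcinj _ _ hij
    have h3 := congrArg (fun s : ↥(Cfsg.Lie.Sz F (2 ^ (m + 1))) => (s : GL (Fin 4) F).1) hb
    change (b : GL (Fin 4) F).1 * (z : GL (Fin 4) F).1 =
      (z : GL (Fin 4) F).1 * (b : GL (Fin 4) F).1 at h3
    rw [hc] at h3
    exact h3
  · intro h
    have h3 : w ∈ Bor (Cfsg.Lie.Sz F (2 ^ (m + 1))) := by rw [h]; trivial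
    have h5 := h3 3 (by decide)
    change Jm F 3 0 = 0 at h5
    exact one_ne_zero h5
  · intro z hz i hi
    rw [mem_centralizer_singleton_iff] at hz
    exact hdiag z hz i 0 hi
  · intro i hi
    have h4 : ∀ p : Fin 4, p = 0 ∨ p = 1 ∨ p = 2 ∨ p = 3 := by decide
    rcases h4 i with rfl | rfl | rfl | rfl
    · exact absurd rfl hi
    · rfl
    · rfl
    · rfl
  · intro h
    rw [mem_centralizer_singleton_iff] at h
    have h3 := hdiag _ h 0 2 (by decide)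
    change ((uu (F := F)).1 * (tor m a).1 * ((uu (F := F))⁻¹).1) 0 2 = 0 at h3
    have h4 : ((uu (F := F)).1 * (tor m a).1 * ((uu (F := F))⁻¹).1) 0 2 = dg m a 2 - dg m a 0 := by
      rw [tor_val]
      change ((uu (F := F)).1 * Matrix.diagonal (dg m a) * (uu (F := F)).inv) 0 2 = _
      rw [Matrix.mul_apply, Fin.sum_univ_four, Matrix.mul_diagonal, Matrix.mul_diagonal,
        Matrix.mul_diagonal, Matrix.mul_diagonal]
      simp [uu]
      ring
    rw [h4, sub_eq_zero] at h3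
    exact absurd (hinj h3) (by decide)

end Cfsg.Agent.S3893
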