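import Cfsg.Statements.S3903
import Cfsg.Agent.S4040
import Cfsg.Agent.S4039

set_option autoImplicit false
open Cfsg

namespace Cfsg.Agent.S3903

open Subgroup

/-- centralizers of elements outside `N` are `p`-groups -/
theorem isPGroup_centralizer {G : Type*} [Group G] [Finite G] (N : Subgroup G)
    (h : ∀ x : G, x ∉ N → IsPrimePow (orderOf x)) {p k : ℕ} (hp : p.Prime) {x : G} (hx : x ∉ N)
    (hk : orderOf x = p ^ k) : IsPGroup p (centralizer ({x} : Set G)) := by
  have : Fact p.Prime := ⟨hp⟩
  have hk0 : k ≠ 0 := by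
    rintro rfl
    rw [pow_zero, orderOf_eq_one_iff] at hk
    exact hx (hk ▸ N.one_mem)
  rw [IsPGroup.iff_orderOf]
  rintro ⟨y, hy⟩
  rw [Subgroup.orderOf_mk]
  refine ⟨(orderOf y).primeFactorsList.length, ?_⟩
  apply Nat.eq_prime_pow_of_unique_prime_dvd (orderOf_pos y).ne'
  intro q hq hqd
  by_contra hqp
  set y' := y ^ (orderOf y / q) with hy'
  have hoy : orderOf y' = q := by
    rw [hy', orderOf_pow_orderOf_div (orderOf_pos y).ne' hqd]
  have hcomm : Commute x y' := by
    have h1 : Commute x y := by
      rw [mem_centralizer_singleton_iff] at hy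
      exact hy.symm
    exact h1.pow_right _
  have hcop : (orderOf x).Coprime (orderOf y') := by
    rw [hk, hoy]
    exact Nat.Coprime.pow_left k ((Nat.coprime_primes hp hq).mpr (Ne.symm hqp))
  have hxy : orderOf (x * y') = p ^ k * q := by
    rw [hcomm.orderOf_mul_eq_mul_orderOf_of_coprime hcop, hk, hoy]
  have hmem : x * y' ∈ N := by
    by_contra hn
    have h1 := h _ hn
    rw [hxy] at h1
    obtain ⟨r, m, hr, hm, he⟩ := (isPrimePow_nat_iff _).mp h1
    have h2 : p ∣ r ^ m := by rw [he]; exact (dvd_pow_self p hk0).mul_right q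
    have h3 : q ∣ r ^ m := by rw [he]; exact dvd_mul_left q _
    have h4 := (Nat.prime_dvd_prime_iff_eq hp hr).mp (hp.dvd_of_dvd_pow h2)
    have h5 := (Nat.prime_dvd_prime_iff_eq hq hr).mp (hq.dvd_of_dvd_pow h3)
    exact hqp (h5.trans h4.symm)
  apply hx
  -- `x` is a power of `x y'`
  have h6 : (x * y') ^ q = x ^ q := by
    rw [hcomm.mul_pow, ← hoy, pow_orderOf_eq_one, mul_one, hoy]
  have h7 : x ^ q ∈ N := by rw [← h6]; exact N.pow_mem hmem q
  have h8 : (orderOf x).Coprime q := by rw [← hoy]; exact hcop
  have h9 : x ∈ zpowers (x ^ q) := by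
    rw [mem_zpowers_pow_iff]
    exact h8.symm
  exact (zpowers_le.mpr h7) h9

theorem main {G : Type*} [Group G] [Finite G] (N : Subgroup G) [N.Normal] (hN : N ≠ ⊤)
    (h : ∀ x : G, x ∉ N → IsPrimePow (orderOf x) ∧ IsCoatom (Subgroup.centralizer ({x} : Set G))) :
    Group.IsSolvable G := by
  classical
  by_contra hns
  have : Fintype G := Fintype.ofFinite G
  have hF2 : Fact (Nat.Prime 2) := ⟨Nat.prime_two⟩
  have hN1 : ∀ x : G, x ∉ N → IsPrimePow (orderOf x) := fun x hx => (h x hx).1
  -- centralizers are `2`-groups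
  have h2 : ∀ x : G, x ∉ N → IsPGroup 2 (centralizer ({x} : Set G)) := by
    intro x hx
    obtain ⟨p, k, hp, hk, he⟩ := (isPrimePow_nat_iff _).mp (h x hx).1
    have : Fact p.Prime := ⟨hp⟩
    have h1 := isPGroup_centralizer N hN1 hp hx he.symm
    by_cases hp2 : p = 2
    · rw [← hp2]; exact h1
    · exfalso
      apply hns
      have hnil : Group.IsNilpotent (centralizer ({x} : Set G)) := h1.isNilpotent
      apply Cfsg.Agent.S4040.result _ (h x hx).2 hnil
      obtain ⟨m, hm⟩ := IsPGroup.iff_card.mp h1
      rw [hm]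
      exact (hp.odd_of_ne_two hp2).pow
  -- they are Sylow subgroups
  have h3 : ∀ x : G, x ∉ N → ∃ T : Sylow 2 G, (T : Subgroup G) = centralizer ({x} : Set G) := by
    intro x hx
    obtain ⟨T, hT⟩ := (h2 x hx).exists_le_sylow
    refine ⟨T, ?_⟩
    by_contra hne
    have h4 := (h x hx).2.2 _ (lt_of_le_of_ne hT (Ne.symm hne))
    apply hns
    have h5 : IsPGroup 2 G := by
      have h6 := T.2
      rw [h4] at h6
      exact h6.of_equiv Subgroup.topEquiv
    have := h5.isNilpotent
    infer_instance
  choose! c hc using h3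
  set m := N.index with hm
  obtain ⟨T0⟩ : Nonempty (Sylow 2 G) := inferInstance
  set t := Nat.card T0 with ht
  have hcard : ∀ T : Sylow 2 G, Nat.card (T : Subgroup G) = t := fun T => Nat.card_congr (Sylow.equiv T T0).toEquiv
  have hm2 : 2 ≤ m := by
    have h1 : m ≠ 1 := fun h1 => hN (Subgroup.index_eq_one.mp h1)
    have h4 : m ≠ 0 := N.index_ne_zero_of_finite
    omega
  -- the fibres
  have hfib : ∀ T : Sylow 2 G, m * ((Finset.univ.filter fun x : G => x ∉ N).filter
      fun x => c x = T).card ≤ (m - 1) * (t - 1) := by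
    intro T
    by_cases hemp : ((Finset.univ.filter fun x : G => x ∉ N).filter fun x => c x = T) = ∅
    · rw [hemp]; simp
    obtain ⟨x, hx⟩ := Finset.nonempty_of_ne_empty hemp
    rw [Finset.mem_filter, Finset.mem_filter] at hx
    obtain ⟨⟨_, hxN⟩, hxT⟩ := hx
    have hTx : (T : Subgroup G) = centralizer ({x} : Set G) := by rw [← hxT]; exact hc x hxN
    set Z : Subgroup G := (T : Subgroup G) ⊓ centralizer ((T : Subgroup G) : Set G) with hZ
    have hZT : Z ≤ T := inf_le_left
    -- `Z < T`
    have hZne : Z ≠ T := by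
      intro he
      apply hns
      have hcoat : IsCoatom (T : Subgroup G) := by rw [hTx]; exact (h x hxN).2
      have hnil : Group.IsNilpotent (T : Subgroup G) := T.2.isNilpotent
      refine Cfsg.Agent.S4039.result _ hcoat hnil ?_
      have hcomm : ∀ a b : (T : Subgroup G), a * b = b * a := by
        intro a b
        have h1 : (b : G) ∈ Z := by rw [he]; exact b.2
        have h4 := (mem_centralizer_iff.mp (mem_inf.mp h1).2) a a.2
        exact Subtype.ext h4
      let : CommGroup (T : Subgroup G) := { (inferInstance : Group (T : Subgroup G)) with mul_comm := hcomm }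
      have h5 : Group.nilpotencyClass (T : Subgroup G) ≤ 1 := CommGroup.nilpotencyClass_le_one
      exact h5.trans (by norm_num)
    have hZt : Nat.card Z ≤ t - 1 := by
      have h1 : Nat.card Z < Nat.card (T : Subgroup G) := by
        refine lt_of_le_of_ne (Subgroup.card_le_of_le hZT) ?_
        intro h4
        exact hZne (Subgroup.eq_of_le_of_card_ge hZT h4.ge)
      rw [hcard] at h1
      omega
    have hsub : ((Finset.univ.filter fun x : G => x ∉ N).filter fun x => c x = T) ⊆
        (Finset.univ.filter fun y : G => y ∈ Z) \ (Finset.univ.filter fun y : G => y ∈ Z ⊓ N) := by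
      intro y hy
      rw [Finset.mem_filter, Finset.mem_filter] at hy
      obtain ⟨⟨_, hyN⟩, hyT⟩ := hy
      have hTy : (T : Subgroup G) = centralizer ({y} : Set G) := by rw [← hyT]; exact hc y hyN
      rw [Finset.mem_sdiff, Finset.mem_filter, Finset.mem_filter]
      refine ⟨⟨Finset.mem_univ _, mem_inf.mpr ⟨?_, ?_⟩⟩, fun h4 => hyN (mem_inf.mp h4.2).2⟩
      · rw [hTy, mem_centralizer_singleton_iff]
      · rw [mem_centralizer_iff]
        intro z hz
        have hz' : z ∈ centralizer ({y} : Set G) := by rw [← hTy]; exact hz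
        rw [mem_centralizer_singleton_iff] at hz'
        exact hz'
    have h4 := Finset.card_le_card hsub
    rw [Finset.card_sdiff_of_subset] at h4
    · have e1 : (Finset.univ.filter fun y : G => y ∈ Z).card = Nat.card Z := by
        rw [Nat.card_eq_fintype_card, Fintype.card_subtype]
      have e2 : (Finset.univ.filter fun y : G => y ∈ Z ⊓ N).card = Nat.card (Z ⊓ N : Subgroup G) := by
        rw [Nat.card_eq_fintype_card, Fintype.card_subtype]
      rw [e1, e2] at h4
      have h5 : Nat.card Z ≤ m * Nat.card (Z ⊓ N : Subgroup G) := by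
        have h6 : N.relIndex Z ∣ N.index := relIndex_dvd_index_of_normal N Z
        have h7 : N.relIndex Z ≤ m := Nat.le_of_dvd (by omega) h6
        have h8 : Nat.card (Z ⊓ N : Subgroup G) * N.relIndex Z = Nat.card Z := by
          have h9 := (N.subgroupOf Z).card_mul_index
          have h10 : Nat.card (N.subgroupOf Z) = Nat.card (Z ⊓ N : Subgroup G) := by
            rw [inf_comm, ← Subgroup.subgroupOf_map_subtype N Z]
            exact (Nat.card_congr ((N.subgroupOf Z).equivMapOfInjective _ Z.subtype_injective).toEquiv)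
          rw [h10] at h9
          exact h9
        rw [← h8, mul_comm]
        exact Nat.mul_le_mul_right _ h7
      have h6 : m * ((Finset.univ.filter fun x : G => x ∉ N).filter fun x => c x = T).card ≤
          m * Nat.card Z - Nat.card Z := by
        calc _ ≤ m * (Nat.card Z - Nat.card (Z ⊓ N : Subgroup G)) := Nat.mul_le_mul_left _ h4
          _ = m * Nat.card Z - m * Nat.card (Z ⊓ N : Subgroup G) := Nat.mul_sub _ _ _
          _ ≤ _ := Nat.sub_le_sub_left h5 _
      calc _ ≤ m * Nat.card Z - Nat.card Z := h6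
        _ = (m - 1) * Nat.card Z := by rw [Nat.sub_mul, one_mul]
        _ ≤ _ := Nat.mul_le_mul_left _ hZt
    · intro y hy
      rw [Finset.mem_filter] at hy ⊢
      exact ⟨hy.1, (mem_inf.mp hy.2).1⟩
  -- total count
  have htot := Finset.card_eq_sum_card_fiberwise (s := Finset.univ.filter fun x : G => x ∉ N)
    (t := (Finset.univ : Finset (Sylow 2 G))) (f := c) (fun x _ => Finset.mem_coe.mpr (Finset.mem_univ _))
  have h4 : m * (Finset.univ.filter fun x : G => x ∉ N).card ≤
      Nat.card (Sylow 2 G) * ((m - 1) * (t - 1)) := by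
    rw [htot, Finset.mul_sum]
    calc _ ≤ ∑ T : Sylow 2 G, (m - 1) * (t - 1) := Finset.sum_le_sum fun T _ => hfib T
      _ = _ := by rw [Finset.sum_const, smul_eq_mul, Finset.card_univ, Nat.card_eq_fintype_card]
  have h5 : m * (Finset.univ.filter fun x : G => x ∉ N).card = (m - 1) * Nat.card G := by
    have e1 : (Finset.univ.filter fun x : G => x ∉ N).card = Nat.card G - Nat.card N := by
      have e2 := Finset.card_filter_add_card_filter_not (s := (Finset.univ : Finset G)) (fun x => x ∈ N)
      have e3 : (Finset.univ.filter fun y : G => y ∈ N).card = Nat.card N := by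
        rw [Nat.card_eq_fintype_card, Fintype.card_subtype]
      rw [e3, Finset.card_univ, ← Nat.card_eq_fintype_card] at e2
      omega
    have e2 := N.card_mul_index
    rw [e1, Nat.mul_sub, Nat.sub_mul, one_mul]
    congr 1
    rw [← e2, mul_comm]
  have h6 : Nat.card (Sylow 2 G) * t ≤ Nat.card G := by
    have e1 := T0.card_dvd_index
    have e2 := (T0 : Subgroup G).card_mul_index
    have e3 : 0 < (T0 : Subgroup G).index := Nat.pos_of_ne_zero (T0 : Subgroup G).index_ne_zero_of_finite
    have e4 := Nat.le_of_dvd e3 e1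
    rw [← e2, mul_comm]
    exact Nat.mul_le_mul_left _ e4
  have h7 : 0 < Nat.card (Sylow 2 G) := Nat.card_pos
  have ht0 : 0 < t := Nat.card_pos
  rw [h5] at h4
  have h8 : (m - 1) * (Nat.card (Sylow 2 G) * t) ≤ (m - 1) * (Nat.card (Sylow 2 G) * (t - 1)) := by
    calc _ ≤ (m - 1) * Nat.card G := Nat.mul_le_mul_left _ h6
      _ ≤ _ := h4
      _ = _ := by ring
  have h9 := Nat.le_of_mul_le_mul_left h8 (by omega)
  have h10 := Nat.le_of_mul_le_mul_left h9 h7
  omega

/-- Let N be a proper normal subgroup of the finite group G such that every element x of G outside N has prime power order and has centralizer C_G(x) a maximal subgroup of G. Then N is solvable. -/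
theorem result {G : Type*} [Group G] [Finite G] (N : Subgroup G) [N.Normal] (hN : N ≠ ⊤)
    (h : ∀ x : G, x ∉ N → IsPrimePow (orderOf x) ∧ IsCoatom (Subgroup.centralizer ({x} : Set G))) : Group.IsSolvable ↥N := by
  have h1 := main N hN h
  infer_instance

end Cfsg.Agent.S3903
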