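import Cfsg.Statements.S3905
import Cfsg.Agent.Lib.H64CentMax2

set_option autoImplicit false
open Cfsg

namespace Cfsg.Agent.S3905

open Subgroup Cfsg.Agent.Lib.CentMaximal Cfsg.Agent.Lib.H64CentMax

/-- Let N be a normal subgroup of the finite group G such that for every element x of N outside the center of N the centralizer C_G(x) is a maximal subgroup of G. Then N/Z(N) is either an elementary abelian p-group for some prime p, or a Frobenius group whose kernel is an elementary abelian normal subgroup and whose complement has prime order. -/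
theorem result {G : Type*} [Group G] [Finite G] (N : Subgroup G) [N.Normal]
    (h : ∀ x : G, x ∈ N → x ∉ Subgroup.centralizer (N : Set G) → IsCoatom (Subgroup.centralizer ({x} : Set G))) :
    (∃ p : ℕ, p.Prime ∧ Cfsg.IsElementaryAbelian p (⊤ : Subgroup (↥N ⧸ Subgroup.center ↥N))) ∨
    (∃ (Q K : Subgroup (↥N ⧸ Subgroup.center ↥N)) (p : ℕ), p.Prime ∧ Cfsg.IsFrobeniusComplement Q ∧ (Nat.card ↥Q).Prime ∧
      K.Normal ∧ (K : Set (↥N ⧸ Subgroup.center ↥N)) = Cfsg.frobeniusKernel Q ∧ Cfsg.IsElementaryAbelian p K) := by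
  by_cases hna : ∃ x : N, x ∉ center N
  · by_cases hab : ∀ x : N, x ∉ center N → IsMulCommutative (C x)
    · rcases case2 h hna hab with ⟨p, hp, hall⟩ | h2
      · have : Fact p.Prime := ⟨hp⟩
        exact Or.inl ⟨p, hp, elementary h hall⟩
      · exact Or.inr h2
    · push Not at hab
      obtain ⟨x, hx, hM⟩ := hab
      obtain ⟨p, hp, hall⟩ := case1 h (nc_of hx) (fun h1 => hM (comm_iff.2 h1))
      have : Fact p.Prime := ⟨hp⟩
      exact Or.inl ⟨p, hp, elementary h hall⟩
  · push Not at hna
    left
    have : Fact (Nat.Prime 2) := ⟨Nat.prime_two⟩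
    refine ⟨2, Nat.prime_two, elementary h ?_⟩
    intro g hg _
    exact mem_center_iff'.1 (hna ⟨g, hg⟩)

end Cfsg.Agent.S3905
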