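import Cfsg.Statements.S3911
import Cfsg.Agent.S0205
import Cfsg.Agent.Lib.PGroupRank
import Cfsg.Agent.Lib.CoprimeAction2
import Cfsg.Agent.Lib.PConstrained
import Cfsg.Agent.Lib.Cores

set_option autoImplicit false
open Cfsg

namespace Cfsg.Agent.S3911

section aux
open Subgroup Cfsg.Agent.Lib Cfsg.Agent.Lib.SubgroupTools
open scoped commutatorElement

/-- the property -/
def Prp (G : Type*) [Group G] : Prop :=
  ∀ A B : Subgroup G, IsMulCommutative ↥A → IsMulCommutative ↥B → Nat.card ↥A = Nat.card ↥B →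
    ∃ g : G, B = A.map (MulAut.conj g).toMonoidHom

variable {G : Type*} [Group G] [Finite G]

theorem mem_map_conj {A : Subgroup G} {g x : G} : x ∈ A.map (MulAut.conj g).toMonoidHom ↔ g⁻¹ * x * g ∈ A := by
  constructor
  · rintro ⟨y, hy, rfl⟩
    have : g⁻¹ * (MulAut.conj g).toMonoidHom y * g = y := by
      change g⁻¹ * (g * y * g⁻¹) * g = y
      group
    rw [this]; exact hy
  · intro h
    refine ⟨_, h, ?_⟩
    change g * (g⁻¹ * x * g) * g⁻¹ = x
    group

/-- elements of prime order `r` all lie in a normal subgroup containing one of them -/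
theorem all_in (hP : Prp G) {N : Subgroup G} (hN : N.Normal) {x y : G} (hy : y ∈ N)
    (hxy : orderOf x = orderOf y) : x ∈ N := by
  obtain ⟨g, hg⟩ := hP (zpowers y) (zpowers x) inferInstance inferInstance (by
    rw [Nat.card_zpowers, Nat.card_zpowers, hxy])
  have h1 : x ∈ (zpowers y).map (MulAut.conj g).toMonoidHom := by
    rw [← hg]; exact mem_zpowers x
  rw [mem_map_conj] at h1
  have h2 : g⁻¹ * x * g ∈ N := (zpowers_le.2 hy) h1
  have h3 := hN.conj_mem _ h2 g
  have e : g * (g⁻¹ * x * g) * g⁻¹ = x := by group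
  rwa [e] at h3

/-- conjugate complements give conjugate images -/
theorem conj_of_lift (hP : Prp G) {N : Subgroup G} [N.Normal] {A B : Subgroup (G ⧸ N)}
    (hc : Nat.card A = Nat.card B) {A' B' : Subgroup G} (hA' : A'.map (QuotientGroup.mk' N) = A)
    (hB' : B'.map (QuotientGroup.mk' N) = B) (hAc : IsMulCommutative A') (hBc : IsMulCommutative B')
    (hcard : Nat.card A' = Nat.card B') : ∃ g : G ⧸ N, B = A.map (MulAut.conj g).toMonoidHom := by
  obtain ⟨g, hg⟩ := hP A' B' hAc hBc hcard
  refine ⟨QuotientGroup.mk' N g, ?_⟩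
  rw [← hB', hg, ← hA']
  ext x
  constructor
  · rintro ⟨_, ⟨a, ha, rfl⟩, rfl⟩
    refine ⟨QuotientGroup.mk' N a, ⟨a, ha, rfl⟩, ?_⟩
    change QuotientGroup.mk' N g * QuotientGroup.mk' N a * (QuotientGroup.mk' N g)⁻¹ = QuotientGroup.mk' N (g * a * g⁻¹)
    rw [map_mul, map_mul, map_inv]
  · rintro ⟨_, ⟨a, ha, rfl⟩, rfl⟩
    refine ⟨g * a * g⁻¹, ⟨a, ha, rfl⟩, ?_⟩
    change QuotientGroup.mk' N (g * a * g⁻¹) = QuotientGroup.mk' N g * QuotientGroup.mk' N a * (QuotientGroup.mk' N g)⁻¹
    rw [map_mul, map_mul, map_inv]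

theorem comm_mem {N : Subgroup G} [hN : N.Normal] {A : Subgroup (G ⧸ N)} (hA : IsMulCommutative A) {a b : G}
    (ha : a ∈ A.comap (QuotientGroup.mk' N)) (hb : b ∈ A.comap (QuotientGroup.mk' N)) : a * b * a⁻¹ * b⁻¹ ∈ N := by
  rw [← QuotientGroup.eq_one_iff]
  have h1 : QuotientGroup.mk' N a * QuotientGroup.mk' N b = QuotientGroup.mk' N b * QuotientGroup.mk' N a := by
    have := hA.is_comm.comm (⟨_, ha⟩ : A) ⟨_, hb⟩
    exact congrArg Subtype.val this
  change QuotientGroup.mk' N (a * b * a⁻¹ * b⁻¹) = 1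
  rw [map_mul, map_mul, map_mul, h1, map_inv, map_inv]
  group

/-- an abelian `A/N` with `|A/N|` coprime to `|N|` lifts to an abelian complement -/
theorem exists_lift {N : Subgroup G} [hN : N.Normal] {A : Subgroup (G ⧸ N)} (hA : IsMulCommutative A)
    (hc : (Nat.card N).Coprime (Nat.card A)) : ∃ A' : Subgroup G, A'.map (QuotientGroup.mk' N) = A ∧
      IsMulCommutative A' ∧ Nat.card A' = Nat.card A := by
  have hle : N ≤ A.comap (QuotientGroup.mk' N) := by
    intro x hx
    have h0 : QuotientGroup.mk' N x = 1 := (QuotientGroup.eq_one_iff x).2 hx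
    change QuotientGroup.mk' N x ∈ A
    rw [h0]; exact A.one_mem
  have hmap : (A.comap (QuotientGroup.mk' N)).map (QuotientGroup.mk' N) = A :=
    Subgroup.map_comap_eq_self_of_surjective (QuotientGroup.mk'_surjective N) A
  have hrel : N.relIndex (A.comap (QuotientGroup.mk' N)) = Nat.card A := by
    have h1 : Nat.card N * N.relIndex (A.comap (QuotientGroup.mk' N)) = Nat.card (A.comap (QuotientGroup.mk' N)) := by
      have := card_mul_relIndex_of_le hle
      exact this
    have h2 : Nat.card (A.comap (QuotientGroup.mk' N)) = Nat.card N * Nat.card A := by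
      rw [Cores.card_comap_mk]
    rw [h2] at h1
    exact Nat.eq_of_mul_eq_mul_left Nat.card_pos h1
  obtain ⟨A', hA'1, hA'2, hA'3, hA'4⟩ := CoprimeAction.exists_complement_rel (N := N) (S := A.comap (QuotientGroup.mk' N))
    (by rw [normalizer_eq_top_iff.2 hN]; exact le_top) (by
      rw [hrel]
      exact Nat.Coprime.coprime_dvd_left (Subgroup.card_dvd_of_le inf_le_left) hc)
  rw [inf_eq_left.2 hle] at hA'4
  have hm : A'.map (QuotientGroup.mk' N) = A := by
    rw [← hmap, ← hA'4, Subgroup.map_sup, QuotientGroup.map_mk'_self, bot_sup_eq]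
  refine ⟨A', hm, ?_, by rw [hA'2, hrel]⟩
  refine ⟨⟨fun a b => ?_⟩⟩
  have h1 : (a : G) * b * (a : G)⁻¹ * (b : G)⁻¹ ∈ N ⊓ A' := by
    refine ⟨comm_mem hA (hA'1 a.2) (hA'1 b.2), ?_⟩
    exact A'.mul_mem (A'.mul_mem (A'.mul_mem a.2 b.2) (A'.inv_mem a.2)) (A'.inv_mem b.2)
  rw [hA'3, Subgroup.mem_bot, mul_inv_eq_one, mul_inv_eq_iff_eq_mul] at h1
  exact Subtype.ext h1

/-- when `N` has prime order `r`, contains all elements of order `r`, and `r ∣ |A/N|` then `A` is abelian -/
theorem abelian_of_big {r : ℕ} [hr : Fact r.Prime] (hr2 : r ≠ 2) {N : Subgroup G} [hN : N.Normal]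
    (hNr : Nat.card N = r) (hall : ∀ x : G, orderOf x = r → x ∈ N) {A : Subgroup (G ⧸ N)} (hA : IsMulCommutative A)
    (hrA : r ∣ Nat.card A) : IsMulCommutative (A.comap (QuotientGroup.mk' N)) := by
  obtain ⟨C, hC⟩ : ∃ C, C = A.comap (QuotientGroup.mk' N) := ⟨_, rfl⟩
  rw [← hC]
  have hcomm : ∀ a ∈ C, ∀ b ∈ C, a * b * a⁻¹ * b⁻¹ ∈ N := by
    intro a ha b hb
    rw [hC] at ha hb
    exact comm_mem hA ha hb
  have hNC : N ≤ C := by
    intro x hx
    have h0 : QuotientGroup.mk' N x = 1 := (QuotientGroup.eq_one_iff x).2 hx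
    rw [hC]
    change QuotientGroup.mk' N x ∈ A
    rw [h0]; exact A.one_mem
  have hCc : Nat.card C = r * Nat.card A := by
    rw [hC, Cores.card_comap_mk, hNr]
  have hNp : IsPGroup r N := IsPGroup.of_card (n := 1) (by rw [hNr, pow_one])
  obtain ⟨Q⟩ : Nonempty (Sylow r C) := inferInstance
  obtain ⟨hSC, hSp, hSi⟩ := CoprimeAction.sylow_map_subtype_props Q
  have hNQ : N.subgroupOf C ≤ (Q : Subgroup C) := by
    have hn : (N.subgroupOf C).Normal := inferInstance
    exact (Cores.le_pCore hn (hNp.of_equiv (Subgroup.subgroupOfEquivOfLe hNC).symm)).trans (Cores.pCore_le_sylow Q)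
  obtain ⟨S, hS⟩ : ∃ S, S = (Q : Subgroup C).map C.subtype := ⟨_, rfl⟩
  rw [← hS] at hSC hSp hSi
  have hNS : N ≤ S := by
    rw [← Subgroup.map_subgroupOf_eq_of_le hNC, hS]
    exact Subgroup.map_mono hNQ
  have hCS : C ≤ normalizer (S : Set G) := by
    have key : ∀ c ∈ C, ∀ s ∈ S, c * s * c⁻¹ ∈ S := by
      intro c hc s hs
      have h1 := hNS (hcomm c hc s (hSC hs))
      have h2 := S.mul_mem h1 hs
      have e : c * s * c⁻¹ * s⁻¹ * s = c * s * c⁻¹ := by group
      rwa [e] at h2
    intro c hc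
    rw [mem_normalizer_iff]
    intro s
    refine ⟨key c hc s, fun h => ?_⟩
    have := key c⁻¹ (C.inv_mem hc) _ h
    have e : c⁻¹ * (c * s * c⁻¹) * c⁻¹⁻¹ = s := by group
    rwa [e] at this
  have hScyc : IsCyclic S := by
    refine PGroupRank.isCyclic_of_unique hr2 (Nat.card S) S rfl hSp (N.subgroupOf S) ?_ ?_
    · rw [card_subgroupOf_of_le hNS, hNr]
    · intro x hx
      rw [mem_subgroupOf]
      by_cases hx1 : x = 1
      · rw [hx1]; exact N.one_mem
      · apply hall
        have h1 : orderOf x ∣ r := orderOf_dvd_of_pow_eq_one hx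
        rcases (Nat.dvd_prime hr.out).1 h1 with h | h
        · exact absurd (orderOf_eq_one_iff.1 h) hx1
        · rw [← h]; exact (Subgroup.orderOf_coe x)
  have hScop : (Nat.card S).Coprime (S.relIndex C) := PConstrained.coprime_card_of_isPGroup hSp hSi
  obtain ⟨K, hKC, hKc, hSK, hSKC⟩ := CoprimeAction.exists_complement_rel (N := S) (S := C) hCS
    (by rw [inf_eq_left.2 hSC]; exact hScop)
  rw [inf_eq_left.2 hSC] at hSKC
  have hKab : ∀ a ∈ K, ∀ b ∈ K, a * b = b * a := by
    intro a ha b hb
    have h1 : a * b * a⁻¹ * b⁻¹ ∈ S ⊓ K :=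
      ⟨hNS (hcomm a (hKC ha) b (hKC hb)), K.mul_mem (K.mul_mem (K.mul_mem ha hb) (K.inv_mem ha)) (K.inv_mem hb)⟩
    rw [hSK, Subgroup.mem_bot, mul_inv_eq_one, mul_inv_eq_iff_eq_mul] at h1
    exact h1
  have hSKle : ⁅S, K⁆ ≤ N := by
    rw [commutator_le]
    intro s hs k hk
    exact hcomm s (hSC hs) k (hKC hk)
  have hcopKS : (Nat.card K).Coprime (Nat.card S) := by rw [hKc]; exact hScop.symm
  have hKS : K ≤ normalizer (S : Set G) := hKC.trans hCS
  have hsv : Group.IsSolvable K ∨ Group.IsSolvable S := Or.inr (PConstrained.isSolvable_of_isPGroup hSp)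
  have hdec := CoprimeAction2.commutator_sup_centralizer hKS hcopKS hsv
  have hne : S ⊓ centralizer (K : Set G) ≠ ⊥ := by
    intro h
    rw [h, sup_bot_eq] at hdec
    have h1 : S ≤ N := by rw [← hdec]; exact hSKle
    have h2 : S = N := le_antisymm h1 hNS
    -- r² divides |C|
    apply hSi
    have h3 := card_mul_relIndex_of_le hSC
    rw [h2, hNr, hCc] at h3
    have h4 := Nat.eq_of_mul_eq_mul_left hr.out.pos h3
    rw [h2, h4]; exact hrA
  obtain ⟨x, hx, hx1⟩ := (Subgroup.bot_or_exists_ne_one _).resolve_left hne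
  have hcenp : IsPGroup r (S ⊓ centralizer (K : Set G) : Subgroup G) := hSp.to_le inf_le_left
  have hNcen : N ≤ centralizer (K : Set G) := by
    have h1 : r ∣ Nat.card (S ⊓ centralizer (K : Set G) : Subgroup G) := by
      have hnt : Nontrivial (S ⊓ centralizer (K : Set G) : Subgroup G) := (Subgroup.nontrivial_iff_ne_bot _).2 hne
      obtain ⟨n, hn⟩ := IsPGroup.iff_card.1 hcenp
      rw [hn]
      have h2 : n ≠ 0 := by
        rintro rfl
        rw [pow_zero] at hn
        exact (Finite.one_lt_card_iff_nontrivial.2 hnt).ne' hn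
      exact dvd_pow_self r h2
    obtain ⟨y, hy⟩ := exists_prime_orderOf_dvd_card' r h1
    have hyo : orderOf (y : G) = r := by rw [Subgroup.orderOf_coe, hy]
    have hyN : (y : G) ∈ N := hall _ hyo
    have hy1 : (y : G) ≠ 1 := by
      intro h
      rw [h, orderOf_one] at hyo
      exact hr.out.one_lt.ne hyo
    rw [← PGroupRank.eq_zpowers_of_card_eq_prime hNr hyN hy1, zpowers_le]
    exact (Subgroup.mem_inf.1 y.2).2
  have hSKbot : ⁅S, K⁆ = ⊥ := by
    rw [← CoprimeAction2.commutator_commutator hKS hcopKS hsv]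
    rw [commutator_eq_bot_iff_le_centralizer]
    exact hSKle.trans hNcen
  have hSKcen : ∀ s ∈ S, ∀ k ∈ K, s * k = k * s := by
    intro s hs k hk
    have := (commutator_eq_bot_iff_le_centralizer.1 hSKbot) hs
    rw [mem_centralizer_iff] at this
    exact (this k hk).symm
  have hSab : ∀ a ∈ S, ∀ b ∈ S, a * b = b * a := by
    intro a ha b hb
    exact congrArg Subtype.val (hScyc.commGroup.mul_comm (⟨a, ha⟩ : S) ⟨b, hb⟩)
  refine ⟨⟨fun a b => ?_⟩⟩
  have ha : (a : G) ∈ S ⊔ K := by rw [hSKC]; exact a.2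
  have hb : (b : G) ∈ S ⊔ K := by rw [hSKC]; exact b.2
  obtain ⟨s, hs, k, hk, hsk⟩ := (mem_sup_of_le_normalizer hKS).1 ha
  obtain ⟨s', hs', k', hk', hsk'⟩ := (mem_sup_of_le_normalizer hKS).1 hb
  apply Subtype.ext
  change (a : G) * b = b * a
  rw [← hsk, ← hsk']
  calc s * k * (s' * k') = s * (k * s') * k' := by group
    _ = s * (s' * k) * k' := by rw [hSKcen s' hs' k hk]
    _ = (s * s') * (k * k') := by group
    _ = (s' * s) * (k' * k) := by rw [hSab s hs s' hs', hKab k hk k' hk']
    _ = s' * (s * k') * k := by group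
    _ = s' * (k' * s) * k := by rw [hSKcen s hs k' hk']
    _ = s' * k' * (s * k) := by group

/-- the step -/
theorem step (hP : Prp G) {r : ℕ} [hr : Fact r.Prime] (hr2 : r ≠ 2) {N : Subgroup G} [hN : N.Normal]
    (hNb : N ≠ ⊥) (hNr : ∀ x ∈ N, x ^ r = 1) (hNab : ∀ a ∈ N, ∀ b ∈ N, a * b = b * a) : Prp (G ⧸ N) := by
  intro A B hA hB hAB
  have hNp : IsPGroup r N := isPGroup_of_forall_pow_eq_one hNr
  obtain ⟨x, hx, hx1⟩ := (Subgroup.bot_or_exists_ne_one N).resolve_left hNb
  have hxo : orderOf x = r := by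
    rcases (Nat.dvd_prime hr.out).1 (orderOf_dvd_of_pow_eq_one (hNr x hx)) with h | h
    · exact absurd (orderOf_eq_one_iff.1 h) hx1
    · exact h
  have hall : ∀ y : G, orderOf y = r → y ∈ N := fun y hy => all_in hP hN hx (by rw [hy, hxo])
  have hgood : (Nat.card N).Coprime (Nat.card A) → ∃ g : G ⧸ N, B = A.map (MulAut.conj g).toMonoidHom := by
    intro hc
    obtain ⟨A', hA'1, hA'2, hA'3⟩ := exists_lift hA hc
    obtain ⟨B', hB'1, hB'2, hB'3⟩ := exists_lift hB (by rw [← hAB]; exact hc)
    exact conj_of_lift hP hAB hA'1 hB'1 hA'2 hB'2 (by rw [hA'3, hB'3, hAB])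
  by_cases hrA : r ∣ Nat.card A
  · by_cases hcard : Nat.card N = r
    · refine conj_of_lift hP hAB (A' := A.comap (QuotientGroup.mk' N)) (B' := B.comap (QuotientGroup.mk' N))
        (Subgroup.map_comap_eq_self_of_surjective (QuotientGroup.mk'_surjective N) A)
        (Subgroup.map_comap_eq_self_of_surjective (QuotientGroup.mk'_surjective N) B)
        (abelian_of_big hr2 hcard hall hA hrA) (abelian_of_big hr2 hcard hall hB (by rw [← hAB]; exact hrA)) ?_
      rw [Cores.card_comap_mk, Cores.card_comap_mk, hAB]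
    · -- `N` is a Sylow subgroup
      exfalso
      -- a subgroup of order r²
      have h1 : r ^ 2 ∣ Nat.card N := by
        obtain ⟨n, hn⟩ := IsPGroup.iff_card.1 hNp
        rw [hn] at hcard ⊢
        apply pow_dvd_pow
        rcases n with _ | _ | n
        · exfalso
          rw [pow_zero] at hn
          exact hNb (Subgroup.card_eq_one.1 hn)
        · exfalso; simp at hcard
        · omega
      obtain ⟨V, hV⟩ := Sylow.exists_subgroup_card_pow_prime (G := N) r h1
      have hno : ∀ y : G, orderOf y ≠ r ^ 2 := by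
        intro y hy
        have hVc : IsMulCommutative ↥(V.map N.subtype) := by
          refine ⟨⟨fun a b => ?_⟩⟩
          apply Subtype.ext
          exact hNab a ((Subgroup.map_subtype_le V) a.2) b ((Subgroup.map_subtype_le V) b.2)
        have hVcard : Nat.card (V.map N.subtype) = Nat.card (zpowers y) := by
          rw [Nat.card_zpowers, hy, Subgroup.card_subtype, hV]
        obtain ⟨g, hg⟩ := hP (V.map N.subtype) (zpowers y) hVc inferInstance hVcard
        · have h2 : y ∈ (V.map N.subtype).map (MulAut.conj g).toMonoidHom := by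
            rw [← hg]; exact mem_zpowers y
          rw [mem_map_conj] at h2
          have h3 : g⁻¹ * y * g ∈ N := (Subgroup.map_subtype_le V) h2
          have h4 := hNr _ h3
          have h5 : y ^ r = 1 := by
            have : (g⁻¹ * y * g) ^ r = g⁻¹ * y ^ r * g := by
              have := conj_pow (a := g⁻¹) (b := y) (i := r)
              rw [inv_inv] at this
              exact this
            rw [this] at h4
            have h6 : y ^ r = g * (g⁻¹ * y ^ r * g) * g⁻¹ := by group
            rw [h6, h4]; group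
          have h6 := orderOf_dvd_of_pow_eq_one h5
          rw [hy] at h6
          have h7 := Nat.le_of_dvd hr.out.pos h6
          have h8 : r * 1 < r * r := Nat.mul_lt_mul_of_pos_left hr.out.one_lt hr.out.pos
          rw [pow_two] at h7
          omega
      -- an element of order r in the quotient
      obtain ⟨a, ha⟩ := exists_prime_orderOf_dvd_card' r hrA
      obtain ⟨y, hy⟩ := QuotientGroup.mk'_surjective N (a : G ⧸ N)
      have hao : orderOf (QuotientGroup.mk' N y) = r := by rw [hy, Subgroup.orderOf_coe, ha]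
      have hyN : y ∉ N := by
        intro h
        have h0 : QuotientGroup.mk' N y = 1 := (QuotientGroup.eq_one_iff y).2 h
        rw [h0, orderOf_one] at hao
        exact hr.out.one_lt.ne hao
      -- y^r ∈ N, so y^(r^2)=1
      have h2 : y ^ r ∈ N := by
        rw [← QuotientGroup.eq_one_iff]
        change QuotientGroup.mk' N (y ^ r) = 1
        rw [map_pow, ← hao, pow_orderOf_eq_one]
      have h3 : y ^ (r ^ 2) = 1 := by
        rw [pow_two, pow_mul]; exact hNr _ h2
      obtain ⟨k, hk, hk2⟩ := (Nat.dvd_prime_pow hr.out).1 (orderOf_dvd_of_pow_eq_one h3)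
      interval_cases k
      · rw [pow_zero, orderOf_eq_one_iff] at hk2
        exact hyN (hk2 ▸ N.one_mem)
      · rw [pow_one] at hk2
        exact hyN (hall y hk2)
      · exact hno y hk2
  · apply hgood
    exact PConstrained.coprime_card_of_isPGroup hNp hrA

universe u

theorem main (n : ℕ) : ∀ (G Q : Type u) [Group G] [Finite G] [Group Q] (f : G →* Q) (_ : Function.Surjective f),
    Nat.card f.ker = n → Odd n → Prp G → Prp Q := by
  induction n using Nat.strong_induction_on with
  | _ n ih =>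
  intro G Q _ _ _ f hf hn hodd hP
  by_cases hk : f.ker = ⊥
  · -- isomorphism
    have hinj : Function.Injective f := (MonoidHom.ker_eq_bot_iff f).1 hk
    intro A B hA hB hAB
    have hcard : ∀ A : Subgroup Q, Nat.card (A.comap f) = Nat.card A := by
      intro A
      have h1 : (A.comap f).map f = A := Subgroup.map_comap_eq_self_of_surjective hf A
      conv_rhs => rw [← h1]
      exact (Subgroup.card_map_of_injective hinj).symm
    have hab : ∀ A : Subgroup Q, IsMulCommutative A → IsMulCommutative (A.comap f) := by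
      intro A hA
      refine ⟨⟨fun a b => ?_⟩⟩
      apply Subtype.ext
      apply hinj
      change f (a * b) = f (b * a)
      rw [map_mul, map_mul]
      exact congrArg Subtype.val (hA.is_comm.comm (⟨f a, a.2⟩ : A) ⟨f b, b.2⟩)
    obtain ⟨g, hg⟩ := hP (A.comap f) (B.comap f) (hab A hA) (hab B hB) (by rw [hcard, hcard, hAB])
    refine ⟨f g, ?_⟩
    rw [← Subgroup.map_comap_eq_self_of_surjective hf B, hg]
    ext y
    constructor
    · rintro ⟨_, ⟨a, ha, rfl⟩, rfl⟩
      refine ⟨f a, ha, ?_⟩
      change f g * f a * (f g)⁻¹ = f (g * a * g⁻¹)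
      rw [map_mul, map_mul, map_inv]
    · rintro ⟨b, hb, rfl⟩
      obtain ⟨a, rfl⟩ := hf b
      refine ⟨g * a * g⁻¹, ⟨a, hb, rfl⟩, ?_⟩
      change f (g * a * g⁻¹) = f g * f a * (f g)⁻¹
      rw [map_mul, map_mul, map_inv]
  · have hnt : Nontrivial f.ker := (Subgroup.nontrivial_iff_ne_bot _).2 hk
    have hs : Group.IsSolvable f.ker := Cfsg.Agent.S0205.result (by rw [hn]; exact hodd)
    obtain ⟨r, E, hr, hE1, hEc, hEab, hEr⟩ := exists_characteristic_elementary f.ker
    have := Fact.mk hr
    obtain ⟨N, hN⟩ : ∃ N, N = E.map f.ker.subtype := ⟨_, rfl⟩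
    have hNn : N.Normal := by rw [hN]; exact Cores.normal_map_subtype_of_characteristic E
    have hNle : N ≤ f.ker := by rw [hN]; exact Subgroup.map_subtype_le _
    have hNb : N ≠ ⊥ := by
      intro h
      rw [hN] at h
      exact hE1 ((Subgroup.map_eq_bot_iff_of_injective _ f.ker.subtype_injective).1 h)
    have hNr : ∀ x ∈ N, x ^ r = 1 := by
      intro x hx
      rw [hN] at hx
      obtain ⟨y, hy, rfl⟩ := hx
      exact congrArg Subtype.val (hEr y hy)
    have hNab : ∀ a ∈ N, ∀ b ∈ N, a * b = b * a := by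
      intro a ha b hb
      rw [hN] at ha hb
      obtain ⟨a, ha, rfl⟩ := ha
      obtain ⟨b, hb, rfl⟩ := hb
      have := hEab.is_comm.comm (⟨a, ha⟩ : E) ⟨b, hb⟩
      exact congrArg (fun z : E => ((z : f.ker) : G)) this
    have hNp : IsPGroup r N := isPGroup_of_forall_pow_eq_one hNr
    have hcardN : 1 < Nat.card N := (Subgroup.one_lt_card_iff_ne_bot N).2 hNb
    have hr2 : r ≠ 2 := by
      rintro rfl
      obtain ⟨k, hk⟩ := IsPGroup.iff_card.1 hNp
      have h1 : Nat.card N ∣ n := by rw [← hn]; exact Subgroup.card_dvd_of_le hNle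
      rw [hk] at h1 hcardN
      have h2 : k ≠ 0 := by rintro rfl; simp at hcardN
      have h3 : 2 ∣ n := (dvd_pow_self 2 h2).trans h1
      exact (Nat.not_even_iff_odd.2 hodd) (even_iff_two_dvd.2 h3)
    have hstep := step hP hr2 hNb hNr hNab
    -- the induced map
    let f' : G ⧸ N →* Q := QuotientGroup.lift N f (fun x hx => hNle hx)
    have hf' : Function.Surjective f' := by
      intro q
      obtain ⟨g, rfl⟩ := hf q
      exact ⟨QuotientGroup.mk g, rfl⟩
    have hfQ : Finite Q := Finite.of_surjective f hf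
    have c1 : Nat.card f.ker * Nat.card Q = Nat.card G := by
      have h1 := f.ker.card_mul_index
      have h2 : f.ker.index = Nat.card Q := by
        rw [Subgroup.index_ker, MonoidHom.range_eq_top.2 hf, Subgroup.card_top]
      rw [h2] at h1; exact h1
    have c2 : Nat.card f'.ker * Nat.card Q = Nat.card (G ⧸ N) := by
      have h1 := f'.ker.card_mul_index
      have h2 : f'.ker.index = Nat.card Q := by
        rw [Subgroup.index_ker, MonoidHom.range_eq_top.2 hf', Subgroup.card_top]
      rw [h2] at h1; exact h1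
    have c3 : Nat.card N * Nat.card (G ⧸ N) = Nat.card G := by
      have := N.card_mul_index
      rw [Subgroup.index] at this
      exact this
    have c4 : Nat.card N * Nat.card f'.ker = n := by
      have hQpos : 0 < Nat.card Q := Nat.card_pos
      apply Nat.eq_of_mul_eq_mul_right hQpos
      rw [← hn, c1, mul_assoc, c2, c3]
    have hkpos : 0 < Nat.card f'.ker := Nat.card_pos
    have hlt : Nat.card f'.ker < n := by
      rw [← c4]
      calc Nat.card f'.ker = 1 * Nat.card f'.ker := (one_mul _).symm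
        _ < Nat.card N * Nat.card f'.ker := Nat.mul_lt_mul_of_pos_right hcardN hkpos
    have hodd' : Odd (Nat.card f'.ker) := by
      rw [← c4] at hodd
      exact (Nat.odd_mul.1 hodd).2
    exact ih _ hlt (G ⧸ N) Q f' hf' rfl hodd' hstep

end aux


/-- Let G be a finite group in which any two abelian subgroups of the same order are conjugate. If M is a normal subgroup of G of odd order, then any two abelian subgroups of G/M of the same order are conjugate in G/M. -/
theorem result {G : Type*} [Group G] [Finite G] (hB : ∀ A B : Subgroup G, IsMulCommutative ↥A → IsMulCommutative ↥B → Nat.card ↥A = Nat.card ↥B → ∃ g : G, B = A.map (MulAut.conj g).toMonoidHom) (M : Subgroup G) [M.Normal] (hM : Odd (Nat.card ↥M)) :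
    ∀ A B : Subgroup (G ⧸ M), IsMulCommutative ↥A → IsMulCommutative ↥B → Nat.card ↥A = Nat.card ↥B →
      ∃ g : G ⧸ M, B = A.map (MulAut.conj g).toMonoidHom := by
  have hP : Prp G := hB
  have hk : (QuotientGroup.mk' M).ker = M := QuotientGroup.ker_mk' M
  exact main (Nat.card M) G (G ⧸ M) (QuotientGroup.mk' M) (QuotientGroup.mk'_surjective M) (by rw [hk]) hM hP

end Cfsg.Agent.S3911
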