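import Cfsg.Agent.Lib.H15CycH
import Cfsg.Agent.Lib.DConj67
import Cfsg.Agent.Lib.Cores
import Mathlib.GroupTheory.Sylow
import Mathlib.GroupTheory.SpecificGroups.Cyclic
import Cfsg.Prelude.Def_Transfer

set_option autoImplicit false

namespace Cfsg.Agent.S4016

open Subgroup Cfsg Cfsg.Agent.Lib.PNilp Cfsg.Agent.Lib.Transfer Cfsg.Agent.Lib.CycNorm Cfsg.Agent.Lib.H15CycA

universe u

theorem not_ctx {G : Type u} [Group G] [Finite G] {p : ℕ} [hp : Fact p.Prime] {P : Sylow p G} (h : Ctx P) : False := by
  by_cases hB : ∃ Q : Sylow p G, ∃ x ∈ centralizer ((Q : Subgroup G) : Set G), (orderOf x).Coprime p ∧ x ≠ 1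
  · obtain ⟨Q, x, hx, hxp, hx1⟩ := hB
    obtain ⟨r, hr, hrd⟩ := Nat.exists_prime_and_dvd (fun h1 => hx1 (orderOf_eq_one_iff.mp h1))
    have : Fact r.Prime := ⟨hr⟩
    have hrp : r ≠ p := by
      rintro rfl
      exact (Nat.Prime.coprime_iff_not_dvd hr).mp hxp.symm hrd
    have h1 : orderOf (x ^ (orderOf x / r)) = r := by
      rw [orderOf_pow_of_dvd (Nat.div_pos (Nat.le_of_dvd (orderOf_pos x) hrd) hr.pos).ne' (Nat.div_dvd_of_dvd hrd)]
      exact Nat.div_div_self hrd (orderOf_pos x).ne'
    obtain ⟨rfl, rfl⟩ := (h.of Q).caseA1 hrp (pow_mem hx _) h1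
    exact (h.of Q).caseA (pow_mem hx _) h1
  · push Not at hB
    exact CtxB.false (p := p) ⟨fun Q => h.of Q, hB⟩

def Hyp (p : ℕ) (G : Type u) [Group G] : Prop :=
  ∀ H : Subgroup G, ¬ p ∣ Nat.card H → ∀ a ∈ H, ∀ b ∈ H, a * b = b * a

variable {G : Type u} [Group G] [Finite G] {p : ℕ} [hp : Fact p.Prime]

omit [Finite G] in
omit hp in
theorem Hyp.sub (h : Hyp p G) (H : Subgroup G) : Hyp p H := by
  intro K hK a ha b hb
  have h1 : Nat.card (K.map H.subtype) = Nat.card K :=
    Nat.card_congr (K.equivMapOfInjective H.subtype H.subtype_injective).toEquiv.symm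
  exact Subtype.ext (h (K.map H.subtype) (by rwa [h1]) a ⟨a, ha, rfl⟩ b ⟨b, hb, rfl⟩)

theorem Hyp.quo (h : Hyp p G) (N : Subgroup G) [N.Normal] (hN : ¬ p ∣ Nat.card N) : Hyp p (G ⧸ N) := by
  intro K hK a ha b hb
  obtain ⟨a, rfl⟩ := QuotientGroup.mk_surjective a
  obtain ⟨b, rfl⟩ := QuotientGroup.mk_surjective b
  have h1 : ¬ p ∣ Nat.card (K.comap (QuotientGroup.mk' N)) := by
    have h2 : Nat.card (K.comap (QuotientGroup.mk' N)) = Nat.card N * Nat.card K := by
      exact Cfsg.Agent.Lib.Cores.card_comap_mk N K
    rw [h2]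
    intro h3
    rcases (hp.out.dvd_mul).mp h3 with h4 | h4
    · exact hN h4
    · exact hK h4
  rw [← QuotientGroup.mk_mul, ← QuotientGroup.mk_mul, h _ h1 a ha b hb]

/-- a Sylow `p`-subgroup normal in a normal subgroup -/
theorem normal_of_normal (P : Sylow p G) (N : Subgroup G) [N.Normal] (hPN : (P : Subgroup G) ≤ N)
    (h : ∀ Q : Sylow p N, (Q : Subgroup N).Normal) : (P : Subgroup G).Normal := by
  have h1 := h (P.subtype hPN)
  have h2 := (P.subtype hPN).characteristic_of_normal h1
  have h3 : (((P.subtype hPN : Sylow p N) : Subgroup N).map N.subtype).Normal :=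
    ConjAct.normal_of_characteristic_of_normal
  have h4 : ((P.subtype hPN : Sylow p N) : Subgroup N).map N.subtype = (P : Subgroup G) := by
    show ((P : Subgroup G).subgroupOf N).map N.subtype = _
    rw [subgroupOf_map_subtype, inf_eq_left.mpr hPN]
  rwa [h4] at h3

theorem isPGroup_of_pResidual_bot (h : pResidual p G = ⊥) : IsPGroup p G := by
  obtain ⟨k, hk⟩ := pResidual_index (G := G) p
  rw [h, index_bot] at hk
  exact IsPGroup.of_card hk

/-- the `p`-elements centralize the normal `p'`-subgroups -/
theorem le_cent_of_normal (hyp : Hyp p G) (P : Sylow p G) (hcyc : IsCyclic P) (hnc : ¬ HasNormalPComplement p G)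
    (K : Subgroup G) [K.Normal] (hK : ¬ p ∣ Nat.card K) :
    (P : Subgroup G) ≤ centralizer (K : Set G) := by
  -- a `p'`-element of `N(P)` not centralizing `P`
  have hle : ¬ normalizer ((P : Subgroup G) : Set G) ≤ centralizer ((P : Subgroup G) : Set G) := fun hle =>
    hnc ⟨P, (MonoidHom.transferSylow P hle).ker, inferInstance, MonoidHom.ker_transferSylow_isComplement' P hle⟩
  have hcomm : ∀ x ∈ (P : Subgroup G), ∀ y ∈ (P : Subgroup G), x * y = y * x := by
    intro x hx y hy
    have h1 := (IsCyclic.commGroup (α := (P : Subgroup G))).mul_comm ⟨x, hx⟩ ⟨y, hy⟩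
    exact congrArg Subtype.val h1
  obtain ⟨g, hgN, hgp, hgC⟩ : ∃ g ∈ normalizer ((P : Subgroup G) : Set G), (orderOf g).Coprime p ∧
      g ∉ centralizer ((P : Subgroup G) : Set G) := by
    by_contra hcon
    push Not at hcon
    apply hle
    intro g hg
    obtain ⟨a, b, ha, hb, hab⟩ := exists_parts p hp.out g
    rw [hab]
    refine mul_mem ?_ (hcon _ (pow_mem hg b) hb)
    rw [mem_centralizer_iff]
    intro y hy
    exact hcomm y hy _ (mem_sylow_of_normalizer ha (pow_mem hg a))
  -- `g` centralizes `K`
  have hgK : g ∈ centralizer (K : Set G) := by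
    have h1 : ¬ p ∣ Nat.card (zpowers g ⊔ K : Subgroup G) := by
      intro h2
      have h5 := Cfsg.Agent.Lib.ConjSylow.card_sup_mul_card_inf (H := zpowers g) (K := K)
        (by rw [normalizer_eq_top_iff.mpr inferInstance]; exact le_top)
      have h8 := h2.trans (Dvd.intro _ h5)
      rcases (hp.out.dvd_mul).mp h8 with h9 | h9
      · rw [Nat.card_zpowers] at h9
        exact (Nat.Prime.coprime_iff_not_dvd hp.out).mp hgp.symm h9
      · exact hK h9
    rw [mem_centralizer_iff]
    intro y hy
    exact hyp _ h1 y (mem_sup_right hy) g (mem_sup_left (mem_zpowers g))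
  have hAN : zpowers g ≤ normalizer ((P : Subgroup G) : Set G) := zpowers_le.mpr hgN
  have hcop : (Nat.card (zpowers g)).Coprime (Nat.card (P : Subgroup G)) := by
    obtain ⟨k, hk⟩ := IsPGroup.iff_card.mp P.isPGroup'
    rw [hk, Nat.card_zpowers]
    exact Nat.Coprime.pow_right k hgp
  have hfix : (P : Subgroup G) ⊓ centralizer (zpowers g : Set G) = ⊥ := by
    by_contra hne
    apply hgC
    have h1 := le_centralizer_of_isCyclic P.isPGroup' hcyc hAN hcop hne
    rw [mem_centralizer_iff]
    intro z hz
    exact (mem_centralizer_iff.mp (h1 hz) g (mem_zpowers _)).symm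
  have hab : IsMulCommutative (P : Subgroup G) := inferInstance
  have h2 := Cfsg.Agent.Lib.CoprimeAction2.sup_commutator_eq_of_abelian hAN hcop
  rw [hfix, bot_sup_eq] at h2
  have hCn : (centralizer (K : Set G)).Normal := inferInstance
  rw [← h2]
  have h3 : zpowers g ≤ centralizer (K : Set G) := zpowers_le.mpr hgK
  exact (commutator_mono le_rfl h3).trans (commutator_le_right _ _)

theorem main (n : ℕ) : ∀ (G : Type u) [Group G] [Finite G], Nat.card G ≤ n →
    (∀ P : Sylow p G, IsCyclic P) → Hyp p G → Good p G := by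
  induction n with
  | zero =>
    intro G _ _ hn
    exact absurd hn (by have := Nat.card_pos (α := G); omega)
  | succ n ih =>
    intro G _ _ hn hcyc hyp
    by_contra hbad
    rw [Good, not_or] at hbad
    obtain ⟨hnc, hnn⟩ := hbad
    push Not at hnn
    obtain ⟨P, hP⟩ := hnn
    have hgood : ∀ H : Subgroup G, H ≠ ⊤ → Good p H := by
      intro H hH
      apply ih H _ (fun Q => Cfsg.Agent.Lib.DConj67.sylow_subgroup_cyclic hcyc Q) (hyp.sub H)
      have h1 : Nat.card H < Nat.card G := by
        apply lt_of_le_of_ne (Nat.le_of_dvd Nat.card_pos (card_subgroup_dvd_card H))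
        intro h2
        exact hH (eq_top_of_card_eq H h2)
      omega
    have hcycP := hcyc P
    -- no normal `p'`-subgroups
    have hc1 : ∀ K : Subgroup G, K.Normal → ¬ p ∣ Nat.card K → K = ⊥ := by
      intro K hKn hK
      by_contra hK1
      have hPK := le_cent_of_normal hyp P hcycP hnc K hK
      have h1 : Good p (G ⧸ K) := by
        apply ih (G ⧸ K) _ (fun Q => Cfsg.Agent.Lib.DConj67.sylow_quotient_cyclic hcyc Q) (hyp.quo K hK)
        have h2 := card_eq_card_quotient_mul_card_subgroup K
        have h3 : 1 < Nat.card K := (one_lt_card_iff_ne_bot K).mpr hK1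
        have h4 : 0 < Nat.card (G ⧸ K) := Nat.card_pos
        have h5 : Nat.card (G ⧸ K) < Nat.card G := by
          rw [h2]; exact lt_mul_of_one_lt_right h4 h3
        omega
      rcases h1 with h1 | h1
      · exact hnc (HasNormalPComplement.of_quotient K hK h1)
      · apply hP
        -- `P K` is normal
        have h2 : ((P : Subgroup G).map (QuotientGroup.mk' K)).Normal := h1 (P.mapSurjective (QuotientGroup.mk'_surjective K))
        refine ⟨fun y hy g => ?_⟩
        have h3 : (QuotientGroup.mk' K) (g * y * g⁻¹) ∈ (P : Subgroup G).map (QuotientGroup.mk' K) := by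
          rw [map_mul, map_mul, map_inv]
          exact h2.conj_mem _ ⟨y, hy, rfl⟩ _
        obtain ⟨z, hz, hzg⟩ := h3
        have h4 : z⁻¹ * (g * y * g⁻¹) ∈ K := QuotientGroup.eq.mp hzg
        set k := z⁻¹ * (g * y * g⁻¹) with hk
        have h5 : g * y * g⁻¹ = z * k := by rw [hk]; group
        have h6 : k * z = z * k := (mem_centralizer_iff.mp (hPK hz) k h4)
        obtain ⟨i, hi⟩ := order_of_mem hy
        have h7 : ∃ j, orderOf (g * y * g⁻¹) = p ^ j := ⟨i, by rw [← hi]; exact (MulAut.conj g).orderOf_eq y⟩
        apply mem_sylow_of_normalizer h7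
        rw [h5]
        refine mul_mem (le_normalizer hz) ?_
        apply mem_normalizer_of_forall
        intro w hw
        have h8 : k * w = w * k := (mem_centralizer_iff.mp (hPK hw) k h4)
        rw [h8, mul_inv_cancel_right]; exact hw
    -- no normal `p`-subgroups
    have hsyl : ∀ D : Subgroup G, D.Normal → IsPGroup p D → D ≤ (P : Subgroup G) := by
      intro D hD hDp
      intro x hx
      obtain ⟨k, hk⟩ := (IsPGroup.iff_orderOf.mp hDp) ⟨x, hx⟩
      rw [Subgroup.orderOf_mk] at hk
      have h1 : IsPGroup p (D ⊔ (P : Subgroup G) : Subgroup G) := hDp.to_sup_of_normal_left P.isPGroup'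
      have h2 := P.is_maximal' h1 le_sup_right
      rw [← h2]; exact mem_sup_left hx
    have hc2 : ∀ D : Subgroup G, D.Normal → IsPGroup p D → D = ⊥ := by
      intro D hDn hDp
      by_contra hD1
      have hDP := hsyl D hDn hDp
      have hPC : (P : Subgroup G) ≤ centralizer (D : Set G) := by
        intro x hx
        rw [mem_centralizer_iff]
        intro y hy
        have h1 := (IsCyclic.commGroup (α := (P : Subgroup G))).mul_comm ⟨y, hDP hy⟩ ⟨x, hx⟩
        exact congrArg Subtype.val h1
      by_cases hC : centralizer (D : Set G) = ⊤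
      · obtain ⟨z, hz, hz1⟩ := (Subgroup.bot_or_exists_ne_one D).resolve_left hD1
        refine hnc (Cfsg.Agent.Lib.CyclicSylow.hasNormalPComplement_of_central P z ?_ (hDP hz) hz1)
        rw [mem_center_iff]
        intro g
        have h3 : g ∈ centralizer (D : Set G) := by rw [hC]; trivial
        exact (mem_centralizer_iff.mp h3 z hz).symm
      · rcases hgood _ hC with h1 | h1
        · have h2 := hasNormalPComplement_iff_pResidual.mp h1
          have h3 := pResidual_characteristic (G := centralizer (D : Set G)) p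
          have h4 : ((pResidual p (centralizer (D : Set G))).map (centralizer (D : Set G)).subtype).Normal :=
            ConjAct.normal_of_characteristic_of_normal
          have h5 := hc1 _ h4 (by
            rw [Nat.card_congr ((pResidual p (centralizer (D : Set G))).equivMapOfInjective _
              (centralizer (D : Set G)).subtype_injective).toEquiv.symm]
            exact h2)
          have h6 : pResidual p (centralizer (D : Set G)) = ⊥ := by
            rwa [Subgroup.map_eq_bot_iff_of_injective _ (centralizer (D : Set G)).subtype_injective] at h5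
          have h7 := isPGroup_of_pResidual_bot h6
          have h8 := P.is_maximal' h7 hPC
          apply hP
          rw [← h8]; infer_instance
        · exact hP (normal_of_normal P _ hPC h1)
    have hnt : Nontrivial G := by
      by_contra h1
      rw [not_nontrivial_iff_subsingleton] at h1
      apply hP
      refine ⟨fun y hy g => ?_⟩
      rw [Subsingleton.elim (g * y * g⁻¹) y]; exact hy
    have hsimple : IsSimpleGroup G := by
      refine ⟨fun N hN => ?_⟩
      by_contra hcon
      rw [not_or] at hcon
      obtain ⟨hN1, hN2⟩ := hcon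
      rcases hgood N hN2 with h1 | h1
      · have h2 := hasNormalPComplement_iff_pResidual.mp h1
        have h3 := pResidual_characteristic (G := N) p
        have h4 : ((pResidual p N).map N.subtype).Normal :=
          ConjAct.normal_of_characteristic_of_normal
        have h5 := hc1 _ h4 (by
          rw [Nat.card_congr ((pResidual p N).equivMapOfInjective _ N.subtype_injective).toEquiv.symm]
          exact h2)
        have h6 : pResidual p N = ⊥ := by
          rwa [Subgroup.map_eq_bot_iff_of_injective _ N.subtype_injective] at h5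
        exact hN1 (hc2 N hN (isPGroup_of_pResidual_bot h6))
      · obtain ⟨Q⟩ : Nonempty (Sylow p N) := inferInstance
        have h2 := Q.characteristic_of_normal (h1 Q)
        have h4 : ((Q : Subgroup N).map N.subtype).Normal :=
          ConjAct.normal_of_characteristic_of_normal
        have h5 := hc2 _ h4 (Q.isPGroup'.map _)
        have h6 : (Q : Subgroup N) = ⊥ := by
          rwa [Subgroup.map_eq_bot_iff_of_injective _ N.subtype_injective] at h5
        apply hN1 (hc1 N hN _)
        have h7 := Q.not_dvd_index
        rwa [h6, index_bot] at h7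
    exact not_ctx (P := P) ⟨hsimple, hcycP, hyp, hgood, hnc, hP⟩

/-- Let G be a finite group and p a prime such that a Sylow p-subgroup P of G is cyclic and every subgroup of G of order prime to p is abelian. Then G has a normal p-complement or P is normal in G. -/
theorem result {G : Type*} [Group G] [Finite G] {p : ℕ}
    [Fact p.Prime] (P : Sylow p G) (hcyc : IsCyclic P)
    (hab : ∀ H : Subgroup G, ¬ p ∣ Nat.card H → IsMulCommutative H) :
    Cfsg.HasNormalPComplement p G ∨ (P : Subgroup G).Normal := by
  rcases main (p := p) (Nat.card G) G le_rfl (fun Q => by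
      exact isCyclic_of_surjective (Sylow.equiv P Q) (Sylow.equiv P Q).surjective) (fun H hH a ha b hb => by
      have := hab H hH
      exact congrArg Subtype.val (mul_comm' (⟨a, ha⟩ : H) ⟨b, hb⟩)) with h | h
  · exact Or.inl h
  · exact Or.inr (h P)

end Cfsg.Agent.S4016
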