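import Cfsg.Statements.S4017
import Cfsg.Agent.Lib.TwoPrJ

set_option autoImplicit false
open Cfsg

namespace Cfsg.Agent.S4017

open Subgroup Cfsg.Agent.Lib.TwoPr in
/-- The induction. -/
theorem main {p a : ℕ} (hp : p.Prime) (hp2 : p ≠ 2) (hpa : p + 1 = 2 ^ a) (n : ℕ) :
    ∀ (G : Type*) [Group G] [Finite G], Nat.card G = n → Hyp p a G → Good p 2 G := by
  induction n using Nat.strong_induction_on with
  | _ n ih =>
  intro G _ _ hn h
  haveI : Fact (Nat.Prime 2) := ⟨Nat.prime_two⟩
  haveI := Fact.mk hp
  by_contra hbad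
  have hgood : ∀ H : Subgroup G, H ≠ ⊤ → 2 ∣ Nat.card H → Good p 2 H := by
    intro H hH h2H
    by_cases hH2 : IsPGroup 2 H
    · intro r hr hrH
      right
      obtain ⟨k, hk⟩ := IsPGroup.iff_card.1 hH2
      rw [hk] at hrH
      exact (Nat.prime_dvd_prime_iff_eq hr Nat.prime_two).1 (hr.dvd_of_dvd_pow hrH)
    have hpH := h.mix H hH hH2 h2H
    have hlt : Nat.card H < n := by
      rw [← hn]
      rcases (Subgroup.card_le_card_group H).lt_or_eq with h' | h'
      · exact h'
      · exact absurd (Subgroup.eq_top_of_card_eq H h') hH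
    refine ih _ hlt H rfl ⟨hpH, h2H, ?_, ?_, ?_⟩
    · intro h'
      exact h.h2a (h'.trans (card_subgroup_dvd_card H))
    · intro P hP u hu v hv
      have := h.ab (P.map H.subtype) (hP.map _) u ⟨u, hu, rfl⟩ v ⟨v, hv, rfl⟩
      exact Subtype.ext this
    · intro K hK hK2 h2K
      have hc : Nat.card (K.map H.subtype) = Nat.card K :=
        Nat.card_congr (K.equivMapOfInjective _ H.subtype_injective).symm.toEquiv
      rw [← hc]
      apply h.mix
      · intro h'
        apply hH
        rw [eq_top_iff, ← h']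
        exact map_subtype_le _
      · intro h'
        apply hK2
        exact h'.of_injective (K.equivMapOfInjective _ H.subtype_injective).toMonoidHom
          (K.equivMapOfInjective _ H.subtype_injective).injective
      · rw [hc]; exact h2K
  obtain ⟨Q, x, hc⟩ := core_of_hyp hp hp2 hpa h hbad hgood
  have hs : IsSimpleGroup G := by
    apply hc.isSimple h.mix h.h2a hbad
    intro N hN hNb hHyp
    refine ih _ ?_ (G ⧸ N) rfl hHyp
    rw [← hn, card_eq_card_quotient_mul_card_subgroup N]
    have h1 : 1 < Nat.card N := by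
      by_contra h'
      have h2 : 0 < Nat.card N := Nat.card_pos
      exact hNb (Subgroup.card_eq_one.1 (by omega))
    have h2 : 0 < Nat.card (G ⧸ N) := Nat.card_pos
    nlinarith
  by_cases ha : 3 ≤ a
  · exact hc.caseI_false hs (hc.caseI_of_three_le hs ha)
  · have ha2 : a = 2 := by
      have := hp.two_le
      interval_cases a <;> omega
    subst ha2
    have hp3 : p = 3 := by
      norm_num at hpa
      omega
    subst hp3
    by_cases hI : CaseI Q
    · exact hc.caseI_false hs hI
    · exact hc.four_false hs hI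

/-- Let G be a finite group and let p and q be distinct primes dividing the order of G, with p odd. Suppose that p divides the order of every proper subgroup of G that is neither a q-group nor of order prime to q. Let q^a be the q-part of the order of G. If p > q^a − 1, or if p = q^a − 1 and the Sylow p-subgroups of G are abelian, then p and q are the only primes dividing the order of G. -/
theorem result {G : Type*} [Group G] [Finite G]
    {p q : ℕ} (hp : p.Prime) (hq : q.Prime) (hpq : p ≠ q) (hp2 : p ≠ 2)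
    (hpG : p ∣ Nat.card G) (hqG : q ∣ Nat.card G)
    (hmix : ∀ H : Subgroup G, H ≠ ⊤ → ¬ IsPGroup q H → q ∣ Nat.card H → p ∣ Nat.card H)
    (hlarge : q ^ (Nat.card G).factorization q - 1 < p ∨
      (p = q ^ (Nat.card G).factorization q - 1 ∧ ∀ P : Sylow p G, IsMulCommutative P)) :
    ∀ r : ℕ, r.Prime → r ∣ Nat.card G → r = p ∨ r = q := by
  haveI := Fact.mk hp
  haveI := Fact.mk hq
  by_contra hbad
  have hbad' : ¬ Cfsg.Agent.Lib.TwoPr.Good p q G := hbad
  obtain ⟨P⟩ : Nonempty (Sylow q G) := inferInstance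
  obtain ⟨Q, hQP, s, hsN, hsQ, k, hk⟩ :=
    Cfsg.Agent.Lib.TwoPr.exists_of_not_good hp hq hpq hpG hqG hmix hbad' P
  obtain ⟨m, hm, hpm⟩ := Cfsg.Agent.Lib.TwoPr.exists_quot hp hq hpq (P.2.to_le hQP) hsN hk hsQ
  have h1 : Nat.card Q ≤ Nat.card P := Subgroup.card_le_of_le hQP
  rw [Sylow.card_eq_multiplicity] at h1
  have h2 : 0 < Nat.card (Q ⊓ Subgroup.centralizer {s} : Subgroup G) := Nat.card_pos
  have h3 : p + 1 ≤ Nat.card Q := by
    rw [hm]
    calc p + 1 = 1 * (p + 1) := (one_mul _).symm
      _ ≤ _ := Nat.mul_le_mul h2 hpm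
  obtain ⟨hpe, hab⟩ : p = q ^ (Nat.card G).factorization q - 1 ∧ ∀ P : Sylow p G, IsMulCommutative P := by
    rcases hlarge with h' | h'
    · omega
    · exact h'
  have hpa : p + 1 = q ^ (Nat.card G).factorization q := by omega
  have hq2 : q = 2 := by
    have h4 : 2 ∣ p + 1 := by
      have h5 : p % 2 = 1 := (hp.eq_two_or_odd).resolve_left hp2
      omega
    rw [hpa] at h4
    exact ((Nat.prime_dvd_prime_iff_eq Nat.prime_two hq).1 (Nat.prime_two.dvd_of_dvd_pow h4)).symm
  subst hq2
  apply hbad
  refine main hp hp2 hpa (Nat.card G) G rfl ⟨hpG, hqG, ?_, ?_, hmix⟩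
  · intro h'
    have := (Nat.Prime.pow_dvd_iff_le_factorization hq Nat.card_pos.ne').1 h'
    omega
  · intro T hT u hu v hv
    obtain ⟨S, hS⟩ := hT.exists_le_sylow
    have := (hab S).is_comm.comm ⟨u, hS hu⟩ ⟨v, hS hv⟩
    exact congrArg Subtype.val this

end Cfsg.Agent.S4017
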