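import Cfsg.Statements.S4033
import Cfsg.Agent.S4035
import Cfsg.Agent.Lib.ClassPow
import Cfsg.Agent.Lib.H64CTf

set_option autoImplicit false
open Cfsg

namespace Cfsg.Agent.S4033

open Subgroup Cfsg.Agent.Lib Cfsg.Agent.Lib.H64CSa Cfsg.Agent.Lib.H64CTa

/-- all `{p,q}'`-elements central: direct decomposition -/
theorem second {G : Type*} [Group G] [Finite G] {p q : ℕ} (hp : p.Prime) (hq : q.Prime) (hqp : q ≠ p)
    (h : ∀ t : ℕ, t.Prime → t ≠ p → t ≠ q → ∀ x : G, El t x → x ∈ center G) :
    ∃ (q : ℕ) (_ : Fact q.Prime) (P : Sylow p G) (Q : Sylow q G) (A : Subgroup G), q ≠ p ∧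
        A ≤ Subgroup.center G ∧ Nat.card ↥((P : Subgroup G) ⊔ (Q : Subgroup G)) = Nat.card P * Nat.card Q ∧
        ((P : Subgroup G) ⊔ (Q : Subgroup G)).Normal ∧
        ((P : Subgroup G) ⊔ (Q : Subgroup G)) ⊓ A = ⊥ ∧ ((P : Subgroup G) ⊔ (Q : Subgroup G)) ⊔ A = ⊤ := by
  have hpF : Fact p.Prime := ⟨hp⟩
  have hqF : Fact q.Prime := ⟨hq⟩
  -- the central Hall subgroup
  let A : Subgroup G :=
    { carrier := {x | x ∈ center G ∧ (orderOf x).Coprime (p * q)}
      one_mem' := ⟨one_mem _, by rw [orderOf_one]; exact Nat.coprime_one_left _⟩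
      mul_mem' := by
        rintro x y ⟨hx, hx'⟩ ⟨hy, hy'⟩
        refine ⟨mul_mem hx hy, ?_⟩
        have h1 : Commute x y := H64CSe.central_comm hx
        exact Nat.Coprime.coprime_dvd_left h1.orderOf_mul_dvd_mul_orderOf (Nat.Coprime.mul_left hx' hy')
      inv_mem' := by
        rintro x ⟨hx, hx'⟩
        refine ⟨inv_mem hx, ?_⟩
        rw [orderOf_inv]; exact hx' }
  have hAc : A ≤ center G := fun x hx => hx.1
  have hAn : A.Normal := by
    constructor
    intro x hx g
    have h1 : g * x * g⁻¹ = x := by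
      rw [← (H64CSe.central_comm (hAc hx) : Commute x g).eq, mul_inv_cancel_right]
    rw [h1]; exact hx
  have hAcop : ∀ t : ℕ, t.Prime → (t = p ∨ t = q) → ¬ t ∣ Nat.card A := by
    intro t ht htpq hd
    have : Fact t.Prime := ⟨ht⟩
    obtain ⟨x, hx⟩ := exists_prime_orderOf_dvd_card' t hd
    have h1 : (orderOf (x : G)).Coprime (p * q) := x.2.2
    rw [Subgroup.orderOf_coe, hx] at h1
    rcases htpq with rfl | rfl
    · exact ht.one_lt.ne' (Nat.Coprime.eq_one_of_dvd h1 (dvd_mul_right _ _))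
    · exact ht.one_lt.ne' (Nat.Coprime.eq_one_of_dvd h1 (dvd_mul_left _ _))
  have hAi : ∀ t : ℕ, t.Prime → t ≠ p → t ≠ q → ¬ t ∣ A.index := by
    intro t ht htp htq hd
    have : Fact t.Prime := ⟨ht⟩
    obtain ⟨T⟩ := (inferInstance : Nonempty (Sylow t G))
    have hTA : (T : Subgroup G) ≤ A := by
      intro x hx
      obtain ⟨k, hk⟩ := (IsPGroup.iff_orderOf.1 T.2) ⟨x, hx⟩
      rw [Subgroup.orderOf_mk] at hk
      refine ⟨h t ht htp htq x ⟨k, hk⟩, ?_⟩
      rw [hk]
      exact Nat.Coprime.pow_left k (Nat.Coprime.mul_right ((Nat.coprime_primes ht hp).2 htp)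
        ((Nat.coprime_primes ht hq).2 htq))
    exact T.not_dvd_index (hd.trans (Subgroup.index_dvd_of_le hTA))
  have hcop : (Nat.card A).Coprime A.index := by
    refine Nat.Coprime.symm (Nat.coprime_of_dvd fun t ht h2 h1 => ?_)
    by_cases htp : t = p
    · exact hAcop t ht (Or.inl htp) h1
    by_cases htq : t = q
    · exact hAcop t ht (Or.inr htq) h1
    exact hAi t ht htp htq h2
  obtain ⟨B, hB⟩ := Subgroup.exists_right_complement'_of_coprime hcop
  have hBn : B.Normal := by
    constructor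
    intro x hx g
    obtain ⟨a, b, hab⟩ : ∃ a : A, ∃ b : B, (a : G) * b = g := by
      obtain ⟨⟨a, b⟩, hab⟩ := hB.2 g
      exact ⟨a, b, hab⟩
    have h1 : g * x * g⁻¹ = (b : G) * x * (b : G)⁻¹ := by
      have h2 : (a : G) * (b * x * (b : G)⁻¹) * (a : G)⁻¹ = b * x * (b : G)⁻¹ := by
        rw [(H64CSe.central_comm (hAc a.2) : Commute (a : G) (b * x * (b : G)⁻¹)).eq, mul_inv_cancel_right]
      rw [← h2, ← hab]; group
    rw [h1]
    exact mul_mem (mul_mem b.2 hx) (inv_mem b.2)
  have hBc : Nat.card B = A.index := hB.symm.index_eq_card.symm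
  have hBi : B.index = Nat.card A := hB.index_eq_card
  obtain ⟨P⟩ := (inferInstance : Nonempty (Sylow p G))
  obtain ⟨Q⟩ := (inferInstance : Nonempty (Sylow q G))
  have hle : ∀ t : ℕ, t.Prime → (t = p ∨ t = q) → ∀ T : Subgroup G, IsPGroup t T → T ≤ B := by
    intro t ht htpq T hT x hx
    have : Fact t.Prime := ⟨ht⟩
    obtain ⟨k, hk⟩ := (IsPGroup.iff_orderOf.1 hT) ⟨x, hx⟩
    rw [Subgroup.orderOf_mk] at hk
    rw [← QuotientGroup.eq_one_iff, ← orderOf_eq_one_iff]
    have h1 : orderOf (x : G ⧸ B) ∣ t ^ k := by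
      rw [← hk]
      exact orderOf_map_dvd (QuotientGroup.mk' B) x
    have h2 : orderOf (x : G ⧸ B) ∣ Nat.card A := by
      rw [← hBi]
      exact orderOf_dvd_natCard _
    exact Nat.eq_one_of_dvd_coprimes (Nat.Coprime.pow_left k ((Nat.Prime.coprime_iff_not_dvd ht).2 (hAcop t ht htpq)))
      h1 h2
  have hPB : (P : Subgroup G) ≤ B := hle p hp (Or.inl rfl) _ P.2
  have hQB : (Q : Subgroup G) ≤ B := hle q hq (Or.inr rfl) _ Q.2
  obtain ⟨i, hi⟩ := IsPGroup.iff_card.1 P.2
  obtain ⟨j, hj⟩ := IsPGroup.iff_card.1 Q.2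
  have hPQ : (Nat.card P).Coprime (Nat.card Q) := by
    rw [hi, hj]; exact Nat.Coprime.pow _ _ ((Nat.coprime_primes hp hq).2 hqp.symm)
  have hBle : Nat.card B ∣ Nat.card P * Nat.card Q := by
    rw [← Nat.factorization_le_iff_dvd Nat.card_pos.ne' (mul_ne_zero Nat.card_pos.ne' Nat.card_pos.ne')]
    intro t
    by_cases ht : t.Prime
    swap
    · rw [Nat.factorization_eq_zero_of_not_prime _ ht]; exact Nat.zero_le _
    have hPt : p ≠ t ∨ True := Or.inr trivial
    rw [Nat.factorization_mul Nat.card_pos.ne' Nat.card_pos.ne', Finsupp.add_apply]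
    by_cases htp : t = p
    · subst htp
      have h1 : (Nat.card B).factorization t ≤ (Nat.card G).factorization t :=
        (Nat.factorization_le_iff_dvd Nat.card_pos.ne' Nat.card_pos.ne').2 (Subgroup.card_subgroup_dvd_card B) t
      have h2 : (Nat.card P).factorization t = (Nat.card G).factorization t := by
        have h3 := Subgroup.card_mul_index (P : Subgroup G)
        rw [← h3, Nat.factorization_mul Nat.card_pos.ne' Subgroup.index_ne_zero_of_finite, Finsupp.add_apply,
          Nat.factorization_eq_zero_of_not_dvd P.not_dvd_index, add_zero]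
      omega
    by_cases htq : t = q
    · subst htq
      have h1 : (Nat.card B).factorization t ≤ (Nat.card G).factorization t :=
        (Nat.factorization_le_iff_dvd Nat.card_pos.ne' Nat.card_pos.ne').2 (Subgroup.card_subgroup_dvd_card B) t
      have h2 : (Nat.card Q).factorization t = (Nat.card G).factorization t := by
        have h3 := Subgroup.card_mul_index (Q : Subgroup G)
        rw [← h3, Nat.factorization_mul Nat.card_pos.ne' Subgroup.index_ne_zero_of_finite, Finsupp.add_apply,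
          Nat.factorization_eq_zero_of_not_dvd Q.not_dvd_index, add_zero]
      omega
    · rw [hBc, Nat.factorization_eq_zero_of_not_dvd (hAi t ht htp htq)]
      exact Nat.zero_le _
  have hsup : (P : Subgroup G) ⊔ (Q : Subgroup G) = B := by
    refine Subgroup.eq_of_le_of_card_ge (sup_le hPB hQB) ?_
    refine Nat.le_of_dvd Nat.card_pos (hBle.trans ?_)
    exact hPQ.mul_dvd_of_dvd_of_dvd (Subgroup.card_dvd_of_le le_sup_left) (Subgroup.card_dvd_of_le le_sup_right)
  refine ⟨q, hqF, P, Q, A, hqp, hAc, ?_, ?_, ?_, ?_⟩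
  · rw [hsup]
    refine Nat.dvd_antisymm hBle ?_
    rw [← hsup]
    exact hPQ.mul_dvd_of_dvd_of_dvd (Subgroup.card_dvd_of_le le_sup_left) (Subgroup.card_dvd_of_le le_sup_right)
  · rw [hsup]; exact hBn
  · rw [hsup, inf_comm]; exact hB.disjoint.eq_bot
  · rw [hsup, sup_comm]; exact hB.sup_eq_top

/-- Let G be a finite group and p a prime, and suppose the conjugacy classes of p-regular elements of G (elements of order prime to p) have exactly two distinct sizes. Then either G has an abelian p-complement (an abelian subgroup of order prime to p and p-power index), or there are a prime q ≠ p, a Sylow p-subgroup P, a Sylow q-subgroup Q and a central subgroup A such that PQ is a normal subgroup of order #P·#Q and G is the internal direct product PQ × A. -/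
theorem result {G : Type*} [Group G] [Finite G] {p : ℕ} (hp : p.Prime)
    (h2 : Set.ncard (Set.range fun x : {x : G // (orderOf x).Coprime p} => (ConjClasses.mk (x : G)).carrier.ncard) = 2) :
    (∃ H : Subgroup G, IsMulCommutative H ∧ ¬ p ∣ Nat.card H ∧ ∃ k : ℕ, H.index = p ^ k) ∨
    (∃ (q : ℕ) (_ : Fact q.Prime) (P : Sylow p G) (Q : Sylow q G) (A : Subgroup G), q ≠ p ∧
        A ≤ Subgroup.center G ∧ Nat.card ↥((P : Subgroup G) ⊔ (Q : Subgroup G)) = Nat.card P * Nat.card Q ∧
        ((P : Subgroup G) ⊔ (Q : Subgroup G)).Normal ∧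
        ((P : Subgroup G) ⊔ (Q : Subgroup G)) ⊓ A = ⊥ ∧ ((P : Subgroup G) ⊔ (Q : Subgroup G)) ⊔ A = ⊤) := by
  classical
  have hpF : Fact p.Prime := ⟨hp⟩
  -- the common class size `m`
  obtain ⟨m, hm⟩ : ∃ m : ℕ, ∀ x : G, (orderOf x).Coprime p → x ∉ center G → (C x).index = m := by
    rw [Set.ncard_eq_two] at h2
    obtain ⟨a, b, hab, hS⟩ := h2
    have h1 : (1 : ℕ) ∈ ({a, b} : Set ℕ) := by
      rw [← hS]
      refine ⟨⟨1, by rw [orderOf_one]; exact Nat.coprime_one_left _⟩, ?_⟩
      show (ConjClasses.mk (1 : G)).carrier.ncard = 1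
      rw [S4035.card_carrier, index_eq_one_iff]
      exact one_mem _
    have h3 : ∀ x : G, (orderOf x).Coprime p → (C x).index = a ∨ (C x).index = b := by
      intro x hx
      have h4 : (C x).index ∈ ({a, b} : Set ℕ) := by
        rw [← hS]
        exact ⟨⟨x, hx⟩, S4035.card_carrier x⟩
      simpa using h4
    rcases (by simpa using h1 : 1 = a ∨ 1 = b) with rfl | rfl
    · refine ⟨b, fun x hx hxc => ?_⟩
      rcases h3 x hx with h | h
      · exact absurd (index_eq_one_iff.1 h) hxc
      · exact h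
    · refine ⟨a, fun x hx hxc => ?_⟩
      rcases h3 x hx with h | h
      · exact h
      · exact absurd (index_eq_one_iff.1 h) hxc
  by_cases hpow : ∃ k, m = p ^ k
  · left
    obtain ⟨k, rfl⟩ := hpow
    have hR : ClassPow.RegPow p G := by
      intro x hx
      by_cases hxc : x ∈ center G
      · exact ⟨0, by rw [pow_zero]; exact index_eq_one_iff.2 hxc⟩
      · exact ⟨k, hm x hx hxc⟩
    exact ClassPow.RegPow.abCompl hp (Nat.card G) G rfl hR
  · right
    by_cases htwo : ∀ t : ℕ, ∃ q, q ≠ t ∧ Pi G p q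
    · exfalso
      have hHH : HH G p m := ⟨hp, hm, htwo⟩
      have hmp := H64CTf.main_pow hHH
      apply hpow
      have hm0 : m ≠ 0 := by
        obtain ⟨q, -, hq⟩ := htwo 0
        obtain ⟨w, hwc, hw⟩ := hq.ex
        rw [← hm w (el_coprime hq.pr hp hq.ne hw) hwc]
        exact Subgroup.index_ne_zero_of_finite
      exact ⟨_, Nat.eq_prime_pow_of_unique_prime_dvd hm0 (fun {r} hr hrm => hmp r hr hrm)⟩
    · push Not at htwo
      obtain ⟨t, ht⟩ := htwo
      have hcen : ∀ s : ℕ, s.Prime → s ≠ p → s ≠ t → ∀ x : G, El s x → x ∈ center G := by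
        intro s hs hsp hst x hx
        by_contra hxc
        exact ht s hst ⟨hs, hsp, x, hxc, hx⟩
      by_cases htt : t.Prime ∧ t ≠ p
      · exact second hp htt.1 htt.2 hcen
      · -- no noncentral prime at all
        obtain ⟨r, hr, hrp⟩ : ∃ r : ℕ, r.Prime ∧ r ≠ p := by
          by_cases h : p = 2
          · exact ⟨3, Nat.prime_three, by omega⟩
          · exact ⟨2, Nat.prime_two, fun h' => h h'.symm⟩
        refine second hp hr hrp fun s hs hsp _ x hx => ?_
        refine hcen s hs hsp ?_ x hx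
        rintro rfl
        exact htt ⟨hs, hsp⟩

end Cfsg.Agent.S4033
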