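import Cfsg.Statements.S4064
import Cfsg.Agent.Lib.H81TI8
import Cfsg.Agent.Lib.Cores2
import Cfsg.Agent.Lib.ClSeven
import Cfsg.Agent.S0183
import Cfsg.Agent.S1230

set_option autoImplicit false
open Cfsg

namespace Cfsg.Agent.S4064

open Cfsg.Agent.Lib Cfsg.Agent.Lib.CN Cfsg.Agent.Lib.H81TI1 Cfsg.Agent.Lib.H81TI3

theorem fittingHall_ne_bot {G : Type*} [Group G] [Finite G] (h : CT G) {N : Subgroup G} (hN : N.Normal)
    (hnil : Group.IsNilpotent N) (hne : N ≠ ⊥) : fittingHall G ≠ ⊥ := by
  obtain ⟨H, hH, hNH⟩ := exists_isMaxNilp_ge hnil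
  obtain ⟨y, hy, hy1⟩ : ∃ y ∈ N, y ≠ 1 := by
    by_contra hcon
    push Not at hcon
    exact hne (eq_bot_iff.mpr fun z hz => hcon z hz)
  have hn : H.Normal := by
    rw [← Subgroup.normalizer_eq_top_iff, Subgroup.eq_top_iff']
    intro g
    exact h.ti hH (hNH hy) hy1 (hNH (hN.conj_mem y hy g))
  have h1 : H ≤ fittingHall G := by
    apply le_sSup
    exact ⟨hn, hH.1, hH.coprime_index h.isCN⟩
  intro hbot
  rw [hbot] at h1
  exact hy1 ((Subgroup.mem_bot).mp (h1 (hNH hy)))

/-- Let G be a finite group in which the centralizer of every element meets each of its conjugates by elements outside its normalizer trivially. Then G is nilpotent; or G is a Frobenius group with a complement that is cyclic or isomorphic to the direct product of a cyclic group of odd order and the quaternion group of order 8; or G is isomorphic to PSL₂(2ⁿ) for some n ≥ 2. -/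
theorem result {G : Type*} [Group G] [Finite G] (hTI : ∀ x : G, Cfsg.IsTISubset (Subgroup.centralizer ({x} : Set G) : Set G)) :
    Group.IsNilpotent G ∨
    (∃ H : Subgroup G, Cfsg.IsFrobeniusComplement H ∧
      (IsCyclic H ∨ ∃ m : ℕ, Odd m ∧ Nonempty (H ≃* Multiplicative (ZMod m) × QuaternionGroup 2))) ∨
    (∃ n : ℕ, 2 ≤ n ∧ Nonempty (G ≃* Matrix.ProjectiveSpecialLinearGroup (Fin 2) (GaloisField 2 n))) := by
  classical
  have hCT : CT G := hTI
  by_cases hnil : Group.IsNilpotent G
  · exact Or.inl hnil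
  right
  by_cases h0 : fittingHall G = ⊥
  swap
  · exact Or.inl (H81TI2.of_fitting hCT hnil h0)
  right
  have hnn : ∀ N : Subgroup G, N.Normal → Group.IsNilpotent N → N = ⊥ := by
    intro N hN hNn
    by_contra hne
    exact fittingHall_ne_bot hCT hN hNn hne h0
  have hnt : Nontrivial G := by
    by_contra h
    rw [not_nontrivial_iff_subsingleton] at h
    exact hnil inferInstance
  have heven : Even (Nat.card G) := by
    by_contra hodd
    rw [Nat.not_even_iff_odd] at hodd
    have hsolv : Group.IsSolvable G := Cfsg.Agent.S0183.result hodd hCT.isCN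
    have h1 : (fittingSubgroup G).Normal := Subgroup.normal_of_characteristic _
    exact Cores.fittingSubgroup_ne_bot (hnn _ h1 (Cores.isNilpotent_fittingSubgroup G))
  have h2p : Fact (Nat.Prime 2) := ⟨Nat.prime_two⟩
  obtain ⟨T⟩ : Nonempty (Sylow 2 G) := inferInstance
  obtain ⟨H, hH, hTH⟩ := exists_maxNilp_sylow 2 T
  have C : Cfg G H := ⟨hCT, hH, hnn, ⟨T, hTH⟩, heven⟩
  obtain ⟨S, hnc, hnS, hC⟩ := C.final
  obtain ⟨F, _, _, hF, ⟨e⟩⟩ := Cfsg.Agent.S1230.result S hnc hnS hC
  obtain ⟨n, hn⟩ := IsPGroup.iff_card.mp S.2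
  have hn2 : 2 ≤ n := by
    by_contra hlt
    push Not at hlt
    apply hnc
    interval_cases n
    · have : Subsingleton (S : Subgroup G) := Finite.card_le_one_iff_subsingleton.mp (by rw [hn]; norm_num)
      infer_instance
    · exact isCyclic_of_prime_card (p := 2) (by rw [hn]; norm_num)
  refine ⟨n, hn2, ?_⟩
  have : Fintype (GaloisField 2 n) := Fintype.ofFinite _
  have hcard : Fintype.card F = Fintype.card (GaloisField 2 n) := by
    rw [hF, hn, ← Nat.card_eq_fintype_card, GaloisField.card 2 n (by omega)]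
  have hFK : F ≃+* GaloisField 2 n := FiniteField.ringEquivOfCardEq hcard
  exact ⟨e.trans (ClSeven.pslCongr 2 hFK)⟩

end Cfsg.Agent.S4064
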