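import Cfsg.Statements.S5748
import Cfsg.Agent.Lib.InvCentAb2
import Cfsg.Agent.Lib.SL2Tori
import Cfsg.Agent.Lib.SL2EvenMisc
import Cfsg.Agent.S1230
import Cfsg.Agent.S0183

set_option autoImplicit false
open Cfsg

namespace Cfsg.Agent.S5748

open Cfsg.Agent.Lib Subgroup

theorem not_solvable {G : Type*} [Group G] [IsSimpleGroup G] (hG : ¬ IsMulCommutative G) :
    ¬ Group.IsSolvable G := by
  intro h
  apply hG
  exact ⟨⟨fun a b => IsSimpleGroup.comm_iff_isSolvable.mpr h a b⟩⟩

/-- A finite non-abelian simple group in which commuting is a transitive relation on the non-identity elements (equivalently, every non-identity element has abelian centraliser) is isomorphic to PSL₂ over a field with 2^f elements for some f ≥ 2; conversely these groups have that property. -/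
theorem result {G : Type*} [Group G] [Finite G] [IsSimpleGroup G] (hG : ¬ IsMulCommutative G) :
    (∀ a b c : G, a ≠ 1 → b ≠ 1 → c ≠ 1 → Commute a b → Commute b c → Commute a c) ↔
    ∃ (F : Type) (_ : Field F) (_ : Fintype F) (f : ℕ), 2 ≤ f ∧ Fintype.card F = 2 ^ f ∧ Nonempty (G ≃* Matrix.ProjectiveSpecialLinearGroup (Fin 2) F) := by
  classical
  have hns := not_solvable hG
  constructor
  · intro htr
    have hcomm : ∀ x y z : G, x ≠ 1 → y ∈ centralizer ({x} : Set G) → z ∈ centralizer ({x} : Set G) →
        y * z = z * y := by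
      intro x y z hx hy hz
      by_cases hy1 : y = 1
      · rw [hy1, one_mul, mul_one]
      by_cases hz1 : z = 1
      · rw [hz1, one_mul, mul_one]
      exact htr y x z hy1 hx hz1 (mem_centralizer_singleton_iff.mp hy) (mem_centralizer_singleton_iff.mp hz).symm
    have heven : ¬ Odd (Nat.card G) := by
      intro hodd
      apply hns
      apply Cfsg.Agent.S0183.result hodd
      intro g hg
      let _ : CommGroup (centralizer ({g} : Set G)) :=
        { (inferInstance : Group (centralizer ({g} : Set G))) with
          mul_comm := fun a b => Subtype.ext (hcomm g a b hg a.2 b.2) }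
      infer_instance
    have h2n : 2 ∣ Nat.card G := by
      rcases Nat.even_or_odd (Nat.card G) with h | h
      · exact h.two_dvd
      · exact absurd h heven
    have : Fact (Nat.Prime 2) := ⟨Nat.prime_two⟩
    let T : Sylow 2 G := default
    have hTbot : (T : Subgroup G) ≠ ⊥ := by
      intro h
      have h1 := T.not_dvd_index
      rw [h, Subgroup.index_bot] at h1
      exact h1 h2n
    have hTtop : (T : Subgroup G) ≠ ⊤ := by
      intro h
      apply hns
      have h1 : Group.IsSolvable (T : Subgroup G) := by
        have := T.2.isNilpotent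
        infer_instance
      rw [h] at h1
      exact solvable_of_surjective (f := (Subgroup.topEquiv (G := G)).toMonoidHom)
        (Subgroup.topEquiv (G := G)).surjective
    have hnn : ¬ (T : Subgroup G).Normal := by
      intro h
      rcases h.eq_bot_or_eq_top with h1 | h1
      · exact hTbot h1
      · exact hTtop h1
    have hnc : ¬ IsCyclic (T : Subgroup G) := by
      intro h
      obtain ⟨N, hN, hNT⟩ := SL2EvenMisc.exists_two_complement T h
      rcases hN.eq_bot_or_eq_top with h1 | h1
      · rw [h1] at hNT
        exact hTtop (Subgroup.isComplement'_bot_left.mp hNT)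
      · rw [h1] at hNT
        exact hTbot (Subgroup.isComplement'_top_left.mp hNT)
    have hC : ∀ t : G, orderOf t = 2 → IsMulCommutative (centralizer ({t} : Set G)) := by
      intro t ot
      have ht1 : t ≠ 1 := by rintro rfl; rw [orderOf_one] at ot; omega
      exact ⟨⟨fun a b => Subtype.ext (hcomm t a b ht1 a.2 b.2)⟩⟩
    obtain ⟨t, ht, ot, _⟩ := InvCentAb.exists_central_involution T hTbot
    have ht1 : t ≠ 1 := by rintro rfl; rw [orderOf_one] at ot; omega
    have hTI : ∀ g : G, g ∉ normalizer ((T : Subgroup G) : Set G) →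
        ∀ k ∈ centralizer ({t} : Set G), g * k * g⁻¹ ∈ centralizer ({t} : Set G) → k = 1 := by
      intro g hg k hk hgk
      by_contra hk1
      apply hg
      have hgk1 : g * k * g⁻¹ ≠ 1 := by
        intro h
        apply hk1
        have : k = g⁻¹ * (g * k * g⁻¹) * g := by group
        rw [this, h]; group
      -- g t g⁻¹ commutes with g k g⁻¹, as t does
      have h1 : g * t * g⁻¹ ∈ centralizer ({g * k * g⁻¹} : Set G) := by
        rw [mem_centralizer_singleton_iff]
        have h2 := mem_centralizer_singleton_iff.mp hk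
        calc g * t * g⁻¹ * (g * k * g⁻¹) = g * (t * k) * g⁻¹ := by group
          _ = g * (k * t) * g⁻¹ := by rw [h2]
          _ = g * k * g⁻¹ * (g * t * g⁻¹) := by group
      have h3 : t ∈ centralizer ({g * k * g⁻¹} : Set G) := by
        rw [mem_centralizer_singleton_iff]
        exact (mem_centralizer_singleton_iff.mp hgk).symm
      have h4 : g * t * g⁻¹ ∈ centralizer ({t} : Set G) := by
        rw [mem_centralizer_singleton_iff]
        exact hcomm _ _ _ hgk1 h1 h3
      apply InvCentAb.mem_normalizer_of_conj T hC ot ht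
      apply InvCentAb.mem_T_of_comm T hC ht ot h4 (k := 1)
      rw [pow_one, ← InvCentAb.orderOf_conj_two (g := g) ot]
      exact pow_orderOf_eq_one _
    have hsq := InvCentAb.ti_case T hC hnc hnn ht ot hTI
    obtain ⟨F, hF, hFf, hcard, ⟨e⟩⟩ := Cfsg.Agent.S1230.result T hnc hnn (fun t ot => ⟨hC t ot, hsq t ot⟩)
    obtain ⟨k, hk⟩ := T.2.exists_card_eq
    refine ⟨F, hF, hFf, k, ?_, by rw [hcard]; exact hk, ⟨e⟩⟩
    by_contra hlt
    apply hnc
    interval_cases k
    · have : Subsingleton (T : Subgroup G) := (Nat.card_eq_one_iff_unique.mp (by rw [hk]; norm_num)).1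
      infer_instance
    · exact isCyclic_of_prime_card (p := 2) (by rw [hk]; norm_num)
  · rintro ⟨F, hF, hFf, f, hf, hcard, ⟨e⟩⟩ a b c ha hb hc hab hbc
    have hchar : CharP F 2 := by
      obtain ⟨c, hc⟩ := CharP.exists F
      have hcp : c.Prime := CharP.char_is_prime F c
      obtain ⟨m, hm⟩ := FiniteField.card F c
      have : c ∣ 2 ^ f := by
        rw [← hcard, hm.2]
        exact dvd_pow_self c m.2.ne'
      have h2 : c = 2 := (Nat.prime_dvd_prime_iff_eq hcp Nat.prime_two).mp (hcp.dvd_of_dvd_pow this)
      rw [← h2]; exact hc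
    obtain ⟨e'⟩ := SL2EvenMisc.exists_psl_equiv (F := F)
    let φ := e.trans e'.symm
    have hb' : φ b ∉ center (Matrix.SpecialLinearGroup (Fin 2) F) := by
      rw [SL2EvenMisc.center_eq_bot_of_char_two, mem_bot]
      intro h
      exact hb (φ.map_eq_one_iff.mp h)
    have h1 : φ a ∈ centralizer ({φ b} : Set (Matrix.SpecialLinearGroup (Fin 2) F)) := by
      rw [mem_centralizer_singleton_iff, ← map_mul, ← map_mul, hab.eq]
    have h2 : φ c ∈ centralizer ({φ b} : Set (Matrix.SpecialLinearGroup (Fin 2) F)) := by
      rw [mem_centralizer_singleton_iff, ← map_mul, ← map_mul, hbc.eq]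
    have h3 := SL2Tori.centralizer_comm hb' h1 h2
    rw [← map_mul, ← map_mul] at h3
    exact φ.injective h3

end Cfsg.Agent.S5748
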