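import Cfsg.Statements.S4073
import Cfsg.Agent.Lib.H81SelfNorm2
import Cfsg.Agent.Lib.ClSeven
import Cfsg.Agent.S5748

set_option autoImplicit false
open Cfsg

namespace Cfsg.Agent.S4073

open Cfsg.Agent.Lib Subgroup Cfsg.Agent.Lib.H81SelfNorm

theorem sn_congr {G H : Type*} [Group G] [Group H] (e : G ≃* H) (h : SN G) : SN H := by
  intro K hK
  have h1 : ¬ IsMulCommutative (K.comap e.toMonoidHom) := by
    intro h2
    apply hK
    apply comm_of_elem
    intro a ha b hb
    have ha' : e.symm a ∈ K.comap e.toMonoidHom := by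
      show e (e.symm a) ∈ K
      rw [e.apply_symm_apply]; exact ha
    have hb' : e.symm b ∈ K.comap e.toMonoidHom := by
      show e (e.symm b) ∈ K
      rw [e.apply_symm_apply]; exact hb
    have h3 := comm_elem h2 ha' hb'
    have h4 := congrArg e h3
    simpa using h4
  have h2 := h _ h1
  apply le_antisymm _ le_normalizer
  intro x hx
  have h3 : e.symm x ∈ normalizer ((K.comap e.toMonoidHom : Subgroup G) : Set G) := by
    rw [Subgroup.mem_normalizer_iff]
    intro g
    have h4 := Subgroup.mem_normalizer_iff.mp hx (e g)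
    show e g ∈ K ↔ e (e.symm x * g * (e.symm x)⁻¹) ∈ K
    rw [map_mul, map_mul, map_inv, e.apply_symm_apply]
    exact h4
  rw [h2] at h3
  have h4 : e (e.symm x) ∈ K := h3
  rwa [e.apply_symm_apply] at h4

/-- Let G be a finite non-abelian simple group. Every non-abelian subgroup of G is self-normalizing if and only if G is isomorphic to PSL₂(2ⁿ) for some n ≥ 2 with 2ⁿ − 1 prime (this includes the alternating group of degree 5 as PSL₂(4)). -/
theorem result {G : Type*} [Group G] [Finite G] [IsSimpleGroup G]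
    (hna : ¬ IsMulCommutative G) :
    (∀ H : Subgroup G, ¬ IsMulCommutative H → Subgroup.normalizer (H : Set G) = H) ↔
    ∃ n : ℕ, 2 ≤ n ∧ (2 ^ n - 1).Prime ∧ Nonempty (G ≃* Matrix.ProjectiveSpecialLinearGroup (Fin 2) (GaloisField 2 n)) := by
  classical
  have h2p : Fact (Nat.Prime 2) := ⟨Nat.prime_two⟩
  constructor
  · intro hSN
    have hSN' : SN G := hSN
    have h1 : ∀ a b c : G, a ≠ 1 → b ≠ 1 → c ≠ 1 → Commute a b → Commute b c → Commute a c := by
      intro a b c _ hb _ hab hbc
      exact comm_elem (cent_comm hna hSN' hb) (mem_centralizer_singleton_iff.mpr hab.eq)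
        (mem_centralizer_singleton_iff.mpr hbc.symm.eq)
    obtain ⟨F, _, _, f, hf, hF, ⟨e⟩⟩ := (Cfsg.Agent.S5748.result hna).mp h1
    have : Fintype (GaloisField 2 f) := Fintype.ofFinite _
    have hcard : Fintype.card F = Fintype.card (GaloisField 2 f) := by
      rw [hF, ← Nat.card_eq_fintype_card, GaloisField.card 2 f (by omega)]
    have hFK : F ≃+* GaloisField 2 f := FiniteField.ringEquivOfCardEq hcard
    have e' : G ≃* Matrix.ProjectiveSpecialLinearGroup (Fin 2) (GaloisField 2 f) :=
      e.trans (ClSeven.pslCongr 2 hFK)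
    have hchar : CharP (GaloisField 2 f) 2 := inferInstance
    obtain ⟨e2⟩ := SL2EvenMisc.exists_psl_equiv (F := GaloisField 2 f)
    refine ⟨f, hf, ?_, ⟨e'⟩⟩
    apply H81SelfNorm2.prime_of_sl2_sn (F := GaloisField 2 f) (by rw [← hcard, hF]) hf
    exact sn_congr (e'.trans e2.symm) hSN'
  · rintro ⟨n, hn, hp, ⟨e⟩⟩
    have : Fintype (GaloisField 2 n) := Fintype.ofFinite _
    have hchar : CharP (GaloisField 2 n) 2 := inferInstance
    obtain ⟨e2⟩ := SL2EvenMisc.exists_psl_equiv (F := GaloisField 2 n)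
    have hF : Fintype.card (GaloisField 2 n) = 2 ^ n := by
      rw [← Nat.card_eq_fintype_card, GaloisField.card 2 n (by omega)]
    exact sn_congr (e2.trans e.symm) (H81SelfNorm2.sl2_sn hF hn hp)

end Cfsg.Agent.S4073
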