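import Cfsg.Statements.S4078
import Cfsg.Agent.S0489
import Cfsg.Agent.S0035

set_option autoImplicit false
open Cfsg

namespace Cfsg.Agent.S4078

open Subgroup Pointwise

universe u

/-- `Sol(x)` is a subgroup for all `x` -/
def Good (G : Type*) [Group G] : Prop :=
  ∀ x : G, ∃ H : Subgroup G, (H : Set G) = {y : G | Group.IsSolvable ↥(Subgroup.closure ({x, y} : Set G))}

theorem map_closure_pair {G G' : Type*} [Group G] [Group G'] (f : G →* G') (x y : G) :
    (closure ({x, y} : Set G)).map f = closure ({f x, f y} : Set G') := by
  rw [MonoidHom.map_closure, Set.image_pair]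

theorem solvable_of_le {G : Type*} [Group G] {A B : Subgroup G} (h : A ≤ B) (hB : Group.IsSolvable B) :
    Group.IsSolvable A :=
  have := hB
  Group.isSolvable_of_isSolvable_injective (Subgroup.inclusion_injective h)

theorem good_subgroup {G : Type*} [Group G] (hG : Good G) (K : Subgroup G) : Good K := by
  intro x
  obtain ⟨H, hH⟩ := hG x
  refine ⟨H.comap K.subtype, ?_⟩
  ext y
  rw [coe_comap, Set.mem_preimage, hH, Set.mem_ofPred_eq, Set.mem_ofPred_eq]
  have e := (closure ({x, y} : Set K)).equivMapOfInjective K.subtype K.subtype_injective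
  rw [map_closure_pair] at e
  constructor
  · intro h
    have h' : Group.IsSolvable ↥(closure ({K.subtype x, K.subtype y} : Set G)) := h
    exact Group.isSolvable_of_isSolvable_injective (f := e.toMonoidHom) e.injective
  · intro h
    exact Group.isSolvable_of_surjective (f := e.toMonoidHom) e.surjective

theorem good_quotient {G : Type*} [Group G] (hG : Good G) (N : Subgroup G) [N.Normal] (hN : Group.IsSolvable N) :
    Good (G ⧸ N) := by
  intro x
  obtain ⟨x, rfl⟩ := QuotientGroup.mk'_surjective N x
  obtain ⟨H, hH⟩ := hG x
  refine ⟨H.map (QuotientGroup.mk' N), ?_⟩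
  have key : ∀ y : G, Group.IsSolvable ↥(closure ({QuotientGroup.mk' N x, QuotientGroup.mk' N y} : Set (G ⧸ N))) ↔
      Group.IsSolvable ↥(closure ({x, y} : Set G)) := by
    intro y
    rw [← map_closure_pair]
    constructor
    · intro h
      have h1 : Group.IsSolvable ↥((closure ({x, y} : Set G)).map (QuotientGroup.mk' N)) := h
      let f : closure ({x, y} : Set G) →* (closure ({x, y} : Set G)).map (QuotientGroup.mk' N) :=
        (QuotientGroup.mk' N).subgroupMap _
      have hk : Group.IsSolvable f.ker := by
        let g : f.ker →* N :=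
          { toFun := fun z => ⟨((z : closure ({x, y} : Set G)) : G), by
              have h2 := z.2
              rw [MonoidHom.mem_ker] at h2
              have h3 := congrArg Subtype.val h2
              exact (QuotientGroup.eq_one_iff _).1 h3⟩
            map_one' := rfl
            map_mul' := fun _ _ => rfl }
        refine Group.isSolvable_of_isSolvable_injective (f := g) ?_
        intro a b hab
        have h4 := congrArg (Subtype.val) hab
        exact Subtype.ext (Subtype.ext h4)
      exact Group.isSolvable_of_ker_le_range f.ker.subtype f (by rw [Subgroup.range_subtype])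
    · intro h
      exact Group.isSolvable_of_surjective (f := (QuotientGroup.mk' N).subgroupMap (closure ({x, y} : Set G)))
        ((QuotientGroup.mk' N).subgroupMap_surjective _)
  ext y
  obtain ⟨y, rfl⟩ := QuotientGroup.mk'_surjective N y
  rw [Set.mem_ofPred_eq, key]
  constructor
  · rintro ⟨z, hz, hzy⟩
    rw [hH] at hz
    rw [← key, ← hzy, key]
    exact hz
  · intro h
    exact ⟨y, by rw [hH]; exact h, rfl⟩

theorem main (n : ℕ) : ∀ {G : Type u} [Group G] [Finite G] (_ : Nat.card G = n) (_ : Good G), Group.IsSolvable G := by
  induction n using Nat.strong_induction_on with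
  | _ n ih =>
  intro G _ _ hn hG
  by_contra hns
  have hsub : ∀ K : Subgroup G, K ≠ ⊤ → Group.IsSolvable K := by
    intro K hK
    refine ih (Nat.card K) ?_ rfl (good_subgroup hG K)
    rw [← hn]
    refine lt_of_le_of_ne K.card_le_card_group ?_
    intro h
    exact hK (Subgroup.eq_top_of_card_eq K h)
  have hnt : Nontrivial G := by
    by_contra h
    rw [not_nontrivial_iff_subsingleton] at h
    exact hns inferInstance
  have hsimple : ∀ N : Subgroup G, N.Normal → N = ⊥ ∨ N = ⊤ := by
    intro N hN
    by_contra hcon
    push Not at hcon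
    have h1 := hsub N hcon.2
    have h2 : Group.IsSolvable (G ⧸ N) := by
      refine ih (Nat.card (G ⧸ N)) ?_ rfl (good_quotient hG N h1)
      rw [← hn, ← Subgroup.card_mul_index N, ← Subgroup.index_eq_card]
      have h3 : 1 < Nat.card N := by
        rw [Subgroup.one_lt_card_iff_ne_bot]; exact hcon.1
      have h4 : 0 < N.index := Nat.pos_of_ne_zero Subgroup.index_ne_zero_of_finite
      nlinarith
    exact hns ((Group.isSolvable_iff_subgroup_quotient N).2 ⟨h1, h2⟩)
  choose S hS using hG
  have memS : ∀ x y : G, y ∈ S x ↔ Group.IsSolvable ↥(closure ({x, y} : Set G)) := by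
    intro x y
    rw [← SetLike.mem_coe, hS]
    rfl
  have hsymm : ∀ x y : G, y ∈ S x ↔ x ∈ S y := by
    intro x y
    rw [memS, memS, Set.pair_comm]
  have hle : ∀ (x : G) (K : Subgroup G), K ≠ ⊤ → x ∈ K → K ≤ S x := by
    intro x K hK hx y hy
    rw [memS]
    refine solvable_of_le ?_ (hsub K hK)
    rw [closure_le]
    rintro z (rfl | rfl)
    · exact hx
    · exact hy
  have hself : ∀ x : G, x ∈ S x := by
    intro x
    rw [memS, Set.pair_eq_singleton, ← zpowers_eq_closure]
    infer_instance
  -- the normal subgroup of elements with `Sol(x) = G`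
  let T : Subgroup G :=
    { carrier := {x | S x = ⊤}
      one_mem' := by
        show S 1 = ⊤
        rw [eq_top_iff]
        intro y _
        rw [memS]
        refine solvable_of_le (B := zpowers y) ?_ inferInstance
        rw [closure_le]
        rintro z (rfl | rfl)
        · exact one_mem _
        · exact mem_zpowers _
      mul_mem' := by
        intro a b ha hb
        show S (a * b) = ⊤
        have ha' : ∀ y, y ∈ S a := fun y => by rw [show S a = ⊤ from ha]; exact mem_top y
        have hb' : ∀ y, y ∈ S b := fun y => by rw [show S b = ⊤ from hb]; exact mem_top y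
        rw [eq_top_iff]
        intro y _
        rw [hsymm]
        exact mul_mem ((hsymm _ _).1 (ha' y)) ((hsymm _ _).1 (hb' y))
      inv_mem' := by
        intro a ha
        show S a⁻¹ = ⊤
        have ha' : ∀ y, y ∈ S a := fun y => by rw [show S a = ⊤ from ha]; exact mem_top y
        rw [eq_top_iff]
        intro y _
        rw [hsymm]
        exact inv_mem ((hsymm _ _).1 (ha' y)) }
  have hTn : T.Normal := by
    refine ⟨fun x hx g => ?_⟩
    show S (g * x * g⁻¹) = ⊤
    have hx' : ∀ y, y ∈ S x := fun y => by rw [show S x = ⊤ from hx]; exact mem_top y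
    rw [eq_top_iff]
    intro y _
    have h1 := (memS _ _).1 (hx' (g⁻¹ * y * g))
    rw [memS]
    have h2 := map_closure_pair (MulAut.conj g).toMonoidHom x (g⁻¹ * y * g)
    have e1 : (MulAut.conj g).toMonoidHom x = g * x * g⁻¹ := rfl
    have e2 : (MulAut.conj g).toMonoidHom (g⁻¹ * y * g) = y := by
      show g * (g⁻¹ * y * g) * g⁻¹ = y
      group
    rw [e1, e2] at h2
    rw [← h2]
    exact Group.isSolvable_of_surjective (f := (MulAut.conj g).toMonoidHom.subgroupMap (closure ({x, g⁻¹ * y * g} : Set G)))
        ((MulAut.conj g).toMonoidHom.subgroupMap_surjective _)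
  have hTbot : T = ⊥ := by
    rcases hsimple T hTn with h | h
    · exact h
    · exfalso
      apply hns
      refine Cfsg.Agent.S0489.result ?_
      intro a b
      rw [← memS]
      have : a ∈ T := by rw [h]; exact mem_top a
      rw [show S a = ⊤ from this]
      exact mem_top b
  have hSne : ∀ x : G, x ≠ 1 → S x ≠ ⊤ := by
    intro x hx h
    apply hx
    have : x ∈ T := h
    rwa [hTbot, mem_bot] at this
  obtain ⟨x, hx⟩ := exists_ne (1 : G)
  set M := S x with hM
  have hMtop : M ≠ ⊤ := hSne x hx
  have hMbot : M ≠ ⊥ := by
    intro h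
    have := hself x
    rw [← hM, h, mem_bot] at this
    exact hx this
  have heq : ∀ z : G, z ≠ 1 → z ∈ M → S z = M := by
    intro z hz hzM
    have h1 : M ≤ S z := hle z M hMtop hzM
    exact le_antisymm (hle x (S z) (hSne z hz) (h1 (hself x))) h1
  have hFrob : Cfsg.IsFrobeniusComplement M := by
    refine ⟨hMbot, hMtop, ?_⟩
    intro g hg
    by_contra hne
    obtain ⟨z, hz1⟩ := ne_bot_iff_exists_ne_one.1 hne
    have hz : (z : G) ∈ M ⊓ MulAut.conj g • M := z.2
    have hz1' : (z : G) ≠ 1 := fun h => hz1 (Subtype.ext h)
    have h1 := heq z hz1' hz.1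
    have hctop : MulAut.conj g • M ≠ ⊤ := by
      intro h
      have h2 := Subgroup.card_mul_index (MulAut.conj g • M)
      apply hMtop
      apply Subgroup.eq_top_of_card_eq
      rw [← Subgroup.card_top (G := G), ← h]
      exact (Nat.card_congr (Subgroup.equivSMul (MulAut.conj g) M).toEquiv)
    have h2 : MulAut.conj g • M ≤ M := by
      exact (hle z _ hctop hz.2).trans h1.le
    have h3 : g ∈ normalizer (M : Set G) := by
      have h4 : MulAut.conj g • M = M := by
        apply Subgroup.eq_of_le_of_card_ge h2
        exact le_of_eq (Nat.card_congr (Subgroup.equivSMul (MulAut.conj g) M).toEquiv)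
      rw [mem_normalizer_iff]
      intro y
      constructor
      · intro hy
        rw [← h4]
        exact ⟨y, hy, rfl⟩
      · intro hy
        rw [← h4] at hy
        obtain ⟨w, hw, hwy⟩ := hy
        have h5 : g * w * g⁻¹ = g * y * g⁻¹ := hwy
        have h6 : w = y := by
          have := mul_right_cancel h5
          exact mul_left_cancel this
        rw [← h6]; exact hw
    have h4 : normalizer (M : Set G) ≠ ⊤ := by
      intro h
      have h5 : M.Normal := normalizer_eq_top_iff.1 h
      rcases hsimple M h5 with h6 | h6
      · exact hMbot h6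
      · exact hMtop h6
    exact hg (hle x _ h4 (le_normalizer (hself x)) h3)
  obtain ⟨N, -, hN, hcompl⟩ := Cfsg.Agent.S0035.result M hFrob
  rcases hsimple N hN with h | h
  · rw [h] at hcompl
    have := hcompl.sup_eq_top
    rw [bot_sup_eq] at this
    exact hMtop this
  · rw [h] at hcompl
    have := hcompl.disjoint
    rw [top_disjoint] at this
    exact hMbot this

/-- For an element x of a finite group G let Sol(x) be the set of y ∈ G such that x and y generate a solvable subgroup. Then G is solvable if and only if Sol(x) is (the carrier of) a subgroup of G for every x ∈ G. -/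
theorem result {G : Type*} [Group G] [Finite G] :
    Group.IsSolvable G ↔ ∀ x : G, ∃ H : Subgroup G, (H : Set G) = {y : G | Group.IsSolvable ↥(Subgroup.closure ({x, y} : Set G))} := by
  constructor
  · intro h x
    refine ⟨⊤, ?_⟩
    ext y
    simp only [coe_top, Set.mem_univ, Set.mem_ofPred_eq, true_iff]
    infer_instance
  · intro h
    exact main _ rfl h

end Cfsg.Agent.S4078
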