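import Cfsg.Statements.S4087
import Cfsg.Agent.Lib.EppoFour
import Cfsg.Agent.Lib.CITEppo2
import Cfsg.Agent.Lib.ClSLn
import Cfsg.Agent.Lib.SuzukiLie
import Cfsg.Agent.S0324
-- import your own Cfsg.Agent.* helpers here

set_option autoImplicit false
open Cfsg

namespace Cfsg.Agent.S4087

open Cfsg.Agent.Lib.EPPO Cfsg.Agent.Lib.EppoFour Cfsg.Agent.Lib

theorem card_psl2 {F : Type} [Field F] [Fintype F] {q : ℕ} (hq : Fintype.card F = q) :
    Nat.gcd 2 (q - 1) * ((q - 1) * Nat.card (Matrix.ProjectiveSpecialLinearGroup (Fin 2) F)) =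
      q * ((q - 1) * (q ^ 2 - 1)) := by
  have h := ClSLn.card_PSL_formula hq 2 (by norm_num)
  rw [h]
  simp [Finset.prod_range_succ]

theorem card_psl3 {F : Type} [Field F] [Fintype F] (hq : Fintype.card F = 4) :
    Nat.card (Matrix.ProjectiveSpecialLinearGroup (Fin 3) F) = 20160 := by
  have h := ClSLn.card_PSL_formula hq 3 (by norm_num)
  simp [Finset.prod_range_succ] at h
  omega

theorem card_sz8 {F : Type} [Field F] [Fintype F] (hq : Fintype.card F = 8) :
    Nat.card (Cfsg.Lie.Sz F 4) = 29120 := by
  have hF : Fintype.card F = 2 ^ (2 * 1 + 1) := by rw [hq]; norm_num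
  have : CharP F 2 := SuzukiFin.charTwo hF
  have h1 := S0324.result (m := 1) le_rfl hF
  have h2 := Nat.card_congr (SuzukiLie.szEquiv (F := F) 1 le_rfl hF).toEquiv
  rw [h1] at h2
  norm_num at h2
  exact h2.symm

theorem card_sz32 {F : Type} [Field F] [Fintype F] (hq : Fintype.card F = 32) :
    Nat.card (Cfsg.Lie.Sz F 8) = 32537600 := by
  have hF : Fintype.card F = 2 ^ (2 * 2 + 1) := by rw [hq]; norm_num
  have : CharP F 2 := SuzukiFin.charTwo hF
  have h1 := S0324.result (m := 2) (by norm_num) hF
  have h2 := Nat.card_congr (SuzukiLie.szEquiv (F := F) 2 (by norm_num) hF).toEquiv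
  rw [h1] at h2
  norm_num at h2
  exact h2.symm

theorem le_three_of_subset {n N0 : ℕ} (h : n.primeFactors ⊆ N0.primeFactors) (h2 : N0.primeFactors.card = 3) :
    n.primeFactors.card ≤ 3 := h2 ▸ Finset.card_le_card h

theorem equivTop {X : Type*} [Group X] [Finite X] {M : Subgroup X} (h : M.index = 1) : Nonempty (X ≃* M) := by
  rw [Subgroup.index_eq_one] at h
  exact ⟨(Subgroup.topEquiv.symm.trans (MulEquiv.subgroupCongr h.symm))⟩

/-- Let G be a finite group in which every non-identity element has prime-power order (its prime graph has no edges). Then the order of G has at most four distinct prime divisors; and if it has exactly four, then either G is isomorphic to PSL(3,4), or G has a normal 2-subgroup N with G/N isomorphic to the Suzuki group over the field with 8 or with 32 elements. -/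
theorem result {G : Type*} [Group G] [Finite G] (h : ∀ g : G, g ≠ 1 → IsPrimePow (orderOf g)) :
    (Nat.card G).primeFactors.card ≤ 4 ∧
    ((Nat.card G).primeFactors.card = 4 →
      (∃ (F : Type) (_ : Field F) (_ : Fintype F), Fintype.card F = 4 ∧
        Nonempty (G ≃* Matrix.ProjectiveSpecialLinearGroup (Fin 3) F)) ∨
      (∃ (N : Subgroup G) (_ : N.Normal), IsPGroup 2 ↥N ∧
        ∃ (F : Type) (_ : Field F) (_ : Fintype F),
          (Fintype.card F = 8 ∧ Nonempty (G ⧸ N ≃* ↥(Cfsg.Lie.Sz F 4))) ∨
          (Fintype.card F = 32 ∧ Nonempty (G ⧸ N ≃* ↥(Cfsg.Lie.Sz F 8))))) := by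
  have hE : IsEPPO G := h
  by_cases hs : Group.IsSolvable G
  · have h1 := EPPO.card_primeFactors_le hE
    exact ⟨by omega, fun h2 => by omega⟩
  obtain ⟨R, hRn, hRs, hRmax⟩ := exists_solv_radical G
  obtain ⟨⟨p, hp, hRp⟩, ⟨M, hMn, hMs, hMna, hMmin⟩, -⟩ := Cfsg.Agent.S3992.result hs h R hRs hRmax
  have hR2 : IsPGroup 2 R := by
    by_cases hR1 : R = ⊥
    · subst hR1; exact IsPGroup.of_bot
    · have := p_eq_two hE hs hp R hRp hR1
      subst this; exact hRp
  have : Fact (Nat.Prime 2) := ⟨Nat.prime_two⟩
  have hR2' : ∃ k, Nat.card R = 2 ^ k := IsPGroup.iff_card.1 hR2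
  have hEX := hE.quotient R
  have hna : ¬ ∀ a b : M, a * b = b * a := fun h => hMna ⟨⟨h⟩⟩
  have hsub : (Nat.card G) = Nat.card (G ⧸ R) * Nat.card R := Subgroup.card_eq_card_quotient_mul_card_subgroup R
  rcases CIT.eppo_simple hna (hEX.subgroup M) with ⟨F, i1, i2, hF, ⟨e⟩⟩ | ⟨F, i1, i2, hF, ⟨e⟩⟩ | ⟨F, i1, i2, hF⟩
  · have hle : (Nat.card G).primeFactors.card ≤ 3 := by
      have hce := Nat.card_congr e.toEquiv
      have hc := card_psl2 (F := F) rfl
      simp only [Finset.mem_insert, Finset.mem_singleton] at hF
      rcases hF with hF | hF | hF | hF | hF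
      · rw [hF] at hc
        norm_num at hc
        have hM60 : Nat.card M = 60 := by rw [hce]; omega
        exact le_three_of_subset (card_le_three hE hR2' M hM60 (p := 5) (by norm_num) (by norm_num) (by norm_num)
          (by norm_num) (by norm_num)) (by decide +kernel)
      · rw [hF] at hc
        norm_num at hc
        have hM168 : Nat.card M = 168 := by rw [hce]; omega
        exact le_three_of_subset (card_le_three hE hR2' M hM168 (p := 7) (by norm_num) (by norm_num) (by norm_num)
          (by norm_num) (by norm_num)) (by decide +kernel)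
      · rw [hF] at hc
        norm_num at hc
        have hM504 : Nat.card M = 504 := by rw [hce]; omega
        exact le_three_of_subset (card_le_three hE hR2' M hM504 (p := 7) (by norm_num) (by norm_num) (by norm_num)
          (by norm_num) (by norm_num)) (by decide +kernel)
      · rw [hF] at hc
        norm_num at hc
        have hM360 : Nat.card M = 360 := by rw [hce]; omega
        exact le_three_of_subset (card_le_three hE hR2' M hM360 (p := 5) (by norm_num) (by norm_num) (by norm_num)
          (by norm_num) (by norm_num)) (by decide +kernel)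
      · rw [hF] at hc
        norm_num at hc
        have hM2448 : Nat.card M = 2448 := by rw [hce]; omega
        exact le_three_of_subset (card_le_three hE hR2' M hM2448 (p := 17) (by norm_num) (by norm_num) (by norm_num)
          (by norm_num) (by norm_num)) (by decide +kernel)
    exact ⟨by omega, fun h2 => by omega⟩
  · have hcM : Nat.card M = 20160 := by rw [Nat.card_congr e.toEquiv, card_psl3 hF]
    have hidx := index_20160 hEX M hcM
    have hcX : Nat.card (G ⧸ R) = 20160 := by rw [← Subgroup.card_mul_index M, hidx, hcM]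
    have hRb : R = ⊥ := by
      by_contra hR1
      exact no_ext hE R hR2 hR1 hcX
    subst hRb
    obtain ⟨f⟩ := equivTop hidx
    constructor
    · rw [hsub, hcX, Subgroup.card_bot, mul_one]
      decide +kernel
    · intro _
      left
      exact ⟨F, i1, i2, hF, ⟨(QuotientGroup.quotientBot (G := G)).symm.trans (f.trans e)⟩⟩
  · have hR0 : Nat.card R ≠ 0 := Nat.card_pos.ne'
    rcases hF with ⟨hF, ⟨e⟩⟩ | ⟨hF, ⟨e⟩⟩
    · have hcM : Nat.card M = 29120 := by rw [Nat.card_congr e.toEquiv, card_sz8 hF]
      have hidx := index_29120 hEX M hcM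
      have hcX : Nat.card (G ⧸ R) = 29120 := by rw [← Subgroup.card_mul_index M, hidx, hcM]
      obtain ⟨f⟩ := equivTop hidx
      constructor
      · obtain ⟨k, hk⟩ := hR2'
        rw [hsub, hcX, hk, Nat.primeFactors_mul (by norm_num) (by positivity)]
        have h4 : (2 ^ k).primeFactors ⊆ (29120 : ℕ).primeFactors := by
          intro q hq
          rw [Nat.mem_primeFactors] at hq ⊢
          refine ⟨hq.1, (hq.1.dvd_of_dvd_pow hq.2.1).trans (by norm_num), by norm_num⟩
        rw [Finset.union_eq_left.2 h4]
        decide +kernel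
      · intro _
        right
        exact ⟨R, hRn, hR2, F, i1, i2, Or.inl ⟨hF, ⟨f.trans e⟩⟩⟩
    · have hcM : Nat.card M = 32537600 := by rw [Nat.card_congr e.toEquiv, card_sz32 hF]
      have hidx := index_32537600 hEX M hcM
      have hcX : Nat.card (G ⧸ R) = 32537600 := by rw [← Subgroup.card_mul_index M, hidx, hcM]
      obtain ⟨f⟩ := equivTop hidx
      constructor
      · obtain ⟨k, hk⟩ := hR2'
        rw [hsub, hcX, hk, Nat.primeFactors_mul (by norm_num) (by positivity)]
        have h4 : (2 ^ k).primeFactors ⊆ (32537600 : ℕ).primeFactors := by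
          intro q hq
          rw [Nat.mem_primeFactors] at hq ⊢
          refine ⟨hq.1, (hq.1.dvd_of_dvd_pow hq.2.1).trans (by norm_num), by norm_num⟩
        rw [Finset.union_eq_left.2 h4]
        decide +kernel
      · intro _
        right
        exact ⟨R, hRn, hR2, F, i1, i2, Or.inr ⟨hF, ⟨f.trans e⟩⟩⟩

end Cfsg.Agent.S4087
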