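import Cfsg.Statements.S4113
-- import your own Cfsg.Agent.* helpers here

set_option autoImplicit false
open Cfsg

namespace Cfsg.Agent.S4113

/-- Let G be a finite group, M ≤ N non-trivial proper normal subgroups, and H a subgroup with HM = G and H ∩ M = 1. Then every element of G outside N acts fixed-point-freely on M (C_G(x) ≤ N for every x ∈ M, x ≠ 1) if and only if H ∩ gHg⁻¹ ≤ H ∩ N for every g outside H, with H proper and non-trivial and H ∩ N proper in H. -/
theorem result {G : Type*} [Group G] [Finite G] (N M : Subgroup G) [N.Normal] [M.Normal] (hMN : M ≤ N) (hM1 : M ≠ ⊥) (hN2 : N ≠ ⊤)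
    (H : Subgroup G) (hHM : H ⊔ M = ⊤) (hHM' : H ⊓ M = ⊥) :
    (∀ x ∈ M, x ≠ 1 → Subgroup.centralizer ({x} : Set G) ≤ N) ↔
      (H ≠ ⊥ ∧ H ≠ ⊤ ∧ H ⊓ N < H ∧ ∀ g : G, g ∉ H → H ⊓ H.map (MulAut.conj g).toMonoidHom ≤ N) := by
  constructor
  · intro h
    refine ⟨?_, ?_, ?_, ?_⟩
    · rintro rfl
      rw [bot_sup_eq] at hHM
      exact hN2 (top_le_iff.mp (hHM ▸ hMN))
    · rintro rfl
      rw [top_inf_eq] at hHM'
      exact hM1 hHM'
    · refine lt_of_le_of_ne inf_le_left ?_
      intro he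
      apply hN2
      rw [eq_top_iff, ← hHM]
      exact sup_le (inf_eq_left.mp he) hMN
    · intro g hg y hy
      obtain ⟨hy1, hy2⟩ := Subgroup.mem_inf.mp hy
      -- g = m * h
      have hgt : g ∈ M ⊔ H := by rw [sup_comm, hHM]; trivial
      obtain ⟨m, hm, k, hk, rfl⟩ := Subgroup.mem_sup_of_normal_left.mp hgt
      obtain ⟨h0, hh0, hyh⟩ := Subgroup.mem_map.mp hy2
      have hyh' : (m * k) * h0 * (m * k)⁻¹ = y := hyh
      set h1 := k * h0 * k⁻¹ with hh1
      have hh1H : h1 ∈ H := H.mul_mem (H.mul_mem hk hh0) (H.inv_mem hk)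
      have hy3 : y = m * h1 * m⁻¹ := by rw [← hyh', hh1]; group
      have hyM : y * h1⁻¹ ∈ M := by
        have : y * h1⁻¹ = m * (h1 * m⁻¹ * h1⁻¹) := by rw [hy3]; group
        rw [this]
        exact M.mul_mem hm (Subgroup.Normal.conj_mem inferInstance _ (M.inv_mem hm) _)
      have hyH : y * h1⁻¹ ∈ H := H.mul_mem hy1 (H.inv_mem hh1H)
      have hyb : y * h1⁻¹ ∈ H ⊓ M := ⟨hyH, hyM⟩
      rw [hHM', Subgroup.mem_bot] at hyb
      have hyh1 : y = h1 := by
        have := mul_inv_eq_one.mp hyb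
        exact this
      have hm1 : m ≠ 1 := by
        rintro rfl
        apply hg
        simpa using hk
      have := h m hm hm1
      apply this
      rw [Subgroup.mem_centralizer_singleton_iff]
      rw [← hyh1] at hy3
      calc y * m = (m * y * m⁻¹) * m := by rw [← hy3]
        _ = m * y := by group
  · rintro ⟨-, -, -, h⟩ x hx hx1 g hg
    by_contra hgN
    rw [Subgroup.mem_centralizer_singleton_iff] at hg
    -- g = k * m
    have hgt : g ∈ H ⊔ M := by rw [hHM]; trivial
    obtain ⟨k, hk, m, hm, rfl⟩ := Subgroup.mem_sup_of_normal_right.mp hgt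
    have hkN : k ∉ N := fun hkN => hgN (N.mul_mem hkN (hMN hm))
    -- k acts fixed point freely on M
    have hfpf : ∀ z ∈ M, k * z = z * k → z = 1 := by
      intro z hz hkz
      by_contra hz1
      have hzH : z ∉ H := by
        intro hzH
        apply hz1
        have : z ∈ H ⊓ M := ⟨hzH, hz⟩
        rwa [hHM', Subgroup.mem_bot] at this
      apply hkN
      apply h z hzH
      refine ⟨hk, ?_⟩
      refine Subgroup.mem_map.mpr ⟨k, hk, ?_⟩
      simp only [MulEquiv.coe_toMonoidHom, MulAut.conj_apply]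
      rw [← hkz]; group
    -- the map z ↦ k⁻¹ * z * k * z⁻¹ from M to M is injective, thus surjective
    let f : M → M := fun z => ⟨k⁻¹ * z * k * (z : G)⁻¹, by
      have h1 : k⁻¹ * (z : G) * k ∈ M := by
        have := Subgroup.Normal.conj_mem (inferInstance : M.Normal) z z.2 k⁻¹
        simpa using this
      exact M.mul_mem h1 (M.inv_mem z.2)⟩
    have hf : Function.Injective f := by
      intro a b hab
      have hab' : k⁻¹ * (a : G) * k * (a : G)⁻¹ = k⁻¹ * b * k * (b : G)⁻¹ := by
        have := congrArg Subtype.val hab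
        exact this
      have h1 : k * ((b : G)⁻¹ * a) = ((b : G)⁻¹ * a) * k := by
        have h2 : (a : G) * k * (a : G)⁻¹ = b * k * (b : G)⁻¹ := by
          have := congrArg (fun t => k * t) hab'
          simpa [mul_assoc] using this
        have h3 : (b : G)⁻¹ * ((a : G) * k * (a : G)⁻¹) * a = (b : G)⁻¹ * (b * k * (b : G)⁻¹) * a := by
          rw [h2]
        have h4 : (b : G)⁻¹ * ((a : G) * k * (a : G)⁻¹) * a = ((b : G)⁻¹ * a) * k := by group
        have h5 : (b : G)⁻¹ * (b * k * (b : G)⁻¹) * a = k * ((b : G)⁻¹ * a) := by group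
        rw [← h4, h3, h5]
      have h6 := hfpf ((b : G)⁻¹ * a) (M.mul_mem (M.inv_mem b.2) a.2) h1
      apply Subtype.ext
      have := inv_mul_eq_one.mp h6
      exact this.symm
    have hsurj : Function.Surjective f := Finite.surjective_of_injective hf
    obtain ⟨z, hz⟩ := hsurj ⟨m, hm⟩
    have hz' : k⁻¹ * (z : G) * k * (z : G)⁻¹ = m := congrArg Subtype.val hz
    have hkm : k * m = (z : G) * k * (z : G)⁻¹ := by rw [← hz']; group
    rw [hkm] at hg
    -- then z⁻¹ x z commutes with k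
    have hc : k * ((z : G)⁻¹ * x * z) = ((z : G)⁻¹ * x * z) * k := by
      have h3 : (z : G)⁻¹ * ((z : G) * k * (z : G)⁻¹ * x) * z = (z : G)⁻¹ * (x * ((z : G) * k * (z : G)⁻¹)) * z := by
        rw [hg]
      have h4 : (z : G)⁻¹ * ((z : G) * k * (z : G)⁻¹ * x) * z = k * ((z : G)⁻¹ * x * z) := by group
      have h5 : (z : G)⁻¹ * (x * ((z : G) * k * (z : G)⁻¹)) * z = ((z : G)⁻¹ * x * z) * k := by group
      rw [← h4, h3, h5]
    have h7 : (z : G)⁻¹ * x * z ∈ M := M.mul_mem (M.mul_mem (M.inv_mem z.2) hx) z.2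
    have h8 := hfpf _ h7 hc
    apply hx1
    have : x = (z : G) * ((z : G)⁻¹ * x * z) * (z : G)⁻¹ := by group
    rw [this, h8]; group

end Cfsg.Agent.S4113
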