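import Mathlib
import Cfsg.Statements.S4208
import Cfsg.Agent.Lib.H70Frattini

set_option autoImplicit false
open Cfsg

namespace Cfsg.Agent.S4208

open Cfsg.Agent.Lib.H70Frattini

/-- generating tuples -/
def GenTuple (P : Type*) [Group P] (r : ℕ) : Type _ := {t : Fin r → P // Subgroup.closure (Set.range t) = ⊤}

instance instActionGenTuple (P : Type*) [Group P] (r : ℕ) : MulAction (MulAut P) (GenTuple P r) where
  smul α t := ⟨fun i => α (t.1 i), by
    have h := t.2
    have : Set.range (fun i => α (t.1 i)) = α '' Set.range t.1 := by
      rw [← Set.range_comp]; rfl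
    rw [this]
    have h2 := (MonoidHom.map_closure α.toMonoidHom (Set.range t.1)).symm
    have h3 : Subgroup.closure (α '' Set.range t.1) = (Subgroup.closure (Set.range t.1)).map α.toMonoidHom := h2
    rw [h3, h, ← MonoidHom.range_eq_map, MonoidHom.range_eq_top]
    exact α.surjective⟩
  one_smul _ := rfl
  mul_smul _ _ _ := rfl

theorem smul_val {P : Type*} [Group P] {r : ℕ} (α : MulAut P) (t : GenTuple P r) (i : Fin r) : (α • t).1 i = α (t.1 i) := rfl

theorem free {P : Type*} [Group P] {r : ℕ} (α : MulAut P) (t : GenTuple P r) (h : α • t = t) : α = 1 := by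
  have h1 : ∀ x ∈ Subgroup.closure (Set.range t.1), α x = x := by
    intro x hx
    induction hx using Subgroup.closure_induction with
    | mem x hx =>
      obtain ⟨i, rfl⟩ := hx
      rw [← smul_val, h]
    | one => exact map_one α
    | mul x y _ _ hx hy => rw [map_mul, hx, hy]
    | inv x _ hx => rw [map_inv, hx]
  ext x
  rw [MulAut.one_apply]
  apply h1
  rw [t.2]; trivial

/-- Let `P` be a group of order `p^n` whose Frattini subgroup has index `p^r`. Then the order of the automorphism group of `P` divides `p^(r(n-r)) · (p^r - 1)(p^r - p) ⋯ (p^r - p^(r-1))`. -/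
theorem result {P : Type*} [Group P] [Finite P] {p n r : ℕ} [Fact p.Prime] (hP : Nat.card P = p ^ n) (hr : (frattini P).index = p ^ r) : Nat.card (MulAut P) ∣ p ^ (r * (n - r)) * ∏ i ∈ Finset.range r, (p ^ r - p ^ i) := by
  classical
  have hPp : IsPGroup p P := IsPGroup.of_card hP
  have hcard : Nat.card (frattini P) = p ^ (n - r) := by
    have h1 := (frattini P).card_mul_index
    rw [hr, hP] at h1
    have hle : r ≤ n := by
      have : p ^ r ∣ p ^ n := Dvd.intro_left _ h1
      exact (Nat.pow_dvd_pow_iff_le_right (Fact.out : p.Prime).one_lt).1 this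
    have h2 : p ^ n = p ^ (n - r) * p ^ r := by rw [← pow_add]; congr 1; omega
    rw [h2] at h1
    exact Nat.eq_of_mul_eq_mul_right (pow_pos (Fact.out : p.Prime).pos _) h1
  have hcom : IsMulCommutative (P ⧸ frattini P) :=
    Subgroup.Normal.quotient_commutative_iff_commutator_le.2 (commutator_le_frattini hPp)
  let _ : CommGroup (P ⧸ frattini P) := { (inferInstance : Group (P ⧸ frattini P)) with mul_comm := fun a b => mul_comm' a b }
  have hexp : ∀ v : P ⧸ frattini P, v ^ p = 1 := by
    intro v
    induction v using QuotientGroup.induction_on with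
    | H x =>
      rw [← QuotientGroup.mk_pow, QuotientGroup.eq_one_iff]
      exact pow_mem_frattini hPp x
  have hgen := card_generating_tuples (V := P ⧸ frattini P) (p := p) (r := r) hr hexp
  have hS := card_tuples (frattini P) r {s | Subgroup.closure (Set.range s) = ⊤}
  have hT : Nat.card (GenTuple P r) = p ^ (r * (n - r)) * ∏ i ∈ Finset.range r, (p ^ r - p ^ i) := by
    have e : Nat.card (GenTuple P r) = Nat.card {t : Fin r → P // (fun i => (QuotientGroup.mk (t i) : P ⧸ frattini P)) ∈ {s : Fin r → P ⧸ frattini P | Subgroup.closure (Set.range s) = ⊤}} := by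
      apply Nat.card_congr
      apply Equiv.subtypeEquivRight
      intro t
      have h1 : Subgroup.closure (Set.range (fun i => (QuotientGroup.mk (t i) : P ⧸ frattini P))) = (Subgroup.closure (Set.range t)).map (QuotientGroup.mk' (frattini P)) := by
        rw [MonoidHom.map_closure, ← Set.range_comp]
        rfl
      rw [Set.mem_ofPred_eq, h1]
      constructor
      · intro h
        rw [h, ← MonoidHom.range_eq_map, MonoidHom.range_eq_top]
        exact QuotientGroup.mk'_surjective _
      · intro h
        apply frattini_nongenerating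
        rw [eq_top_iff]
        intro x _
        have hx : (QuotientGroup.mk' (frattini P)) x ∈ (Subgroup.closure (Set.range t)).map (QuotientGroup.mk' (frattini P)) := by
          rw [h]; trivial
        obtain ⟨y, hy, hyx⟩ := hx
        have : x = y * (y⁻¹ * x) := by group
        rw [this]
        apply Subgroup.mul_mem_sup hy
        rw [← QuotientGroup.eq]
        exact hyx
    rw [e, hS, hcard, ← pow_mul, mul_comm (n - r) r, mul_comm]
    congr 1
  rw [← hT]
  have : Finite (GenTuple P r) := Subtype.finite
  exact card_dvd_of_free (fun α t h => free α t h)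

end Cfsg.Agent.S4208
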