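import Cfsg.Statements.S4233
import Cfsg.Agent.S0205
import Cfsg.Agent.Lib.Star68Fin3
import Cfsg.Agent.Lib.H2StarA
import Cfsg.Agent.Lib.StarA1h30
import Cfsg.Agent.Lib.StarB49
import Cfsg.Agent.Lib.StarI41
import Cfsg.Agent.Lib.Star68A2h22

set_option autoImplicit false
open Cfsg

namespace Cfsg.Agent.S4233

section
open Cfsg.Agent.Lib Cfsg.Agent.Lib.Star68


theorem hiso.{u} (L : Type u) [Group L] [Finite L] (h : Star68.Star L) (hns : ¬ Group.IsSolvable L) :
    Nonempty (L ≃* Matrix.ProjectiveSpecialLinearGroup (Fin 2) (ZMod 13)) := by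
  classical
  haveI : Fact (Nat.Prime 2) := ⟨Nat.prime_two⟩
  have hB1 : ∀ t : L, orderOf t = 2 → ¬ IsPGroup 2 (Subgroup.centralizer ({t} : Set L)) →
      ∃ (q : ℕ) (Q : Subgroup L), QS t q Q := fun t ht hnot =>
    Cfsg.Agent.Lib.H2StarB1.core h (fun N hN => Cfsg.Agent.S0205.result hN) hns t ht hnot
  by_cases hcase : ∃ (P : Sylow 2 L) (z : L), z ∈ P ∧ orderOf z = 2 ∧ (∀ x ∈ P, x * z = z * x) ∧
      ¬ IsPGroup 2 (Subgroup.centralizer ({z} : Set L))
  · obtain ⟨P, z, hzP, hz, hzc, hnot⟩ := hcase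
    obtain ⟨t, s, K, r, hS, hr, hr2, hK⟩ := Cfsg.Agent.Lib.StarB49.caseB h hB1 P z hzP hz hzc hnot
    exact Cfsg.Agent.Lib.StarI41.ident h hS hr hr2 hK
  · exfalso
    push Not at hcase
    have hA : ∀ (P : Sylow 2 L) (z : L), z ∈ P → orderOf z = 2 → (∀ x ∈ P, x * z = z * x) →
        Subgroup.centralizer ({z} : Set L) = P := by
      intro P z hzP hz hzc
      have h1 := hcase P z hzP hz hzc
      refine P.3 h1 ?_
      intro x hx
      exact Subgroup.mem_centralizer_singleton_iff.2 (hzc x hx)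
    by_cases h2 : ∃ t : L, orderOf t = 2 ∧ ¬ IsPGroup 2 (Subgroup.centralizer ({t} : Set L))
    · obtain ⟨t, ht, hnot⟩ := h2
      exact Cfsg.Agent.Lib.Star68A2h22.caseA2 h hns hB1 hA t ht hnot
    · push Not at h2
      exact Cfsg.Agent.Lib.StarA1h30.caseA1 h hns h2

end

/-- Let G be a finite non-solvable group in which every subgroup H that is not subnormal and whose order has at most two prime divisors has a normalizer N_G(H) that is a maximal subgroup of G. Then G is the internal direct product of normal subgroups K and S with K isomorphic to PSL(2, 13) or to SL(2, 13), S abelian, and the orders of K and S coprime. -/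
theorem result {G : Type*} [Group G] [Finite G] (hG : ¬ Group.IsSolvable G)
    (h : ∀ H : Subgroup G, ¬ H.IsSubnormal →
      (∃ p q : ℕ, p.Prime ∧ q.Prime ∧ ∀ r : ℕ, r.Prime → r ∣ Nat.card H → r = p ∨ r = q) →
      IsCoatom (Subgroup.normalizer (H : Set G))) :
    ∃ K S : Subgroup G, K.Normal ∧ S.Normal ∧ K ⊓ S = ⊥ ∧ K ⊔ S = ⊤ ∧
      (Nonempty (K ≃* Matrix.ProjectiveSpecialLinearGroup (Fin 2) (ZMod 13)) ∨
        Nonempty (K ≃* Matrix.SpecialLinearGroup (Fin 2) (ZMod 13))) ∧
      IsMulCommutative S ∧ (Nat.card K).Coprime (Nat.card S) := by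
  exact Cfsg.Agent.Lib.Star68.main hiso hG h

end Cfsg.Agent.S4233
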