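import Cfsg.Statements.S4240
import Cfsg.Agent.S0205
import Cfsg.Agent.Lib.ActNilp

set_option autoImplicit false
open Cfsg

namespace Cfsg.Agent.S4240

/-- Let a finite group A act by automorphisms on a finite group G of order coprime to that of A. Suppose every maximal A-invariant proper subgroup of G is nilpotent while G is not. Then G is solvable, the order of G has the form p^a·q^b for two distinct primes p and q, and G has a normal A-invariant Sylow subgroup for some prime dividing its order. -/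
theorem result {A G : Type*} [Group A] [Group G] [Finite A] [Finite G] [MulDistribMulAction A G]
    (hcop : (Nat.card A).Coprime (Nat.card G))
    (hmax : ∀ H : Subgroup G, H ≠ ⊤ → (∀ a : A, ∀ x ∈ H, a • x ∈ H) →
      (∀ K : Subgroup G, H < K → (∀ a : A, ∀ x ∈ K, a • x ∈ K) → K = ⊤) → Group.IsNilpotent H)
    (hG : ¬ Group.IsNilpotent G) :
    Group.IsSolvable G ∧
      (∃ p q a b : ℕ, p.Prime ∧ q.Prime ∧ p ≠ q ∧ Nat.card G = p ^ a * q ^ b) ∧
      ∃ (p : ℕ) (P : Sylow p G), p.Prime ∧ p ∣ Nat.card G ∧ (P : Subgroup G).Normal ∧ (∀ a : A, ∀ x ∈ (P : Subgroup G), a • x ∈ (P : Subgroup G)) := by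
  classical
  set φ : A →* MulAut G := MulDistribMulAction.toMulAut A G with hφ
  have hact : ∀ (a : A) (x : G), φ a x = a • x := fun a x => rfl
  have hall : ∀ H : Subgroup G, H ≠ ⊤ → Lib.ActNilp.Inv φ H → Group.IsNilpotent H := by
    intro H hH hHi
    obtain ⟨M, ⟨hHM, hMt, hMi⟩, hmaxM⟩ := Set.Finite.exists_maximalFor (fun X : Subgroup G => Nat.card X)
      {X : Subgroup G | H ≤ X ∧ X ≠ ⊤ ∧ Lib.ActNilp.Inv φ X} (Set.toFinite _) ⟨H, le_rfl, hH, hHi⟩
    have h1 : Group.IsNilpotent M := by
      apply hmax M hMt hMi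
      intro K hMK hKi
      by_contra hKt
      have h2 := hmaxM ⟨hHM.trans hMK.le, hKt, hKi⟩ (Subgroup.card_le_of_le hMK.le)
      have h3 : M = K := Subgroup.eq_of_le_of_card_ge hMK.le h2
      exact hMK.ne h3
    exact Lib.ActNilp.isNilpotent_of_le hHM h1
  have hsol : Group.IsSolvable G := Lib.ActNilp.solvable_of_forall_nilpotent
    (fun G _ _ hG => Cfsg.Agent.S0205.result hG) (fun G _ _ hG => Cfsg.Agent.S0205.result hG) φ hcop hall
  exact ⟨hsol, Lib.ActNilp.structure_of_forall_nilpotent φ hcop hsol hall hG⟩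

end Cfsg.Agent.S4240
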