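import Cfsg.Statements.S4241
import Cfsg.Agent.S0205
import Cfsg.Agent.Lib.ActN41

set_option autoImplicit false
open Cfsg

namespace Cfsg.Agent.S4241

/-- Let a finite group A act by automorphisms on a finite group G of order coprime to that of A, and let p be a prime dividing the order of G. If every maximal A-invariant proper subgroup of G whose order is divisible by p is nilpotent, then G is solvable. -/
theorem result {A G : Type*} [Group A] [Group G] [Finite A] [Finite G] [MulDistribMulAction A G]
    (hcop : (Nat.card A).Coprime (Nat.card G)) (p : ℕ) (hp : p.Prime) (hpG : p ∣ Nat.card G)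
    (hmax : ∀ H : Subgroup G, H ≠ ⊤ → (∀ a : A, ∀ x ∈ H, a • x ∈ H) →
      (∀ K : Subgroup G, H < K → (∀ a : A, ∀ x ∈ K, a • x ∈ K) → K = ⊤) → p ∣ Nat.card H → Group.IsNilpotent H) :
    Group.IsSolvable G := by
  classical
  set φ : A →* MulAut G := MulDistribMulAction.toMulAut A G with hφ
  have hact : ∀ (a : A) (x : G), φ a x = a • x := fun a x => rfl
  have hall : ∀ H : Subgroup G, H ≠ ⊤ → Lib.ActNilp.Inv φ H → p ∣ Nat.card H → Group.IsNilpotent H := by
    intro H hH hHi hpH
    obtain ⟨M, ⟨hHM, hMt, hMi⟩, hmaxM⟩ := Set.Finite.exists_maximalFor (fun X : Subgroup G => Nat.card X)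
      {X : Subgroup G | H ≤ X ∧ X ≠ ⊤ ∧ Lib.ActNilp.Inv φ X} (Set.toFinite _) ⟨H, le_rfl, hH, hHi⟩
    have h1 : Group.IsNilpotent M := by
      apply hmax M hMt hMi
      · intro K hMK hKi
        by_contra hKt
        have h2 := hmaxM ⟨hHM.trans hMK.le, hKt, hKi⟩ (Subgroup.card_le_of_le hMK.le)
        have h3 : M = K := Subgroup.eq_of_le_of_card_ge hMK.le h2
        exact hMK.ne h3
      · exact hpH.trans (Subgroup.card_dvd_of_le hHM)
    exact Lib.ActNilp.isNilpotent_of_le hHM h1
  exact Lib.ActN41.main (fun G _ _ hG => Cfsg.Agent.S0205.result hG) (fun G _ _ hG => Cfsg.Agent.S0205.result hG) φ hcop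
    p hp hpG hall

end Cfsg.Agent.S4241
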