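import Cfsg.Statements.S4370
import Cfsg.Agent.Lib.SubgroupTools
import Cfsg.Agent.Lib.Fitting
import Cfsg.Agent.Lib.H23Nilp
import Cfsg.Agent.Lib.UniqueInvolution

set_option autoImplicit false
open Cfsg

namespace Cfsg.Agent.S4370

open Subgroup Cfsg.Agent.Lib Cfsg.Agent.Lib.SubgroupTools

/-- In a finite cyclic group elements of equal order generate the same subgroup. -/
theorem cyc_mem {C : Type*} [Group C] [Finite C] (hC : IsCyclic C) {x y : C} (h : orderOf x = orderOf y) :
    y ∈ zpowers x := by
  classical
  have := Fintype.ofFinite C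
  have hx : ∀ u ∈ zpowers x, u ^ orderOf x = 1 := by
    rintro _ ⟨i, rfl⟩
    simp only
    rw [← zpow_natCast, ← zpow_mul, mul_comm, zpow_mul, zpow_natCast, pow_orderOf_eq_one, one_zpow]
  have h1 : (Finset.univ.filter (fun u : C => u ^ orderOf x = 1)).card ≤ orderOf x := by
    have := IsCyclic.card_pow_eq_one_le (α := C) (n := orderOf x) (orderOf_pos x)
    exact this
  have h2 : (Finset.univ.filter (fun u : C => u ∈ zpowers x)) ⊆ Finset.univ.filter (fun u : C => u ^ orderOf x = 1) := by
    intro u hu
    simp only [Finset.mem_filter, Finset.mem_univ, true_and] at hu ⊢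
    exact hx u hu
  have h3 : (Finset.univ.filter (fun u : C => u ∈ zpowers x)).card = orderOf x := by
    rw [← Fintype.card_subtype]
    rw [← Nat.card_eq_fintype_card]
    exact Nat.card_zpowers x
  have h4 := Finset.eq_of_subset_of_card_le h2 (by rw [h3]; exact h1)
  have h5 : y ∈ Finset.univ.filter (fun u : C => u ^ orderOf x = 1) := by
    simp only [Finset.mem_filter, Finset.mem_univ, true_and]
    rw [h, pow_orderOf_eq_one]
  rw [← h4] at h5
  simpa using h5

variable {G : Type*} [Group G]

theorem cyc_mem' [Finite G] {H : Subgroup G} (hC : IsCyclic H) {x y : G} (hx : x ∈ H) (hy : y ∈ H)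
    (h : orderOf x = orderOf y) : y ∈ zpowers x := by
  have h1 : orderOf (⟨x, hx⟩ : H) = orderOf (⟨y, hy⟩ : H) := by
    rw [← Subgroup.orderOf_coe, ← Subgroup.orderOf_coe]; exact h
  obtain ⟨i, hi⟩ := cyc_mem hC h1
  exact ⟨i, congrArg Subtype.val hi⟩

theorem two_mul_eq_zero {n : ℕ} [NeZero n] {j : ZMod (2 * n)} (h : j + j = 0) : j = 0 ∨ j = n := by
  have hn : 0 < n := Nat.pos_of_ne_zero (NeZero.ne n)
  have : NeZero (2 * n) := ⟨by omega⟩
  have h1 : ((j.val + j.val : ℕ) : ZMod (2 * n)) = 0 := by
    push_cast
    rw [ZMod.natCast_val, ZMod.cast_id', id, h]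
  rw [ZMod.natCast_eq_zero_iff] at h1
  have h2 := ZMod.val_lt j
  obtain ⟨c, hc⟩ := h1
  have hc2 : c < 2 := by
    by_contra hge
    push Not at hge
    nlinarith
  interval_cases c
  · left
    have : j.val = 0 := by omega
    exact (ZMod.val_eq_zero j).1 this
  · right
    have h4 : j.val = n := by omega
    have h3 : ((j.val : ℕ) : ZMod (2 * n)) = j := by rw [ZMod.natCast_val, ZMod.cast_id', id]
    calc j = ((j.val : ℕ) : ZMod (2 * n)) := h3.symm
      _ = (n : ZMod (2 * n)) := congrArg (fun k : ℕ => (k : ZMod (2 * n))) h4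

theorem quat_centralizer {n : ℕ} [NeZero n] (x : QuaternionGroup n) (hx : x ∉ center (QuaternionGroup n)) :
    ∃ g : QuaternionGroup n, centralizer ({x} : Set (QuaternionGroup n)) ≤ zpowers g := by
  have hn0 : ((n : ZMod (2 * n)) + n) = 0 := by
    have : ((2 * n : ℕ) : ZMod (2 * n)) = 0 := ZMod.natCast_self _
    push_cast at this
    rw [← this]; ring
  have hn : 0 < n := Nat.pos_of_ne_zero (NeZero.ne n)
  have : NeZero (2 * n) := ⟨by omega⟩
  cases x with
  | a i =>
    refine ⟨QuaternionGroup.a 1, ?_⟩
    intro y hy
    rw [mem_centralizer_singleton_iff] at hy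
    cases y with
    | a j =>
      refine ⟨(j.val : ℤ), ?_⟩
      simp only [zpow_natCast, QuaternionGroup.a_one_pow]
      rw [ZMod.natCast_val, ZMod.cast_id', id]
    | xa j =>
      exfalso
      apply hx
      rw [QuaternionGroup.xa_mul_a, QuaternionGroup.a_mul_xa] at hy
      simp only [QuaternionGroup.xa.injEq] at hy
      have h1 : i + i = 0 := by
        have : j + i = j - i := hy
        calc i + i = (j + i) - (j - i) := by ring
          _ = 0 := by rw [this]; ring
      have h2 : -i = i := by
        rw [neg_eq_iff_add_eq_zero]; exact h1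
      rw [mem_center_iff]
      intro z
      cases z with
      | a k => rw [QuaternionGroup.a_mul_a, QuaternionGroup.a_mul_a, add_comm]
      | xa k => rw [QuaternionGroup.xa_mul_a, QuaternionGroup.a_mul_xa, sub_eq_add_neg, h2]
  | xa i =>
    refine ⟨QuaternionGroup.xa i, ?_⟩
    intro y hy
    rw [mem_centralizer_singleton_iff] at hy
    cases y with
    | a j =>
      rw [QuaternionGroup.xa_mul_a, QuaternionGroup.a_mul_xa] at hy
      simp only [QuaternionGroup.xa.injEq] at hy
      have h1 : j + j = 0 := by
        calc j + j = (i + j) - (i - j) := by ring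
          _ = 0 := by rw [← hy]; ring
      rcases two_mul_eq_zero h1 with h | h
      · rw [h, ← QuaternionGroup.one_def]; exact one_mem _
      · rw [h, ← QuaternionGroup.xa_sq i]; exact pow_mem (mem_zpowers _) 2
    | xa j =>
      rw [QuaternionGroup.xa_mul_xa, QuaternionGroup.xa_mul_xa] at hy
      simp only [QuaternionGroup.a.injEq] at hy
      have h1 : (j - i) + (j - i) = 0 := by
        calc (j - i) + (j - i) = (n + j - i) - (n + i - j) := by ring
          _ = 0 := by rw [hy]; ring
      rcases two_mul_eq_zero h1 with h | h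
      · have : j = i := by rw [sub_eq_zero] at h; exact h
        rw [this]; exact mem_zpowers _
      · have h2 : j = i + n := by rw [← h]; ring
        have h3 : (QuaternionGroup.xa j : QuaternionGroup n) = QuaternionGroup.xa i ^ 2 * QuaternionGroup.xa i := by
          rw [QuaternionGroup.xa_sq, QuaternionGroup.a_mul_xa, h2]
          congr 1
          calc i + (n : ZMod (2 * n)) = i - n + (n + n) := by ring
            _ = i - n := by rw [hn0]; ring
        rw [h3]
        exact mul_mem (pow_mem (mem_zpowers _) 2) (mem_zpowers _)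

theorem quat_centralizer_cyclic {n : ℕ} [NeZero n] (x : QuaternionGroup n) (hx : x ∉ center (QuaternionGroup n)) :
    IsCyclic (centralizer ({x} : Set (QuaternionGroup n))) := by
  obtain ⟨g, hg⟩ := quat_centralizer x hx
  have : IsCyclic (zpowers g) := inferInstance
  exact Subgroup.isCyclic_of_le hg

theorem elements_prime_order_central [Finite G] (hG : Group.IsNilpotent G)
    (h : ∀ x : G, x ∉ Subgroup.center G → IsCyclic (Subgroup.centralizer ({x} : Set G)))
    {p : ℕ} (hp : p.Prime) {u : G} (hu : orderOf u = p) : u ∈ center G := by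
  have : Fact p.Prime := ⟨hp⟩
  by_contra hun
  -- a central element of order p
  obtain ⟨z, hz, hzp⟩ : ∃ z ∈ center G, orderOf z = p := by
    obtain ⟨P⟩ := (inferInstance : Nonempty (Sylow p G))
    have hPn : Nontrivial P := by
      have h1 : p ∣ Nat.card P := by
        apply P.dvd_card_of_dvd_card
        rw [← hu]; exact orderOf_dvd_natCard u
      rw [← Finite.one_lt_card_iff_nontrivial]
      exact lt_of_lt_of_le hp.one_lt (Nat.le_of_dvd Nat.card_pos h1)
    have hZ : Nontrivial (center P) := P.2.center_nontrivial
    have hZp : IsPGroup p (center P) := P.2.to_subgroup _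
    have hdvd : p ∣ Nat.card (center P) := by
      rcases hZp.card_eq_or_dvd with h1 | h1
      · exact absurd h1 (Nat.ne_of_gt Finite.one_lt_card)
      · exact h1
    obtain ⟨z, hz⟩ := exists_prime_orderOf_dvd_card' p hdvd
    refine ⟨((z : P) : G), ?_, by rw [Subgroup.orderOf_coe, Subgroup.orderOf_coe, hz]⟩
    have htop : centralizer ({((z : P) : G)} : Set G) = ⊤ := by
      apply Fitting.eq_top_of_sylow_le
      intro q hq
      by_cases hqp : q = p
      · refine ⟨P, ?_, ?_⟩
        · intro x hx
          rw [mem_centralizer_singleton_iff]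
          exact congrArg Subtype.val (mem_center_iff.1 z.2 ⟨x, hx⟩)
        · rw [hqp]; exact P.not_dvd_index
      · have : Fact q.Prime := ⟨hq⟩
        obtain ⟨Q⟩ := (inferInstance : Nonempty (Sylow q G))
        refine ⟨Q, ?_, Q.not_dvd_index⟩
        intro x hx
        rw [mem_centralizer_singleton_iff]
        apply H23Nilp.commute_of_coprime_orderOf
        rw [Subgroup.orderOf_coe, Subgroup.orderOf_coe, hz]
        obtain ⟨k, hk⟩ := Q.2 ⟨x, hx⟩
        have h3 : orderOf x ∣ q ^ k := by
          apply orderOf_dvd_of_pow_eq_one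
          exact congrArg Subtype.val hk
        apply Nat.Coprime.coprime_dvd_left h3
        exact Nat.Coprime.pow_left _ ((Nat.coprime_primes hq hp).2 hqp)
    rw [mem_center_iff]
    intro g
    have : g ∈ centralizer ({((z : P) : G)} : Set G) := by rw [htop]; trivial
    exact mem_centralizer_singleton_iff.1 this
  have h1 := cyc_mem' (h u hun) (x := z) (y := u) (mem_centralizer_singleton_iff.2 (mem_center_iff.1 hz u).symm)
    (mem_centralizer_singleton_iff.2 rfl) (by rw [hzp, hu])
  exact hun ((zpowers_le.2 hz) h1)

theorem forward [Finite G] (hG : Group.IsNilpotent G) (hna : ¬ IsMulCommutative G)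
    (h : ∀ x : G, x ∉ Subgroup.center G → IsCyclic (Subgroup.centralizer ({x} : Set G))) :
    ∃ (k m : ℕ), 1 ≤ k ∧ Odd m ∧ Nonempty (G ≃* QuaternionGroup (2 ^ k) × Multiplicative (ZMod m)) := by
  have hnc : ∃ c : G, c ∉ center G := by
    by_contra hcon
    push Not at hcon
    exact hna ⟨⟨fun a b => (mem_center_iff.1 (hcon b) a)⟩⟩
  obtain ⟨c, hc⟩ := hnc
  have huniq : ∀ p : ℕ, p.Prime → ∀ x y : G, orderOf x = p → orderOf y = p → y ∈ zpowers x := by
    intro p hp x y hx hy
    apply cyc_mem' (h c hc) _ _ (by rw [hx, hy])
    · exact mem_centralizer_singleton_iff.2 (mem_center_iff.1 (elements_prime_order_central hG h hp hx) c).symm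
    · exact mem_centralizer_singleton_iff.2 (mem_center_iff.1 (elements_prime_order_central hG h hp hy) c).symm
  have hsyl : ∀ (p : ℕ) (_ : Fact p.Prime) (P : Sylow p G), IsCyclic P ∨
      (p = 2 ∧ ∃ n : ℕ, 1 ≤ n ∧ Nonempty (P ≃* QuaternionGroup (2 ^ n))) := by
    intro p hp P
    apply UniqueInvolution.isCyclic_or_quaternion P.2
    intro x y hx hy
    obtain ⟨i, hi⟩ := huniq p hp.out (x : G) (y : G) (by rw [Subgroup.orderOf_coe, hx]) (by rw [Subgroup.orderOf_coe, hy])
    exact ⟨i, Subtype.ext hi⟩
  have : Fact (Nat.Prime 2) := ⟨Nat.prime_two⟩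
  obtain ⟨T⟩ := (inferInstance : Nonempty (Sylow 2 G))
  have hTq : ∃ n : ℕ, 1 ≤ n ∧ Nonempty (T ≃* QuaternionGroup (2 ^ n)) := by
    rcases hsyl 2 inferInstance T with h1 | ⟨_, h1⟩
    · exfalso
      have hZ : IsZGroup G := by
        constructor
        intro p hp P
        have : Fact p.Prime := ⟨hp⟩
        by_cases hp2 : p = 2
        · subst hp2
          have e : (P : Subgroup G) ≃* (T : Subgroup G) := P.equiv T
          exact isCyclic_of_surjective e.symm.toMonoidHom e.symm.surjective
        · rcases hsyl p this P with h2 | ⟨h2, _⟩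
          · exact h2
          · exact absurd h2 hp2
      have hcyc : IsCyclic G := inferInstance
      exact hna ⟨⟨fun a b => hcyc.commGroup.mul_comm a b⟩⟩
    · exact h1
  obtain ⟨n, hn, ⟨e⟩⟩ := hTq
  have hTn : (T : Subgroup G).Normal := inferInstance
  obtain ⟨K, hK⟩ := Subgroup.exists_right_complement'_of_coprime (N := (T : Subgroup G)) T.card_coprime_index
  have hcardK : Nat.card K = (T : Subgroup G).index := hK.symm.index_eq_card.symm
  have hodd : Odd (Nat.card K) := by
    rw [hcardK, ← Nat.not_even_iff_odd, even_iff_two_dvd]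
    exact T.not_dvd_index
  have hKn : Group.IsNilpotent K := inferInstance
  have hKZ : IsZGroup K := by
    constructor
    intro p hp P
    have : Fact p.Prime := ⟨hp⟩
    by_cases hp2 : p = 2
    · subst hp2
      have h1 : ¬ 2 ∣ Nat.card K := by
        rw [← even_iff_two_dvd, Nat.not_even_iff_odd]; exact hodd
      have h2 : Nat.card P = 1 := by
        obtain ⟨m, hm⟩ := IsPGroup.iff_card.1 P.2
        cases m with
        | zero => simpa using hm
        | succ m =>
          exfalso
          apply h1
          refine dvd_trans ?_ (Subgroup.card_subgroup_dvd_card (P : Subgroup K))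
          rw [hm]; exact dvd_pow_self 2 (by omega)
      have : Subsingleton P := (Nat.card_eq_one_iff_unique.1 h2).1
      exact isCyclic_of_subsingleton
    · have h1 : IsPGroup p ((P : Subgroup K).map K.subtype) := P.2.map _
      obtain ⟨Q, hQ⟩ := h1.exists_le_sylow
      have h2 : IsCyclic Q := by
        rcases hsyl p this Q with h2 | ⟨h2, _⟩
        · exact h2
        · exact absurd h2 hp2
      have h3 : IsCyclic ((P : Subgroup K).map K.subtype) := Subgroup.isCyclic_of_le hQ
      have e := (P : Subgroup K).equivMapOfInjective K.subtype K.subtype_injective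
      exact isCyclic_of_surjective e.symm.toMonoidHom e.symm.surjective
  have hKc : IsCyclic K := inferInstance
  have hcomm : ∀ (a : T) (b : K), Commute ((T : Subgroup G).subtype a) (K.subtype b) := by
    intro a b
    apply H23Nilp.commute_of_coprime_orderOf
    have h1 : orderOf ((T : Subgroup G).subtype a) ∣ Nat.card T := by
      rw [Subgroup.coe_subtype, Subgroup.orderOf_coe]; exact orderOf_dvd_natCard a
    have h2 : orderOf (K.subtype b) ∣ Nat.card K := by
      rw [Subgroup.coe_subtype, Subgroup.orderOf_coe]; exact orderOf_dvd_natCard b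
    apply Nat.Coprime.coprime_dvd_left h1
    apply Nat.Coprime.coprime_dvd_right h2
    rw [hcardK]
    exact T.card_coprime_index
  have hinj : Function.Injective (MonoidHom.noncommCoprod (T : Subgroup G).subtype K.subtype hcomm) := by
    rw [MonoidHom.noncommCoprod_injective]
    refine ⟨Subgroup.subtype_injective _, Subgroup.subtype_injective _, ?_⟩
    rw [Subgroup.range_subtype, Subgroup.range_subtype]
    exact hK.disjoint
  have hbij : Function.Bijective (MonoidHom.noncommCoprod (T : Subgroup G).subtype K.subtype hcomm) := by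
    rw [Nat.bijective_iff_injective_and_card]
    refine ⟨hinj, ?_⟩
    rw [Nat.card_prod, hcardK, Subgroup.card_mul_index]
  refine ⟨n, Nat.card K, hn, hodd, ⟨(MulEquiv.ofBijective _ hbij).symm.trans
    (MulEquiv.prodCongr e (zmodCyclicMulEquiv hKc).symm)⟩⟩

theorem backward [Finite G] {k m : ℕ} (hm : Odd m)
    (e : G ≃* QuaternionGroup (2 ^ k) × Multiplicative (ZMod m)) (x : G) (hx : x ∉ Subgroup.center G) :
    IsCyclic (Subgroup.centralizer ({x} : Set G)) := by
  have hm0 : NeZero m := ⟨by rintro rfl; exact absurd hm (by decide)⟩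
  have h2k : NeZero (2 ^ k) := ⟨by positivity⟩
  obtain ⟨⟨a, b⟩, hab⟩ : ∃ y, y = e x := ⟨_, rfl⟩
  have ha : a ∉ center (QuaternionGroup (2 ^ k)) := by
    intro ha
    apply hx
    rw [mem_center_iff]
    intro g
    apply e.injective
    rw [map_mul, map_mul, ← hab]
    apply Prod.ext
    · exact mem_center_iff.1 ha _
    · exact mul_comm _ _
  have h1 := quat_centralizer_cyclic a ha
  have hcop : (Nat.card (centralizer ({a} : Set (QuaternionGroup (2 ^ k))))).Coprime (Nat.card (Multiplicative (ZMod m))) := by
    have h3 : Nat.card (Multiplicative (ZMod m)) = m := by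
      rw [Nat.card_congr Multiplicative.toAdd, Nat.card_zmod]
    rw [h3]
    apply Nat.Coprime.coprime_dvd_left (Subgroup.card_subgroup_dvd_card _)
    rw [Nat.card_eq_fintype_card, QuaternionGroup.card]
    have : 4 * 2 ^ k = 2 ^ (k + 2) := by rw [pow_add]; ring
    rw [this]
    exact Nat.Coprime.pow_left _ (Nat.coprime_two_left.2 hm)
  have hcyc2 : IsCyclic (Multiplicative (ZMod m)) := inferInstance
  have hprod : IsCyclic (centralizer ({a} : Set (QuaternionGroup (2 ^ k))) × Multiplicative (ZMod m)) :=
    Group.isCyclic_prod_iff.2 ⟨h1, hcyc2, hcop⟩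
  let f : centralizer ({x} : Set G) →* centralizer ({a} : Set (QuaternionGroup (2 ^ k))) × Multiplicative (ZMod m) :=
    { toFun := fun g => (⟨(e g).1, by
        rw [mem_centralizer_singleton_iff]
        have h4 := mem_centralizer_singleton_iff.1 g.2
        have h5 := congrArg (fun u => (e u).1) h4
        simp only [map_mul, ← hab, Prod.fst_mul] at h5
        exact h5⟩, (e g).2)
      map_one' := by
        apply Prod.ext
        · apply Subtype.ext
          simp
        · simp
      map_mul' := fun g g' => by
        apply Prod.ext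
        · apply Subtype.ext
          simp
        · simp }
  have hf : Function.Injective f := by
    intro g g' hgg
    have h4 := congrArg (fun u => (u.1 : QuaternionGroup (2 ^ k))) hgg
    have h5 := congrArg (fun u => u.2) hgg
    apply Subtype.ext
    apply e.injective
    exact Prod.ext h4 h5
  exact isCyclic_of_injective f hf

/-- Let G be a finite non-abelian nilpotent group. Then the centralizer of every non-central element of G is cyclic if and only if G is isomorphic to the direct product of a generalized quaternion group and a cyclic group of odd order. -/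
theorem result {G : Type*} [Group G] [Finite G] (hG : Group.IsNilpotent G)
    (hna : ¬ IsMulCommutative G) :
    (∀ x : G, x ∉ Subgroup.center G → IsCyclic (Subgroup.centralizer ({x} : Set G))) ↔
      ∃ (k m : ℕ), 1 ≤ k ∧ Odd m ∧ Nonempty (G ≃* QuaternionGroup (2 ^ k) × Multiplicative (ZMod m)) := by
  constructor
  · intro h
    exact forward hG hna h
  · rintro ⟨k, m, _, hm, ⟨e⟩⟩ x hx
    exact backward hm e x hx

end Cfsg.Agent.S4370
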