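import Cfsg.Statements.S4245
import Cfsg.Agent.Lib.SubgroupTools
import Cfsg.Agent.Lib.Burnside
import Cfsg.Agent.Lib.ClassPow
import Cfsg.Agent.S4370

set_option autoImplicit false
open Cfsg

namespace Cfsg.Agent.S4245

open Subgroup Cfsg.Agent.Lib Cfsg.Agent.Lib.SubgroupTools

universe u v

/-- cyclic by (cyclic 2-group) -/
def MC (A : Type u) [Group A] : Prop :=
  ∃ (B : Subgroup A) (_ : B.Normal), IsCyclic B ∧ IsCyclic (A ⧸ B) ∧ IsPGroup 2 (A ⧸ B)

theorem MC.of_injective {R : Type u} {H : Type v} [Group R] [Group H] (hR : MC R)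
    (f : H →* R) (hf : Function.Injective f) : MC H := by
  obtain ⟨N, hN, hNc, hQ, h2⟩ := hR
  have hinj : Function.Injective (QuotientGroup.map (N.comap f) N f le_rfl) := by
    rw [injective_iff_map_eq_one]
    intro x hx
    obtain ⟨x, rfl⟩ := QuotientGroup.mk_surjective x
    rw [QuotientGroup.map_mk, QuotientGroup.eq_one_iff] at hx
    rw [QuotientGroup.eq_one_iff]
    exact hx
  refine ⟨N.comap f, hN.comap f, ?_, ?_, ?_⟩
  · exact isCyclic_of_injective (f.subgroupComap N) (fun a b hab => by
      apply Subtype.ext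
      apply hf
      exact congrArg Subtype.val hab)
  · exact isCyclic_of_injective _ hinj
  · exact h2.of_injective _ hinj

theorem MC.of_surjective {R : Type u} {H : Type v} [Group R] [Group H] (hR : MC R)
    (f : R →* H) (hf : Function.Surjective f) : MC H := by
  obtain ⟨N, hN, hNc, hQ, h2⟩ := hR
  have hN' : (N.map f).Normal := hN.map f hf
  have hs : Function.Surjective (QuotientGroup.map N (N.map f) f (le_comap_map f N)) := by
    intro y
    obtain ⟨y, rfl⟩ := QuotientGroup.mk_surjective y
    obtain ⟨x, rfl⟩ := hf y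
    exact ⟨QuotientGroup.mk x, rfl⟩
  refine ⟨N.map f, hN', ?_, ?_, ?_⟩
  · exact isCyclic_of_surjective (f.subgroupMap N) (f.subgroupMap_surjective N)
  · exact isCyclic_of_surjective _ hs
  · exact h2.of_surjective _ hs

def Q (G : Type u) [Group G] : Prop := ∃ (A : Subgroup G) (p s : ℕ), p.Prime ∧ A.index = p ^ s ∧ MC A

theorem Q.sub (G : Type u) [Group G] [Finite G] (N : Subgroup G) [N.Normal] (h : Q G) : Q N := by
  obtain ⟨A, p, s, hp, hA, hMC⟩ := h
  have h1 : A.relIndex N ∣ p ^ s := by rw [← hA]; exact ClassPow.relIndex_dvd_index A N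
  obtain ⟨k, -, hk⟩ := (Nat.dvd_prime_pow hp).1 h1
  refine ⟨A.subgroupOf N, p, k, hp, hk, ?_⟩
  refine hMC.of_injective (N.subtype.subgroupComap A) ?_
  intro a b hab
  apply Subtype.ext
  apply Subtype.ext
  exact congrArg (fun z : A => (z : G)) hab

theorem Q.quot (G : Type u) [Group G] [Finite G] (N : Subgroup G) [N.Normal] (h : Q G) : Q (G ⧸ N) := by
  obtain ⟨A, p, s, hp, hA, hMC⟩ := h
  have h1 : (A.map (QuotientGroup.mk' N)).index ∣ p ^ s := by
    rw [← hA]; exact Subgroup.index_map_dvd A (QuotientGroup.mk'_surjective N)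
  obtain ⟨k, -, hk⟩ := (Nat.dvd_prime_pow hp).1 h1
  exact ⟨A.map (QuotientGroup.mk' N), p, k, hp, hk,
    hMC.of_surjective ((QuotientGroup.mk' N).subgroupMap A) ((QuotientGroup.mk' N).subgroupMap_surjective A)⟩

theorem Q.simple (G : Type u) [Group G] [Finite G] [IsSimpleGroup G] (h : Q G) : Group.IsSolvable G := by
  obtain ⟨A, p, s, hp, hA, B, hB, hBc, hABc, hAB2⟩ := h
  have hpf : Fact p.Prime := ⟨hp⟩
  by_contra hns
  -- Burnside
  have burn : ∀ (q : ℕ), q.Prime → ∀ (g : G) (k : ℕ), g ≠ 1 → (∃ H : Subgroup G, H ≤ centralizer ({g} : Set G) ∧ H.index = q ^ k) → False := by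
    rintro q hq g k hg ⟨H, hH, hk⟩
    have h1 : (centralizer ({g} : Set G)).index ∣ q ^ k := by rw [← hk]; exact Subgroup.index_dvd_of_le hH
    obtain ⟨j, -, hj⟩ := (Nat.dvd_prime_pow hq).1 h1
    exact hns (ClassPow.solvable_of_prime_card (Burnside.prime_card_of_class_prime_pow q j hq g hg hj))
  have hZ : ∀ a : A, a ∈ center A → a = 1 := by
    intro a ha
    by_contra hne
    apply burn p hp (a : G) s (fun h => hne (Subtype.ext h))
    refine ⟨A, ?_, hA⟩
    intro x hx
    rw [mem_centralizer_singleton_iff]
    exact congrArg Subtype.val (mem_center_iff.1 ha ⟨x, hx⟩)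
  -- `B` has odd order
  have hBodd : ¬ 2 ∣ Nat.card B := by
    intro hd
    have : Fact (Nat.Prime 2) := ⟨Nat.prime_two⟩
    obtain ⟨⟨t, htB⟩, ht⟩ := exists_prime_orderOf_dvd_card' 2 hd
    rw [Subgroup.orderOf_mk] at ht
    have htZ : t ∈ center A := by
      rw [mem_center_iff]
      intro a
      have h1 : a * t * a⁻¹ ∈ B := hB.conj_mem t htB a
      have h2 : orderOf (a * t * a⁻¹) = 2 := by
        rw [← ht]
        have := orderOf_injective (MulAut.conj a).toMonoidHom (MulAut.conj a).injective t
        exact this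
      have h3 := S4370.cyc_mem' hBc htB h1 (by rw [ht, h2])
      have h4 : a * t * a⁻¹ = 1 ∨ a * t * a⁻¹ = t := by
        obtain ⟨i, hi⟩ := mem_powers_iff_mem_zpowers.2 h3
        simp only at hi
        have ht2 : t ^ 2 = 1 := by rw [← ht]; exact pow_orderOf_eq_one t
        rcases Nat.even_or_odd' i with ⟨j, rfl | rfl⟩
        · left; rw [← hi, pow_mul, ht2, one_pow]
        · right; rw [← hi, pow_succ, pow_mul, ht2, one_pow, one_mul]
      rcases h4 with h4 | h4
      · rw [h4, orderOf_one] at h2; omega
      · rw [mul_inv_eq_iff_eq_mul] at h4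
        exact h4
    have := hZ t htZ
    rw [this, orderOf_one] at ht
    omega
  by_cases hp2 : p = 2
  · -- class sizes of elements of `B`
    subst hp2
    obtain ⟨r, hr⟩ := IsPGroup.iff_card.1 hAB2
    have hidx : (B.map A.subtype).index = 2 ^ (r + s) := by
      rw [Subgroup.index_map_subtype, hA, Subgroup.index_eq_card, hr, pow_add]
    by_cases hBt : B = ⊥
    · -- `G` is a 2-group
      have h1 : Nat.card G = 2 ^ (r + s) := by
        rw [← hidx, hBt, Subgroup.map_bot, Subgroup.index_bot]
      have h2 : IsPGroup 2 G := IsPGroup.of_card h1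
      have := h2.isNilpotent
      exact hns inferInstance
    · obtain ⟨⟨b, hbB⟩, hb'⟩ := Subgroup.ne_bot_iff_exists_ne_one.1 hBt
      have hb : b ≠ 1 := fun h => hb' (Subtype.ext h)
      apply burn 2 Nat.prime_two (b : G) (r + s) (fun h => hb (Subtype.ext h))
      refine ⟨B.map A.subtype, ?_, hidx⟩
      rintro _ ⟨x, hx, rfl⟩
      rw [mem_centralizer_singleton_iff]
      have h1 : IsMulCommutative B := inferInstance
      have h2 := congrArg Subtype.val (h1.is_comm.comm (⟨b, hbB⟩ : B) ⟨x, hx⟩)
      exact (congrArg Subtype.val h2).symm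
  · -- cyclic Sylow 2-subgroup
    have : Fact (Nat.Prime 2) := ⟨Nat.prime_two⟩
    obtain ⟨T⟩ : Nonempty (Sylow 2 A) := inferInstance
    have hTc : IsCyclic T := by
      have hf : Function.Injective ((QuotientGroup.mk' B).comp (T : Subgroup A).subtype) := by
        rw [injective_iff_map_eq_one]
        intro x hx
        rw [MonoidHom.comp_apply, QuotientGroup.mk'_apply, QuotientGroup.eq_one_iff] at hx
        have h1 : orderOf ((T : Subgroup A).subtype x) ∣ Nat.card B := by
          have := orderOf_dvd_natCard (⟨_, hx⟩ : B)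
          rwa [Subgroup.orderOf_mk] at this
        obtain ⟨k, hk⟩ := IsPGroup.iff_orderOf.1 T.2 x
        have h2 : orderOf ((T : Subgroup A).subtype x) = 2 ^ k := by rw [← hk]; exact Subgroup.orderOf_coe x
        rw [h2] at h1
        have hk0 : k = 0 := by
          by_contra hk0
          exact hBodd ((dvd_pow_self 2 hk0).trans h1)
        rw [hk0, pow_zero, orderOf_eq_one_iff] at hk
        exact hk
      exact isCyclic_of_injective _ hf
    -- it is a Sylow 2-subgroup of `G`
    have hTidx : ¬ 2 ∣ ((T : Subgroup A).map A.subtype).index := by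
      rw [Subgroup.index_map_subtype, hA]
      intro hd
      rcases (Nat.prime_two.dvd_mul).1 hd with h | h
      · exact T.not_dvd_index h
      · have := Nat.prime_two.dvd_of_dvd_pow h
        exact hp2 ((Nat.prime_dvd_prime_iff_eq Nat.prime_two hp).1 this).symm
    let T' : Sylow 2 G := (T.2.map A.subtype).toSylow hTidx
    have hT'c : IsCyclic T' := by
      have : Function.Surjective (A.subtype.subgroupMap (T : Subgroup A)) := A.subtype.subgroupMap_surjective _
      exact isCyclic_of_surjective _ this
    by_cases h2G : 2 ∣ Nat.card G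
    · have hmin : (Nat.card G).minFac = 2 := (Nat.minFac_eq_two_iff _).2 h2G
      have hcomp := IsCyclic.isComplement' hmin hT'c
      rcases IsSimpleGroup.eq_bot_or_eq_top_of_normal (MonoidHom.transferSylow T' (hT'c.normalizer_le_centralizer hmin)).ker inferInstance with h | h
      · rw [h] at hcomp
        have h1 : (T' : Subgroup G) = ⊤ := by
          rwa [isComplement'_bot_left] at hcomp
        have h2 : IsPGroup 2 G := by
          have h3 := T'.2
          rw [h1] at h3
          exact h3.of_surjective (⊤ : Subgroup G).subtype (fun x => ⟨⟨x, trivial⟩, rfl⟩)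
        have := h2.isNilpotent
        exact hns inferInstance
      · rw [h] at hcomp
        have h1 : (T' : Subgroup G) = ⊥ := by
          rwa [isComplement'_top_left] at hcomp
        have h2 : 2 ∣ (T' : Subgroup G).index := by rw [h1, Subgroup.index_bot]; exact h2G
        exact T'.not_dvd_index h2
    · -- odd order
      have hABt : Nat.card (A ⧸ B) = 1 := by
        obtain ⟨r, hr⟩ := IsPGroup.iff_card.1 hAB2
        rcases Nat.eq_zero_or_pos r with h | h
        · rw [hr, h, pow_zero]
        · exfalso
          apply h2G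
          have h1 : 2 ∣ Nat.card (A ⧸ B) := by rw [hr]; exact dvd_pow_self 2 h.ne'
          exact (h1.trans (Subgroup.card_quotient_dvd_card B)).trans (Subgroup.card_subgroup_dvd_card A)
      have hBtop : B = ⊤ := by rw [← Subgroup.index_eq_one, Subgroup.index_eq_card]; exact hABt
      have hAc : ∀ a : A, a = 1 := by
        intro a
        apply hZ
        rw [mem_center_iff]
        intro g
        have h1 : IsMulCommutative B := inferInstance
        exact congrArg Subtype.val (h1.is_comm.comm (⟨g, by rw [hBtop]; trivial⟩ : B) ⟨a, by rw [hBtop]; trivial⟩)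
      have hAbot : A = ⊥ := by
        rw [eq_bot_iff]
        intro x hx
        exact congrArg Subtype.val (hAc ⟨x, hx⟩)
      have h1 : Nat.card G = p ^ s := by rw [← hA, hAbot, Subgroup.index_bot]
      have h2 : IsPGroup p G := IsPGroup.of_card h1
      have := h2.isNilpotent
      exact hns inferInstance

/-- Let G be a finite group with a subgroup A of prime-power index. Suppose A has a normal cyclic subgroup B such that A/B is cyclic of order a power of 2. Then G is solvable. -/
theorem result {G : Type*} [Group G] [Finite G] (A : Subgroup G) (p s : ℕ) (hp : p.Prime) (hA : A.index = p ^ s)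
    (B : Subgroup A) [B.Normal] (hB : IsCyclic B) (hAB : IsCyclic (A ⧸ B)) (r : ℕ) (hr : Nat.card (A ⧸ B) = 2 ^ r) :
    Group.IsSolvable G := by
  have : Fact (Nat.Prime 2) := ⟨Nat.prime_two⟩
  exact ClassPow.solvable_induction Q Q.sub Q.quot Q.simple _ G rfl ⟨A, p, s, hp, hA, B, inferInstance, hB, hAB, IsPGroup.of_card hr⟩

end Cfsg.Agent.S4245
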