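import Cfsg.Statements.S4248
import Cfsg.Agent.Lib.NPartA
import Cfsg.Agent.Lib.NPartB4
import Cfsg.Agent.Lib.NPartU2
import Cfsg.Agent.Lib.NPartV

set_option autoImplicit false
open Cfsg

namespace Cfsg.Agent.S4248

/-- Let G be a finite group admitting a nontrivial partition: a family of at least two nontrivial subgroups such that every non-identity element of G lies in exactly one member. Then G is isomorphic to the symmetric group of degree 4; or, for some prime p, the Hughes subgroup generated by the elements g with g^p ≠ 1 is proper (G a p-group or a group of Hughes–Thompson type); or G is a Frobenius group; or G is isomorphic to PSL(2, q) with q ≥ 4, to PGL(2, q) with q ≥ 5 odd, or to a Suzuki group. -/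
theorem result {G : Type*} [Group G] [Finite G] (S : Set (Subgroup G)) (hS2 : ∃ H ∈ S, ∃ K ∈ S, H ≠ K)
    (hS1 : ∀ H ∈ S, H ≠ ⊥) (hpart : ∀ g : G, g ≠ 1 → ∃! H : Subgroup G, H ∈ S ∧ g ∈ H) :
    Nonempty (G ≃* Equiv.Perm (Fin 4)) ∨
    (∃ p : ℕ, p.Prime ∧ Subgroup.closure {g : G | g ^ p ≠ 1} ≠ ⊤) ∨
    (∃ H : Subgroup G, Cfsg.IsFrobeniusComplement H) ∨
    (∃ (F : Type) (_ : Field F) (_ : Fintype F), 4 ≤ Fintype.card F ∧
        Nonempty (G ≃* Matrix.ProjectiveSpecialLinearGroup (Fin 2) F)) ∨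
    (∃ (F : Type) (_ : Field F) (_ : Fintype F), 5 ≤ Fintype.card F ∧ Odd (Fintype.card F) ∧
        Nonempty (G ≃* (GL (Fin 2) F ⧸ Subgroup.center (GL (Fin 2) F)))) ∨
    Cfsg.Lie.IsoSuzuki G := by
  classical
  obtain ⟨X, h⟩ := Cfsg.Agent.Lib.NP.exists_of_partition S hS2 hS1 hpart
  have hnt : Nontrivial G := by
    by_contra hcon
    rw [not_nontrivial_iff_subsingleton] at hcon
    apply h.ne_top 1
    rw [eq_top_iff]
    intro x _
    rw [Subsingleton.elim x 1]; exact one_mem _
  by_cases hab : Cfsg.Agent.Lib.NPartB.NoAb G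
  · rcases Cfsg.Agent.Lib.NPartB.partB h hab with ⟨z, hz, hn⟩ | hF | hPS | ⟨T, z, t, C⟩
    · rcases Cfsg.Agent.Lib.NPA.normal_comp h hz hn with h1 | h1
      · exact Or.inr (Or.inl h1)
      · exact Or.inr (Or.inr (Or.inl h1))
    · exact Or.inr (Or.inr (Or.inl hF))
    · rcases hPS with h1 | h1
      · exact Or.inr (Or.inr (Or.inr (Or.inl h1)))
      · exact Or.inr (Or.inr (Or.inr (Or.inr (Or.inr h1))))
    · have hPG : Cfsg.Agent.Lib.NPartT.Two.PG G := by
        by_cases hone : ∀ u v : G, orderOf u = 2 → orderOf v = 2 → IsConj u v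
        · exact Cfsg.Agent.Lib.NPartV.one_class h hab C hone
        · obtain ⟨t', L, Q, q, W⟩ := Cfsg.Agent.Lib.NPartU.exists_two h hab C hone
          exact Cfsg.Agent.Lib.NPartT.Two.main h hab W
      rcases hPG with h1 | h1
      · exact Or.inr (Or.inr (Or.inr (Or.inl h1)))
      · exact Or.inr (Or.inr (Or.inr (Or.inr (Or.inl h1))))
  · unfold Cfsg.Agent.Lib.NPartB.NoAb at hab
    push Not at hab
    obtain ⟨A, hAn, hAab, hA⟩ := hab
    rcases Cfsg.Agent.Lib.NPA.abelian_normal h A hA hAab with h1 | h1 | h1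
    · exact Or.inl h1
    · exact Or.inr (Or.inl h1)
    · exact Or.inr (Or.inr (Or.inl h1))

end Cfsg.Agent.S4248
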