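import Cfsg.Statements.S4284
import Cfsg.Agent.Lib.H64CSd
import Cfsg.Agent.Lib.H64CSh

set_option autoImplicit false
open Cfsg

namespace Cfsg.Agent.S4284

/-- Let G be a finite group with no nontrivial abelian direct factor whose conjugacy class sizes are exactly 1, m and m·n with m, n > 1 coprime. Then m is a prime p dividing n − 1; the elements whose class has size 1 or p form an abelian normal subgroup of index p; G has a normal p-complement; and the commutator subgroup of a Sylow p-subgroup of G has order p. -/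
theorem result {G : Type*} [Group G] [Finite G] (hnodf : ∀ A B : Subgroup G, A.Normal → B.Normal → A ⊓ B = ⊥ → A ⊔ B = ⊤ → IsMulCommutative A → A = ⊥) (m n : ℕ) (hm : 1 < m) (hn : 1 < n) (hcop : m.Coprime n) (h : Set.range (fun x : G => (Subgroup.centralizer ({x} : Set G)).index) = ({1, m, m * n} : Set ℕ)) : m.Prime ∧ m ∣ n - 1 ∧ (∃ M : Subgroup G, M.Normal ∧ (M : Set G) = {x : G | (Subgroup.centralizer ({x} : Set G)).index = 1 ∨ (Subgroup.centralizer ({x} : Set G)).index = m} ∧ M.index = m ∧ IsMulCommutative M) ∧ (∃ N : Subgroup G, N.Normal ∧ (Nat.card N).Coprime m ∧ ∃ a : ℕ, N.index = m ^ a) ∧ ∀ P : Sylow m G, Nat.card (commutator (P : Subgroup G)) = m := by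
  have H : Cfsg.Agent.Lib.H64CSa.Hyp G m n := by
    refine ⟨hm, hn, hcop, ?_, ?_, ?_⟩
    · intro g hg
      have h1 : (Cfsg.Agent.Lib.H64CSa.C g).index ∈ ({1, m, m * n} : Set ℕ) := by
        rw [← h]; exact ⟨g, rfl⟩
      rcases h1 with h1 | h1 | h1
      · exact absurd (Cfsg.Agent.Lib.H64CSa.index_eq_one_iff.1 h1) hg
      · exact Or.inl h1
      · exact Or.inr h1
    · have h1 : m ∈ Set.range (fun x : G => (Subgroup.centralizer ({x} : Set G)).index) := by
        rw [h]; exact Or.inr (Or.inl rfl)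
      obtain ⟨g, hg⟩ := h1
      exact ⟨g, hg⟩
    · have h1 : m * n ∈ Set.range (fun x : G => (Subgroup.centralizer ({x} : Set G)).index) := by
        rw [h]; exact Or.inr (Or.inr rfl)
      obtain ⟨g, hg⟩ := h1
      exact ⟨g, hg⟩
  obtain ⟨r, a, hr, hrm, hma⟩ := Cfsg.Agent.Lib.H64CSd.exists_pow H
  have key : ∀ R : Sylow r G, Cfsg.Agent.Lib.H64CSg.Concl m n R := fun R =>
    Cfsg.Agent.Lib.H64CSh.main H hr hrm hma R
  obtain ⟨R⟩ : Nonempty (Sylow r G) := inferInstance
  obtain ⟨heq, hdvd, ⟨M, hMn, hM, hMi, hMc⟩, ⟨N, hNn, hNc, b, hNi⟩, -⟩ := key R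
  subst heq
  refine ⟨hr, hdvd, ⟨M, hMn, Set.ext fun x => hM x, hMi, isMulCommutative_iff_of_setLike.mpr hMc⟩,
    ⟨N, hNn, hNc, b, hNi⟩, fun P => (key P).com⟩

end Cfsg.Agent.S4284
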