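import Cfsg.Statements.S4347

set_option autoImplicit false
open Cfsg

namespace Cfsg.Agent.S4347

theorem exists_sylow_mem {G : Type*} [Group G] [Finite G] (p : ℕ) [Fact p.Prime] (x : G)
    (hx : ∃ k : ℕ, orderOf x = p ^ k) : ∃ P : Sylow p G, x ∈ P := by
  obtain ⟨k, hk⟩ := hx
  have h1 : IsPGroup p (Subgroup.zpowers x) := by
    apply IsPGroup.of_card (n := k)
    rw [Nat.card_zpowers, hk]
  obtain ⟨Q, hQ⟩ := h1.exists_le_sylow
  exact ⟨Q, hQ (Subgroup.mem_zpowers x)⟩

/-- Let G be a finite group and p a prime. Say a Sylow p-subgroup Q is redundant when every element of p-power order lies in some Sylow p-subgroup other than Q. Then G has no redundant Sylow p-subgroup if and only if some element of p-power order lies in exactly one Sylow p-subgroup. -/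
theorem result {G : Type*} [Group G] [Finite G]
    (p : ℕ) [Fact p.Prime] :
    (¬ ∃ Q : Sylow p G, ∀ x : G, (∃ k : ℕ, orderOf x = p ^ k) → ∃ P : Sylow p G, P ≠ Q ∧ x ∈ P) ↔
      ∃ x : G, (∃ k : ℕ, orderOf x = p ^ k) ∧ ∃! P : Sylow p G, x ∈ P := by
  constructor
  · intro h
    push Not at h
    obtain ⟨x, hx, hx2⟩ := h default
    refine ⟨x, hx, ?_⟩
    obtain ⟨P, hP⟩ := exists_sylow_mem p x hx
    refine ⟨P, hP, ?_⟩
    intro Q hQ
    have h1 : P = default := by
      by_contra hne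
      exact hx2 P hne hP
    have h2 : Q = default := by
      by_contra hne
      exact hx2 Q hne hQ
    rw [h1, h2]
  · rintro ⟨x, ⟨k, hk⟩, P, hP, hPu⟩ ⟨Q, hQ⟩
    obtain ⟨g, hg⟩ := MulAction.exists_smul_eq G P Q
    -- x^g ∈ Q
    obtain ⟨R, hR, hxR⟩ := hQ (g * x * g⁻¹) ⟨k, by rw [← hk]; simpa using (MulAut.conj g).orderOf_eq x⟩
    have h3 : x ∈ g⁻¹ • R := by
      change x ∈ ((g⁻¹ • R : Sylow p G) : Subgroup G)
      rw [Sylow.coe_subgroup_smul, Subgroup.mem_pointwise_smul_iff_inv_smul_mem]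
      have h5 : g * x * g⁻¹ ∈ (R : Subgroup G) := hxR
      simpa using h5
    have h4 : g⁻¹ • R = P := hPu _ h3
    apply hR
    rw [← hg, ← h4, smul_inv_smul]

end Cfsg.Agent.S4347
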