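import Cfsg.Statements.S4348

set_option autoImplicit false
open Cfsg

namespace Cfsg.Agent.S4348

/-- Let G be a finite group, p a prime and P a Sylow p-subgroup of G, and let O_p(G) be the largest normal p-subgroup of G. If P/O_p(G) is cyclic, then some element of p-power order of G lies in exactly one Sylow p-subgroup. -/
theorem result {G : Type*} [Group G] [Finite G]
    (p : ℕ) [Fact p.Prime] (P : Sylow p G)
    [hn : ((Cfsg.pCore p G).subgroupOf (P : Subgroup G)).Normal]
    (hc : IsCyclic ((P : Subgroup G) ⧸ (Cfsg.pCore p G).subgroupOf (P : Subgroup G))) :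
    ∃ x : G, (∃ k : ℕ, orderOf x = p ^ k) ∧ ∃! Q : Sylow p G, x ∈ Q := by
  obtain ⟨y, hy⟩ := hc.exists_generator
  obtain ⟨x, rfl⟩ := QuotientGroup.mk_surjective y
  have hcore : ∀ Q : Sylow p G, Cfsg.pCore p G ≤ Q := by
    intro Q
    refine sSup_le ?_
    rintro N ⟨hN, hNp⟩
    exact hNp.le_sylow_of_normal Q
  refine ⟨(x : G), ?_, P, x.2, ?_⟩
  · obtain ⟨k, hk⟩ := (IsPGroup.iff_orderOf.mp P.2) x
    exact ⟨k, by simpa using hk⟩
  · intro Q hQ
    have hPQ : (P : Subgroup G) ≤ Q := by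
      intro z hz
      obtain ⟨n, hn⟩ := hy (QuotientGroup.mk ⟨z, hz⟩)
      have hn' : (QuotientGroup.mk (x ^ n) : (P : Subgroup G) ⧸ (Cfsg.pCore p G).subgroupOf (P : Subgroup G)) = QuotientGroup.mk ⟨z, hz⟩ := hn
      rw [QuotientGroup.eq] at hn'
      have h1 : ((x ^ n : (P : Subgroup G)) : G)⁻¹ * z ∈ Cfsg.pCore p G := by
        simpa [Subgroup.mem_subgroupOf] using hn'
      have h2 := hcore Q h1
      have h3 : ((x ^ n : (P : Subgroup G)) : G) ∈ (Q : Subgroup G) := by
        push_cast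
        exact Subgroup.zpow_mem _ hQ n
      have := Subgroup.mul_mem _ h3 h2
      simpa using this
    apply Sylow.ext
    symm
    exact (P.3 Q.2 hPQ).symm

end Cfsg.Agent.S4348
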