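import Cfsg.Statements.S4351
import Cfsg.Agent.Lib.MzJ
import Cfsg.Agent.Lib.CNCit
import Cfsg.Agent.Lib.CITSuz
import Cfsg.Agent.Lib.CITStr4
import Cfsg.Agent.Lib.CITMod
import Cfsg.Agent.Lib.SuzukiLie

set_option autoImplicit false
open Cfsg

namespace Cfsg.Agent.S4351

open Cfsg.Agent.Lib.CIT in
theorem suz_aux {G : Type*} [Group G] [Finite G] (hC : IsCIT G) {Q : Subgroup G} [Q.Normal]
    (hQ : IsPGroup 2 Q) (hsz : Cfsg.Lie.IsoSuzuki (G ⧸ Q)) :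
    (∀ x ∈ Q, ∀ y ∈ Q, x * y = y * x) ∧ (∀ x ∈ Q, x * x = 1) ∧
      ∃ m : ℕ, 1 ≤ m ∧ Nat.card (G ⧸ Q) = (2 ^ (2 * m + 1)) ^ 2 * ((2 ^ (2 * m + 1)) ^ 2 + 1) * (2 ^ (2 * m + 1) - 1) := by
  obtain ⟨F, _, _, m, hm, hF, ⟨e⟩⟩ := Cfsg.Agent.Lib.SuzukiLie.isoSuzuki_iff.1 hsz
  haveI : CharP F 2 := Cfsg.Agent.Lib.SuzukiFin.charTwo hF
  have hθ := Cfsg.Agent.Lib.SuzukiFin.th_sq (F := F) hF
  have hne := Cfsg.Agent.Lib.SuzukiFin.th_ne (F := F) hm hF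
  let e2 : G ⧸ Q ≃* Cfsg.Agent.Lib.SuzukiOvoid.Gz (Cfsg.Agent.Lib.SuzukiFin.th F m) :=
    e.trans (MulEquiv.subgroupCongr (Cfsg.Agent.Lib.SuzukiFin.Sz_eq m))
  let φ : G →* Cfsg.Agent.Lib.SuzukiOvoid.Gz (Cfsg.Agent.Lib.SuzukiFin.th F m) :=
    e2.toMonoidHom.comp (QuotientGroup.mk' Q)
  have hφ : Function.Surjective φ := e2.surjective.comp (QuotientGroup.mk'_surjective Q)
  have hker : ∀ x, φ x = 1 ↔ x ∈ Q := by
    intro x
    rw [← QuotientGroup.eq_one_iff x]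
    exact e2.map_eq_one_iff
  have hk : φ.ker = Q := by
    ext x
    exact hker x
  obtain ⟨h1, h2, -⟩ := Cfsg.Agent.Lib.Mz.ext_main hθ hne _ G rfl hC φ hφ (by rw [hk]; exact hQ)
  refine ⟨fun x hx y hy => h1 x y ((hker x).2 hx) ((hker y).2 hy), fun x hx => h2 x ((hker x).2 hx), m, hm, ?_⟩
  rw [Nat.card_congr e2.toEquiv, Cfsg.Agent.Lib.SuzukiGroup.card_G _ hθ hne, Nat.card_eq_fintype_card, hF]

/-- Let G be a finite non-solvable group in which the centralizer of every non-identity element is nilpotent. Then G is a non-abelian simple group; or G has a normal subgroup of index 2 isomorphic to PSL(2, 9); or G has a nontrivial normal elementary abelian 2-subgroup N such that G/N is isomorphic to PSL(2, q) for some q = 2ⁿ ≥ 4 or is a simple group of Suzuki type (simple, of the order of a Suzuki group). -/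
theorem result {G : Type*} [Group G] [Finite G] (hG : ¬ Group.IsSolvable G)
    (hCN : ∀ x : G, x ≠ 1 → Group.IsNilpotent (Subgroup.centralizer ({x} : Set G))) :
    (IsSimpleGroup G ∧ ¬ IsMulCommutative G) ∨
    (∃ (N : Subgroup G), N.Normal ∧ N.index = 2 ∧ ∃ (F : Type) (_ : Field F) (_ : Fintype F), Fintype.card F = 9 ∧
        Nonempty (N ≃* Matrix.ProjectiveSpecialLinearGroup (Fin 2) F)) ∨
    (∃ (N : Subgroup G) (_ : N.Normal), N ≠ ⊥ ∧ IsPGroup 2 N ∧ IsMulCommutative N ∧ (∀ x ∈ N, x * x = 1) ∧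
        ((∃ (F : Type) (_ : Field F) (_ : Fintype F), CharP F 2 ∧ 4 ≤ Fintype.card F ∧
            Nonempty (G ⧸ N ≃* Matrix.ProjectiveSpecialLinearGroup (Fin 2) F)) ∨ Cfsg.IsSuzuki (G ⧸ N))) := by
  haveI : Fact (Nat.Prime 2) := ⟨Nat.prime_two⟩
  have hC : Cfsg.Agent.Lib.CIT.IsCIT G := Cfsg.Agent.Lib.CIT.cit_of_cn_nonsolvable _ G rfl hCN hG
  rcases hC.structure hG with h | ⟨-, h⟩ | ⟨hO, hn, hs, hc, hTI, hns⟩
  · left
    refine ⟨h, fun hm => hG ?_⟩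
    exact Group.isSolvable_of_comm (fun a b => (isMulCommutative_iff.mp hm) a b)
  · exact Or.inr (Or.inl h)
  · right; right
    haveI := hs
    have hp : IsPGroup 2 (Cfsg.pCore 2 G) := Cfsg.Agent.Lib.Fitting.isPGroup_pCore 2
    rcases Cfsg.Agent.Lib.CIT.ti_suz (Cfsg.Agent.Lib.CIT.not_comm_of_not_solvable hns) hc hTI with
      ⟨F, _, _, h2, h4, ⟨e⟩⟩ | hsz
    · obtain ⟨h5, h6⟩ := (hC.module (Cfsg.pCore 2 G) hp h4 e).1
      refine ⟨Cfsg.pCore 2 G, hn, hO, hp, h5, ?_, Or.inl ⟨F, _, _, h2, h4, ⟨e⟩⟩⟩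
      intro x hx
      have := h6 x hx
      rwa [pow_two] at this
    · obtain ⟨h1, h2, m, hm, hcard⟩ := suz_aux hC hp hsz
      refine ⟨Cfsg.pCore 2 G, hn, hO, hp, isMulCommutative_iff_of_setLike.mpr h1, h2, Or.inr ⟨hs, m, hm, hcard⟩⟩

end Cfsg.Agent.S4351
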