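import Cfsg.Statements.S4357
import Cfsg.Agent.Lib.ClRedund2

set_option autoImplicit false
open Cfsg

namespace Cfsg.Agent.S4357

open Cfsg.Agent.Lib Cfsg.Agent.Lib.ClRedund Cfsg.Agent.Lib.ClRedund2

/-- Let F be a finite field with q elements, p a prime and G = SL(2, F). Say a Sylow p-subgroup Q of G is redundant when every element of p-power order lies in some Sylow p-subgroup other than Q. Then G has a redundant Sylow p-subgroup if and only if p = 2 and q is not of any of the forms 2ᵏ - 1, 2ᵏ, 2ᵏ + 1. -/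
theorem result {F : Type*} [Field F] [Fintype F] (p : ℕ) [Fact p.Prime] :
    (∃ Q : Sylow p (Matrix.SpecialLinearGroup (Fin 2) F), ∀ x : Matrix.SpecialLinearGroup (Fin 2) F,
        (∃ k : ℕ, orderOf x = p ^ k) → ∃ P : Sylow p (Matrix.SpecialLinearGroup (Fin 2) F), P ≠ Q ∧ x ∈ P) ↔
      (p = 2 ∧ (¬ ∃ k : ℕ, Fintype.card F + 1 = 2 ^ k) ∧ (¬ ∃ k : ℕ, Fintype.card F = 2 ^ k) ∧
        ¬ ∃ k : ℕ, Fintype.card F = 2 ^ k + 1) := by
  change (∃ Q : Sylow p (Matrix.SpecialLinearGroup (Fin 2) F), Redund Q) ↔ _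
  obtain ⟨r, hr⟩ := CharP.exists F
  haveI : Fact r.Prime := ⟨CharP.char_is_prime F r⟩
  obtain ⟨a, ha0, ha⟩ := ClSLn.exists_card_eq_pow (F := F) r
  have hq1 := Fintype.one_lt_card (α := F)
  by_cases hrp : p = r
  · subst hrp
    refine ⟨fun h => absurd h (not_char p), ?_⟩
    rintro ⟨rfl, -, h, -⟩
    exact absurd ⟨a, ha⟩ h
  by_cases hp2 : p = 2
  · subst hp2
    have h2 : (2 : F) ≠ 0 := by
      intro h
      apply hrp
      have := (CharP.cast_eq_zero_iff F r 2).1 (by exact_mod_cast h)
      exact ((Nat.prime_dvd_prime_iff_eq Fact.out Nat.prime_two).1 this).symm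
    have hodd : Odd (Fintype.card F) := by
      rw [ha]
      exact (Nat.Prime.odd_of_ne_two Fact.out (fun h => hrp h.symm)).pow
    obtain ⟨hcyc, hcard⟩ := card_T (F := F) h2
    have h4 := four_dvd (F := F) h2
    have hne : ¬ ∃ k : ℕ, Fintype.card F = 2 ^ k := by
      rintro ⟨k, hk⟩
      rcases Nat.eq_zero_or_pos k with rfl | hk0
      · rw [pow_zero] at hk; omega
      · rw [hk] at hodd
        exact absurd hodd (by rw [Nat.not_odd_iff_even]; exact (even_two.pow_of_ne_zero hk0.ne'))
    by_cases hT : ∃ k : ℕ, Nat.card (Subgroup.centralizer ({jj F} : Set (Matrix.SpecialLinearGroup (Fin 2) F))) = 2 ^ k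
    · obtain ⟨k, hk⟩ := hT
      refine ⟨fun h => absurd h (not_redundant_of h2 hk), ?_⟩
      rintro ⟨-, h5, h6, h7⟩
      rw [hk] at hcard
      rcases hcard with h | h
      · exact absurd ⟨k, by omega⟩ h7
      · exact absurd ⟨k, h.symm⟩ h5
    · refine ⟨fun _ => ⟨rfl, ?_, hne, ?_⟩, fun _ => redundant_of h2 hT⟩
      · rintro ⟨k, hk⟩
        rcases hcard with h | h
        · rw [h] at h4
          have hk2 : k = 1 := by
            by_contra hk1
            rcases Nat.lt_or_ge k 2 with h5 | h5
            · interval_cases k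
              · rw [pow_zero] at hk; omega
              · exact hk1 rfl
            · have : 4 ∣ 2 ^ k := by
                rw [show (4 : ℕ) = 2 ^ 2 by norm_num]; exact pow_dvd_pow 2 h5
              omega
          rw [hk2] at hk
          omega
        · exact hT ⟨k, by rw [h, hk]⟩
      · rintro ⟨k, hk⟩
        rcases hcard with h | h
        · exact hT ⟨k, by rw [h, hk, Nat.add_sub_cancel]⟩
        · rw [h] at h4
          rcases Nat.lt_or_ge k 2 with h5 | h5
          · interval_cases k
            · rw [pow_zero] at hk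
              rw [hk] at hodd
              exact absurd hodd (by decide)
            · apply hT
              exact ⟨2, by rw [h, hk]; norm_num⟩
          · have : 4 ∣ 2 ^ k := by
              rw [show (4 : ℕ) = 2 ^ 2 by norm_num]; exact pow_dvd_pow 2 h5
            omega
  · refine ⟨fun h => absurd h (not_of_cyclic fun Q => ClSL2Syl.sylow_SL2_isCyclic r p hp2 hrp Q), ?_⟩
    rintro ⟨h, -⟩
    exact absurd h hp2

end Cfsg.Agent.S4357
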