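import Cfsg.Statements.S4358
import Cfsg.Agent.Lib.GLRedund

set_option autoImplicit false
open Cfsg

namespace Cfsg.Agent.S4358

open Cfsg.Agent.Lib.GLRedund


/-- Let p be an odd prime and F a finite field with q elements such that p divides q - 1 but p² does not. Then GL(p, F) has a Sylow p-subgroup Q such that every element of p-power order lies in some Sylow p-subgroup other than Q (a redundant Sylow p-subgroup). -/
theorem result {F : Type*} [Field F] [Fintype F] (p : ℕ) [Fact p.Prime]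
    (hp : p ≠ 2) (h1 : p ∣ Fintype.card F - 1) (h2 : ¬ p ^ 2 ∣ Fintype.card F - 1) :
    ∃ Q : Sylow p (Matrix.GeneralLinearGroup (Fin p) F), ∀ x : Matrix.GeneralLinearGroup (Fin p) F,
      (∃ k : ℕ, orderOf x = p ^ k) → ∃ P : Sylow p (Matrix.GeneralLinearGroup (Fin p) F), P ≠ Q ∧ x ∈ P := by
  classical
  obtain ⟨u, hu⟩ := exists_prime_orderOf_dvd_card (G := Fˣ) p (by rw [Fintype.card_units]; exact h1)
  have hup : u ^ p = 1 := by rw [← hu]; exact pow_orderOf_eq_one u
  let ω : rootsOfUnity p F := ⟨u, (mem_rootsOfUnity p _).mpr hup⟩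
  have hω : IsPrimitiveRoot ((ω : Fˣ) : F) p := by
    have h3 := IsPrimitiveRoot.orderOf u
    rw [hu] at h3
    exact IsPrimitiveRoot.coe_units_iff.mpr h3
  obtain ⟨Q, hQ⟩ := exists_sylow hp h1 h2 hω
  refine ⟨Q, fun x hx => ?_⟩
  obtain ⟨k, hk⟩ := hx
  by_cases hxQ : x ∈ (Q : Subgroup (Matrix.GeneralLinearGroup (Fin p) F))
  · rw [hQ] at hxQ
    obtain ⟨g, hg1, y, hy, hgy⟩ := main_claim hp hω hxQ
    refine ⟨g⁻¹ • Q, ?_, ?_⟩
    · intro hP
      apply hgy
      have h4 : y ∈ ((g⁻¹ • Q : Sylow p (Matrix.GeneralLinearGroup (Fin p) F)) : Subgroup (Matrix.GeneralLinearGroup (Fin p) F)) := by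
        rw [hP, hQ]; exact hy
      rw [Sylow.coe_subgroup_smul, Subgroup.mem_pointwise_smul_iff_inv_smul_mem, hQ] at h4
      simpa [MulAut.smul_def] using h4
    · change x ∈ ((g⁻¹ • Q : Sylow p (Matrix.GeneralLinearGroup (Fin p) F)) : Subgroup (Matrix.GeneralLinearGroup (Fin p) F))
      rw [Sylow.coe_subgroup_smul, Subgroup.mem_pointwise_smul_iff_inv_smul_mem, hQ]
      simpa [MulAut.smul_def] using hg1
  · have hz : IsPGroup p ↥(Subgroup.zpowers x) := by
      apply IsPGroup.of_card (n := k)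
      rw [Nat.card_zpowers, hk]
    obtain ⟨P, hP⟩ := hz.exists_le_sylow
    refine ⟨P, ?_, hP (Subgroup.mem_zpowers x)⟩
    rintro rfl
    exact hxQ (hP (Subgroup.mem_zpowers x))


end Cfsg.Agent.S4358
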