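import Cfsg.Statements.S4381
import Cfsg.Agent.Lib.SubgroupTools
import Cfsg.Agent.Lib.H70Frattini
import Cfsg.Agent.Lib.ActSemi

set_option autoImplicit false
open Pointwise
open Cfsg

namespace Cfsg.Agent.S4381

open Subgroup Cfsg.Agent.Lib Cfsg.Agent.Lib.SubgroupTools

variable {A G : Type*} [Group A] [Group G] [MulDistribMulAction A G]

/-- maximal invariant subgroups -/
def MaxInv (A : Type*) {G : Type*} [Group A] [Group G] [MulDistribMulAction A G] (M : Subgroup G) : Prop :=
  M ≠ ⊤ ∧ (∀ a : A, ∀ x ∈ M, a • x ∈ M) ∧ ∀ L : Subgroup G, M < L → (∀ a : A, ∀ x ∈ L, a • x ∈ L) → L = ⊤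

theorem exists_maxInv [Finite G] {H : Subgroup G} (hH : H ≠ ⊤) (hinv : ∀ a : A, ∀ x ∈ H, a • x ∈ H) :
    ∃ M, H ≤ M ∧ MaxInv A M := by
  obtain ⟨M, hM⟩ := (Set.toFinite {M : Subgroup G | M ≠ ⊤ ∧ (∀ a : A, ∀ x ∈ M, a • x ∈ M) ∧ H ≤ M}).exists_maximal
    ⟨H, hH, hinv, le_rfl⟩
  obtain ⟨h1, h2, h3⟩ := hM.prop
  refine ⟨M, h3, h1, h2, ?_⟩
  intro L hL hLi
  by_contra hne
  have := hM.le_of_ge (y := L) ⟨hne, hLi, h3.trans hL.le⟩ hL.le
  exact absurd hL (not_lt_of_ge this)

theorem frattini_inv [Finite G] (a : A) {x : G} (hx : x ∈ frattini G) : a • x ∈ frattini G := by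
  have hc : (frattini G).Characteristic := inferInstance
  have h1 := (Subgroup.characteristic_iff_map_eq.1 hc) (MulDistribMulAction.toMulEquiv G a)
  rw [← h1]
  exact ⟨x, hx, rfl⟩

theorem frattini_le_maxInv [Finite G] {M : Subgroup G} (hM : MaxInv A M) : frattini G ≤ M := by
  obtain ⟨h1, h2, h3⟩ := hM
  by_contra hle
  have hlt : M < M ⊔ frattini G := lt_of_le_of_ne le_sup_left (fun h => hle (by rw [h]; exact le_sup_right))
  have h4 := h3 _ hlt (by
    intro a x hx
    have hn : M ≤ normalizer (frattini G : Set G) := by rw [normalizer_eq_top]; exact le_top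
    rw [sup_comm] at hx ⊢
    obtain ⟨u, hu, v, hv, rfl⟩ := (mem_sup_of_le_normalizer hn).1 hx
    rw [smul_mul']
    exact mul_mem (mem_sup_left (frattini_inv a hu)) (mem_sup_right (h2 a v hv)))
  exact h1 (frattini_nongenerating h4)

/-- the action on the Frattini quotient -/
def phiBar (A G : Type*) [Group A] [Group G] [MulDistribMulAction A G] : A →* MulAut (G ⧸ frattini G) where
  toFun a := QuotientGroup.congr (frattini G) (frattini G) (MulDistribMulAction.toMulEquiv G a)
    ((Subgroup.characteristic_iff_map_eq.1 inferInstance) _)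
  map_one' := by
    ext x
    induction x using QuotientGroup.induction_on with
    | H x =>
      change ((((1 : A) • x : G)) : G ⧸ frattini G) = x
      rw [one_smul]
  map_mul' := fun a b => by
    ext x
    induction x using QuotientGroup.induction_on with
    | H x =>
      change ((((a * b) • x : G)) : G ⧸ frattini G) = ((a • b • x : G) : G ⧸ frattini G)
      rw [mul_smul]

theorem phiBar_mk (a : A) (x : G) : phiBar A G a (QuotientGroup.mk x : G ⧸ frattini G) = QuotientGroup.mk (a • x) := rfl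

theorem pgroup_of_conj [Finite A] [Finite G] (hcop : (Nat.card A).Coprime (Nat.card G))
    (hsol : Group.IsSolvable A ∨ Group.IsSolvable G)
    (h : ∀ M N : Subgroup G, MaxInv A M → MaxInv A N → ∃ c : G, (∀ a : A, a • c = c) ∧ N = MulAut.conj c • M) :
    ∃ p : ℕ, p.Prime ∧ IsPGroup p G := by
  by_contra hcon
  push Not at hcon
  -- every invariant Sylow subgroup is proper
  have hsyl : ∀ p : ℕ, p.Prime → ∃ M : Subgroup G, MaxInv A M ∧ ¬ p ∣ M.index := by
    intro p hp
    have : Fact p.Prime := ⟨hp⟩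
    obtain ⟨P, hPp, hPi, hPA⟩ := ActSemi.exists_invariant_sylow (MulDistribMulAction.toMulAut A G) hcop hsol p
    have hPt : P ≠ ⊤ := by
      rintro rfl
      apply hcon p hp
      exact hPp.of_surjective (Subgroup.topEquiv (G := G)).toMonoidHom (Subgroup.topEquiv (G := G)).surjective
    obtain ⟨M, hPM, hM⟩ := exists_maxInv (A := A) hPt hPA
    refine ⟨M, hM, fun hd => hPi (hd.trans (Subgroup.index_dvd_of_le hPM))⟩
  obtain ⟨M, hM, _⟩ := hsyl 2 Nat.prime_two
  apply hM.1
  rw [← Subgroup.index_eq_one]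
  by_contra hne
  obtain ⟨q, hq, hqd⟩ := Nat.exists_prime_and_dvd hne
  obtain ⟨N, hN, hNi⟩ := hsyl q hq
  obtain ⟨c, _, hc⟩ := h M N hM hN
  apply hNi
  have h1 : Nat.card N = Nat.card M := by rw [hc, card_conj_smul]
  have h2 : N.index = M.index := by
    have h3 := N.card_mul_index
    have h4 := M.card_mul_index
    rw [h1, ← h4] at h3
    exact Nat.eq_of_mul_eq_mul_left Nat.card_pos h3
  rw [h2]; exact hqd

/-- Let the finite group A act by automorphisms on the finite group G with the orders of A and G coprime, and assume that A or G is solvable. Call a proper A-invariant subgroup of G maximal A-invariant when no A-invariant subgroup lies strictly between it and G. Then all maximal A-invariant subgroups of G are conjugate under elements of the fixed-point subgroup C_G(A) if and only if G is a p-group for some prime p and A leaves invariant no subgroup strictly between the Frattini subgroup of G and G. In that case, if G is nontrivial, the Frattini subgroup is the only maximal A-invariant subgroup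 (a trivial G has none). -/
theorem result {A G : Type*} [Group A] [Finite A]
    [Group G] [Finite G] [MulDistribMulAction A G] (hcop : (Nat.card A).Coprime (Nat.card G)) (hsol : Group.IsSolvable A ∨ Group.IsSolvable G) :
    ((∀ M N : Subgroup G, (M ≠ ⊤ ∧ (∀ a : A, ∀ x ∈ M, a • x ∈ M) ∧ ∀ L : Subgroup G, M < L → (∀ a : A, ∀ x ∈ L, a • x ∈ L) → L = ⊤) → (N ≠ ⊤ ∧ (∀ a : A, ∀ x ∈ N, a • x ∈ N) ∧ ∀ L : Subgroup G, N < L → (∀ a : A, ∀ x ∈ L, a • x ∈ L) → L = ⊤) →
        ∃ c : G, (∀ a : A, a • c = c) ∧ N = MulAut.conj c • M) ↔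
      ((∃ p : ℕ, p.Prime ∧ IsPGroup p G) ∧ ∀ L : Subgroup G, frattini G < L → (∀ a : A, ∀ x ∈ L, a • x ∈ L) → L = ⊤)) ∧
    (((∃ p : ℕ, p.Prime ∧ IsPGroup p G) ∧ ∀ L : Subgroup G, frattini G < L → (∀ a : A, ∀ x ∈ L, a • x ∈ L) → L = ⊤) →
      ∀ M : Subgroup G, (M ≠ ⊤ ∧ (∀ a : A, ∀ x ∈ M, a • x ∈ M) ∧ ∀ L : Subgroup G, M < L → (∀ a : A, ∀ x ∈ L, a • x ∈ L) → L = ⊤) ↔ (M = frattini G ∧ M ≠ ⊤)) := by
  have key : ((∃ p : ℕ, p.Prime ∧ IsPGroup p G) ∧ ∀ L : Subgroup G, frattini G < L → (∀ a : A, ∀ x ∈ L, a • x ∈ L) → L = ⊤) →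
      ∀ M : Subgroup G, (M ≠ ⊤ ∧ (∀ a : A, ∀ x ∈ M, a • x ∈ M) ∧ ∀ L : Subgroup G, M < L → (∀ a : A, ∀ x ∈ L, a • x ∈ L) → L = ⊤) ↔ (M = frattini G ∧ M ≠ ⊤) := by
    rintro ⟨_, h2⟩ M
    constructor
    · intro hM
      have h3 := frattini_le_maxInv (A := A) hM
      refine ⟨?_, hM.1⟩
      by_contra hne
      exact hM.1 (h2 M (lt_of_le_of_ne h3 (Ne.symm hne)) hM.2.1)
    · rintro ⟨rfl, h3⟩
      exact ⟨h3, fun a x hx => frattini_inv a hx, h2⟩
  refine ⟨⟨fun h => ?_, fun h => ?_⟩, key⟩
  · obtain ⟨p, hp, hG⟩ := pgroup_of_conj hcop hsol h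
    have : Fact p.Prime := ⟨hp⟩
    refine ⟨⟨p, hp, hG⟩, ?_⟩
    intro L hL hLi
    by_contra hLt
    -- Maschke
    have hmk : ∀ x : G, (QuotientGroup.mk x : G ⧸ frattini G) ∈ L.map (QuotientGroup.mk' (frattini G)) ↔ x ∈ L := by
      intro x
      constructor
      · rintro ⟨y, hy, hxy⟩
        have h1 : y⁻¹ * x ∈ frattini G := QuotientGroup.eq.1 hxy
        have h2 := mul_mem hy (hL.le h1)
        rwa [mul_inv_cancel_left] at h2
      · intro hx
        exact ⟨x, hx, rfl⟩
    obtain ⟨W, hW1, hW2, hW3⟩ := ActSemi.exists_invariant_compl (phiBar A G) (p := p) hp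
      (by
        apply Nat.Coprime.coprime_dvd_right _ hcop
        exact Subgroup.card_quotient_dvd_card _)
      (by
        intro x y
        induction x using QuotientGroup.induction_on with
        | H x =>
          induction y using QuotientGroup.induction_on with
          | H y =>
            rw [← QuotientGroup.mk_mul, ← QuotientGroup.mk_mul, QuotientGroup.eq]
            apply H70Frattini.commutator_le_frattini hG
            have := Subgroup.commutator_mem_commutator (mem_top y⁻¹) (mem_top x⁻¹)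
            rw [commutatorElement_def] at this
            have e : (x * y)⁻¹ * (y * x) = y⁻¹ * x⁻¹ * y⁻¹⁻¹ * x⁻¹⁻¹ := by group
            rw [e]; exact this)
      (by
        intro x
        induction x using QuotientGroup.induction_on with
        | H x =>
          rw [← QuotientGroup.mk_pow, QuotientGroup.eq_one_iff]
          exact H70Frattini.pow_mem_frattini hG x)
      (U := L.map (QuotientGroup.mk' (frattini G)))
      (by
        rintro a _ ⟨x, hx, rfl⟩
        exact ⟨a • x, hLi a x hx, rfl⟩)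
    set W' : Subgroup G := W.comap (QuotientGroup.mk' (frattini G)) with hW'
    have hW't : W' ≠ ⊤ := by
      intro ht
      have h1 : W = ⊤ := by
        rw [eq_top_iff]
        intro x _
        induction x using QuotientGroup.induction_on with
        | H x =>
          have : x ∈ W' := by rw [ht]; trivial
          exact this
      rw [h1, inf_top_eq] at hW2
      apply absurd hL
      apply not_lt_of_ge
      intro x hx
      have h2 := (hmk x).2 hx
      rw [hW2, mem_bot] at h2
      exact (QuotientGroup.eq_one_iff x).1 h2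
    have hW'i : ∀ a : A, ∀ x ∈ W', a • x ∈ W' := by
      intro a x hx
      exact hW1 a _ hx
    obtain ⟨M, hLM, hM⟩ := exists_maxInv (A := A) hLt hLi
    obtain ⟨N, hWN, hN⟩ := exists_maxInv (A := A) hW't hW'i
    obtain ⟨c, _, hc⟩ := h M N hM hN
    have hMn : M.Normal := by
      have h1 : commutator G ≤ M := (H70Frattini.commutator_le_frattini hG).trans (frattini_le_maxInv hM)
      exact Subgroup.Normal.of_commutator_le _ h1
    have hNM : N = M := by rw [hc]; exact conj_smul_normal c M
    apply hM.1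
    rw [eq_top_iff]
    have h5 : L ⊔ W' ≤ M := sup_le hLM (by rw [← hNM]; exact hWN)
    refine le_trans ?_ h5
    intro x _
    have h6 : (QuotientGroup.mk x : G ⧸ frattini G) ∈ L.map (QuotientGroup.mk' (frattini G)) ⊔ W := by
      rw [hW3]; trivial
    have hab : W ≤ normalizer ((L.map (QuotientGroup.mk' (frattini G)) : Subgroup (G ⧸ frattini G)) : Set (G ⧸ frattini G)) := by
      have hLn : L.Normal := Subgroup.Normal.of_commutator_le _ ((H70Frattini.commutator_le_frattini hG).trans hL.le)
      have : (L.map (QuotientGroup.mk' (frattini G))).Normal := hLn.map _ (QuotientGroup.mk'_surjective _)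
      rw [normalizer_eq_top]; exact le_top
    obtain ⟨u, ⟨y, hy, rfl⟩, v, hv, huv⟩ := (mem_sup_of_le_normalizer hab).1 h6
    have h7 : y⁻¹ * x ∈ W' := by
      rw [hW', mem_comap, map_mul, map_inv]
      have : (QuotientGroup.mk' (frattini G)) x = (QuotientGroup.mk' (frattini G)) y * v := huv.symm
      rw [this, inv_mul_cancel_left]
      exact hv
    have h8 : x = y * (y⁻¹ * x) := by group
    rw [h8]
    exact mul_mem (mem_sup_left hy) (mem_sup_right h7)
  · intro M N hM hN
    have h1 := ((key h M).1 hM).1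
    have h2 := ((key h N).1 hN).1
    refine ⟨1, fun a => smul_one a, ?_⟩
    rw [h1, h2, map_one, one_smul]

end Cfsg.Agent.S4381
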