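import Cfsg.Statements.S4394
import Cfsg.Agent.Lib.H56SchmidtC
import Cfsg.Agent.Lib.PLength
import Cfsg.Agent.Lib.PLengthOne
-- import your own Cfsg.Agent.* helpers here

set_option autoImplicit false
open Cfsg

namespace Cfsg.Agent.S4394

/-- Let X be a finite minimal non-nilpotent group (not nilpotent, every proper subgroup nilpotent) with a nontrivial normal Sylow p-subgroup P. If G is a finite p-solvable group whose Sylow p-subgroups are isomorphic to P, then G has p-length at most 1. -/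
theorem result {G X : Type*} [Group G] [Finite G] [Group X] [Finite X] (p : ℕ) [Fact p.Prime]
    (hX : Cfsg.IsMinimalNonNilpotent X) (P : Sylow p X) (hPn : (P : Subgroup X).Normal) (hP1 : (P : Subgroup X) ≠ ⊥)
    (hG : Cfsg.IsPSolvable p G) (Q : Sylow p G) (hQ : Nonempty (↥(Q : Subgroup G) ≃* ↥(P : Subgroup X))) : Cfsg.PLengthLE p 1 G := by
  classical
  have hp : Fact p.Prime := inferInstance
  haveI := hPn
  obtain ⟨q, k, h, hq, hqp, hk, htop, hy⟩ := Lib.H56Schmidt.exists_data hX.1 hX.2 p P hP1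
  obtain ⟨e⟩ := hQ
  set N := Cfsg.pPrimeCore p G with hN
  have hNc : (Nat.card N).Coprime p := Lib.Cores.coprime_card_pPrimeCore p G
  apply Lib.PLength.pLengthLE_of_coprime N hNc
  have hsol := Lib.H32PSolv.isPSolvable_quotient hG N
  have hO : Cfsg.pPrimeCore p (G ⧸ N) = ⊥ := Lib.Cores.pPrimeCore_quotient_pPrimeCore p G
  -- the Sylow subgroup of the quotient
  set π := QuotientGroup.mk' N with hπ
  let T : Sylow p (G ⧸ N) := Q.mapSurjective (QuotientGroup.mk'_surjective N)
  have hT : (T : Subgroup (G ⧸ N)) = (Q : Subgroup G).map π := rfl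
  let f : ↥(Q : Subgroup G) →* ↥(T : Subgroup (G ⧸ N)) := (π.subgroupMap (Q : Subgroup G))
  have hfi : Function.Injective f := by
    rw [injective_iff_map_eq_one]
    rintro ⟨x, hx⟩ hfx
    have h1 : π x = 1 := congrArg Subtype.val hfx
    have h2 : x ∈ N := (QuotientGroup.eq_one_iff x).1 h1
    have h3 : N ⊓ (Q : Subgroup G) = ⊥ := by
      apply Lib.SubgroupTools.inf_eq_bot_of_coprime'
      obtain ⟨a, ha⟩ := IsPGroup.iff_card.1 Q.2
      rw [ha]
      exact Nat.Coprime.pow_right a hNc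
    have h4 : x ∈ N ⊓ (Q : Subgroup G) := ⟨h2, hx⟩
    rw [h3, Subgroup.mem_bot] at h4
    exact Subtype.ext h4
  have hfs : Function.Surjective f := π.subgroupMap_surjective (Q : Subgroup G)
  let E : ↥(T : Subgroup (G ⧸ N)) ≃* ↥(P : Subgroup X) := (MulEquiv.ofBijective f ⟨hfi, hfs⟩).symm.trans e
  have hy' := hy.congr E
  have hTle := Lib.H56Schmidt.main hsol hO T hy'
  rw [Lib.PLengthOne.pLengthLE_one_iff]
  refine ⟨⊥, Cfsg.pCore p (G ⧸ N), inferInstance, inferInstance, bot_le, ?_, ?_, ?_⟩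
  · rw [Subgroup.card_bot]
    exact hp.out.one_lt.ne' ∘ Nat.dvd_one.1
  · intro x hx
    obtain ⟨n, hn⟩ := Lib.Cores.isPGroup_pCore p (G ⧸ N) ⟨x, hx⟩
    exact ⟨n, by rw [Subgroup.mem_bot]; exact congrArg Subtype.val hn⟩
  · intro hd
    exact T.not_dvd_index (hd.trans (Subgroup.index_dvd_of_le hTle))

end Cfsg.Agent.S4394
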