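import Cfsg.Statements.S4395
import Cfsg.Agent.Lib.H56UnivI
-- import your own Cfsg.Agent.* helpers here

set_option autoImplicit false
universe u
open Cfsg

namespace Cfsg.Agent.S4395

/-- Let p ≠ q be primes, r ≥ 1, a the multiplicative order of p modulo q, and a₀ = a when a is odd, a₀ = 3a/2 when a is even. Call a finite group minimal non-p-nilpotent when it has no normal p-complement but every proper subgroup has one. Then there is a minimal non-p-nilpotent group G₀ of order p^a₀ · q^r such that every minimal non-p-nilpotent group of order p^t · q^r (any t) is a quotient of G₀ by a central subgroup. -/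
theorem result (p q r : ℕ) [Fact p.Prime] [Fact q.Prime] (hpq : p ≠ q) (hr : 1 ≤ r) (a a₀ : ℕ)
    (ha : a = orderOf (p : ZMod q)) (ha₀ : a₀ = if a % 2 = 1 then a else 3 * a / 2) :
    ∃ (G₀ : Type u) (_ : Group G₀) (_ : Finite G₀),
      (¬ Cfsg.HasNormalPComplement p G₀ ∧ ∀ K : Subgroup G₀, K ≠ ⊤ → Cfsg.HasNormalPComplement p ↥K) ∧ Nat.card G₀ = p ^ a₀ * q ^ r ∧
      ∀ (X : Type u) [Group X] [Finite X], (¬ Cfsg.HasNormalPComplement p X ∧ ∀ K : Subgroup X, K ≠ ⊤ → Cfsg.HasNormalPComplement p ↥K) →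
        (∃ t : ℕ, Nat.card X = p ^ t * q ^ r) → ∃ φ : G₀ →* X, Function.Surjective φ ∧ φ.ker ≤ Subgroup.center G₀ := by
  have hp : p.Prime := Fact.out
  have hq : q.Prime := Fact.out
  have ha0 : a ≠ 0 := by
    rw [ha]
    have hu : IsUnit (p : ZMod q) := (ZMod.isUnit_iff_coprime p q).2 ((Nat.coprime_primes hp hq).2 hpq)
    obtain ⟨u, hu⟩ := hu
    rw [← hu, orderOf_units]
    exact (orderOf_pos u).ne'
  haveI : Finite (GaloisField p a) := by
    apply Nat.finite_of_card_ne_zero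
    rw [GaloisField.card p a ha0]
    exact pow_ne_zero _ hp.ne_zero
  haveI : Fintype (GaloisField p a) := Fintype.ofFinite _
  obtain ⟨l, hl⟩ : ∃ l : (GaloisField p a)ˣ, orderOf l = q := by
    apply exists_prime_orderOf_dvd_card' q
    rw [Nat.card_units, GaloisField.card p a ha0]
    have h1 : (p : ZMod q) ^ a = 1 := by rw [ha]; exact pow_orderOf_eq_one _
    have h2 : ((p ^ a : ℕ) : ZMod q) = ((1 : ℕ) : ZMod q) := by push_cast; exact h1
    rw [ZMod.natCast_eq_natCast_iff] at h2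
    exact (Nat.modEq_iff_dvd' (Nat.one_le_pow _ _ hp.pos)).1 h2.symm
  have hF : Cfsg.Agent.Lib.H56Univ.FD p q a (l : GaloisField p a) := by
    refine ⟨hp, hq, hpq, ha, GaloisField.card p a ha0, ?_, ?_⟩
    · rw [← Units.val_pow_eq_pow_val, ← hl, pow_orderOf_eq_one]; rfl
    · intro h1
      have h2 : l = 1 := Units.ext h1
      rw [h2, orderOf_one] at hl
      exact hq.one_lt.ne hl
  obtain ⟨P₀, hP1, hP2, y₀, π₀, hS₀, hcov, hcard⟩ := Cfsg.Agent.Lib.H56Univ.exists_model hF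
  haveI : NeZero (q ^ r) := ⟨pow_ne_zero _ hq.ne_zero⟩
  have hg : ∀ c : Multiplicative (ZMod (q ^ r)), c ∈ Subgroup.zpowers (Multiplicative.ofAdd (1 : ZMod (q ^ r))) := by
    intro c
    rw [Subgroup.mem_zpowers_iff]
    refine ⟨(c.toAdd.val : ℤ), ?_⟩
    rw [zpow_natCast, ← ofAdd_nsmul, nsmul_one, ZMod.natCast_zmod_val]
    rfl
  have ho : orderOf (Multiplicative.ofAdd (1 : ZMod (q ^ r))) = q ^ r := by
    rw [orderOf_ofAdd_eq_addOrderOf, ZMod.addOrderOf_one]
  have hoy : orderOf y₀ ∣ orderOf (Multiplicative.ofAdd (1 : ZMod (q ^ r))) := by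
    rw [ho]
    exact (orderOf_dvd_of_pow_eq_one hS₀.yq).trans (dvd_pow_self q (by omega))
  have hSD : Cfsg.Agent.Lib.H56Univ.SD p q r y₀ (monoidHomOfForallMemZpowers hg hoy)
      (Multiplicative.ofAdd (1 : ZMod (q ^ r))) :=
    ⟨hS₀, hr, hg, ho, monoidHomOfForallMemZpowers_apply_gen hg hoy⟩
  obtain ⟨φ, hφ⟩ : ∃ φ, φ = monoidHomOfForallMemZpowers hg hoy := ⟨_, rfl⟩
  rw [← hφ] at hSD
  haveI : Finite (SemidirectProduct P₀ (Multiplicative (ZMod (q ^ r))) φ) := Cfsg.Agent.Lib.H56Univ.SD.fin_sd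
  let e : ULift.{u} (SemidirectProduct P₀ (Multiplicative (ZMod (q ^ r))) φ) ≃*
    SemidirectProduct P₀ (Multiplicative (ZMod (q ^ r))) φ := MulEquiv.ulift
  refine ⟨ULift.{u} (SemidirectProduct P₀ (Multiplicative (ZMod (q ^ r))) φ), inferInstance, inferInstance,
    ⟨?_, ?_⟩, ?_, ?_⟩
  · intro hc
    exact hSD.not_npc (Cfsg.Agent.Lib.PNilp.HasNormalPComplement.of_mulEquiv hc e)
  · intro M hM
    have h1 : M.map e.toMonoidHom ≠ ⊤ := by
      intro h2
      apply hM
      rw [eq_top_iff]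
      intro x _
      have h3 : e x ∈ M.map e.toMonoidHom := by rw [h2]; trivial
      obtain ⟨y, hy, hyx⟩ := h3
      rwa [← e.injective hyx]
    exact Cfsg.Agent.Lib.PNilp.HasNormalPComplement.of_mulEquiv (hSD.proper _ h1)
      (M.equivMapOfInjective e.toMonoidHom e.injective).symm
  · rw [Nat.card_congr e.toEquiv, ha₀]
    exact hSD.card_G hcard
  · intro X _ _ hX ⟨t, ht⟩
    obtain ⟨Φ, hΦ1, hΦ2⟩ := Cfsg.Agent.Lib.H56Univ.exists_hom hSD hF hcov hcard hX.1 hX.2 ht
    refine ⟨Φ.comp e.toMonoidHom, hΦ1.comp e.surjective, ?_⟩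
    intro x hx
    have h1 : e x ∈ Φ.ker := hx
    have h2 := hΦ2 h1
    rw [Subgroup.mem_center_iff] at h2 ⊢
    intro y
    apply e.injective
    rw [map_mul, map_mul]
    exact h2 (e y)

end Cfsg.Agent.S4395
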