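import Cfsg.Statements.S4403
import Cfsg.Agent.Lib.SubgroupTools
import Cfsg.Agent.Lib.Fitting
import Cfsg.Agent.Lib.PNilp
import Cfsg.Agent.Lib.CyclicSylow
import Cfsg.Agent.Lib.Components
import Cfsg.Agent.Lib.Layer
import Cfsg.Agent.S4370

set_option autoImplicit false
open Cfsg

namespace Cfsg.Agent.S4403

open Subgroup Cfsg.Agent.Lib Cfsg.Agent.Lib.Layer Cfsg.Agent.Lib.Components

universe u

variable {K : Type u} [Group K] [Finite K] {p : ℕ} [hp : Fact p.Prime]

/-- two commuting subgroups of order divisible by `p` with trivial intersection: impossible if the Sylow is cyclic -/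
theorem no_two (P : Sylow p K) (hP : IsCyclic ↥(P : Subgroup K)) {A B : Subgroup K}
    (hAB : A ≤ centralizer (B : Set K)) (hi : A ⊓ B = ⊥) (hA : p ∣ Nat.card A) (hB : p ∣ Nat.card B) : False := by
  obtain ⟨⟨a, haA⟩, ha⟩ := exists_prime_orderOf_dvd_card' p hA
  obtain ⟨⟨b, hbB⟩, hb⟩ := exists_prime_orderOf_dvd_card' p hB
  rw [Subgroup.orderOf_mk] at ha hb
  have hcomm : b * a = a * b := (mem_centralizer_iff.1 (hAB haA)) b hbB
  have hcom : Commute a b := hcomm.symm
  -- the group generated by `a` and `b` is a `p`-group
  have hab : zpowers a ≤ normalizer (zpowers b : Set K) := by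
    rw [zpowers_le]
    apply centralizer_le_normalizer
    rw [mem_centralizer_iff]
    rintro _ ⟨i, rfl⟩
    exact (hcom.zpow_right i).eq.symm
  have hQ : IsPGroup p (zpowers a ⊔ zpowers b : Subgroup K) := by
    apply IsPGroup.to_sup_of_normal_right'
    · exact IsPGroup.of_card (n := 1) (by rw [Nat.card_zpowers, ha, pow_one])
    · exact IsPGroup.of_card (n := 1) (by rw [Nat.card_zpowers, hb, pow_one])
    · exact hab
  obtain ⟨T, hT⟩ := hQ.exists_le_sylow
  have hTc : IsCyclic T := by
    have e := Sylow.equiv P T
    exact isCyclic_of_surjective e.toMonoidHom e.surjective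
  have haT : a ∈ (T : Subgroup K) := hT (mem_sup_left (mem_zpowers a))
  have hbT : b ∈ (T : Subgroup K) := hT (mem_sup_right (mem_zpowers b))
  have h1 := S4370.cyc_mem' hTc haT hbT (by rw [ha, hb])
  have h2 : b ∈ A ⊓ B := ⟨(zpowers_le.2 haA) h1, hbB⟩
  rw [hi, mem_bot] at h2
  rw [h2, orderOf_one] at hb
  exact hp.out.one_lt.ne hb

/-- a perfect group with a normal `p`-complement has order prime to `p` -/
theorem not_dvd_of_perfect {L : Type*} [Group L] [Finite L] (hL : Group.IsPerfect L) (h : HasNormalPComplement p L) :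
    ¬ p ∣ Nat.card L := by
  obtain ⟨N, hN, h1, k, hk⟩ := PNilp.hasNormalPComplement_iff.1 h
  have hq : IsPGroup p (L ⧸ N) := IsPGroup.of_card (n := k) (by rw [← Subgroup.index_eq_card, hk])
  have hs : Group.IsNilpotent (L ⧸ N) := hq.isNilpotent
  have hperf : Group.IsPerfect (L ⧸ N) := by
    rw [Group.isPerfect_def]
    rw [commutator_def, ← Subgroup.map_top_of_surjective _ (QuotientGroup.mk'_surjective N), ← Subgroup.map_commutator,
      ← commutator_def, Group.isPerfect_def.1 hL]
  have hss : Group.IsSolvable (L ⧸ N) := inferInstance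
  have hsub : Subsingleton (L ⧸ N) := by
    by_contra hns
    rw [not_subsingleton_iff_nontrivial] at hns
    have h2 := Group.IsSolvable.commutator_lt_top_of_nontrivial (L ⧸ N)
    rw [Group.isPerfect_def.1 hperf] at h2
    exact lt_irrefl _ h2
  have hN1 : N = ⊤ := by
    rw [← Subgroup.index_eq_one, Subgroup.index_eq_card]
    exact Nat.card_unique
  rw [hN1, Subgroup.card_top] at h1
  exact h1

theorem sylow_cyclic (P : Sylow p K) (hP : IsCyclic ↥(P : Subgroup K)) (L : Subgroup K) (T : Sylow p L) :
    IsCyclic T := by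
  obtain ⟨R, hR⟩ := (T.2.map L.subtype).exists_le_sylow
  have hRc : IsCyclic R := by
    have e := Sylow.equiv P R
    exact isCyclic_of_surjective e.toMonoidHom e.surjective
  have e := (T : Subgroup L).equivMapOfInjective L.subtype L.subtype_injective
  exact isCyclic_of_injective ((inclusion hR).comp e.toMonoidHom) ((inclusion_injective hR).comp e.injective)

theorem component_simple (hO : pPrimeCore p K = ⊥) (P : Sylow p K) (hP : IsCyclic ↥(P : Subgroup K)) {L : Subgroup K}
    (hL : IsComponent L) : p ∣ Nat.card L ∧ center L = ⊥ ∧ IsSimpleGroup L ∧ ¬ HasNormalPComplement p L := by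
  have hdvd : p ∣ Nat.card L := by
    by_contra hnd
    have h1 := subnormal_coprime_le_pPrimeCore (p := p) hL.1 ((Nat.Prime.coprime_iff_not_dvd hp.out).2 hnd).symm
    rw [hO, le_bot_iff] at h1
    exact component_ne_bot hL h1
  have hnc : ¬ HasNormalPComplement p L := fun h => not_dvd_of_perfect hL.2.1 h hdvd
  have hZ : center L = ⊥ := by
    have h1 : ¬ p ∣ Nat.card (center L) := by
      intro hd
      obtain ⟨⟨z, hz⟩, hzo⟩ := exists_prime_orderOf_dvd_card' p hd
      rw [Subgroup.orderOf_mk] at hzo
      have hzp : IsPGroup p (zpowers z) := IsPGroup.of_card (n := 1) (by rw [Nat.card_zpowers, hzo, pow_one])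
      obtain ⟨T, hT⟩ := hzp.exists_le_sylow
      have := sylow_cyclic P hP L T
      apply hnc
      apply CyclicSylow.hasNormalPComplement_of_central T z hz (hT (mem_zpowers z))
      rintro rfl
      rw [orderOf_one] at hzo
      exact hp.out.one_lt.ne hzo
    have h2 : ((center L).map L.subtype).IsSubnormal := isSubnormal_of_characteristic hL.1 inferInstance
    have h3 := subnormal_coprime_le_pPrimeCore (p := p) h2 (by
      rw [Subgroup.card_subtype]
      exact ((Nat.Prime.coprime_iff_not_dvd hp.out).2 h1).symm)
    rw [hO, le_bot_iff, Subgroup.map_eq_bot_iff_of_injective _ L.subtype_injective] at h3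
    exact h3
  refine ⟨hdvd, hZ, ?_, hnc⟩
  have := nontrivial_of_quasisimple hL.2
  refine ⟨fun N hN => ?_⟩
  rcases normal_le_center_or_eq_top hL.2 N with h | h
  · left; rwa [hZ, le_bot_iff] at h
  · exact Or.inr h

theorem caseB (hO : pPrimeCore p K = ⊥) (P : Sylow p K) (hP : IsCyclic ↥(P : Subgroup K)) (hE : layer K ≠ ⊥) :
    IsSimpleGroup ↥(generalizedFittingSubgroup K) ∧ ¬ IsMulCommutative ↥(generalizedFittingSubgroup K) ∧
      ¬ p ∣ (generalizedFittingSubgroup K).index := by
  obtain ⟨L, hL⟩ : ∃ L : Subgroup K, IsComponent L := by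
    by_contra hcon
    push Not at hcon
    apply hE
    rw [← le_bot_iff]
    exact layer_le_iff.2 fun L hL => absurd hL (hcon L)
  obtain ⟨h1, h2, h3, h4⟩ := component_simple hO P hP hL
  have hZi : ∀ X : Subgroup K, X ≤ centralizer (L : Set K) → X ⊓ L = ⊥ := by
    intro X hX
    rw [eq_bot_iff]
    rintro x ⟨hx, hxL⟩
    have : (⟨x, hxL⟩ : L) ∈ center L := by
      rw [mem_center_iff]
      intro y
      exact Subtype.ext (mem_centralizer_iff.1 (hX hx) y y.2)
    rw [h2, mem_bot] at this
    exact congrArg Subtype.val this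
  have hlay : layer K = L := by
    apply le_antisymm _ (component_le_layer hL)
    rw [layer_le_iff]
    intro M hM
    rcases component_eq_or_le_centralizer hM hL with h | h
    · exact h.le
    · exact (no_two P hP h (hZi M h) (component_simple hO P hP hM).1 h1).elim
  have hfit : fittingSubgroup K = ⊥ := by
    rw [Fitting.fittingSubgroup_eq_pCore p hO]
    by_contra hne
    have hc : pCore p K ≤ centralizer (L : Set K) := by
      apply le_centralizer_comm
      have := layer_le_centralizer_fitting (G := K)
      rw [hlay, Fitting.fittingSubgroup_eq_pCore p hO] at this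
      exact this
    have hd : p ∣ Nat.card (pCore p K) := by
      obtain ⟨k, hk⟩ := IsPGroup.iff_card.1 (Fitting.isPGroup_pCore (G := K) p)
      rw [hk]
      apply dvd_pow_self
      rintro rfl
      rw [pow_zero, Subgroup.card_eq_one] at hk
      exact hne hk
    exact no_two P hP hc (hZi _ hc) hd h1
  have hgf : generalizedFittingSubgroup K = L := by
    unfold generalizedFittingSubgroup
    rw [hfit, hlay]
    simp
  rw [hgf]
  refine ⟨h3, not_isMulCommutative_of_quasisimple hL.2, ?_⟩
  intro hd
  have hLn : L.Normal := by rw [← hlay]; infer_instance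
  exact h4 (CyclicSylow.normal_of_cyclic P L hd)

theorem caseA (hO : pPrimeCore p K = ⊥) (P : Sylow p K) (hP : IsCyclic ↥(P : Subgroup K)) (hE : layer K = ⊥) :
    ((P : Subgroup K).Normal ∧ Subgroup.centralizer ((P : Subgroup K) : Set K) = (P : Subgroup K) ∧
      (∀ (_ : (P : Subgroup K).Normal), IsCyclic (K ⧸ (P : Subgroup K))) ∧ (P : Subgroup K).index ∣ p - 1) := by
  have hgf : generalizedFittingSubgroup K = pCore p K := by
    unfold generalizedFittingSubgroup
    rw [hE, Fitting.fittingSubgroup_eq_pCore p hO]
    simp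
  have hcen := centralizer_genFitting_le (G := K)
  rw [hgf] at hcen
  have hcomm : ∀ x ∈ (P : Subgroup K), ∀ y ∈ (P : Subgroup K), y * x = x * y := by
    intro x hx y hy
    have : IsMulCommutative (P : Subgroup K) := inferInstance
    exact congrArg Subtype.val (this.is_comm.comm (⟨y, hy⟩ : P) ⟨x, hx⟩)
  have hPc : (P : Subgroup K) = pCore p K := by
    apply le_antisymm _ (Fitting.pCore_le_sylow p P)
    refine le_trans ?_ hcen
    intro x hx
    rw [mem_centralizer_iff]
    intro y hy
    exact hcomm x hx y (Fitting.pCore_le_sylow p P hy)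
  have hPn : (P : Subgroup K).Normal := by rw [hPc]; exact Fitting.normal_pCore p
  have hself : centralizer ((P : Subgroup K) : Set K) = (P : Subgroup K) := by
    apply le_antisymm
    · rw [hPc]; exact hcen
    · intro x hx
      rw [mem_centralizer_iff]
      exact hcomm x hx
  -- the embedding of `K/P` in `Aut P`
  let φ : K →* MulAut (P : Subgroup K) := MulAut.conjNormal
  have hker : φ.ker = (P : Subgroup K) := by
    refine Eq.trans ?_ hself
    ext x
    rw [MonoidHom.mem_ker, mem_centralizer_iff]
    constructor
    · intro h y hy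
      have h1 := congrArg (fun f => ((f ⟨y, hy⟩ : (P : Subgroup K)) : K)) h
      simp only [φ, MulAut.conjNormal_apply, MulAut.one_apply] at h1
      rw [mul_inv_eq_iff_eq_mul] at h1
      exact h1.symm
    · intro h
      ext ⟨y, hy⟩
      simp only [φ, MulAut.conjNormal_apply, MulAut.one_apply]
      rw [mul_inv_eq_iff_eq_mul]
      exact (h y hy).symm
  obtain ⟨n, hn⟩ := IsPGroup.iff_card.1 P.2
  have hcardA : Nat.card (MulAut (P : Subgroup K)) = Nat.totient (p ^ n) := by
    rw [← hn]
    exact IsCyclic.card_mulAut (P : Subgroup K)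
  have hidx : (P : Subgroup K).index ∣ p - 1 := by
    have h1 : (P : Subgroup K).index ∣ Nat.totient (p ^ n) := by
      have h0 : (P : Subgroup K).index = Nat.card φ.range := by
        rw [← Subgroup.index_ker]
        exact congrArg Subgroup.index hker.symm
      rw [← hcardA, h0]
      exact Subgroup.card_subgroup_dvd_card φ.range
    have h2 : Nat.Coprime (P : Subgroup K).index p := ((Nat.Prime.coprime_iff_not_dvd hp.out).2 P.not_dvd_index).symm
    rcases Nat.eq_zero_or_pos n with rfl | hn0
    · rw [pow_zero, Nat.totient_one] at h1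
      exact h1.trans (one_dvd _)
    · rw [Nat.totient_prime_pow hp.out hn0] at h1
      exact (Nat.Coprime.pow_right _ h2).dvd_of_dvd_mul_left h1
  refine ⟨hPn, hself, fun hPn' => ?_, hidx⟩
  by_cases hp2 : p = 2
  · subst hp2
    have h1 : (P : Subgroup K).index = 1 := by simpa using hidx
    rw [Subgroup.index_eq_card] at h1
    have : Subsingleton (K ⧸ (P : Subgroup K)) := (Nat.card_eq_one_iff_unique.1 h1).1
    exact isCyclic_of_subsingleton
  · have hc1 : IsCyclic (ZMod (Nat.card (P : Subgroup K)))ˣ := by
      rw [hn]; exact ZMod.isCyclic_units_of_prime_pow p hp.out hp2 n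
    have e := IsCyclic.mulAutMulEquiv (P : Subgroup K)
    have hc2 : IsCyclic (MulAut (P : Subgroup K)) := isCyclic_of_injective e.toMonoidHom e.injective
    let f : K ⧸ (P : Subgroup K) →* MulAut (P : Subgroup K) := QuotientGroup.lift _ φ hker.ge
    have hf : Function.Injective f := by
      rw [injective_iff_map_eq_one]
      intro x
      induction x using QuotientGroup.induction_on with
      | H x =>
        intro hx
        have h1 : φ x = 1 := hx
        rw [← MonoidHom.mem_ker, hker] at h1
        exact (QuotientGroup.eq_one_iff x).2 h1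
    exact isCyclic_of_injective f hf

/-- Let K be a finite group, p a prime dividing its order with O_{p'}(K) = 1 (no nontrivial normal subgroup of order prime to p), and P a cyclic Sylow p-subgroup of K. Then either P is normal and self-centralizing in K with K/P cyclic of order dividing p − 1 (so K is the semidirect product of P by a group of automorphisms of P of order dividing p − 1), or the generalized Fitting subgroup F*(K) is a non-abelian simple group and p does not divide the index of F*(K) in K. -/
theorem result {K : Type*} [Group K] [Finite K] (p : ℕ) [Fact p.Prime] (hp : p ∣ Nat.card K) (hO : Cfsg.pPrimeCore p K = ⊥)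
    (P : Sylow p K) (hP : IsCyclic ↥(P : Subgroup K)) :
    ((P : Subgroup K).Normal ∧ Subgroup.centralizer ((P : Subgroup K) : Set K) = (P : Subgroup K) ∧
      (∀ (_ : (P : Subgroup K).Normal), IsCyclic (K ⧸ (P : Subgroup K))) ∧ (P : Subgroup K).index ∣ p - 1) ∨
    (IsSimpleGroup ↥(Cfsg.generalizedFittingSubgroup K) ∧ ¬ IsMulCommutative ↥(Cfsg.generalizedFittingSubgroup K) ∧
      ¬ p ∣ (Cfsg.generalizedFittingSubgroup K).index) := by
  by_cases hE : layer K = ⊥
  · exact Or.inl (caseA hO P hP hE)
  · exact Or.inr (caseB hO P hP hE)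

end Cfsg.Agent.S4403
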