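import Cfsg.Statements.S4419
import Cfsg.Agent.Lib.SubgroupTools
import Cfsg.Agent.Lib.Fitting
import Cfsg.Agent.Lib.PNilp
import Cfsg.Agent.Lib.Transfer
import Cfsg.Agent.Lib.TransferApps2
import Cfsg.Agent.Lib.MinNonNilp
import Cfsg.Agent.Lib.CoprimeAction2
import Cfsg.Agent.Lib.PGroupMeta
import Cfsg.Agent.S4381

set_option autoImplicit false
open Cfsg

namespace Cfsg.Agent.S4419

open Subgroup Cfsg.Agent.Lib Cfsg.Agent.Lib.SubgroupTools

universe u

theorem card_dvd_of_cyclic {C : Type*} [Group C] [Finite C] {p : ℕ} (hC : IsCyclic C) (h : ∀ x : C, x ^ p = 1) :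
    Nat.card C ∣ p := by
  rw [← IsCyclic.exponent_eq_card]
  exact Monoid.exponent_dvd_of_forall_pow_eq_one h

/-- the Frattini quotient of a metacyclic `p`-group has order dividing `p ^ 2` -/
theorem card_frattini_quotient {Q : Type*} [Group Q] [Finite Q] {p : ℕ} [Fact p.Prime] (hQ : IsPGroup p Q)
    (hm : IsMetacyclic Q) : Nat.card (Q ⧸ frattini Q) ∣ p ^ 2 := by
  obtain ⟨N, hN, hNc, hQc⟩ := hm
  have hexp : ∀ x : Q ⧸ frattini Q, x ^ p = 1 := by
    intro x
    induction x using QuotientGroup.induction_on with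
    | H x =>
      rw [← QuotientGroup.mk_pow, QuotientGroup.eq_one_iff]
      exact H70Frattini.pow_mem_frattini hQ x
  set M : Subgroup (Q ⧸ frattini Q) := N.map (QuotientGroup.mk' (frattini Q)) with hM
  have hMn : M.Normal := hN.map _ (QuotientGroup.mk'_surjective _)
  have hMc : IsCyclic M := by
    have : Function.Surjective ((QuotientGroup.mk' (frattini Q)).subgroupMap N) :=
      (QuotientGroup.mk' (frattini Q)).subgroupMap_surjective N
    exact isCyclic_of_surjective _ this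
  have h1 : Nat.card M ∣ p := card_dvd_of_cyclic hMc (fun x => Subtype.ext (by simpa using hexp x))
  have hqc : IsCyclic ((Q ⧸ frattini Q) ⧸ M) := by
    let f : Q ⧸ N →* (Q ⧸ frattini Q) ⧸ M := QuotientGroup.lift N
      ((QuotientGroup.mk' M).comp (QuotientGroup.mk' (frattini Q))) (by
        intro x hx
        rw [MonoidHom.mem_ker, MonoidHom.comp_apply]
        exact (QuotientGroup.eq_one_iff _).2 ⟨x, hx, rfl⟩)
    have hf : Function.Surjective f := by
      intro y
      obtain ⟨y, rfl⟩ := QuotientGroup.mk'_surjective M y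
      obtain ⟨y, rfl⟩ := QuotientGroup.mk'_surjective (frattini Q) y
      exact ⟨QuotientGroup.mk y, rfl⟩
    exact isCyclic_of_surjective f hf
  have h2 : Nat.card ((Q ⧸ frattini Q) ⧸ M) ∣ p := by
    apply card_dvd_of_cyclic hqc
    intro x
    induction x using QuotientGroup.induction_on with
    | H x =>
      rw [← QuotientGroup.mk_pow, hexp x]; rfl
  rw [Subgroup.card_eq_card_quotient_mul_card_subgroup M, sq]
  exact mul_dvd_mul h2 h1

theorem forward {G : Type*} [Group G] [Finite G] (p : ℕ) [hp : Fact p.Prime] (h : HasNormalPComplement p G) :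
    Nat.Coprime (Nat.card (G ⧸ pPrimePCore p G)) (p ^ 2 - 1) := by
  obtain ⟨N, hN, h1, k, hk⟩ := PNilp.hasNormalPComplement_iff.1 h
  have hle : N ≤ pPrimeCore p G := Fitting.le_pPrimeCore p hN ((Nat.Prime.coprime_iff_not_dvd hp.out).2 h1).symm
  have hn := Fitting.normal_pPrimeCore (G := G) p
  have hq : IsPGroup p (G ⧸ pPrimeCore p G) := by
    have h2 : (pPrimeCore p G).index ∣ p ^ k := by rw [← hk]; exact Subgroup.index_dvd_of_le hle
    obtain ⟨j, _, hj⟩ := (Nat.dvd_prime_pow hp.out).1 h2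
    exact IsPGroup.of_card (n := j) (by rw [← Subgroup.index_eq_card, hj])
  have htop : pCore p (G ⧸ pPrimeCore p G) = ⊤ := by
    rw [eq_top_iff]
    exact Fitting.le_pCore p inferInstance (hq.to_subgroup ⊤)
  have : Nat.card (G ⧸ pPrimePCore p G) = 1 := by
    rw [← Subgroup.index_eq_card]
    have : pPrimePCore p G = ⊤ := by unfold pPrimePCore; rw [htop, Subgroup.comap_top]
    rw [this, Subgroup.index_top]
  rw [this]; exact Nat.coprime_one_left _

/-- an `r`-element normalizing a metacyclic `p`-group, `r ∤ p (p² - 1)`, centralizes it. -/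
theorem small {G : Type u} [Group G] [Finite G] {p r a : ℕ} [hp : Fact p.Prime] [hr : Fact r.Prime] (hrp : r ≠ p)
    (hrd : ¬ r ∣ p ^ 2 - 1) (Q : Subgroup G) (hQ : IsPGroup p Q) (hm : IsMetacyclic Q) (x : G)
    (hx : x ∈ normalizer (Q : Set G)) (hxo : orderOf x = r ^ a) : x ∈ centralizer (Q : Set G) := by
  have hcard := card_frattini_quotient hQ hm
  let f : MulAut (Q ⧸ frattini Q) := S4381.phiBar (MulAut Q) Q (Q.normalizerMonoidHom ⟨x, hx⟩)
  have hfo : orderOf f ∣ r ^ a := by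
    have h1 : orderOf f ∣ orderOf (Q.normalizerMonoidHom ⟨x, hx⟩) := orderOf_map_dvd _ _
    have h2 : orderOf (Q.normalizerMonoidHom ⟨x, hx⟩) ∣ orderOf (⟨x, hx⟩ : normalizer (Q : Set G)) := orderOf_map_dvd _ _
    rw [Subgroup.orderOf_mk, hxo] at h2
    exact h1.trans h2
  have hR : IsPGroup r (zpowers f) := by
    obtain ⟨j, _, hj⟩ := (Nat.dvd_prime_pow hr.out).1 hfo
    exact IsPGroup.of_card (n := j) (by rw [Nat.card_zpowers, hj])
  have htriv : zpowers f = ⊥ := by
    apply TransferApps2.aut_trivial_of_small _ hR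
    intro d hd hmod
    obtain ⟨k, hk2, hk⟩ := (Nat.dvd_prime_pow hp.out).1 hcard
    rw [hk] at hd hmod ⊢
    obtain ⟨j, hjk, hj⟩ := (Nat.dvd_prime_pow hp.out).1 hd
    rw [hj] at hmod ⊢
    by_contra hne
    have hlt : j < k := lt_of_le_of_ne hjk (fun h => hne (by rw [h]))
    have hcop : Nat.Coprime r (p ^ j) := Nat.Coprime.pow_right _ ((Nat.coprime_primes hr.out hp.out).2 hrp)
    have h1 : r ∣ p ^ k - p ^ j := (Nat.modEq_iff_dvd' (Nat.pow_le_pow_right hp.out.pos hlt.le)).1 hmod.symm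
    have h2 : p ^ k - p ^ j = p ^ j * (p ^ (k - j) - 1) := by
      rw [Nat.mul_sub, mul_one, ← pow_add]
      congr 2
      omega
    rw [h2] at h1
    have h3 := hcop.dvd_of_dvd_mul_left h1
    apply hrd
    have h4 : k - j = 1 ∨ k - j = 2 := by omega
    rcases h4 with h4 | h4
    · rw [h4, pow_one] at h3
      have : p ^ 2 - 1 = (p + 1) * (p - 1) := by
        have := Nat.sq_sub_sq p 1
        simpa using this
      rw [this]
      exact h3.mul_left _
    · rwa [h4] at h3
  have hf1 : f = 1 := by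
    have : f ∈ zpowers f := mem_zpowers f
    rwa [htriv, mem_bot] at this
  -- the Frattini argument
  have hle : zpowers x ≤ centralizer (Q : Set G) := by
    apply CoprimeAction2.le_centralizer_of_frattini (A := zpowers x) (K := Q)
    · rw [zpowers_le]; exact hx
    · rw [Nat.card_zpowers, hxo]
      apply Nat.Coprime.pow_left
      obtain ⟨m, hm⟩ := IsPGroup.iff_card.1 (hQ.to_subgroup (frattini Q))
      rw [hm]
      exact Nat.Coprime.pow_right _ ((Nat.coprime_primes hr.out hp.out).2 hrp)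
    · have key : ∀ k ∈ Q, x * k * x⁻¹ * k⁻¹ ∈ (frattini Q).map Q.subtype := by
        intro k hk
        have h1 : f (QuotientGroup.mk ⟨k, hk⟩) = QuotientGroup.mk ⟨k, hk⟩ := by rw [hf1]; rfl
        have h2 : (QuotientGroup.mk (Q.normalizerMonoidHom ⟨x, hx⟩ ⟨k, hk⟩) : Q ⧸ frattini Q) = QuotientGroup.mk ⟨k, hk⟩ := h1
        have h3 : Q.normalizerMonoidHom ⟨x, hx⟩ ⟨k, hk⟩ * (⟨k, hk⟩ : Q)⁻¹ ∈ frattini Q := by
          rw [← QuotientGroup.eq_one_iff, QuotientGroup.mk_mul, h2, QuotientGroup.mk_inv, mul_inv_cancel]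
        exact ⟨_, h3, rfl⟩
      have hFn : ∀ k ∈ Q, ∀ y ∈ (frattini Q).map Q.subtype, k * y * k⁻¹ ∈ (frattini Q).map Q.subtype := by
        rintro k hk _ ⟨y, hy, rfl⟩
        exact ⟨⟨k, hk⟩ * y * ⟨k, hk⟩⁻¹, (normal_of_characteristic (frattini Q)).conj_mem y hy _, by simp⟩
      let L : Subgroup G :=
        { carrier := {a | a ∈ normalizer (Q : Set G) ∧ ∀ k ∈ Q, a * k * a⁻¹ * k⁻¹ ∈ (frattini Q).map Q.subtype}
          one_mem' := ⟨one_mem _, fun k _ => by simp⟩
          mul_mem' := by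
            rintro a b ⟨ha, ha'⟩ ⟨hb, hb'⟩
            refine ⟨mul_mem ha hb, fun k hk => ?_⟩
            have h1 : b * k * b⁻¹ ∈ Q := (mem_normalizer_iff.1 hb k).1 hk
            have e : a * b * k * (a * b)⁻¹ * k⁻¹ = (a * (b * k * b⁻¹) * a⁻¹ * (b * k * b⁻¹)⁻¹) * (b * k * b⁻¹ * k⁻¹) := by group
            rw [e]
            exact mul_mem (ha' _ h1) (hb' k hk)
          inv_mem' := by
            rintro a ⟨ha, ha'⟩
            refine ⟨inv_mem ha, fun k hk => ?_⟩
            have h1 : a⁻¹ * k * a⁻¹⁻¹ ∈ Q := (mem_normalizer_iff.1 (inv_mem ha) k).1 hk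
            have h2 := ha' _ h1
            have e : a⁻¹ * k * a⁻¹⁻¹ * k⁻¹ = (a * (a⁻¹ * k * a⁻¹⁻¹) * a⁻¹ * (a⁻¹ * k * a⁻¹⁻¹)⁻¹)⁻¹ := by group
            rw [e]
            exact inv_mem h2 }
      have hxL : zpowers x ≤ L := by
        rw [zpowers_le]
        exact ⟨hx, key⟩
      intro a ha k hk
      exact (hxL ha).2 k hk
  exact hle (mem_zpowers x)

theorem backward {G : Type u} [Group G] [Finite G] (p : ℕ) [hp : Fact p.Prime] (S : Sylow p G)
    (hS : IsMetacyclic ↥(S : Subgroup G)) (h : Nat.Coprime (Nat.card (G ⧸ pPrimePCore p G)) (p ^ 2 - 1)) :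
    HasNormalPComplement p G := by
  rw [Transfer.hasNormalPComplement_iff_forall_centralizer]
  intro Q hQ g hg hgo
  by_contra hgC
  obtain ⟨r, a, m, hr, hxo, hxC⟩ := MinNonNilp.exists_prime_power_order (centralizer (Q : Set G)) hgC
  haveI : Fact r.Prime := ⟨hr⟩
  set x := g ^ m with hx
  have hxN : x ∈ normalizer (Q : Set G) := pow_mem hg m
  have hxp : Nat.Coprime (orderOf x) p := Nat.Coprime.coprime_dvd_left (orderOf_pow_dvd m) hgo
  have ha : a ≠ 0 := by
    rintro rfl
    rw [pow_zero, orderOf_eq_one_iff] at hxo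
    exact hxC (by rw [hxo]; exact one_mem _)
  have hrp : r ≠ p := by
    rintro rfl
    rw [hxo] at hxp
    exact hr.one_lt.ne' (Nat.Coprime.eq_one_of_dvd (Nat.Coprime.coprime_dvd_left (dvd_pow_self r ha) hxp) dvd_rfl)
  by_cases hrd : r ∣ p ^ 2 - 1
  · have hn := Fitting.normal_pPrimeCore (G := G) p
    have hKn : (pPrimePCore p G).Normal := by
      unfold pPrimePCore
      have := Fitting.normal_pCore (G := G ⧸ pPrimeCore p G) p
      infer_instance
    have hrK : ¬ r ∣ Nat.card (G ⧸ pPrimePCore p G) := by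
      intro hd
      exact hr.one_lt.ne' (Nat.Coprime.eq_one_of_dvd (Nat.Coprime.coprime_dvd_left hd h) hrd)
    have hxK : x ∈ pPrimePCore p G := by
      rw [← QuotientGroup.eq_one_iff, ← orderOf_eq_one_iff]
      have h1 : orderOf (QuotientGroup.mk x : G ⧸ pPrimePCore p G) ∣ r ^ a := by
        rw [← hxo]; exact orderOf_map_dvd (QuotientGroup.mk' (pPrimePCore p G)) x
      have h2 := orderOf_dvd_natCard (QuotientGroup.mk x : G ⧸ pPrimePCore p G)
      have h3 : Nat.Coprime (r ^ a) (Nat.card (G ⧸ pPrimePCore p G)) :=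
        Nat.Coprime.pow_left _ ((Nat.Prime.coprime_iff_not_dvd hr).2 hrK)
      exact Nat.eq_one_of_dvd_coprimes h3 h1 h2
    have hxK' : (QuotientGroup.mk x : G ⧸ pPrimeCore p G) ∈ pCore p (G ⧸ pPrimeCore p G) := hxK
    have hxO : x ∈ pPrimeCore p G := by
      rw [← QuotientGroup.eq_one_iff, ← orderOf_eq_one_iff]
      have h1 : orderOf (QuotientGroup.mk x : G ⧸ pPrimeCore p G) ∣ r ^ a := by
        rw [← hxo]; exact orderOf_map_dvd (QuotientGroup.mk' (pPrimeCore p G)) x
      have hpc := Fitting.isPGroup_pCore (G := G ⧸ pPrimeCore p G) p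
      obtain ⟨j, hj⟩ := IsPGroup.iff_orderOf.1 hpc ⟨_, hxK'⟩
      rw [Subgroup.orderOf_mk] at hj
      have h3 : Nat.Coprime (r ^ a) (p ^ j) := Nat.Coprime.pow _ _ ((Nat.coprime_primes hr hp.out).2 hrp)
      exact Nat.eq_one_of_dvd_coprimes h3 h1 (by rw [hj])
    apply hxC
    rw [mem_centralizer_iff]
    intro y hy
    have h1 : x * y * x⁻¹ * y⁻¹ ∈ Q := Q.mul_mem ((mem_normalizer_iff.1 hxN y).1 hy) (Q.inv_mem hy)
    have h2 : x * y * x⁻¹ * y⁻¹ ∈ pPrimeCore p G := by
      have e : x * y * x⁻¹ * y⁻¹ = x * (y * x⁻¹ * y⁻¹) := by group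
      rw [e]
      exact mul_mem hxO (hn.conj_mem _ (inv_mem hxO) y)
    have h3 : x * y * x⁻¹ * y⁻¹ = 1 := by
      rw [← orderOf_eq_one_iff]
      obtain ⟨j, hj⟩ := IsPGroup.iff_orderOf.1 hQ ⟨_, h1⟩
      rw [Subgroup.orderOf_mk] at hj
      have h4 : orderOf (x * y * x⁻¹ * y⁻¹) ∣ Nat.card (pPrimeCore p G) := by
        have := orderOf_dvd_natCard (⟨_, h2⟩ : pPrimeCore p G)
        rwa [Subgroup.orderOf_mk] at this
      have h5 : Nat.Coprime (Nat.card (pPrimeCore p G)) p := Fitting.coprime_card_pPrimeCore p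
      exact Nat.eq_one_of_dvd_coprimes (Nat.Coprime.pow_right j h5) h4 (by rw [hj])
    calc y * x = (x * y * x⁻¹ * y⁻¹)⁻¹ * x * y := by group
      _ = x * y := by rw [h3]; group
  · -- Q is metacyclic
    have hQm : IsMetacyclic Q := by
      obtain ⟨T, hT⟩ := hQ.exists_le_sylow
      have e := Sylow.equiv T S
      exact PGroupMeta.IsMetacyclic.of_injective (hS) (e.toMonoidHom.comp (inclusion hT))
        (e.injective.comp (inclusion_injective hT))
    exact hxC (small hrp hrd Q hQ hQm x hxN hxo)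

/-- Let p be a prime and G a finite group whose Sylow p-subgroups are metacyclic (a cyclic normal subgroup with cyclic quotient). Then G has a normal p-complement if and only if the order of G/O_{p′,p}(G) is coprime to p² − 1. -/
theorem result {G : Type*} [Group G] [Finite G] (p : ℕ) [Fact p.Prime] (S : Sylow p G) (hS : Cfsg.IsMetacyclic ↥(S : Subgroup G)) : Cfsg.HasNormalPComplement p G ↔ Nat.Coprime (Nat.card (G ⧸ Cfsg.pPrimePCore p G)) (p ^ 2 - 1) :=
  ⟨forward p, backward p S hS⟩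

end Cfsg.Agent.S4419
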