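import Cfsg.Statements.S4449
import Mathlib
import Cfsg.Agent.Lib.GlaubAbove

set_option autoImplicit false
open Cfsg

namespace Cfsg.Agent.S4449
open Cfsg Cfsg.Agent.Lib.GlaubCorr Cfsg.Agent.Lib.CharBasic


/-- Inside a finite group Γ let the solvable subgroup S normalise G with the orders of G and S coprime, and let N be a normal subgroup of G normalised by S. Then for every S-invariant irreducible character ϑ of N, the induced character ϑ^G has an S-invariant irreducible constituent. -/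
theorem result {Γ : Type*} [Group Γ] [Fintype Γ] (G S N : Subgroup Γ) [Fintype G] [Fintype N] (hnorm : ∀ s ∈ S, ∀ g ∈ G, s * g * s⁻¹ ∈ G) (hNG : N ≤ G) (hNnormal : ∀ g ∈ G, ∀ n ∈ N, g * n * g⁻¹ ∈ N) (hNS : ∀ s ∈ S, ∀ n ∈ N, s * n * s⁻¹ ∈ N) (hcop : (Nat.card G).Coprime (Nat.card S)) (hsolv : Group.IsSolvable S) (θ : Cfsg.IrrCharacter N) (hinv : (∀ s ∈ S, ∀ g g' : N, (g' : Γ) = s * g * s⁻¹ → (θ : N → ℂ) g' = (θ : N → ℂ) g)) : ∃ χ : Cfsg.IrrCharacter G, Cfsg.classInner (fun n : N => (χ : G → ℂ) ⟨n, hNG n.2⟩) (θ : N → ℂ) ≠ 0 ∧ (∀ s ∈ S, ∀ g g' : G, (g' : Γ) = s * g * s⁻¹ → (χ : G → ℂ) g' = (χ : G → ℂ) g) := by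
  classical
  let r := conjAct G S hnorm
  have hsolv' : Group.IsSolvable r.range :=
    Group.isSolvable_of_surjective (f := r.rangeRestrict) r.rangeRestrict_surjective
  have hcop' : (Nat.card G).Coprime (Nat.card r.range) := by
    refine Nat.Coprime.coprime_dvd_right ?_ hcop
    rw [← Subgroup.index_ker r]
    exact Subgroup.index_dvd_card _
  let N' : Subgroup G := N.subgroupOf G
  have hN'n : N'.Normal := ⟨fun n hn g => hNnormal g g.2 n hn⟩
  haveI : Fintype N' := Fintype.ofFinite _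
  let e : N' ≃* N := Subgroup.subgroupOfEquivOfLe hNG
  let θ' : IrrCharacter N' := irrCongr e θ
  obtain ⟨χ, hχ, hχθ⟩ := above (Nat.card r.range) r.range rfl hsolv' hcop' N' (by
    rintro _ ⟨s, rfl⟩ x hx
    exact hNS s s.2 x hx) θ' (by
    rintro _ ⟨s, rfl⟩ x y hxy
    refine hinv s s.2 (e x) (e y) ?_
    exact congrArg Subtype.val hxy)
  refine ⟨χ, ?_, ?_⟩
  · have h1 := Lib.Clifford.classInner_comp_equiv e
      (fun n : N => (χ : G → ℂ) ⟨n, hNG n.2⟩) (θ : N → ℂ)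
    rw [← h1]
    exact hχθ
  · rw [← inv_conjAct_iff hnorm]
    intro s g
    exact hχ _ ⟨s, rfl⟩ g

end Cfsg.Agent.S4449
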