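import Cfsg.Statements.S4549
import Cfsg.Agent.Lib.GalPrinc
import Cfsg.Agent.Lib.TateApps
import Cfsg.Agent.Lib.BlockCore
import Cfsg.Agent.S4550
import Cfsg.Agent.Lib.DefectZero

set_option autoImplicit false
open Cfsg

namespace Cfsg.Agent.S4549

open Cfsg.Agent.Lib Cfsg.Agent.Lib.CharBasic

/-- Let G be a finite group and M a maximal ideal of the algebraic integers containing 2. Let k be a natural number with g ^ k = g ^ 3 for every 2-element g and g ^ k = g for every element g of odd order (such k exist); an irreducible character χ is unchanged by g ↦ g ^ k exactly when it is fixed by the field automorphism that cubes the 2-power roots of unity and fixes the roots of unity of odd order. Then G has a normal 2-complement if and only if every member χ of the principal 2-block of odd degree with χ (g ^ k) = χ g for all g has degree one. -/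
theorem result {G : Type*} [Group G] [Finite G] (M : Ideal Cfsg.AlgInt) (hM : Cfsg.IsPModular 2 M) (k : ℕ) (hk₁ : ∀ g : G, (∃ j : ℕ, orderOf g = 2 ^ j) → g ^ k = g ^ 3) (hk₂ : ∀ g : G, Odd (orderOf g) → g ^ k = g) : Cfsg.HasNormalPComplement 2 G ↔ ∀ χ ∈ Cfsg.principalBlock M G, Odd (Cfsg.charDegree (χ : G → ℂ)) → (∀ g : G, (χ : G → ℂ) (g ^ k) = (χ : G → ℂ) g) → Cfsg.charDegree (χ : G → ℂ) = 1 := by
  classical
  have h2p : Fact (Nat.Prime 2) := ⟨Nat.prime_two⟩
  constructor
  · rintro ⟨P, N, hN, hc⟩ χ hχ hodd -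
    obtain ⟨a, ha⟩ := IsPGroup.iff_card.mp P.isPGroup'
    have hidx : N.index = 2 ^ a := by rw [hc.symm.index_eq_card]; exact ha
    have hcard : ¬ 2 ∣ Nat.card N := by
      rw [← hc.index_eq_card]
      exact P.not_dvd_index
    rw [BlockCore.principalBlock_of_normal_complement hM hcard hidx] at hχ
    obtain ⟨ψ, hψ, h⟩ := χ.2.deflate N hχ
    have h1 : charDegree (χ : G → ℂ) = charDegree ψ := by
      rw [charDegree, charDegree, ← h 1]
      rfl
    rw [h1] at hodd ⊢
    have h2 := DefectZero.charDegree_dvd hψ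
    rw [← Subgroup.index_eq_card, hidx] at h2
    obtain ⟨i, -, hi⟩ := (Nat.dvd_prime_pow Nat.prime_two).1 h2
    rw [hi] at hodd ⊢
    rcases Nat.eq_zero_or_pos i with h0 | h0
    · rw [h0, pow_zero]
    · exfalso
      rw [Nat.odd_pow_iff h0.ne'] at hodd
      exact absurd hodd (by decide)
  · intro h
    have hk := Cfsg.Agent.S4550.coprime_of hk₁ hk₂
    obtain ⟨P⟩ : Nonempty (Sylow 2 G) := inferInstance
    have := Fintype.ofFinite P
    apply TateApps.hasNormalPComplement_of_extend P
    intro δ
    have hcr : Nat.card (rootsOfUnity 2 ℂ) = 2 := Complex.card_rootsOfUnity 2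
    have hcz : Nat.card (Multiplicative (ZMod 2)) = 2 := by
      rw [Nat.card_eq_fintype_card]; rfl
    let e : rootsOfUnity 2 ℂ ≃* Multiplicative (ZMod 2) := mulEquivOfPrimeCardEq hcr hcz
    let μ : (P : Subgroup G) →* ℂˣ := (rootsOfUnity 2 ℂ).subtype.comp (e.symm.toMonoidHom.comp δ)
    have hμ : ∀ x, μ x = ((e.symm (δ x) : rootsOfUnity 2 ℂ) : ℂˣ) := fun x => rfl
    have hμ2 : ∀ x, μ x ^ 2 = 1 := by
      intro x
      rw [hμ]
      exact (mem_rootsOfUnity 2 _).mp (e.symm (δ x)).2
    have hord : orderOf μ ∣ 2 := by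
      apply orderOf_dvd_of_pow_eq_one
      ext x
      rw [MonoidHom.pow_apply, hμ2]
      rfl
    have hμk : ∀ z : ℂˣ, z ^ orderOf μ = 1 → z ^ k = z := by
      intro z hz
      by_cases h2 : 2 ∣ Nat.card G
      · have hkodd : Odd k := by
          rw [← Nat.not_even_iff_odd, even_iff_two_dvd]
          intro hd
          have := Nat.dvd_gcd hd h2
          rw [hk] at this
          omega
        obtain ⟨m, hm⟩ := hkodd
        have hz2 : z ^ 2 = 1 := by
          obtain ⟨c, hc⟩ := hord
          rw [hc, pow_mul, hz, one_pow]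
        rw [hm, pow_succ, pow_mul, hz2, one_pow, one_mul]
      · have hP1 : ∀ x : (P : Subgroup G), x = 1 := by
          intro x
          obtain ⟨a, ha⟩ := IsPGroup.iff_card.mp P.isPGroup'
          have h3 : a = 0 := by
            by_contra h0
            apply h2
            exact (dvd_pow_self 2 h0).trans (ha ▸ Subgroup.card_subgroup_dvd_card (P : Subgroup G))
          rw [h3, pow_zero, Subgroup.card_eq_one] at ha
          have hx : (x : G) ∈ (⊥ : Subgroup G) := by
            rw [← ha]; exact x.2
          exact Subtype.ext (Subgroup.mem_bot.mp hx)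
        have hμ1 : μ = 1 := by
          ext x
          rw [hP1 x, map_one, map_one]
        rw [hμ1, orderOf_one, pow_one] at hz
        rw [hz, one_pow]
    obtain ⟨χ, hχB, hχd, hχk, hχμ⟩ := GalPrinc.exists_fixed_above_linear hM (P : Subgroup G) P.isPGroup' P.not_dvd_index μ
      hk (Cfsg.Agent.S4550.pow_iter hk₁ hk₂) hμk
    have hodd : Odd (charDegree (χ : G → ℂ)) := by
      rw [← Nat.not_even_iff_odd, even_iff_two_dvd]
      exact hχd
    have hd1 := h χ hχB hodd hχk
    have hχ1 : (χ : G → ℂ) 1 = 1 := by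
      rw [← DefectZero.charDegree_eq χ.2.isCharacter, hd1, Nat.cast_one]
    obtain ⟨f, hf⟩ := χ.2.isCharacter.exists_hom hχ1
    have hμc : IsCharacter (P : Subgroup G) (fun x => (μ x : ℂ)) := isCharacter_of_unitsHom μ
    have hμi : IsIrrCharacter (P : Subgroup G) (fun x => (μ x : ℂ)) := hμc.isIrr_of_one_eq_one (by simp)
    have hχPi : IsIrrCharacter (P : Subgroup G) (fun x : (P : Subgroup G) => (χ : G → ℂ) x) :=
      (χ.2.isCharacter.restrict _).isIrr_of_one_eq_one (by exact hχ1)
    have hres : (fun x : (P : Subgroup G) => (χ : G → ℂ) x) = (fun x => (μ x : ℂ)) := by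
      by_contra hne
      exact hχμ (hχPi.classInner_eq_zero hμi hne)
    have hfμ : ∀ x : (P : Subgroup G), f x = μ x := by
      intro x
      apply Units.ext
      rw [← hf]
      exact congrFun hres x
    -- the odd part
    set m := Nat.card G / 2 ^ (Nat.card G).factorization 2 with hm
    have hmodd : Odd m := by
      rw [← Nat.not_even_iff_odd, even_iff_two_dvd]
      exact Nat.not_dvd_ordCompl Nat.prime_two Nat.card_pos.ne'
    have hfm : ∀ g : G, (f g ^ m) ^ 2 = 1 := by
      intro g
      obtain ⟨x, y, hxy, hc, hj0, hy, -, -⟩ := BlockOsima.exists_p_decomp (p := 2) Nat.prime_two (orderOf_pos g).ne'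
      have hx2 : f x ^ 2 = 1 := by
        have h3 : x ^ k = x ^ 3 := hk₁ x ⟨_, hj0⟩
        have h4 : f (x ^ 3) = f x := by
          rw [← h3]
          apply Units.ext
          rw [← hf, ← hf, hχk]
        rw [map_pow] at h4
        have h5 : f x * f x ^ 2 = f x * 1 := by rw [mul_one, ← pow_succ']; exact h4
        exact mul_left_cancel h5
      have hym : f y ^ m = 1 := by
        rw [← map_pow]
        have h3 : orderOf y ∣ m := by
          have h4 : orderOf y ∣ Nat.card G := orderOf_dvd_natCard y
          rw [← Nat.ordProj_mul_ordCompl_eq_self (Nat.card G) 2] at h4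
          refine Nat.Coprime.dvd_of_dvd_mul_left ?_ h4
          apply Nat.Coprime.pow_right
          rw [Nat.coprime_comm, Nat.prime_two.coprime_iff_not_dvd]
          exact hy
        rw [orderOf_dvd_iff_pow_eq_one.mp h3, map_one]
      rw [← hxy, map_mul, mul_pow, hym, mul_one, ← pow_mul, mul_comm, pow_mul, hx2, one_pow]
    let F : G →* rootsOfUnity 2 ℂ := (f ^ m).codRestrict (rootsOfUnity 2 ℂ) (fun g => by
      rw [mem_rootsOfUnity]
      exact hfm g)
    refine ⟨e.toMonoidHom.comp F, fun x => ?_⟩
    show e (F x) = δ x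
    have h5 : F x = e.symm (δ x) := by
      apply Subtype.ext
      show f x ^ m = _
      rw [hfμ, ← hμ]
      obtain ⟨c, hc⟩ := hmodd
      rw [hc, pow_succ, pow_mul, hμ2, one_pow, one_mul]
    rw [h5, MulEquiv.apply_symm_apply]

end Cfsg.Agent.S4549
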