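import Cfsg.Statements.S4570
import Cfsg.Agent.Lib.H70AbL
-- import your own Cfsg.Agent.* helpers here

set_option autoImplicit false
open Cfsg

namespace Cfsg.Agent.S4570

open Cfsg.Agent.Lib Cfsg.Agent.Lib.H70AbI

/-- Let G be a finite group with a commutative Sylow 2-subgroup P and M a maximal ideal of the algebraic integers containing 2, and suppose some involution x of G has the property that the principal 2-block of its centralizer has 2-regular rank one. If P has order 8 then the principal 2-block of G contains exactly 8 irreducible characters, and if P has order 16 it contains 8 or 16. -/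
theorem result {G : Type*} [Group G] [Finite G] (M : Ideal Cfsg.AlgInt) (hM : Cfsg.IsPModular 2 M) (P : Sylow 2 G) (hab : IsMulCommutative P) (x : G) (hx : orderOf x = 2) (hl : Cfsg.blockRank 2 (Cfsg.principalBlock M ↥(Subgroup.centralizer ({x} : Set G))) = 1) : (Nat.card P = 8 → Nat.card (Cfsg.principalBlock M G) = 8) ∧ (Nat.card P = 16 → Nat.card (Cfsg.principalBlock M G) = 8 ∨ Nat.card (Cfsg.principalBlock M G) = 16) := by
  haveI : Fact (Nat.Prime 2) := ⟨Nat.prime_two⟩
  have hgp : IsPGroup 2 (Subgroup.zpowers x) := by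
    apply IsPGroup.of_card (n := 1)
    rw [Nat.card_zpowers, hx]; norm_num
  obtain ⟨R, hR⟩ := hgp.exists_le_sylow
  obtain ⟨c, hc⟩ := MulAction.exists_smul_eq G R P
  have hxR : x ∈ (R : Subgroup G) := hR (Subgroup.mem_zpowers x)
  have hcR : ∀ y ∈ (R : Subgroup G), c * y * c⁻¹ ∈ (P : Subgroup G) := by
    intro y hy
    rw [← hc, Sylow.coe_subgroup_smul, Subgroup.mem_pointwise_smul_iff_inv_smul_mem]
    simp only [← map_inv, MulAut.smul_def, MulAut.conj_apply, inv_inv]
    have h1 : c⁻¹ * (c * y * c⁻¹) * c = y := by group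
    rw [h1]; exact hy
  have habR : ∀ a ∈ (R : Subgroup G), ∀ b ∈ (R : Subgroup G), a * b = b * a := by
    intro a ha b hb
    have h1 : (⟨_, hcR a ha⟩ : P) * ⟨_, hcR b hb⟩ = ⟨_, hcR b hb⟩ * ⟨_, hcR a ha⟩ := hab.is_comm.comm _ _
    have h2 : (c * a * c⁻¹) * (c * b * c⁻¹) = (c * b * c⁻¹) * (c * a * c⁻¹) := congrArg Subtype.val h1
    have h3 : c * (a * b) * c⁻¹ = c * (b * a) * c⁻¹ := by
      calc c * (a * b) * c⁻¹ = (c * a * c⁻¹) * (c * b * c⁻¹) := by group
        _ = (c * b * c⁻¹) * (c * a * c⁻¹) := h2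
        _ = _ := by group
    exact mul_left_cancel (mul_right_cancel h3)
  have hcard : Nat.card P = Nat.card R := Nat.card_congr (Sylow.equiv P R).toEquiv
  rw [hcard]
  apply H70AbL.main hM habR hxR hx
  intro n hn hnx
  have hPH : (R : Subgroup G) ≤ Subgroup.centralizer ({x} : Set G) := fun y hy => by
    rw [Subgroup.mem_centralizer_singleton_iff]
    exact habR y hy x hxR
  have hnH : n ∈ Subgroup.centralizer ({x} : Set G) := by
    rw [Subgroup.mem_centralizer_singleton_iff]
    exact mul_inv_eq_iff_eq_mul.1 hnx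
  have hnil := (PrincNilp.blockRank_principal_iff hM).1 hl
  rw [mem_cent_iff]
  intro y hy
  have h1 := H52E16g.not_nilpotent (R.subtype hPH) (fun a ha b hb => by
      rw [Sylow.coe_subtype, Subgroup.mem_subgroupOf] at ha hb
      exact Subtype.ext (habR _ ha _ hb)) hnil (n := ⟨n, hnH⟩) (x := ⟨y, hPH hy⟩)
      ((H52E16g.mem_normalizer_sub R hPH ⟨n, hnH⟩).2 hn)
      (by rw [Sylow.coe_subtype, Subgroup.mem_subgroupOf]; exact hy)
  exact congrArg Subtype.val h1

end Cfsg.Agent.S4570
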