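import Cfsg.Statements.S4573
import Cfsg.Agent.Lib.H76Wreath2
import Cfsg.Agent.Lib.CFApps
import Cfsg.Agent.Lib.Cores

set_option autoImplicit false
open Cfsg

namespace Cfsg.Agent.S4573

open Cfsg.Agent.Lib Cfsg.Agent.Lib.H76Mono Cfsg.Agent.Lib.H76Wreath

universe u

theorem exists_normal_prime_index (G : Type u) [Group G] [Finite G] [Nontrivial G] (hs : Group.IsSolvable G) :
    ∃ N : Subgroup G, N.Normal ∧ N.index.Prime := by
  have h1 : commutator G ≠ ⊤ := (Group.IsSolvable.commutator_lt_top_of_nontrivial G).ne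
  have h2 : ∃ (p : ℕ) (_ : Fact p.Prime) (P : Sylow p G), ¬ (P : Subgroup G) ≤ commutator G := by
    by_contra hc
    push Not at hc
    exact h1 (Cores.eq_top_of_forall_sylow_le fun p _ P => hc p inferInstance P)
  obtain ⟨p, hp, P, hP⟩ := h2
  obtain ⟨N, hN, hNi⟩ := CFApps.exists_normal_index_of_not_le P.2 hP
  exact ⟨N, hN, by rw [hNi]; exact hp.out⟩

theorem main (n : ℕ) : ∀ (G : Type u) [Group G] [Finite G], Nat.card G = n → Group.IsSolvable G →
    ∃ (M : Type u) (_ : Group M) (_ : Fintype M), MGroup M ∧ ∃ f : G →* M, Function.Injective f := by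
  induction n using Nat.strong_induction_on with
  | _ n ih =>
    intro G _ _ hcard hs
    rcases subsingleton_or_nontrivial G with h | h
    · have := Fintype.ofFinite G
      refine ⟨G, inferInstance, inferInstance, ?_, MonoidHom.id G, fun a b h => h⟩
      intro χ hχ
      exact MGroups.monomial_of_nilpotent (by infer_instance) hχ
    · obtain ⟨N, hN, hNp⟩ := exists_normal_prime_index G hs
      have hlt : Nat.card N < n := by
        rw [← hcard]
        have h1 := Subgroup.card_mul_index N
        have h2 := hNp.two_le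
        have h3 : 0 < Nat.card N := Nat.card_pos
        nlinarith
      obtain ⟨M, i1, i2, hM, f, hf⟩ := ih (Nat.card N) hlt N rfl inferInstance
      have := Fintype.ofFinite (G ⧸ N)
      obtain ⟨f1, hf1⟩ := krasner N
      obtain ⟨f2, hf2⟩ := wreath_map (Q := G ⧸ N) f hf
      exact ⟨_, _, _, mgroup_wreath (M := M) (Q := G ⧸ N) hM hNp, f2.comp f1, hf2.comp hf1⟩

theorem result {G : Type u} [Group G] [Finite G] (hsolv : Group.IsSolvable G) : ∃ (M : Type u) (_ : Group M) (_ : Fintype M), (∀ χ : M → ℂ, Cfsg.IsIrrCharacter M χ → (∃ (H : Subgroup M) (lam : ↥H →* ℂˣ), χ = Cfsg.indFun H (fun h => (lam h : ℂ)))) ∧ ∃ f : G →* M, Function.Injective f :=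
  main (Nat.card G) G rfl hsolv

end Cfsg.Agent.S4573
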