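import Cfsg.Statements.S4583
import Cfsg.Agent.Lib.H76Dade3
import Cfsg.Agent.Lib.BlockTop

set_option autoImplicit false
open Cfsg

namespace Cfsg.Agent.S4583

open Cfsg.Agent.Lib Cfsg.Agent.Lib.CharBasic Cfsg.Agent.Lib.BlockRing Cfsg.Agent.Lib.BlockIdem
open Cfsg.Agent.Lib.BlockGA Cfsg.Agent.Lib.BlockCover Cfsg.Agent.Lib.BlockRes Cfsg.Agent.Lib.BlockTop
open Cfsg.Agent.Lib.BlockDeg Cfsg.Agent.Lib.H76Blk Cfsg.Agent.Lib.H76Blk2
open Cfsg.Agent.Lib.H76Blk3 Cfsg.Agent.Lib.H76Dade

universe u

variable {G : Type u} [Group G] [Finite G] {p : ℕ} {M : Ideal AlgInt}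

theorem cmp_mem_principal {H K : Type u} [Group H] [Group K] (e : H ≃* K) [M.IsPrime] {χ : IrrCharacter K}
    (hχ : χ ∈ principalBlock M K) : cmp e χ ∈ principalBlock M H := by
  rw [← image_principal e]
  exact ⟨χ, hχ, rfl⟩

/-- the third main theorem for the principal block, for central elements -/
theorem idl_aug_sub (hM : IsPModular p M) {P L : Subgroup G} (hP : IsPGroup p P) (hPL : P ≤ L)
    (hCL : Subgroup.centralizer (P : Set G) ≤ L) {z : GA G} (hz : z ∈ Subalgebra.center ℂ (GA G)) (hl : LocA M z) :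
    MemLocalIdeal M (omega (tr G : G → ℂ) z - omega (tr L : L → ℂ) (resH L z)) := by
  classical
  have := isPrime hM
  have := Fintype.ofFinite G
  have := Fintype.ofFinite L
  have hcf := mem_center_iff.1 hz
  have h1 := idl_sum_sub_centralizer hM hP (fun g => z.coeff g) (fun a _ x => hcf x a) (fun x => hl x)
  have h2 := idl_sum_sub_centralizer hM hP (fun g => if g ∈ L then z.coeff g else 0) (fun a ha x => by
    have : (a * x * a⁻¹ ∈ L) ↔ x ∈ L := by
      constructor
      · intro h
        have := L.mul_mem (L.mul_mem (L.inv_mem (hPL ha)) h) (hPL ha)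
        have e : a⁻¹ * (a * x * a⁻¹) * a = x := by group
        rwa [e] at this
      · intro h
        exact L.mul_mem (L.mul_mem (hPL ha) h) (L.inv_mem (hPL ha))
    by_cases hx : x ∈ L
    · rw [if_pos (this.2 hx), if_pos hx]; exact hcf x a
    · rw [if_neg (fun h => hx (this.1 h)), if_neg hx]) (fun x => by
    split_ifs
    · exact hl x
    · exact loc_zero)
  have h3 : ∑ x ∈ Finset.univ.filter (· ∈ Subgroup.centralizer (P : Set G)), (if x ∈ L then z.coeff x else 0) =
      ∑ x ∈ Finset.univ.filter (· ∈ Subgroup.centralizer (P : Set G)), z.coeff x := by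
    apply Finset.sum_congr rfl
    intro x hx
    rw [if_pos (hCL (Finset.mem_filter.1 hx).2)]
  rw [h3] at h2
  have h4 := idl_sub h1 h2
  have e1 : omega (tr G : G → ℂ) z = ∑ x : G, z.coeff x := by
    rw [omega, tr_apply, div_one, lin_apply]
    exact Finset.sum_congr rfl fun x _ => by rw [tr_apply, mul_one]
  have e2 : omega (tr L : L → ℂ) (resH L z) = ∑ x : G, if x ∈ L then z.coeff x else 0 := by
    rw [omega, tr_apply, div_one, lin_apply, ← Finset.sum_filter]
    rw [Finset.sum_subtype (Finset.univ.filter (fun x : G => x ∈ L)) (p := fun x => x ∈ L) (by simp)]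
    apply Finset.sum_congr rfl
    intro x _
    rw [tr_apply, mul_one]
    rfl
  rw [e1, e2]
  convert h4 using 1
  ring

/-- characters of `p'`-degree in the principal block of `L ≥ P C_G(P)` lie below such characters of `G` -/
theorem exists_above_principal (hM : IsPModular p M) {P L : Subgroup G} (hP : IsPGroup p P) (hPi : ¬ p ∣ P.index) (hPL : P ≤ L)
    (hCL : Subgroup.centralizer (P : Set G) ≤ L) [Fintype L] {η : IrrCharacter L} (hη : η ∈ principalBlock M L)
    (hdeg : ¬ p ∣ charDegree (η : L → ℂ)) :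
    ∃ χ : IrrCharacter G, χ ∈ principalBlock M G ∧ ¬ p ∣ charDegree (χ : G → ℂ) ∧
      classInner (fun x : L => (χ : G → ℂ) x) (η : L → ℂ) ≠ 0 := by
  classical
  have := isPrime hM
  have := Fintype.ofFinite G
  have hc := eB_mem_center (principalBlock M G)
  have hl : LocA M (eB (principalBlock M G)) := locA_eB isPBlock_principal
  have h1 := idl_aug_sub hM hP hPL hCL hc hl
  rw [omega_eB_mem (tr_mem M)] at h1
  have h2 : MemLocalIdeal M (omega (tr L : L → ℂ) (resH L (eB (principalBlock M G))) -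
      omega (η : L → ℂ) (resH L (eB (principalBlock M G)))) :=
    sameBlock_omega (tr L).2.isClassFunction η.2.isClassFunction hη (resH_center hc) (locA_resH hl)
  have h3 := idl_sub_trans h1 h2
  have h4 : ¬ MemLocalIdeal M (omega (η : L → ℂ) (resH L (eB (principalBlock M G)))) := by
    intro h
    have := idl_add h3 h
    rw [sub_add_cancel] at this
    exact one_not_idl this
  have h5 := card_mul_omega (M := M) (G := G) η
  have hηd : (η : L → ℂ) 1 = (charDegree (η : L → ℂ) : ℂ) := (charDegree_cast_irr η).symm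
  have h6 : dsum M L (η : L → ℂ) = (L.index : ℂ) * omega (η : L → ℂ) (resH L (eB (principalBlock M G))) * (charDegree (η : L → ℂ) : ℂ) := by
    rw [h5, ← hηd, div_mul_cancel₀ _ η.2.one_ne_zero]
  have hLi : ¬ p ∣ L.index := fun h => hPi (h.trans (Subgroup.index_dvd_of_le hPL))
  have h7 : ¬ MemLocalIdeal M (dsum M L (η : L → ℂ)) := by
    rw [h6]
    intro h
    rw [idl_mul_iff (loc_mul (loc_natCast _) (loc_omega η.2 (resH_center hc) (locA_resH hl))) (loc_natCast _)] at h
    rcases h with h | h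
    · rw [idl_mul_iff (loc_natCast _) (loc_omega η.2 (resH_center hc) (locA_resH hl))] at h
      rcases h with h | h
      · exact hLi ((idl_natCast_iff hM _).1 h)
      · exact h4 h
    · exact hdeg ((idl_natCast_iff hM _).1 h)
  by_contra hcon
  push Not at hcon
  apply h7
  rw [dsum]
  apply idl_sum
  intro χ _
  split_ifs with hχ
  · by_cases hd : p ∣ charDegree (χ : G → ℂ)
    · rw [← charDegree_cast_irr]
      obtain ⟨m, hm⟩ := η.2.isCharacter.classInner_nat (χ.2.isCharacter.restrict L)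
      rw [hm]
      exact idl_mul_right ((idl_natCast_iff hM _).2 hd) (loc_natCast _)
    · have h8 := hcon χ hχ hd
      rw [← conj_classInner, h8, map_zero, mul_zero]
      exact idl_zero
  · exact idl_zero

theorem aux (N : Subgroup G) [N.Normal] (p : ℕ) [Fact p.Prime] (M : Ideal Cfsg.AlgInt) (hM : Cfsg.IsPModular p M) (P : Sylow p G)
    (θ : Cfsg.IrrCharacter N) (hθ : θ ∈ Cfsg.principalBlock M N) (hdeg : ¬ p ∣ Cfsg.charDegree (θ : N → ℂ))
    (H : Subgroup G) (hH : H = N ⊔ (P : Subgroup G)) (hNH : N ≤ H) (η : Cfsg.IrrCharacter H)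
    (hη : ∀ n : N, (η : H → ℂ) (Subgroup.inclusion hNH n) = (θ : N → ℂ) n) [Fintype N] :
    ∃ χ : Cfsg.IrrCharacter G, χ ∈ Cfsg.principalBlock M G ∧ ¬ p ∣ Cfsg.charDegree (χ : G → ℂ) ∧
      Cfsg.classInner (fun n : N => (χ : G → ℂ) n) (θ : N → ℂ) ≠ 0 := by
  classical
  have hpp : p.Prime := Fact.out
  have := isPrime hM
  have hPH : (P : Subgroup G) ≤ H := by rw [hH]; exact le_sup_right
  have hPi : ¬ p ∣ (P : Subgroup G).index := P.not_dvd_index
  obtain ⟨L, hL⟩ : ∃ L : Subgroup G, L = H ⊔ Subgroup.centralizer ((P : Subgroup G) : Set G) := ⟨_, rfl⟩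
  have hHL : H ≤ L := by rw [hL]; exact le_sup_left
  have hCL : Subgroup.centralizer ((P : Subgroup G) : Set G) ≤ L := by rw [hL]; exact le_sup_right
  -- step 2: `η` lies in the principal block
  have hηB : η ∈ principalBlock M H := by
    have hn : (N.subgroupOf H).Normal := inferInstance
    have := Fintype.ofFinite (N.subgroupOf H)
    let e₂ : N.subgroupOf H ≃* N := Subgroup.subgroupOfEquivOfLe hNH
    have hθ₂ : cmp e₂ θ ∈ principalBlock M (N.subgroupOf H) := cmp_mem_principal e₂ hθ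
    apply mem_principal_of_below hM (N := N.subgroupOf H) ?_ hθ₂ ?_
    · intro h hh
      rw [Subgroup.mem_subgroupOf]
      have hmem : (h : G) ∈ N ⊔ (P : Subgroup G) := by rw [← hH]; exact h.2
      obtain ⟨n, hn, x, hx, hnx⟩ := Subgroup.mem_sup_of_normal_left.1 hmem
      rw [← QuotientGroup.eq_one_iff]
      have h1 : ((h : G) : G ⧸ N) = (x : G ⧸ N) := by
        rw [← hnx, QuotientGroup.mk_mul, (QuotientGroup.eq_one_iff n).2 hn, one_mul]
      obtain ⟨k, hk⟩ := IsPGroup.iff_orderOf.1 P.isPGroup' ⟨x, hx⟩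
      rw [Subgroup.orderOf_mk] at hk
      have h2 : orderOf ((h : G) : G ⧸ N) ∣ p ^ k := by
        rw [h1, ← hk]; exact orderOf_map_dvd (QuotientGroup.mk' N) x
      have h3 : orderOf ((h : G) : G ⧸ N) ∣ orderOf h := by
        have := orderOf_map_dvd (QuotientGroup.mk' N) (h : G)
        rwa [Subgroup.orderOf_coe] at this
      have h4 : Nat.Coprime (p ^ k) (orderOf h) := Nat.Coprime.pow_left k ((Nat.Prime.coprime_iff_not_dvd hpp).2 hh)
      exact orderOf_eq_one_iff.1 (Nat.eq_one_of_dvd_coprimes h4 h2 h3)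
    · have h1 : (fun x : N.subgroupOf H => (η : H → ℂ) x) = (cmp e₂ θ : N.subgroupOf H → ℂ) := by
        funext x
        rw [cmp_apply, ← hη]
        rfl
      rw [h1, (cmp e₂ θ).2.classInner_self]
      exact one_ne_zero
  -- step 3: the extension to `L`
  have hnorm : L ≤ Subgroup.normalizer (H : Set G) := by
    rw [hL, sup_le_iff]
    refine ⟨Subgroup.le_normalizer, ?_⟩
    intro c hc
    rw [Subgroup.mem_normalizer_iff]
    intro x
    have key : ∀ c ∈ Subgroup.centralizer ((P : Subgroup G) : Set G), ∀ x ∈ H, c * x * c⁻¹ ∈ H := by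
      intro c hc x hx
      have hx' : x ∈ N ⊔ (P : Subgroup G) := by rw [← hH]; exact hx
      obtain ⟨n, hn, y, hy, rfl⟩ := Subgroup.mem_sup_of_normal_left.1 hx'
      have e : c * (n * y) * c⁻¹ = (c * n * c⁻¹) * (c * y * c⁻¹) := by group
      rw [e]
      have h1 : c * y * c⁻¹ = y := by
        have := Subgroup.mem_centralizer_iff.1 hc y hy
        rw [← this, mul_inv_cancel_right]
      rw [h1]
      exact H.mul_mem (hNH (Subgroup.Normal.conj_mem inferInstance n hn c)) (hPH hy)
    constructor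
    · exact key c hc x
    · intro h
      have := key c⁻¹ (inv_mem hc) _ h
      have e : c⁻¹ * (c * x * c⁻¹) * c⁻¹⁻¹ = x := by group
      rwa [e] at this
  have hHn : (H.subgroupOf L).Normal := by
    rw [Subgroup.normal_subgroupOf_iff_le_normalizer hHL]
    exact hnorm
  let e₃ : H.subgroupOf L ≃* H := Subgroup.subgroupOfEquivOfLe hHL
  have hη₃ : cmp e₃ η ∈ principalBlock M (H.subgroupOf L) := cmp_mem_principal e₃ hηB
  have hP3 : (P : Subgroup G).subgroupOf L ≤ H.subgroupOf L := Subgroup.comap_mono hPH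
  have hPi3 : ¬ p ∣ ((P : Subgroup G).subgroupOf L).index := fun h =>
    hPi (h.trans (Subgroup.relIndex_dvd_index_of_le (hPH.trans hHL)))
  have hsup3 : H.subgroupOf L ⊔ Subgroup.centralizer (((P : Subgroup G).subgroupOf L : Subgroup L) : Set L) = ⊤ := by
    rw [eq_top_iff]
    have h1 : (H ⊔ Subgroup.centralizer ((P : Subgroup G) : Set G)).subgroupOf L =
        H.subgroupOf L ⊔ (Subgroup.centralizer ((P : Subgroup G) : Set G)).subgroupOf L := Subgroup.subgroupOf_sup hHL hCL
    rw [← hL, Subgroup.subgroupOf_self] at h1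
    rw [h1]
    apply sup_le_sup_left
    intro x hx
    rw [Subgroup.mem_subgroupOf] at hx
    rw [Subgroup.mem_centralizer_iff]
    intro y hy
    exact Subtype.ext (Subgroup.mem_centralizer_iff.1 hx y (Subgroup.mem_subgroupOf.1 hy))
  obtain ⟨ηL, ⟨hηLB, hηL⟩, -⟩ := existsUnique_ext hM hP3 hPi3 hsup3 hη₃
  have := Fintype.ofFinite L
  have hηN : ∀ n : N, (ηL : L → ℂ) ⟨n, hHL (hNH n.2)⟩ = (θ : N → ℂ) n := by
    intro n
    have h1 := hηL ⟨⟨n, hHL (hNH n.2)⟩, hNH n.2⟩
    have h2 : (cmp e₃ η : H.subgroupOf L → ℂ) ⟨⟨n, hHL (hNH n.2)⟩, hNH n.2⟩ = (θ : N → ℂ) n := hη n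
    rw [← h2, ← h1]
  have hdegL : ¬ p ∣ charDegree (ηL : L → ℂ) := by
    have h1 : charDegree (ηL : L → ℂ) = charDegree (θ : N → ℂ) := by
      have h2 := hηN 1
      have h3 : (⟨((1 : N) : G), hHL (hNH (1 : N).2)⟩ : L) = 1 := rfl
      rw [h3] at h2
      rw [charDegree, charDegree, h2]
    rw [h1]; exact hdeg
  obtain ⟨χ, hχB, hχd, hχL⟩ := exists_above_principal hM P.isPGroup' hPi (hPH.trans hHL) hCL hηLB hdegL
  refine ⟨χ, hχB, hχd, ?_⟩
  obtain ⟨b, hb, hbe⟩ := Clifford.degree_le_of_constituent (χ.2.isCharacter.restrict L) ηL.2 hχL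
  let ι : N →* L := Subgroup.inclusion (hNH.trans hHL)
  have hbN : IsCharacter N (fun n => b (ι n)) := hb.comp ι
  have h1 : (fun n : N => (χ : G → ℂ) n) = (θ : N → ℂ) + fun n => b (ι n) := by
    funext n
    have h2 := congrFun hbe (ι n)
    rw [Pi.add_apply] at h2 ⊢
    rw [← hηN n]
    exact h2
  rw [h1, classInner_add_left, θ.2.classInner_self]
  obtain ⟨m, hm⟩ := hbN.classInner_nat θ.2.isCharacter
  rw [hm]
  have : ((1 + m : ℕ) : ℂ) ≠ 0 := by
    rw [Nat.cast_ne_zero]; omega
  push_cast at this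
  exact this

/-- Let N be a normal subgroup of the finite group G, p a prime, M a maximal ideal of the algebraic integers containing p, and P a Sylow p-subgroup of G. Let θ be an irreducible character of N of degree prime to p lying in the principal p-block of N, and suppose θ extends to the subgroup NP (some irreducible character of NP restricts to θ). Then some irreducible character χ of G of degree prime to p in the principal p-block of G lies over θ (θ is a constituent of the restriction of χ to N). -/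
theorem result {G : Type*} [Group G] [Finite G] (N : Subgroup G) [N.Normal] (p : ℕ) [Fact p.Prime] (M : Ideal Cfsg.AlgInt) (hM : Cfsg.IsPModular p M) (P : Sylow p G)
    (θ : Cfsg.IrrCharacter N) (hθ : θ ∈ Cfsg.principalBlock M N) (hdeg : ¬ p ∣ Cfsg.charDegree (θ : N → ℂ))
    (hext : ∃ η : Cfsg.IrrCharacter ↥(N ⊔ (P : Subgroup G)), ∀ n : N, (η : ↥(N ⊔ (P : Subgroup G)) → ℂ) (Subgroup.inclusion le_sup_left n) = (θ : N → ℂ) n) :
    ∃ χ : Cfsg.IrrCharacter G, χ ∈ Cfsg.principalBlock M G ∧ ¬ p ∣ Cfsg.charDegree (χ : G → ℂ) ∧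
      haveI := Fintype.ofFinite N; Cfsg.classInner (fun n : N => (χ : G → ℂ) n) (θ : N → ℂ) ≠ 0 := by
  obtain ⟨η, hη⟩ := hext
  have := Fintype.ofFinite N
  obtain ⟨χ, h1, h2, h3⟩ := aux N p M hM P θ hθ hdeg _ rfl le_sup_left η hη
  refine ⟨χ, h1, h2, ?_⟩
  convert h3

end Cfsg.Agent.S4583
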