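import Cfsg.Statements.S4588
import Cfsg.Agent.Lib.K0Main

set_option autoImplicit false
open Cfsg

namespace Cfsg.Agent.S4588

open Cfsg.Agent.Lib.Subsec

universe u

variable {G : Type u} [Group G] [Finite G] {p : ℕ} {M : Ideal AlgInt}

theorem burnside_case (hM : IsPModular p M) {x : G} {k : ℕ} (hx : orderOf x = p ^ k) [hpf : Fact p.Prime]
    (S : Sylow p (Cz x)) (hS : Subgroup.normalizer ((S : Subgroup (Cz x)) : Set (Cz x)) ≤
      Subgroup.centralizer ((S : Subgroup (Cz x)) : Set (Cz x)))
    (hc : (Nat.card (Cz x)).factorization p ≤ 2) :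
    Nat.card {χ : IrrCharacter G // χ ∈ principalBlock M G ∧ ¬ p ∣ charDegree (χ : G → ℂ)} ≤ p ^ 2 := by
  have h1 := MonoidHom.ker_transferSylow_isComplement' S hS
  have h2 := MonoidHom.not_dvd_card_ker_transferSylow S hS
  have h3 : (MonoidHom.transferSylow S hS).ker.index = p ^ (Nat.card (Cz x)).factorization p := by
    rw [h1.symm.index_eq_card, ← S.card_eq_multiplicity]
  exact Lib.K0Main.nil_case hM hx (N := (MonoidHom.transferSylow S hS).ker) h2 h3 hc

theorem le_center_sylow [hpf : Fact p.Prime] {H : Type u} [Group H] [Finite H] (S : Sylow p H) {z : H}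
    (hz : ∀ h : H, z * h = h * z) {k : ℕ} (hk : orderOf z = p ^ k) : z ∈ (S : Subgroup H) := by
  have h1 : IsPGroup p (Subgroup.zpowers z) := IsPGroup.of_card (by rw [Nat.card_zpowers, hk])
  have h2 : Subgroup.zpowers z ≤ Subgroup.normalizer ((S : Subgroup H) : Set H) := by
    rw [Subgroup.zpowers_le]
    apply Subgroup.centralizer_le_normalizer
    rw [Subgroup.mem_centralizer_iff]
    intro h _
    exact (hz h).symm
  have h3 := h1.to_sup_of_normal_right' S.2 h2
  have h4 := S.3 h3 le_sup_right
  rw [← h4]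
  exact (le_sup_left : _ ≤ Subgroup.zpowers z ⊔ (S : Subgroup H)) (Subgroup.mem_zpowers z)

theorem mem_sylow_of_normalizes [hpf : Fact p.Prime] {H : Type u} [Group H] [Finite H] (S : Sylow p H) {u : H}
    (hu : u ∈ Subgroup.normalizer ((S : Subgroup H) : Set H)) {k : ℕ} (hk : orderOf u = p ^ k) :
    u ∈ (S : Subgroup H) := by
  have h1 : IsPGroup p (Subgroup.zpowers u) := IsPGroup.of_card (by rw [Nat.card_zpowers, hk])
  have h2 : Subgroup.zpowers u ≤ Subgroup.normalizer ((S : Subgroup H) : Set H) := by
    rw [Subgroup.zpowers_le]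
    exact hu
  have h3 := h1.to_sup_of_normal_right' S.2 h2
  have h4 := S.3 h3 le_sup_right
  rw [← h4]
  exact (le_sup_left : _ ≤ Subgroup.zpowers u ⊔ (S : Subgroup H)) (Subgroup.mem_zpowers u)

/-- a Sylow `2`-subgroup of order four containing a central involution is centralized by its normalizer -/
theorem normalizer_le_of_four {H : Type u} [Group H] [Finite H] (S : Sylow 2 H) (hS : Nat.card S = 4) {z : H}
    (hz : ∀ h : H, z * h = h * z) (hz2 : orderOf z = 2) :
    Subgroup.normalizer ((S : Subgroup H) : Set H) ≤ Subgroup.centralizer ((S : Subgroup H) : Set H) := by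
  classical
  haveI : Fact (Nat.Prime 2) := ⟨Nat.prime_two⟩
  have hzS : z ∈ (S : Subgroup H) := le_center_sylow S hz (k := 1) (by rw [hz2, pow_one])
  have hz1 : z ≠ 1 := by rintro rfl; rw [orderOf_one] at hz2; omega
  have hzz : z * z = 1 := by rw [← pow_two, ← hz2, pow_orderOf_eq_one]
  -- commutative
  have hcomm : ∀ a ∈ (S : Subgroup H), ∀ b ∈ (S : Subgroup H), a * b = b * a := by
    have h1 : ∀ a b : S, a * b = b * a := by
      haveI : Fact (Nat.Prime 2) := ⟨Nat.prime_two⟩
      have := IsPGroup.commutative_of_card_eq_prime_sq (p := 2) (G := S) (by rw [hS]; norm_num)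
      exact this
    intro a ha b hb
    exact congrArg Subtype.val (h1 ⟨a, ha⟩ ⟨b, hb⟩)
  -- the quotient by z has order two
  have hcos : ∀ s ∈ (S : Subgroup H), ∀ t ∈ (S : Subgroup H), s ≠ 1 → s ≠ z → t ≠ 1 → t ≠ z → t = s ∨ t = z * s := by
    intro s hs t ht hs1 hsz ht1 htz
    by_contra hcon
    push Not at hcon
    have hsub : ({1, z, s, z * s, t} : Finset H) ⊆ (Set.toFinite ((S : Subgroup H) : Set H)).toFinset := by
      intro a ha
      simp only [Finset.mem_insert, Finset.mem_singleton] at ha
      rw [Set.Finite.mem_toFinset]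
      rcases ha with rfl | rfl | rfl | rfl | rfl
      · exact (S : Subgroup H).one_mem
      · exact hzS
      · exact hs
      · exact (S : Subgroup H).mul_mem hzS hs
      · exact ht
    have hc := Finset.card_le_card hsub
    have h4 : (Set.toFinite ((S : Subgroup H) : Set H)).toFinset.card = 4 := by
      rw [← Set.ncard_eq_toFinset_card, ← hS]
      rfl
    rw [h4] at hc
    have hzs1 : z * s ≠ 1 := by
      intro h
      apply hsz
      have : s = z * (z * s) := by rw [← mul_assoc, hzz, one_mul]
      rw [this, h, mul_one]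
    have hzsz : z * s ≠ z := by
      intro h
      exact hs1 (mul_eq_left.1 h)
    have hzss : z * s ≠ s := by
      intro h
      exact hz1 (mul_eq_right.1 h)
    have h5 : ({1, z, s, z * s, t} : Finset H).card = 5 := by
      rw [Finset.card_insert_of_notMem, Finset.card_insert_of_notMem, Finset.card_insert_of_notMem,
        Finset.card_insert_of_notMem, Finset.card_singleton]
      · simp only [Finset.mem_singleton]; exact fun h => hcon.2 h.symm
      · simp only [Finset.mem_insert, Finset.mem_singleton, not_or]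
        exact ⟨fun h => hzss h.symm, fun h => hcon.1 h.symm⟩
      · simp only [Finset.mem_insert, Finset.mem_singleton, not_or]
        exact ⟨fun h => hsz h.symm, fun h => hzsz h.symm, fun h => htz h.symm⟩
      · simp only [Finset.mem_insert, Finset.mem_singleton, not_or]
        exact ⟨fun h => hz1 h.symm, fun h => hs1 h.symm, fun h => hzs1 h.symm, fun h => ht1 h.symm⟩
    omega
  intro n hn
  have hnS : ∀ s ∈ (S : Subgroup H), n * s * n⁻¹ ∈ (S : Subgroup H) := by
    intro s hs
    exact (Subgroup.mem_normalizer_iff.1 hn s).1 hs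
  -- `n²` centralizes `S`
  have hn2 : n ^ 2 ∈ Subgroup.centralizer ((S : Subgroup H) : Set H) := by
    rw [Subgroup.mem_centralizer_iff]
    intro s hs
    have hs' : s ∈ (S : Subgroup H) := hs
    have key : n * (n * s * n⁻¹) * n⁻¹ = s := by
      have hnz : n * z * n⁻¹ = z := by rw [← hz n, mul_inv_cancel_right]
      by_cases hs1 : s = 1
      · subst hs1; group
      by_cases hsz : s = z
      · subst hsz; rw [hnz, hnz]
      have hm1 : n * s * n⁻¹ ≠ 1 := by
        intro h
        exact hs1 (conj_eq_one_iff.1 h)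
      have hmz : n * s * n⁻¹ ≠ z := by
        intro h
        apply hsz
        have h7 : s = n⁻¹ * (n * s * n⁻¹) * n := by group
        rw [h7, h, mul_assoc n⁻¹ z n, hz n, ← mul_assoc, inv_mul_cancel, one_mul]
      rcases hcos s hs' _ (hnS s hs') hs1 hsz hm1 hmz with h | h
      · rw [h, h]
      · rw [h]
        have h2 : n * (z * s) * n⁻¹ = (n * z * n⁻¹) * (n * s * n⁻¹) := by group
        rw [h2, hnz, h, ← mul_assoc, hzz, one_mul]
    have h3 : n ^ 2 * s * (n ^ 2)⁻¹ = s := by
      have h8 : n ^ 2 * s * (n ^ 2)⁻¹ = n * (n * s * n⁻¹) * n⁻¹ := by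
        rw [pow_two, mul_inv_rev]
        simp only [mul_assoc]
      rw [h8, key]
    rw [mul_inv_eq_iff_eq_mul] at h3
    exact h3.symm
  -- an odd power of `n` lies in `S`
  obtain ⟨a, m, hm, hnm⟩ := Nat.exists_eq_two_pow_mul_odd (orderOf_pos n).ne'
  have hnm' : orderOf (n ^ m) = 2 ^ a := by
    rw [orderOf_pow_of_dvd (Odd.pos hm).ne' (by rw [hnm]; exact dvd_mul_left _ _), hnm,
      Nat.mul_div_cancel _ (Odd.pos hm)]
  have hnmS : n ^ m ∈ (S : Subgroup H) :=
    mem_sylow_of_normalizes S (Subgroup.pow_mem _ hn m) hnm'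
  have hnmC : n ^ m ∈ Subgroup.centralizer ((S : Subgroup H) : Set H) := by
    rw [Subgroup.mem_centralizer_iff]
    intro s hs
    exact hcomm s hs _ hnmS
  obtain ⟨t, ht⟩ := hm
  have h6 : n = n ^ m * ((n ^ 2) ^ t)⁻¹ := by
    rw [ht, ← pow_mul, pow_succ, eq_mul_inv_iff_mul_eq]
    rw [← pow_succ', pow_succ]
  rw [h6]
  exact Subgroup.mul_mem _ hnmC (Subgroup.inv_mem _ (Subgroup.pow_mem _ hn2 t))

theorem main_aux (hM : IsPModular p M) [hpf : Fact p.Prime] {x : G} {k : ℕ} (hx : orderOf x = p ^ k) (hk : 0 < k)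
    (hc : (Nat.card (Cz x)).factorization p ≤ 2) :
    Nat.card {χ : IrrCharacter G // χ ∈ principalBlock M G ∧ ¬ p ∣ charDegree (χ : G → ℂ)} ≤ p ^ 2 := by
  have hp := hM.1
  have hzz : ∀ h : Cz x, zz x * h = h * zz x := fun h => Subtype.ext (mem_Cz.1 h.2).eq
  have hord : orderOf (zz x) = p ^ k := by
    rw [← hx]
    exact (Subgroup.orderOf_coe (zz x)).symm
  have hkv : k ≤ (Nat.card (Cz x)).factorization p := by
    rw [← hp.pow_dvd_iff_le_factorization Nat.card_pos.ne', ← hord]
    exact orderOf_dvd_natCard _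
  let S : Sylow p (Cz x) := default
  have hzS := le_center_sylow S hzz hord
  by_cases hkv' : k = (Nat.card (Cz x)).factorization p
  · -- the Sylow subgroup is central
    apply burnside_case hM hx S _ hc
    have h1 : Subgroup.zpowers (zz x) = (S : Subgroup (Cz x)) := by
      apply Subgroup.eq_of_le_of_card_ge
      · rw [Subgroup.zpowers_le]; exact hzS
      · rw [Nat.card_zpowers, hord, hkv']
        exact (S.card_eq_multiplicity).le
    intro n _
    rw [← h1, Subgroup.mem_centralizer_iff]
    rintro a ⟨i, rfl⟩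
    exact ((show Commute (zz x) n from hzz n).zpow_left i).eq
  · have hk1 : k = 1 := by omega
    have hv2 : (Nat.card (Cz x)).factorization p = 2 := by omega
    subst hk1
    by_cases h2 : p = 2
    · subst h2
      apply burnside_case hM hx S _ hc
      refine normalizer_le_of_four S ?_ hzz (by rw [hord, pow_one])
      have := S.card_eq_multiplicity
      rw [hv2] at this
      exact this
    · rw [pow_one] at hx
      exact Lib.K0Main.main_case hM h2 hx hv2

/-- Let G be a finite group, p a prime and M a maximal ideal of the algebraic integers containing p. If some p-element x of G (possibly x = 1) has centralizer whose order has p-part at most p², then the principal p-block of G contains at most p² irreducible characters of degree prime to p. -/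
theorem result {G : Type*} [Group G] [Finite G] (p : ℕ) [Fact p.Prime] (M : Ideal Cfsg.AlgInt) (hM : Cfsg.IsPModular p M)
    (hx : ∃ x : G, (∃ k : ℕ, orderOf x = p ^ k) ∧ (Nat.card (Subgroup.centralizer ({x} : Set G))).factorization p ≤ 2) :
    Nat.card {χ : Cfsg.IrrCharacter G // χ ∈ Cfsg.principalBlock M G ∧ ¬ p ∣ Cfsg.charDegree (χ : G → ℂ)} ≤ p ^ 2 := by
  obtain ⟨x, ⟨k, hk⟩, hc⟩ := hx
  rcases Nat.eq_zero_or_pos k with rfl | hk0
  · rw [pow_zero, orderOf_eq_one_iff] at hk
    subst hk
    have htop : Subgroup.centralizer ({(1 : G)} : Set G) = ⊤ := by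
      rw [eq_top_iff]
      intro g _
      rw [Subgroup.mem_centralizer_singleton_iff, mul_one, one_mul]
    have hcard : Nat.card (Subgroup.centralizer ({(1 : G)} : Set G)) = Nat.card G := by
      rw [htop]; exact Subgroup.card_top
    by_cases hp : p ∣ Nat.card G
    · obtain ⟨u, hu⟩ := exists_prime_orderOf_dvd_card' p hp
      refine main_aux hM (x := u) (k := 1) (by rw [hu, pow_one]) one_pos ?_
      rw [hcard] at hc
      refine le_trans ?_ hc
      exact (Nat.factorization_le_iff_dvd Nat.card_pos.ne' Nat.card_pos.ne').2 (Subgroup.card_subgroup_dvd_card _) p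
    · refine Lib.K0Main.nil_case hM (x := (1 : G)) (k := 0) (by rw [orderOf_one, pow_zero]) (N := ⊤) ?_ (m := 0) ?_
        (by omega)
      · intro h
        apply hp
        rw [← hcard]
        have h2 : Nat.card (⊤ : Subgroup (Cz (1 : G))) = Nat.card (Cz (1 : G)) := Subgroup.card_top
        rwa [h2] at h
      · rw [Subgroup.index_top, pow_zero]
  · exact main_aux hM hk hk0 hc

end Cfsg.Agent.S4588
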