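import Cfsg.Statements.S4608
import Cfsg.Agent.Lib.H76Loc3
import Cfsg.Agent.Lib.H76GS10
import Cfsg.Agent.Lib.H76Par
import Cfsg.Agent.Lib.AbFree3
import Cfsg.Agent.Lib.BlockDefect

set_option autoImplicit false
open Cfsg

namespace Cfsg.Agent.S4608

open Cfsg.Agent.Lib Cfsg.Agent.Lib.H76Alg Cfsg.Agent.Lib.H76BDim Cfsg.Agent.Lib.BlockAlg
open Cfsg.Agent.Lib.BlockRing Cfsg.Agent.Lib.AbCount Cfsg.Agent.Lib.H76Nil

/-- Let G be a finite group, p a prime, M a maximal ideal of the algebraic integers containing p, and B a p-block of G with defect group D. If B has p-regular rank one and exactly five irreducible characters, then D is cyclic of order 5, or D has order 8 and is non-abelian (dihedral or quaternion). -/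
theorem result {G : Type*} [Group G] [Finite G] (p : ℕ) [Fact p.Prime] (M : Ideal Cfsg.AlgInt) (hM : Cfsg.IsPModular p M) (B : Set (Cfsg.IrrCharacter G)) (hB : Cfsg.IsPBlock M B) (D : Subgroup G) (hD : Cfsg.IsDefectGroup p M B D)
    (hl : Cfsg.blockRank p B = 1) (hk : Nat.card B = 5) :
    (Nat.card D = 5) ∨ (Nat.card D = 8 ∧ ¬ IsMulCommutative D) := by
  classical
  have := hM.2.1
  have := charP_Kf hM
  have hpp : p.Prime := Fact.out
  have hcard : 5 ≤ Nat.card D ∧ Nat.card D ≤ 8 := by
    obtain ⟨k, _, _, _, R, _, _, _, _, N, lamR, hN, hS, hT, hR⟩ := local_data hB hM hl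
    have h1 := H76GS.finrank_le_eight hN hS (by rw [hT, hk])
    have h2 : Module.finrank k (Tr k R) ≤ Module.finrank k R := by
      have h3 := Submodule.finrank_le (Tr k R)
      rwa [Subspace.dual_finrank_eq] at h3
    rw [BlockDefect.defectGroup_card hM hB hD, ← hR]
    rw [hT, hk] at h2
    exact ⟨h2, h1⟩
  obtain ⟨n, hn⟩ := (IsPGroup.iff_card (p := p) (G := D)).1 (BlockDefect.defectGroup_isPGroup hD)
  have hcases : Nat.card D = 5 ∨ (p = 7 ∧ Nat.card D = 7) ∨ (p = 2 ∧ Nat.card D = 8) := by
    have hp2 := hpp.two_le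
    have hp8 : p ≤ 8 := by
      have : n ≠ 0 := by
        rintro rfl
        rw [pow_zero] at hn
        omega
      exact (Nat.le_self_pow this p).trans (by rw [← hn]; exact hcard.2)
    have hn3 : n ≤ 3 := by
      by_contra hcon
      have h1 : 2 ^ 4 ≤ p ^ n := (Nat.pow_le_pow_left hp2 4).trans (Nat.pow_le_pow_right hpp.pos (by omega))
      omega
    rw [hn] at hcard ⊢
    interval_cases p <;> interval_cases n <;> simp_all (config := { decide := true })
  rcases hcases with h5 | ⟨rfl, h7⟩ | ⟨rfl, h8⟩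
  · exact Or.inl h5
  · exfalso
    have hcyc : IsCyclic D := isCyclic_of_prime_card (p := 7) h7
    have hab' : ∀ x ∈ D, ∀ y ∈ D, x * y = y * x := by
      intro x hx y hy
      exact congrArg Subtype.val ((IsCyclic.isMulCommutative (α := D)).is_comm.comm ⟨x, hx⟩ ⟨y, hy⟩)
    obtain ⟨c, hc⟩ := exists_abMax hB hD hab'
    have hne : D ≠ ⊥ := by
      rintro rfl
      rw [Subgroup.card_bot] at h7
      omega
    obtain ⟨m, hm1, hm2, hm3, -⟩ := AbSec.free_main hM (P := D) (c := c) ⟨hc, hne, by
      intro t ht x hx hx1 htx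
      -- `x` generates
      have h9 : Subgroup.zpowers (⟨x, hx⟩ : D) = ⊤ := by
        have := Fact.mk (show Nat.Prime 7 by norm_num)
        exact zpowers_eq_top_of_prime_card h7 (fun h => hx1 (congrArg Subtype.val h))
      show t ∈ Subgroup.centralizer (D : Set G)
      rw [Subgroup.mem_centralizer_iff]
      intro y hy
      have h10 : (⟨y, hy⟩ : D) ∈ Subgroup.zpowers (⟨x, hx⟩ : D) := by rw [h9]; trivial
      obtain ⟨i, hi⟩ := Subgroup.mem_zpowers_iff.1 h10
      have hi' : x ^ i = y := by
        have := congrArg (fun z : D => (z : G)) hi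
        simpa using this
      have h11 : Commute x t := by
        show x * t = t * x
        calc x * t = (t * x * t⁻¹) * t := by rw [htx]
          _ = t * x := by group
      rw [← hi']
      exact (h11.zpow_left i).eq⟩
    rw [hk, hl] at hm3
    have : m = 4 := by omega
    subst this
    rw [h7] at hm2
    omega
  · refine Or.inr ⟨h8, ?_⟩
    intro hcomm
    have hab' : ∀ x ∈ D, ∀ y ∈ D, x * y = y * x := by
      intro x hx y hy
      exact congrArg Subtype.val (hcomm.is_comm.comm (⟨x, hx⟩ : D) ⟨y, hy⟩)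
    obtain ⟨c, hc⟩ := exists_abMax hB hD hab'
    have h1 := H76Par.parity hM hc h8.le (by rw [hl]; decide)
    rw [hk, h8] at h1
    omega

end Cfsg.Agent.S4608
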