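import Cfsg.Statements.S4745
import Cfsg.Agent.Lib.InvertSylow
import Cfsg.Agent.Lib.DefectZeroCount
import Cfsg.Agent.Lib.CoprimeGen
import Cfsg.Agent.Lib.HallConverse
import Cfsg.Agent.Lib.Fitting
import Cfsg.Agent.S4743
import Cfsg.Agent.S0205

set_option autoImplicit false
open Cfsg

namespace Cfsg.Agent.S4745

set_option linter.all false

open Cfsg.Agent.Lib.DefectZero Cfsg.Agent.Lib.InvertSylow Cfsg.Agent.Lib
open Subgroup

universe u v

section aux

/-- number of fixed points of an involution -/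
theorem card_modEq_two {α : Type*} [Finite α] (f : α → α) (hf : ∀ x, f (f x) = x) :
    Nat.card α ≡ Nat.card {x // f x = x} [MOD 2] := by
  classical
  haveI := Fintype.ofFinite α
  have h := Equiv.Perm.card_fixedPoints_modEq (f := (f : Function.End α)) (p := 2) (n := 1) (by
    funext x
    exact hf x)
  rw [Nat.card_eq_fintype_card, Nat.card_eq_fintype_card]
  convert h using 2
  rfl

/-- a solvable group with abelian Sylow `p`-subgroup `P` is `O_{p'} N(P)` -/
theorem exists_mul_of_abelian {X : Type u} [Group X] [Finite X] [Group.IsSolvable X] (p : ℕ) [Fact p.Prime]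
    (P : Sylow p X) (hP : IsMulCommutative P) (x : X) :
    ∃ k ∈ pPrimeCore p X, ∃ n ∈ normalizer ((P : Subgroup X) : Set X), k * n = x := by
  haveI := Fitting.normal_pPrimeCore p (G := X)
  have h1 : ((P : Subgroup X) ⊔ pPrimeCore p X).Normal :=
    Fitting.sylow_sup_pPrimeCore_normal p P hP
      (Fitting.centralizer_pCore_le_of_solvable p (Fitting.pPrimeCore_quotient_pPrimeCore p))
  have h2 := Sylow.normalizer_sup_eq_top' P (N := (P : Subgroup X) ⊔ pPrimeCore p X) le_sup_left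
  have h3 : pPrimeCore p X ⊔ normalizer ((P : Subgroup X) : Set X) = ⊤ := by
    rw [eq_top_iff, ← h2]
    refine sup_le le_sup_right (sup_le (le_trans le_normalizer le_sup_right) le_sup_left)
  have h4 : x ∈ pPrimeCore p X ⊔ normalizer ((P : Subgroup X) : Set X) := by rw [h3]; trivial
  exact Subgroup.mem_sup_of_normal_left.1 h4

/-- The situation of the statement when there is no character of `p`-defect zero. -/
structure Dat (p : ℕ) (G : Type u) (Ω : Type v) [Group G] [Finite G] [MulAction G Ω] : Prop where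
  hp : p.Prime
  hp2 : p ≠ 2
  hC : ∀ g : G, g ≠ 1 → (∃ k : ℕ, orderOf g = p ^ k) → Odd (Nat.card ↥(centralizer ({g} : Set G)))
  hno : ¬ ∃ χ : Cfsg.IrrCharacter G,
    (Cfsg.charDegree (χ : G → ℂ)).factorization p = (Nat.card G).factorization p
  tr : ∀ (P : Sylow p G) (α β : Ω), ∃ x ∈ P, x • α = β
  faith : ∀ g : G, (∀ α : Ω, g • α = α) → g = 1
  inv : ∃ t : G, orderOf t = 2
  cardΩ : ∃ r : ℕ, Nat.card Ω = p ^ r

variable {p : ℕ} {G : Type u} {Ω : Type v} [Group G] [Finite G] [MulAction G Ω]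

theorem sq_of_order {v : G} (hv : orderOf v = 2) : v * v = 1 := by
  have := pow_orderOf_eq_one v
  rwa [hv, sq] at this

theorem inv_of_order {v : G} (hv : orderOf v = 2) : v⁻¹ = v := inv_eq_of_mul_eq_one_right (sq_of_order hv)

theorem order_of_sq {v : G} (h : v * v = 1) (h1 : v ≠ 1) : orderOf v = 2 :=
  orderOf_eq_prime (by rw [sq, h]) h1

theorem Dat.order (D : Dat p G Ω) (P : Sylow p G) {x : G} (hx : x ∈ P) : ∃ k : ℕ, orderOf x = p ^ k := by
  haveI : Fact p.Prime := ⟨D.hp⟩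
  obtain ⟨k, hk⟩ := (IsPGroup.iff_orderOf.1 P.2) ⟨x, hx⟩
  exact ⟨k, by rw [← hk, Subgroup.orderOf_mk]⟩

theorem Dat.exists_inv (D : Dat p G Ω) (P : Sylow p G) :
    ∃ g : G, orderOf g = 2 ∧ ∀ w ∈ P, g * w * g⁻¹ = w⁻¹ := by
  haveI : Fact p.Prime := ⟨D.hp⟩
  obtain ⟨t, ht⟩ := D.inv
  obtain ⟨g, hg, h⟩ := exists_conj_inverting p D.hC D.hno t ht P
  refine ⟨g, ?_, h⟩
  obtain ⟨c, hc⟩ := isConj_iff.mp hg
  rw [← hc, ← ht]
  exact orderOf_injective (MulAut.conj c).toMonoidHom (MulAut.conj c).injective t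

theorem Dat.comm (D : Dat p G Ω) (P : Sylow p G) : ∀ x ∈ P, ∀ y ∈ P, x * y = y * x := by
  obtain ⟨g, hg, h⟩ := D.exists_inv P
  intro x hx y hy
  exact congrArg Subtype.val ((isMulCommutative_iff.mp (comm_of_inverted (P := P) h)) ⟨x, hx⟩ ⟨y, hy⟩)

theorem Dat.reg (D : Dat p G Ω) (P : Sylow p G) {x : G} (hx : x ∈ P) {α : Ω} (h : x • α = α) : x = 1 := by
  apply D.faith
  intro β
  obtain ⟨y, hy, rfl⟩ := D.tr P α β
  rw [← mul_smul, D.comm P x hx y hy, mul_smul, h]

theorem Dat.self_cent (D : Dat p G Ω) [Nonempty Ω] (P : Sylow p G) {c : G} (h : ∀ x ∈ P, c * x = x * c) :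
    c ∈ P := by
  obtain ⟨α⟩ := ‹Nonempty Ω›
  obtain ⟨x, hx, hxα⟩ := D.tr P α (c • α)
  have h1 : x⁻¹ * c = 1 := by
    apply D.faith
    intro β
    obtain ⟨y, hy, rfl⟩ := D.tr P α β
    have h2 : x⁻¹ * c * y = y * (x⁻¹ * c) := by
      rw [mul_assoc, h y hy, ← mul_assoc, D.comm P x⁻¹ (inv_mem hx) y hy, mul_assoc]
    rw [← mul_smul, h2, mul_smul, mul_smul x⁻¹ c, ← hxα, inv_smul_smul]
  rw [inv_mul_eq_one] at h1
  rwa [← h1]

theorem Dat.odd_order (D : Dat p G Ω) (P : Sylow p G) {x : G} (hx : x ∈ P) : Odd (orderOf x) := by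
  obtain ⟨k, hk⟩ := D.order P hx
  rw [hk]
  exact (D.hp.odd_of_ne_two D.hp2).pow

theorem exists_sqrt {x : G} (h : Odd (orderOf x)) : ∃ k : ℕ, (x ^ k) * (x ^ k) = x := by
  obtain ⟨k, hk⟩ := h
  refine ⟨k + 1, ?_⟩
  rw [← pow_add, show k + 1 + (k + 1) = (2 * k + 1) + 1 by ring, pow_succ, ← hk, pow_orderOf_eq_one, one_mul]

theorem eq_one_of_sq {x : G} (h : Odd (orderOf x)) (h2 : x * x = 1) : x = 1 := by
  rw [← sq] at h2
  have h3 := orderOf_dvd_of_pow_eq_one h2
  have h4 : Nat.Coprime (orderOf x) 2 := Nat.Coprime.symm ((Nat.coprime_two_left).2 h)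
  have h5 := Nat.Coprime.eq_one_of_dvd h4 h3
  exact orderOf_eq_one_iff.1 h5

theorem Dat.fix_of_inverts (D : Dat p G Ω) [Nonempty Ω] (P : Sylow p G) {g : G}
    (h : ∀ w ∈ P, g * w * g⁻¹ = w⁻¹) :
    (∃ α : Ω, g • α = α) ∧ ∀ α β : Ω, g • α = α → g • β = β → α = β := by
  have hg : ∀ w ∈ P, ∀ α : Ω, g • (w • α) = w⁻¹ • (g • α) := by
    intro w hw α
    rw [← mul_smul, ← mul_smul, ← h w hw]
    simp
  constructor
  · obtain ⟨α⟩ := ‹Nonempty Ω›
    obtain ⟨x, hx, hxα⟩ := D.tr P α (g • α)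
    obtain ⟨k, hk⟩ := exists_sqrt (D.odd_order P hx)
    refine ⟨(x ^ k) • α, ?_⟩
    rw [hg _ (pow_mem hx k), ← hxα, ← mul_smul]
    congr 1
    rw [inv_mul_eq_iff_eq_mul]
    exact hk.symm
  · intro α β hα hβ
    obtain ⟨x, hx, rfl⟩ := D.tr P α β
    rw [hg x hx, hα] at hβ
    have h1 : (x * x) • α = α := by
      rw [mul_smul, ← hβ, smul_inv_smul]
    have h2 := D.reg P (mul_mem hx hx) h1
    rw [eq_one_of_sq (D.odd_order P hx) h2, one_smul]

theorem Dat.fix (D : Dat p G Ω) [Nonempty Ω] {v : G} (hv : orderOf v = 2) :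
    (∃ α : Ω, v • α = α) ∧ ∀ α β : Ω, v • α = α → v • β = β → α = β := by
  haveI : Fact p.Prime := ⟨D.hp⟩
  obtain ⟨P⟩ : Nonempty (Sylow p G) := inferInstance
  obtain ⟨g, hg, h⟩ := exists_conj_inverting p D.hC D.hno v hv P
  obtain ⟨c, rfl⟩ := isConj_iff.mp hg
  obtain ⟨⟨α, hα⟩, h2⟩ := D.fix_of_inverts P h
  constructor
  · refine ⟨c⁻¹ • α, ?_⟩
    rw [mul_smul, mul_smul] at hα
    rw [eq_inv_smul_iff]
    exact hα
  · intro α β h3 h4
    have h5 := h2 (c • α) (c • β) (by rw [← mul_smul, inv_mul_cancel_right, mul_smul, h3])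
      (by rw [← mul_smul, inv_mul_cancel_right, mul_smul, h4])
    exact smul_left_cancel c h5

/-- centralizers of nontrivial `p`-elements normalize the Sylow subgroups containing them -/
theorem Dat.cent_le (D : Dat p G Ω) (P : Sylow p G) {x : G} (hx : x ∈ P) (hx1 : x ≠ 1) {c : G}
    (hc : c ∈ centralizer ({x} : Set G)) : c ∈ normalizer ((P : Subgroup G) : Set G) := by
  haveI : Fact p.Prime := ⟨D.hp⟩
  have hodd := D.hC x hx1 (D.order P hx)
  haveI : Group.IsSolvable (centralizer ({x} : Set G)) := Cfsg.Agent.S0205.result hodd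
  have hPX : (P : Subgroup G) ≤ centralizer ({x} : Set G) := by
    intro y hy
    rw [mem_centralizer_singleton_iff]
    exact D.comm P y hy x hx
  have hab : IsMulCommutative ((P.subtype hPX : Sylow p (centralizer ({x} : Set G))) :
      Subgroup (centralizer ({x} : Set G))) := by
    refine ⟨⟨?_⟩⟩
    rintro ⟨⟨y, hy⟩, hy'⟩ ⟨⟨z, hz⟩, hz'⟩
    apply Subtype.ext
    apply Subtype.ext
    exact D.comm P y hy' z hz'
  obtain ⟨r, hr⟩ := D.cardΩ
  haveI : MulAction.IsPretransitive (centralizer ({x} : Set G)) Ω := by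
    constructor
    intro α β
    obtain ⟨y, hy, hyα⟩ := D.tr P α β
    exact ⟨⟨y, hPX hy⟩, hyα⟩
  have hbot : pPrimeCore p (centralizer ({x} : Set G)) = ⊥ := by
    haveI := Fitting.normal_pPrimeCore p (G := (centralizer ({x} : Set G)))
    rw [eq_bot_iff]
    intro k hk
    rw [Subgroup.mem_bot]
    apply Subtype.ext
    apply D.faith
    intro α
    have h1 : Set.ncard (MulAction.orbit (pPrimeCore p (centralizer ({x} : Set G))) α) ∣ Nat.card Ω :=
      MulAction.IsBlock.ncard_dvd_card (G := (centralizer ({x} : Set G)))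
        (MulAction.IsBlock.orbit_of_normal α) ⟨α, MulAction.mem_orbit_self α⟩
    have h2 : Set.ncard (MulAction.orbit (pPrimeCore p (centralizer ({x} : Set G))) α) ∣
        Nat.card (pPrimeCore p (centralizer ({x} : Set G))) := by
      rw [← MulAction.index_stabilizer]
      exact Subgroup.index_dvd_card _
    have h3 : Set.ncard (MulAction.orbit (pPrimeCore p (centralizer ({x} : Set G))) α) = 1 := by
      rw [hr] at h1
      exact Nat.Coprime.eq_one_of_dvd (Nat.Coprime.coprime_dvd_left h2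
        (Nat.Coprime.pow_right r (Fitting.coprime_card_pPrimeCore p))) h1
    obtain ⟨β, hβ⟩ := Set.ncard_eq_one.1 h3
    have h4 : α ∈ MulAction.orbit (pPrimeCore p (centralizer ({x} : Set G))) α := MulAction.mem_orbit_self α
    have h5 : (k : G) • α ∈ MulAction.orbit (pPrimeCore p (centralizer ({x} : Set G))) α := ⟨⟨k, hk⟩, rfl⟩
    rw [hβ, Set.mem_singleton_iff] at h4 h5
    rw [h5, h4]
  obtain ⟨k, hk, n, hn, hkn⟩ := exists_mul_of_abelian p (P.subtype hPX) hab ⟨c, hc⟩
  rw [hbot, Subgroup.mem_bot] at hk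
  rw [hk, one_mul] at hkn
  rw [hkn, mem_normalizer_iff] at hn
  rw [mem_normalizer_iff]
  intro w
  constructor
  · intro hw
    exact (hn ⟨w, hPX hw⟩).1 hw
  · intro hw
    have h2 : w ∈ centralizer ({x} : Set G) := by
      have h3 := mul_mem (mul_mem (inv_mem hc) (hPX hw)) hc
      simpa [mul_assoc] using h3
    exact (hn ⟨w, h2⟩).2 hw

theorem Dat.TI (D : Dat p G Ω) {P Q : Sylow p G} {x : G} (hx : x ∈ P) (hxQ : x ∈ Q) (hx1 : x ≠ 1) :
    Q = P := by
  haveI : Fact p.Prime := ⟨D.hp⟩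
  have h1 : (Q : Subgroup G) ≤ normalizer ((P : Subgroup G) : Set G) := by
    intro y hy
    apply D.cent_le P hx hx1
    rw [mem_centralizer_singleton_iff]
    exact D.comm Q y hy x hxQ
  have h2 : (Q : Subgroup G) ≤ P := by
    have h3 := IsPGroup.inf_normalizer_sylow Q.2 P
    have h4 : (Q : Subgroup G) ≤ (Q : Subgroup G) ⊓ normalizer (P : Set G) := le_inf le_rfl h1
    rw [h3] at h4
    exact h4.trans inf_le_right
  exact Sylow.ext (Q.3 P.2 h2).symm

theorem Dat.inverts_of (D : Dat p G Ω) (P : Sylow p G) {x v : G} (hx : x ∈ P) (hx1 : x ≠ 1)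
    (hv : orderOf v = 2) (hvx : v * x * v⁻¹ = x⁻¹) : ∀ w ∈ P, v * w * v⁻¹ = w⁻¹ := by
  haveI : Fact p.Prime := ⟨D.hp⟩
  have hmem : ∀ y : G, y ∈ (v • P : Sylow p G) ↔ v⁻¹ * y * v ∈ P := by
    intro y
    change y ∈ ((v • P : Sylow p G) : Subgroup G) ↔ _
    rw [Sylow.coe_subgroup_smul, Subgroup.mem_pointwise_smul_iff_inv_smul_mem]
    change (MulAut.conj v)⁻¹ y ∈ _ ↔ _
    rw [← map_inv, MulAut.conj_apply, inv_inv]
    rfl
  have h1 : v • P = P := by
    apply D.TI (x := x⁻¹) (inv_mem hx) ?_ (inv_ne_one.2 hx1)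
    rw [hmem, ← hvx]
    simpa [mul_assoc] using hx
  have h2 : ∀ y ∈ P, v * y * v⁻¹ ∈ P := by
    intro y hy
    rw [← h1, hmem]
    simpa [mul_assoc] using hy
  intro w hw
  set u := w * (v * w * v⁻¹) with hu
  have huP : u ∈ P := mul_mem hw (h2 w hw)
  have hvi := inv_of_order hv
  have hvv := sq_of_order hv
  have h3 : v * u = u * v := by
    have e : v * u * v⁻¹ = (v * w * v⁻¹) * ((v * v) * w * (v * v)⁻¹) := by rw [hu]; group
    have h4 : v * u * v⁻¹ = u := by
      rw [e, hvv, one_mul, inv_one, mul_one, hu]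
      exact D.comm P _ (h2 w hw) _ hw
    rw [mul_inv_eq_iff_eq_mul] at h4
    exact h4
  have h4 : u = 1 := by
    by_contra hu1
    have h5 := D.hC u hu1 (D.order P huP)
    have h6 : v ∈ centralizer ({u} : Set G) := by
      rw [mem_centralizer_singleton_iff]; exact h3
    have h7 := orderOf_dvd_natCard (⟨v, h6⟩ : centralizer ({u} : Set G))
    rw [Subgroup.orderOf_mk, hv] at h7
    exact (Nat.not_even_iff_odd.mpr h5) (even_iff_two_dvd.mpr h7)
  rw [hu, mul_eq_one_iff_eq_inv'] at h4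
  exact h4

theorem Dat.not_dvd_cent (D : Dat p G Ω) {v : G} (hv : orderOf v = 2) :
    ¬ p ∣ Nat.card (centralizer ({v} : Set G)) := by
  haveI : Fact p.Prime := ⟨D.hp⟩
  intro hd
  obtain ⟨⟨u, hu⟩, hu2⟩ := exists_prime_orderOf_dvd_card' p hd
  rw [Subgroup.orderOf_mk] at hu2
  rw [Subgroup.mem_centralizer_iff] at hu
  have hu3 := hu v rfl
  have hu1 : u ≠ 1 := by
    rintro rfl
    rw [orderOf_one] at hu2
    exact D.hp.one_lt.ne hu2
  have h1 := D.hC u hu1 ⟨1, by rw [hu2, pow_one]⟩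
  have h2 : v ∈ Subgroup.centralizer ({u} : Set G) := by
    rw [Subgroup.mem_centralizer_iff]
    rintro y rfl
    exact hu3.symm
  have h4 := orderOf_dvd_natCard (⟨v, h2⟩ : Subgroup.centralizer ({u} : Set G))
  rw [Subgroup.orderOf_mk, hv] at h4
  exact (Nat.not_even_iff_odd.mpr h1) (even_iff_two_dvd.mpr h4)

theorem inv_conj_pow {v z : G} (h : v * z * v⁻¹ = z⁻¹) (k : ℕ) : v * z ^ k * v⁻¹ = (z ^ k)⁻¹ := by
  rw [← conj_pow, h, inv_pow]

/-- a nontrivial `p'`-element of odd order inverted by an involution has a centralizer of even order -/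
theorem Dat.even_cent (D : Dat p G Ω) [Nonempty Ω] {v z : G} (hv : orderOf v = 2)
    (hvz : v * z * v⁻¹ = z⁻¹) (hz1 : z ≠ 1) (hzo : Odd (orderOf z)) (hzp : ¬ p ∣ orderOf z) :
    Even (Nat.card (centralizer ({z} : Set G))) := by
  haveI : Fact p.Prime := ⟨D.hp⟩
  rw [← Nat.not_odd_iff_even]
  intro hodd
  have hvv := sq_of_order hv
  have hvi := inv_of_order hv
  -- `p` does not divide the order of the centralizer
  have hpC : ¬ p ∣ Nat.card (centralizer ({z} : Set G)) := by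
    intro hd
    have hfix : ∀ w : G, w ≠ 1 → (∃ k, orderOf w = p ^ k) → v * w ≠ w * v := by
      intro w hw hwp hcomm
      have h1 := D.hC w hw hwp
      have h2 : v ∈ Subgroup.centralizer ({w} : Set G) := by
        rw [mem_centralizer_singleton_iff]; exact hcomm
      have h4 := orderOf_dvd_natCard (⟨v, h2⟩ : Subgroup.centralizer ({w} : Set G))
      rw [Subgroup.orderOf_mk, hv] at h4
      exact (Nat.not_even_iff_odd.mpr h1) (even_iff_two_dvd.mpr h4)
    obtain ⟨Q, hQ⟩ := exists_inverted p v z hvv hvz hodd hfix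
    have hQd : p ∣ Nat.card Q := Q.dvd_card_of_dvd_card hd
    obtain ⟨⟨⟨x, hxC⟩, hxQ⟩, hx2⟩ := exists_prime_orderOf_dvd_card' p hQd
    rw [Subgroup.orderOf_mk, Subgroup.orderOf_mk] at hx2
    have hx1 : x ≠ 1 := by
      rintro rfl
      rw [orderOf_one] at hx2
      exact D.hp.one_lt.ne hx2
    have hvx := hQ ⟨x, hxC⟩ hxQ
    have hxp : IsPGroup p (zpowers x) := IsPGroup.of_card (n := 1) (by rw [Nat.card_zpowers, hx2, pow_one])
    obtain ⟨P, hP⟩ := hxp.exists_le_sylow
    have hxP : x ∈ P := hP (mem_zpowers x)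
    have hinv := D.inverts_of P hxP hx1 hv hvx
    have hzN : z ∈ normalizer ((P : Subgroup G) : Set G) := by
      apply D.cent_le P hxP hx1
      rw [mem_centralizer_singleton_iff] at hxC ⊢
      exact hxC.symm
    have hzP : z * z ∈ P := by
      apply D.self_cent
      intro y hy
      have h1 : z * y⁻¹ * z⁻¹ ∈ P := (mem_normalizer_iff.1 hzN y⁻¹).1 (inv_mem hy)
      have h2 : v * y * v⁻¹ = y⁻¹ := hinv y hy
      have h3 : v * (z * y⁻¹ * z⁻¹) * v⁻¹ = (z * y⁻¹ * z⁻¹)⁻¹ := hinv _ h1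
      have h4 : v * (z * y⁻¹ * z⁻¹) * v⁻¹ = (v * z * v⁻¹) * (v * y * v⁻¹)⁻¹ * (v * z * v⁻¹)⁻¹ := by group
      rw [h4, hvz, h2, inv_inv, inv_inv] at h3
      have h5 : (z * y⁻¹ * z⁻¹)⁻¹ = z * y * z⁻¹ := by group
      rw [h5] at h3
      have h6 := congrArg (fun u => z * u * z) h3
      simp only [mul_assoc, mul_inv_cancel_left, inv_mul_cancel, mul_one] at h6
      simpa [mul_assoc] using h6.symm
    obtain ⟨k, hk⟩ := D.order P hzP
    have h7 : z ^ (2 * p ^ k) = 1 := by
      rw [pow_mul, sq, ← hk]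
      exact pow_orderOf_eq_one _
    have h8 := orderOf_dvd_of_pow_eq_one h7
    have h9 : Nat.Coprime (orderOf z) (2 * p ^ k) := by
      apply Nat.Coprime.mul_right
      · exact Nat.Coprime.symm ((Nat.coprime_two_left).2 hzo)
      · exact Nat.Coprime.pow_right k (((Nat.Prime.coprime_iff_not_dvd D.hp).2 hzp).symm)
    exact hz1 (orderOf_eq_one_iff.1 (Nat.Coprime.eq_one_of_dvd h9 h8))
  -- the counting argument
  have hcount := DefectZeroCount.dvd_card_pairs p D.hno v z
  obtain ⟨k, hk⟩ := exists_sqrt hzo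
  set y : G := (z ^ k)⁻¹ with hy
  have hyy : y * y = z⁻¹ := by rw [hy, ← mul_inv_rev, hk]
  have hvy : v * y⁻¹ = y * v := by
    have h1 := inv_conj_pow hvz k
    rw [mul_inv_eq_iff_eq_mul] at h1
    rw [hy, inv_inv]
    exact h1
  let Γ := centralizer ({z} : Set G) × centralizer ({v} : Set G) × centralizer ({v} : Set G)
  let act : MulAction Γ (G × G) :=
    { smul := fun g x => ((g.1 : G) * x.1 * (g.2.1 : G)⁻¹, (g.1 : G) * x.2 * (g.2.2 : G)⁻¹)
      one_smul := fun x => by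
        change (((1 : G) * x.1 * (1 : G)⁻¹, (1 : G) * x.2 * (1 : G)⁻¹) : G × G) = x
        simp
      mul_smul := fun g h x => by
        change ((((g.1 : G) * h.1) * x.1 * ((g.2.1 : G) * h.2.1)⁻¹, ((g.1 : G) * h.1) * x.2 * ((g.2.2 : G) * h.2.2)⁻¹) : G × G) =
          ((g.1 : G) * ((h.1 : G) * x.1 * (h.2.1 : G)⁻¹) * (g.2.1 : G)⁻¹,
            (g.1 : G) * ((h.1 : G) * x.2 * (h.2.2 : G)⁻¹) * (g.2.2 : G)⁻¹)
        simp [mul_assoc] }
  have horb : Nat.card {x : G × G // x.1 * v * x.1⁻¹ * (x.2 * v * x.2⁻¹)⁻¹ = z} =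
      Nat.card (MulAction.orbit Γ (((1 : G), y) : G × G)) := by
    apply Nat.card_congr
    refine Equiv.subtypeEquivRight ?_
    rintro ⟨a, b⟩
    simp only
    constructor
    · intro hab
      -- s = a v a⁻¹ and s' = b v b⁻¹
      have hs2 : (a * v * a⁻¹) * (a * v * a⁻¹) = 1 := by
        have e : (a * v * a⁻¹) * (a * v * a⁻¹) = a * (v * v) * a⁻¹ := by group
        rw [e, hvv]; group
      have hs'2 : (b * v * b⁻¹) * (b * v * b⁻¹) = 1 := by
        have e : (b * v * b⁻¹) * (b * v * b⁻¹) = b * (v * v) * b⁻¹ := by group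
        rw [e, hvv]; group
      set s := a * v * a⁻¹ with hs
      set s' := b * v * b⁻¹ with hs'
      have hsi : s⁻¹ = s := inv_eq_of_mul_eq_one_right hs2
      have hs'i : s'⁻¹ = s' := inv_eq_of_mul_eq_one_right hs'2
      rw [hs'i] at hab
      have hzi : z⁻¹ = s' * s := by rw [← hab, mul_inv_rev, hs'i, hsi]
      have hsz : s * z * s⁻¹ = z⁻¹ := by
        have e : s * (s * s') * s⁻¹ = (s * s) * s' * s⁻¹ := by group
        rw [hzi, ← hab, e, hs2, one_mul, hsi]
      -- r = s * v centralizes z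
      have hr : s * v ∈ centralizer ({z} : Set G) := by
        rw [mem_centralizer_singleton_iff]
        have h1 : v * z = z⁻¹ * v := by rw [← hvz]; group
        have h2 : s * z⁻¹ = z * s := by
          have h3 : s * z⁻¹ * s⁻¹ = z := by
            have : s * z⁻¹ * s⁻¹ = (s * z * s⁻¹)⁻¹ := by group
            rw [this, hsz, inv_inv]
          rw [mul_inv_eq_iff_eq_mul] at h3
          exact h3
        rw [mul_assoc, h1, ← mul_assoc, h2, mul_assoc]
      have hro : Odd (orderOf (s * v)) := by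
        have h1 := orderOf_dvd_natCard (⟨s * v, hr⟩ : centralizer ({z} : Set G))
        rw [Subgroup.orderOf_mk] at h1
        exact Odd.of_dvd_nat hodd h1
      obtain ⟨m, hm⟩ := exists_sqrt hro
      set c := (s * v) ^ m with hc
      have hcC : c ∈ centralizer ({z} : Set G) := pow_mem hr m
      have hvr : v * (s * v) * v⁻¹ = (s * v)⁻¹ := by
        rw [mul_inv_rev, hsi, hvi, mul_assoc, mul_assoc, hvv, mul_one]
      have hvc : v * c * v⁻¹ = c⁻¹ := inv_conj_pow hvr m
      have hcv : c * v * c⁻¹ = s := by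
        rw [← hvc]
        have e : c * v * (v * c * v⁻¹) = c * (v * v) * c * v⁻¹ := by group
        rw [e, hvv, mul_one, hm]
        group
      have h5 : c⁻¹ * a ∈ centralizer ({v} : Set G) := by
        rw [mem_centralizer_singleton_iff]
        have h6 : a * v * a⁻¹ = c * v * c⁻¹ := by rw [hcv]
        rw [mul_inv_eq_iff_eq_mul] at h6
        rw [mul_assoc, h6]
        group
      have h7 : (c * y)⁻¹ * b ∈ centralizer ({v} : Set G) := by
        rw [mem_centralizer_singleton_iff]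
        have h8 : s' = z⁻¹ * s := by rw [hzi, mul_assoc, hs2, mul_one]
        have h9 : z⁻¹ * c = c * z⁻¹ := by
          rw [mem_centralizer_singleton_iff] at hcC
          have := congrArg (fun u => z⁻¹ * u * z⁻¹) hcC
          simpa [mul_assoc] using this
        have h10 : b * v * b⁻¹ = (c * y) * v * (c * y)⁻¹ := by
          have e1 : (c * y) * v * (c * y)⁻¹ = c * (y * v) * y⁻¹ * c⁻¹ := by group
          rw [e1, ← hvy]
          have e2 : c * (v * y⁻¹) * y⁻¹ * c⁻¹ = c * v * (y * y)⁻¹ * c⁻¹ := by group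
          rw [e2, hyy, inv_inv]
          have e3 : v * z = z⁻¹ * v := by rw [← hvz]; group
          have e4 : c * v * z * c⁻¹ = c * z⁻¹ * v * c⁻¹ := by rw [mul_assoc c v z, e3]; group
          rw [e4, ← h9, ← hs', h8, ← hcv]
          group
        rw [mul_inv_eq_iff_eq_mul] at h10
        rw [mul_assoc, h10]
        group
      refine ⟨(⟨c, hcC⟩, ⟨(c⁻¹ * a)⁻¹, inv_mem h5⟩, ⟨((c * y)⁻¹ * b)⁻¹, inv_mem h7⟩), ?_⟩
      change ((c * 1 * (c⁻¹ * a)⁻¹⁻¹, c * y * ((c * y)⁻¹ * b)⁻¹⁻¹) : G × G) = (a, b)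
      ext
      · simp
      · simp [mul_assoc]
    · rintro ⟨⟨⟨c, hc⟩, ⟨u, hu⟩, ⟨w, hw⟩⟩, hg⟩
      change ((c * 1 * u⁻¹, c * y * w⁻¹) : G × G) = (a, b) at hg
      rw [Prod.mk.injEq] at hg
      obtain ⟨rfl, rfl⟩ := hg
      rw [mem_centralizer_singleton_iff] at hc hu hw
      have hu' : u⁻¹ * v * u = v := by rw [mul_assoc, ← hu, inv_mul_cancel_left]
      have hw' : w⁻¹ * v * w = v := by rw [mul_assoc, ← hw, inv_mul_cancel_left]
      have e1 : c * 1 * u⁻¹ * v * (c * 1 * u⁻¹)⁻¹ = c * (u⁻¹ * v * u) * c⁻¹ := by group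
      have e2 : c * y * w⁻¹ * v * (c * y * w⁻¹)⁻¹ = c * y * (w⁻¹ * v * w) * y⁻¹ * c⁻¹ := by group
      rw [e1, e2, hu', hw']
      have e3 : c * y * v * y⁻¹ * c⁻¹ = c * (y * v) * y⁻¹ * c⁻¹ := by group
      rw [e3, ← hvy]
      have e4 : c * v * c⁻¹ * (c * (v * y⁻¹) * y⁻¹ * c⁻¹)⁻¹ = c * v * (y * y) * v⁻¹ * c⁻¹ := by
        simp only [mul_inv_rev, inv_inv, mul_assoc, inv_mul_cancel_left]
      rw [e4, hyy]
      have e5 : v * z⁻¹ * v⁻¹ = z := by
        have : v * z⁻¹ * v⁻¹ = (v * z * v⁻¹)⁻¹ := by group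
        rw [this, hvz, inv_inv]
      have e6 : c * v * z⁻¹ * v⁻¹ * c⁻¹ = c * (v * z⁻¹ * v⁻¹) * c⁻¹ := by group
      rw [e6, e5, mul_inv_eq_iff_eq_mul, hc]
  rw [horb] at hcount
  have h1 : Nat.card (MulAction.orbit Γ (((1 : G), y) : G × G)) ∣ Nat.card Γ := by
    rw [Nat.card_coe_set_eq, ← MulAction.index_stabilizer]
    exact Subgroup.index_dvd_card _
  have h2 := hcount.trans h1
  rw [Nat.card_prod, Nat.card_prod] at h2
  rcases (Nat.Prime.dvd_mul D.hp).1 h2 with h3 | h3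
  · exact hpC h3
  · rcases (Nat.Prime.dvd_mul D.hp).1 h3 with h4 | h4
    · exact D.not_dvd_cent hv h4
    · exact D.not_dvd_cent hv h4

/-- an involution acting on a subgroup of even order centralizes an involution of it -/
theorem exists_commuting {L : Subgroup G} {v : G} (hvv : v * v = 1) (hL : ∀ x ∈ L, v * x * v⁻¹ ∈ L)
    (he : Even (Nat.card L)) : ∃ s ∈ L, orderOf s = 2 ∧ v * s * v⁻¹ = s := by
  have h1 := card_modEq_two (fun x : L => x⁻¹) (fun x => inv_inv x)
  let f : {x : L // x⁻¹ = x} → {x : L // x⁻¹ = x} := fun x =>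
    ⟨⟨v * x.1 * v⁻¹, hL _ x.1.2⟩, by
      apply Subtype.ext
      change (v * (x.1 : G) * v⁻¹)⁻¹ = v * (x.1 : G) * v⁻¹
      have h2 : ((x.1 : G))⁻¹ = x.1 := congrArg Subtype.val x.2
      rw [mul_inv_rev, mul_inv_rev, h2, inv_inv, mul_assoc]⟩
  have hff : ∀ x, f (f x) = x := by
    intro x
    apply Subtype.ext
    apply Subtype.ext
    change v * (v * (x.1 : G) * v⁻¹) * v⁻¹ = x.1
    have e : v * (v * (x.1 : G) * v⁻¹) * v⁻¹ = (v * v) * x.1 * (v * v)⁻¹ := by group
    rw [e, hvv]; simp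
  have h2 := card_modEq_two f hff
  have h3 : Even (Nat.card {x : {x : L // x⁻¹ = x} // f x = x}) := by
    rw [Nat.even_iff] at he ⊢
    rw [← he]
    exact (h1.trans h2).symm
  have h4 : Nat.card {x : {x : L // x⁻¹ = x} // f x = x} ≠ 1 := by
    intro h; rw [h] at h3; exact absurd h3 (by norm_num)
  let e1 : {x : {x : L // x⁻¹ = x} // f x = x} := ⟨⟨1, inv_one⟩, by
    apply Subtype.ext
    apply Subtype.ext
    change v * (1 : G) * v⁻¹ = 1
    simp⟩
  have h5 : 1 < Nat.card {x : {x : L // x⁻¹ = x} // f x = x} := by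
    have : 0 < Nat.card {x : {x : L // x⁻¹ = x} // f x = x} := Nat.card_pos_iff.2 ⟨⟨e1⟩, inferInstance⟩
    omega
  haveI := (Finite.one_lt_card_iff_nontrivial).1 h5
  obtain ⟨⟨⟨⟨s, hsL⟩, hs⟩, hfs⟩, hne⟩ := exists_ne e1
  have hs' : s⁻¹ = s := congrArg Subtype.val hs
  have hs1 : s ≠ 1 := by
    rintro rfl
    exact hne rfl
  refine ⟨s, hsL, order_of_sq ?_ hs1, ?_⟩
  · nth_rw 1 [← hs']
    exact inv_mul_cancel s
  · have := congrArg Subtype.val (congrArg Subtype.val hfs)
    exact this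

/-- `z` fixes the fixed point of every involution inverting it -/
theorem Dat.fix_real (D : Dat p G Ω) [Nonempty Ω] {v z : G} (hv : orderOf v = 2)
    (hvz : v * z * v⁻¹ = z⁻¹) (hz1 : z ≠ 1) (hzo : Odd (orderOf z)) (hzp : ¬ p ∣ orderOf z)
    {α : Ω} (hα : v • α = α) : z • α = α := by
  have he := D.even_cent hv hvz hz1 hzo hzp
  obtain ⟨s, hs, hso, hvs⟩ := exists_commuting (sq_of_order hv) (L := centralizer ({z} : Set G)) (by
    intro x hx
    rw [mem_centralizer_singleton_iff] at hx ⊢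
    have h1 : v * z⁻¹ * v⁻¹ = z := by
      have : v * z⁻¹ * v⁻¹ = (v * z * v⁻¹)⁻¹ := by group
      rw [this, hvz, inv_inv]
    have h2 : x * z⁻¹ = z⁻¹ * x := by
      have := congrArg (fun u => z⁻¹ * u * z⁻¹) hx
      simpa [mul_assoc] using this.symm
    calc v * x * v⁻¹ * z = v * x * v⁻¹ * (v * z⁻¹ * v⁻¹) := by rw [h1]
      _ = v * (x * z⁻¹) * v⁻¹ := by group
      _ = v * (z⁻¹ * x) * v⁻¹ := by rw [h2]
      _ = (v * z⁻¹ * v⁻¹) * (v * x * v⁻¹) := by group
      _ = z * (v * x * v⁻¹) := by rw [h1]) he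
  obtain ⟨⟨β, hβ⟩, huniq⟩ := D.fix hso
  have h1 : v • β = β := by
    apply huniq
    · have h2 : s * v = v * s := by rw [mul_inv_eq_iff_eq_mul] at hvs; exact hvs.symm
      rw [← mul_smul, h2, mul_smul, hβ]
    · exact hβ
  have h2 : α = β := (D.fix hv).2 α β hα h1
  rw [h2]
  apply huniq
  · rw [mem_centralizer_singleton_iff] at hs
    rw [← mul_smul, hs, mul_smul, hβ]
  · exact hβ

/-- two involutions with different fixed points invert a common Sylow subgroup -/
theorem Dat.sylow_of_ne (D : Dat p G Ω) [Nonempty Ω] {v w : G} (hv : orderOf v = 2) (hw : orderOf w = 2)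
    {α β : Ω} (hα : v • α = α) (hβ : w • β = β) (hne : α ≠ β) :
    ∃ P : Sylow p G, v * w ∈ P := by
  haveI : Fact p.Prime := ⟨D.hp⟩
  have hvv := sq_of_order hv
  have hww := sq_of_order hw
  have hvi := inv_of_order hv
  have hwi := inv_of_order hw
  set z := v * w with hz
  have hzi : z⁻¹ = w * v := by rw [hz, mul_inv_rev, hvi, hwi]
  have hvz : v * z * v⁻¹ = z⁻¹ := by rw [hzi, hz, ← mul_assoc, hvv, one_mul, hvi]
  have hwz : w * z * w⁻¹ = z⁻¹ := by rw [hzi, hz, hwi, mul_assoc, mul_assoc, hww, mul_one]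
  have hz1 : z ≠ 1 := by
    intro h
    have h1 : v = w := by
      have := mul_eq_one_iff_eq_inv.1 (hz ▸ h)
      rwa [hwi] at this
    subst h1
    exact hne ((D.fix hv).2 α β hα hβ)
  have hzo : Odd (orderOf z) := by
    rw [← Nat.not_even_iff_odd]
    intro he
    obtain ⟨m, hm⟩ := he
    have hpos := orderOf_pos z
    have hm0 : 0 < m := by omega
    set u := z ^ m with hu
    have huu : u * u = 1 := by rw [hu, ← pow_add, ← hm, pow_orderOf_eq_one]
    have hu1 : u ≠ 1 := by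
      intro h
      have := orderOf_dvd_of_pow_eq_one h
      have := Nat.le_of_dvd hm0 this
      omega
    have huo := order_of_sq huu hu1
    have hui := inv_of_order huo
    have h1 : v * u * v⁻¹ = u := by rw [hu, inv_conj_pow hvz, ← hu, hui]
    have h2 : w * u * w⁻¹ = u := by rw [hu, inv_conj_pow hwz, ← hu, hui]
    rw [mul_inv_eq_iff_eq_mul] at h1 h2
    obtain ⟨⟨δ, hδ⟩, huniq⟩ := D.fix huo
    have h3 : v • δ = δ := huniq _ _ (by rw [← mul_smul, ← h1, mul_smul, hδ]) hδ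
    have h4 : w • δ = δ := huniq _ _ (by rw [← mul_smul, ← h2, mul_smul, hδ]) hδ
    exact hne (((D.fix hv).2 α δ hα h3).trans ((D.fix hw).2 δ β h4 hβ))
  have hzp : p ∣ orderOf z := by
    by_contra hnd
    have h1 := D.fix_real hv hvz hz1 hzo hnd hα
    rw [hz, mul_smul] at h1
    have h2 : w • α = α := by
      have := congrArg (fun γ => v⁻¹ • γ) h1
      simp only [inv_smul_smul] at this
      rw [this, hvi, hα]
    exact hne ((D.fix hw).2 α β h2 hβ)
  have hx2 : orderOf (z ^ (orderOf z / p)) = p := orderOf_pow_orderOf_div (orderOf_pos z).ne' hzp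
  set x := z ^ (orderOf z / p) with hx
  have hx1 : x ≠ 1 := by
    intro h
    rw [h, orderOf_one] at hx2
    exact D.hp.one_lt.ne hx2
  have hxp : IsPGroup p (zpowers x) := IsPGroup.of_card (n := 1) (by rw [Nat.card_zpowers, hx2, pow_one])
  obtain ⟨P, hP⟩ := hxp.exists_le_sylow
  have hxP : x ∈ P := hP (mem_zpowers x)
  have h1 := D.inverts_of P hxP hx1 hv (inv_conj_pow hvz _)
  have h2 := D.inverts_of P hxP hx1 hw (inv_conj_pow hwz _)
  refine ⟨P, D.self_cent P ?_⟩
  intro y hy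
  have h4 : v * w * y * (v * w)⁻¹ = y := by
    have e : v * w * y * (v * w)⁻¹ = v * (w * y * w⁻¹) * v⁻¹ := by group
    rw [e]
    have := h1 _ (inv_mem hy)
    rw [h2 y hy, this, inv_inv]
  rw [mul_inv_eq_iff_eq_mul] at h4
  exact h4

theorem Dat.mid (D : Dat p G Ω) [Nonempty Ω] {v w : G} (hv : orderOf v = 2) (hw : orderOf w = 2)
    {α β γ δ : Ω} (hvα : v • α = β) (hwα : w • α = β) (hγ : v • γ = γ) (hδ : w • δ = δ) : γ = δ := by
  by_contra hne
  obtain ⟨P, hP⟩ := D.sylow_of_ne hv hw hγ hδ hne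
  have h1 : (v * w) • α = α := by
    rw [mul_smul, hwα, ← hvα, ← mul_smul, sq_of_order hv, one_smul]
  have h2 := D.reg P hP h1
  have h3 : v = w := by
    have := mul_eq_one_iff_eq_inv.1 h2
    rwa [inv_of_order hw] at this
  subst h3
  exact hne ((D.fix hv).2 γ δ hγ hδ)

/-- every point is fixed by an involution inverting `P` -/
theorem Dat.exists_inv_fix (D : Dat p G Ω) [Nonempty Ω] (P : Sylow p G) (α : Ω) :
    ∃ t : G, orderOf t = 2 ∧ t • α = α ∧ ∀ w ∈ P, t * w * t⁻¹ = w⁻¹ := by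
  obtain ⟨g, hg, hinv⟩ := D.exists_inv P
  obtain ⟨⟨β, hβ⟩, -⟩ := D.fix_of_inverts P hinv
  obtain ⟨x, hx, rfl⟩ := D.tr P β α
  refine ⟨x * g * x⁻¹, ?_, ?_, ?_⟩
  · rw [← hg]
    exact orderOf_injective (MulAut.conj x).toMonoidHom (MulAut.conj x).injective g
  · rw [mul_smul, inv_smul_smul, mul_smul, hβ]
  · intro w hw
    have h1 : x⁻¹ * w * x = w := by rw [mul_assoc, D.comm P w hw x hx, inv_mul_cancel_left]
    have e : x * g * x⁻¹ * w * (x * g * x⁻¹)⁻¹ = x * (g * (x⁻¹ * w * x) * g⁻¹) * x⁻¹ := by group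
    rw [e, h1, hinv w hw, D.comm P x hx w⁻¹ (inv_mem hw), mul_inv_cancel_right]

theorem Dat.unique_inv (D : Dat p G Ω) [Nonempty Ω] {s s' : G} (hs : orderOf s = 2) (hs' : orderOf s' = 2)
    {γ : Ω} (hγ : s • γ = γ) (hγ' : s' • γ = γ) : s = s' := by
  haveI : Fact p.Prime := ⟨D.hp⟩
  obtain ⟨P⟩ : Nonempty (Sylow p G) := inferInstance
  have key : ∀ {s : G}, orderOf s = 2 → s • γ = γ → ∀ α : Ω, ∀ t : G, orderOf t = 2 → t • α = α →
      (∀ w ∈ P, t * w * t⁻¹ = w⁻¹) → ∃ y ∈ P, γ = y • α ∧ s • α = (y * y) • α := by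
    intro s hs hγ α t ht htα htP
    by_cases hα : s • α = α
    · refine ⟨1, one_mem _, ?_, ?_⟩
      · rw [one_smul]; exact (D.fix hs).2 γ α hγ hα
      · rw [one_mul, one_smul]; exact hα
    · obtain ⟨x, hx, hxα⟩ := D.tr P α (s • α)
      obtain ⟨k, hk⟩ := exists_sqrt (D.odd_order P hx)
      set y := x ^ k with hy
      have hyP : y ∈ P := pow_mem hx k
      have htx : ∀ w ∈ P, t * w = w⁻¹ * t := by
        intro w hw
        have := htP w hw
        rw [mul_inv_eq_iff_eq_mul] at this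
        exact this
      have htt := sq_of_order ht
      have hvv : (x * t) * (x * t) = 1 := by
        have e : (x * t) * (x * t) = x * (t * x) * t := by group
        rw [e, htx x hx, ← mul_assoc, mul_inv_cancel, one_mul, htt]
      have hvα : (x * t) • α = s • α := by rw [mul_smul, htα, hxα]
      have hv1 : x * t ≠ 1 := by
        intro h
        rw [h, one_smul] at hvα
        exact hα hvα.symm
      have hvo := order_of_sq hvv hv1
      have hvy : (x * t) • (y • α) = y • α := by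
        rw [← mul_smul, mul_assoc, htx y hyP, ← mul_assoc, mul_smul, htα]
        congr 1
        rw [mul_inv_eq_iff_eq_mul]
        exact hk.symm
      refine ⟨y, hyP, ?_, ?_⟩
      · exact D.mid hs hvo (β := s • α) rfl hvα hγ hvy
      · rw [hk, hxα]
  have h1 : s'⁻¹ * s = 1 := by
    apply D.faith
    intro α
    obtain ⟨t, ht, htα, htP⟩ := D.exists_inv_fix P α
    obtain ⟨y, hy, hγy, hsy⟩ := key hs hγ α t ht htα htP
    obtain ⟨y', hy', hγy', hsy'⟩ := key hs' hγ' α t ht htα htP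
    have h2 : y'⁻¹ * y = 1 := by
      apply D.reg P (mul_mem (inv_mem hy') hy) (α := α)
      rw [mul_smul, ← hγy, hγy', inv_smul_smul]
    have h3 : y' = y := (inv_mul_eq_one.1 h2)
    rw [mul_smul, hsy, ← h3, ← hsy', inv_smul_smul]
  exact (inv_mul_eq_one.1 h1).symm

theorem Dat.normal (D : Dat p G Ω) [Nontrivial Ω] (P : Sylow p G) : (P : Subgroup G).Normal := by
  haveI : Fact p.Prime := ⟨D.hp⟩
  have hall : ∀ v : G, orderOf v = 2 → ∀ w ∈ P, v * w * v⁻¹ = w⁻¹ := by
    intro v hv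
    obtain ⟨⟨α, hα⟩, -⟩ := D.fix hv
    obtain ⟨t, ht, htα, htP⟩ := D.exists_inv_fix P α
    rw [D.unique_inv hv ht hα htα]
    exact htP
  obtain ⟨α, β, hαβ⟩ := exists_pair_ne Ω
  obtain ⟨t, ht, htα, htP⟩ := D.exists_inv_fix P α
  obtain ⟨s, hs, hsβ, hsP⟩ := D.exists_inv_fix P β
  have hts : t * s ≠ 1 := by
    intro h
    have h1 : t = s := by
      have := mul_eq_one_iff_eq_inv.1 h
      rwa [inv_of_order hs] at this
    subst h1
    exact hαβ ((D.fix ht).2 α β htα hsβ)
  have hmem : ∀ Q : Sylow p G, (∀ v : G, orderOf v = 2 → ∀ w ∈ Q, v * w * v⁻¹ = w⁻¹) → t * s ∈ Q := by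
    intro Q hQ
    apply D.self_cent
    intro y hy
    have h1 := hQ s hs y hy
    have h2 := hQ t ht y⁻¹ (inv_mem hy)
    rw [inv_inv] at h2
    have e : t * s * y * (t * s)⁻¹ = t * (s * y * s⁻¹) * t⁻¹ := by group
    have h3 : t * s * y * (t * s)⁻¹ = y := by rw [e, h1, h2]
    rw [mul_inv_eq_iff_eq_mul] at h3
    exact h3
  have hfix : ∀ g : G, g • P = P := by
    intro g
    apply D.TI (x := t * s) (hmem P hall) ?_ hts
    apply hmem
    intro v hv w hw
    have hw2 : w ∈ ((g • P : Sylow p G) : Subgroup G) := hw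
    rw [Sylow.coe_subgroup_smul, Subgroup.mem_pointwise_smul_iff_inv_smul_mem] at hw2
    have hw3 : g⁻¹ * w * g ∈ P := by
      have : (MulAut.conj g)⁻¹ • w = g⁻¹ * w * g := by
        rw [← map_inv]; simp [MulAut.smul_def]
      rwa [this] at hw2
    have hgo : orderOf (g⁻¹ * v * g) = 2 := by
      rw [← hv]
      have := orderOf_injective (MulAut.conj g⁻¹).toMonoidHom (MulAut.conj g⁻¹).injective v
      simpa using this
    have h1 := hall _ hgo _ hw3
    have h2 := congrArg (fun u => g * u * g⁻¹) h1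
    have e1 : g * (g⁻¹ * v * g * (g⁻¹ * w * g) * (g⁻¹ * v * g)⁻¹) * g⁻¹ = v * w * v⁻¹ := by group
    have e2 : g * (g⁻¹ * w * g)⁻¹ * g⁻¹ = w⁻¹ := by group
    simp only [e1, e2] at h2
    exact h2
  rw [← Subgroup.normalizer_eq_top_iff, eq_top_iff]
  intro g _
  exact (Sylow.smul_eq_iff_mem_normalizer (P := P)).1 (hfix g)

end aux

/-- Let p be an odd prime and G a finite group of even order divisible by p in which the centralizer of every non-identity p-element has odd order, and suppose G acts faithfully and transitively on a set with p ^ r elements, r ≥ 1. Then either G has an irreducible character of p-defect zero, or G is p-solvable and has an irreducible character of 2-defect zero. -/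
theorem result {G Ω : Type*} [Group G] [Finite G] [MulAction G Ω] [FaithfulSMul G Ω] [Fintype Ω] (htr : MulAction.IsPretransitive G Ω) (p : ℕ) [Fact p.Prime] (hp2 : p ≠ 2) (hpG : p ∣ Nat.card G) (h2G : 2 ∣ Nat.card G) (hC : ∀ g : G, g ≠ 1 → (∃ k : ℕ, orderOf g = p ^ k) → Odd (Nat.card ↥(Subgroup.centralizer ({g} : Set G)))) (r : ℕ) (hr : 1 ≤ r) (hΩ : Fintype.card Ω = p ^ r) : (∃ χ : Cfsg.IrrCharacter G, (Cfsg.charDegree (χ : G → ℂ)).factorization p = (Nat.card G).factorization p) ∨ (Cfsg.IsPSolvable p G ∧ ∃ χ : Cfsg.IrrCharacter G, (Cfsg.charDegree (χ : G → ℂ)).factorization 2 = (Nat.card G).factorization 2) := by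
  classical
  have hp : p.Prime := Fact.out
  by_cases hno : ∃ χ : Cfsg.IrrCharacter G, (Cfsg.charDegree (χ : G → ℂ)).factorization p = (Nat.card G).factorization p
  · exact Or.inl hno
  have hΩ' : Nat.card Ω = p ^ r := by rw [Nat.card_eq_fintype_card]; exact hΩ
  have hnt : Nontrivial Ω := by
    rw [← Fintype.one_lt_card_iff_nontrivial, hΩ]
    exact Nat.one_lt_pow (by omega) hp.one_lt
  have D : Dat p G Ω := by
    refine ⟨hp, hp2, hC, hno, ?_, ?_, exists_prime_orderOf_dvd_card' 2 h2G, ⟨r, hΩ'⟩⟩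
    · intro P α β
      obtain ⟨g, hg⟩ := MulAction.exists_smul_eq G α β
      have h1 : (MulAction.stabilizer G α).index = p ^ r := by
        rw [MulAction.index_stabilizer_of_transitive, hΩ']
      have h2 : (P : Subgroup G).index.Coprime (MulAction.stabilizer G α).index := by
        rw [h1]
        apply Nat.Coprime.pow_right
        exact ((Nat.Prime.coprime_iff_not_dvd hp).2 P.not_dvd_index).symm
      obtain ⟨x, hx, y, hy, hxy⟩ := HallConverse.exists_mul_of_coprime_index h2 g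
      refine ⟨x, hx, ?_⟩
      rw [← hg, ← hxy, mul_smul, MulAction.mem_stabilizer_iff.1 hy]
    · intro g hg
      apply FaithfulSMul.eq_of_smul_eq_smul (α := Ω)
      intro α
      rw [hg, one_smul]
  obtain ⟨P⟩ : Nonempty (Sylow p G) := inferInstance
  have hPn := D.normal P
  have hsolv : Cfsg.IsPSolvable p G := by
    refine ⟨2, ![⊥, (P : Subgroup G), ⊤], rfl, rfl, ?_, ?_, ?_⟩
    · rw [Fin.monotone_iff_le_succ]
      intro i
      fin_cases i
      · exact bot_le
      · exact le_top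
    · intro i
      fin_cases i
      · exact (inferInstance : (⊥ : Subgroup G).Normal)
      · exact hPn
      · exact (inferInstance : (⊤ : Subgroup G).Normal)
    · intro i
      fin_cases i
      · left
        refine ⟨(Nat.card G).factorization p, ?_⟩
        change (⊥ : Subgroup G).relIndex (P : Subgroup G) = _
        rw [Subgroup.relIndex_bot_left, P.card_eq_multiplicity]
      · right
        change ((P : Subgroup G).relIndex ⊤).Coprime p
        rw [Subgroup.relIndex_top_right]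
        exact ((Nat.Prime.coprime_iff_not_dvd hp).2 P.not_dvd_index).symm
  refine Or.inr ⟨hsolv, ?_⟩
  rcases S4743.result p 2 hp2 hpG h2G (fun g hg hk h => (Nat.not_even_iff_odd.2 (hC g hg hk)) (even_iff_two_dvd.2 h))
    (Or.inl hsolv) with h | h
  · exact absurd h hno
  · exact h

end Cfsg.Agent.S4745
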