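import Cfsg.Statements.S4776
import Cfsg.Agent.Lib.RelDeg3

set_option autoImplicit false
open Cfsg

namespace Cfsg.Agent.S4776

/-- Let N be a normal subgroup of the finite group G that is not perfect and is contained in the derived subgroup of G. Consider the common-divisor graph on the relative degree set cd(G|N) (the degrees of the irreducible complex characters of G whose kernel does not contain N; two distinct degrees adjacent when they have a common divisor greater than one). Then this graph has at most two connected components; and if a, b ∈ cd(G|N) lie in different components, then one of a, b is coprime to the index m of the derived subgroup of N in N while the other is divisible by every prime divisor of m. -/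
theorem result {G : Type*} [Group G] [Finite G] (N : Subgroup G) [N.Normal] (hN : ⁅N, N⁆ < N) (hNG : N ≤ commutator G) : Nat.card (Cfsg.commonDivisorGraph.induce (Cfsg.relCharDegrees N)).ConnectedComponent ≤ 2 ∧ ∀ (a b : ℕ) (ha : a ∈ Cfsg.relCharDegrees N) (hb : b ∈ Cfsg.relCharDegrees N), ¬ (Cfsg.commonDivisorGraph.induce (Cfsg.relCharDegrees N)).Reachable ⟨a, ha⟩ ⟨b, hb⟩ → (Nat.Coprime a (⁅N, N⁆.relIndex N) ∧ ∀ r : ℕ, r.Prime → r ∣ ⁅N, N⁆.relIndex N → r ∣ b) ∨ (Nat.Coprime b (⁅N, N⁆.relIndex N) ∧ ∀ r : ℕ, r.Prime → r ∣ ⁅N, N⁆.relIndex N → r ∣ a) := by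
  classical
  have := Fintype.ofFinite G
  have := Fintype.ofFinite N
  have hR : ∀ (a b : ℕ) (ha : a ∈ Cfsg.relCharDegrees N) (hb : b ∈ Cfsg.relCharDegrees N),
      ¬ (Cfsg.commonDivisorGraph.induce (Cfsg.relCharDegrees N)).Reachable ⟨a, ha⟩ ⟨b, hb⟩ →
      ¬ Cfsg.Agent.Lib.RelDeg.Rch N a b := by
    rintro a b ha hb h ⟨_, _, h'⟩
    exact h h'
  refine ⟨?_, fun a b ha hb hab => ?_⟩
  · obtain ⟨r, hr, hrm⟩ := Cfsg.Agent.Lib.RelDeg.exists_prime_relIndex hN
    let Γ := Cfsg.commonDivisorGraph.induce (Cfsg.relCharDegrees N)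
    have hf : Function.Injective (fun c : Γ.ConnectedComponent => decide (r ∣ (c.out : ℕ))) := by
      intro c d hcd
      by_contra hne
      have h1 : ¬ Γ.Reachable c.out d.out := by
        intro h
        apply hne
        have h2 := SimpleGraph.ConnectedComponent.sound h
        have h3 : Γ.connectedComponentMk c.out = c := Quot.out_eq c
        have h4 : Γ.connectedComponentMk d.out = d := Quot.out_eq d
        rw [h3, h4] at h2
        exact h2
      have h2 := Cfsg.Agent.Lib.RelDeg.disc hNG hr hrm c.out.2 d.out.2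
        (hR _ _ c.out.2 d.out.2 h1)
      have h3 : (r ∣ (c.out : ℕ)) ↔ (r ∣ (d.out : ℕ)) := by
        simpa using hcd
      by_cases h4 : r ∣ (c.out : ℕ)
      · exact h2.1 ⟨h4, h3.mp h4⟩
      · exact h2.2.1 ⟨h4, fun h => h4 (h3.mpr h)⟩
    have h1 := Nat.card_le_card_of_injective _ hf
    rw [Nat.card_eq_fintype_card (α := Bool), Fintype.card_bool] at h1
    exact h1
  · exact Cfsg.Agent.Lib.RelDeg.disc_shape hNG ha hb (hR a b ha hb hab)

end Cfsg.Agent.S4776
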