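import Cfsg.Statements.S4779
import Cfsg.Agent.Lib.RelDeg4

set_option autoImplicit false
open Cfsg

namespace Cfsg.Agent.S4779

/-- Let N be a solvable normal subgroup of the finite group G contained in the derived subgroup of G, and consider the common-divisor graph on the relative degree set cd(G|N) (degrees of irreducible complex characters of G whose kernel does not contain N, two distinct degrees adjacent when not coprime). If this graph has two vertices that are not joined by any path, then there is a vertex a₀ such that any two distinct vertices in the component of a₀ are adjacent, and any two distinct vertices outside that component are adjacent or have a common neighbour (one component is complete, the other has diameter at most 2). -/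
theorem result {G : Type*} [Group G] [Finite G] (N : Subgroup G) [N.Normal] [Group.IsSolvable N] (hNG : N ≤ commutator G) (hdisc : ¬ (Cfsg.commonDivisorGraph.induce (Cfsg.relCharDegrees N)).Preconnected) : ∃ a₀ : ↥(Cfsg.relCharDegrees N), (∀ b c : ↥(Cfsg.relCharDegrees N), (Cfsg.commonDivisorGraph.induce (Cfsg.relCharDegrees N)).Reachable a₀ b → (Cfsg.commonDivisorGraph.induce (Cfsg.relCharDegrees N)).Reachable a₀ c → b ≠ c → (Cfsg.commonDivisorGraph.induce (Cfsg.relCharDegrees N)).Adj b c) ∧ (∀ b c : ↥(Cfsg.relCharDegrees N), ¬ (Cfsg.commonDivisorGraph.induce (Cfsg.relCharDegrees N)).Reachable a₀ b → ¬ (Cfsg.commonDivisorGraph.induce (Cfsg.relCharDegrees N)).Reachable a₀ c → b ≠ c → (Cfsg.commonDivisorGraph.induce (Cfsg.relCharDegrees N)).Adj b c ∨ ∃ d : ↥(Cfsg.relCharDegrees N), (Cfsg.commonDivisorGraph.induce (Cfsg.relCharDegrees N)).Adj b d ∧ (Cfsg.commonDivisorGraph.induce (Cfsg.relCharDegrees N)).Adj d c) := by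
  classical
  have := Fintype.ofFinite G
  have := Fintype.ofFinite N
  set Γ := Cfsg.commonDivisorGraph.induce (Cfsg.relCharDegrees N) with hΓ
  have hR : ∀ b c : ↥(Cfsg.relCharDegrees N), Cfsg.Agent.Lib.RelDeg.Rch N b c ↔ Γ.Reachable b c :=
    fun b c => Cfsg.Agent.Lib.RelDeg.rch_iff
  -- a non-reachable pair
  obtain ⟨u, v, huv⟩ : ∃ u v, ¬ Γ.Reachable u v := by
    by_contra h
    push Not at h
    exact hdisc h
  have huv' : ¬ Cfsg.Agent.Lib.RelDeg.Rch N u v := fun h => huv ((hR u v).mp h)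
  -- `N' < N`
  have hlt : ⁅N, N⁆ < N := by
    refine lt_of_le_of_ne (Subgroup.commutator_le_self N) ?_
    intro h
    have h1 : Nontrivial N := by
      obtain ⟨χ, ⟨x, hx, hne⟩, -⟩ := u.2
      refine ⟨⟨x, hx⟩, 1, ?_⟩
      intro h2
      apply hne
      have h3 : x = 1 := congrArg Subtype.val h2
      rw [h3]
    have h2 := Group.IsSolvable.commutator_lt_top_of_nontrivial N
    rw [← Cfsg.Agent.Lib.RelDeg.subgroupOf_commutator, h, Subgroup.subgroupOf_self] at h2
    exact lt_irrefl _ h2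
  obtain ⟨r, hr, hrm⟩ := Cfsg.Agent.Lib.RelDeg.exists_prime_relIndex hlt
  obtain ⟨a₀, b₀, hab, ham, hbm⟩ : ∃ a₀ b₀ : ↥(Cfsg.relCharDegrees N), ¬ Γ.Reachable a₀ b₀ ∧
      (∀ r : ℕ, r.Prime → r ∣ ⁅N, N⁆.relIndex N → r ∣ (a₀ : ℕ)) ∧
      Nat.Coprime (b₀ : ℕ) (⁅N, N⁆.relIndex N) := by
    rcases Cfsg.Agent.Lib.RelDeg.disc_shape hNG u.2 v.2 huv' with h | h
    · exact ⟨v, u, fun h' => huv h'.symm, h.2, h.1⟩
    · exact ⟨u, v, huv, h.2, h.1⟩
  have hrb : ¬ r ∣ (b₀ : ℕ) := by
    intro h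
    have := Nat.eq_one_of_dvd_coprimes hbm h hrm
    exact hr.one_lt.ne' this
  have hcomp : ∀ b : ↥(Cfsg.relCharDegrees N), Γ.Reachable a₀ b → r ∣ (b : ℕ) := by
    intro b hb
    by_contra hcon
    have h1 : ¬ Cfsg.Agent.Lib.RelDeg.Rch N b b₀ := by
      intro h
      exact hab (hb.trans ((hR b b₀).mp h))
    exact (Cfsg.Agent.Lib.RelDeg.disc hNG hr hrm b.2 b₀.2 h1).2.1 ⟨hcon, hrb⟩
  refine ⟨a₀, fun b c hb hc hbc => ?_, fun b c hb hc hbc => ?_⟩
  · refine ⟨fun h => hbc (Subtype.ext h), ?_⟩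
    exact Cfsg.Agent.Lib.RelDeg.one_lt_gcd (hcomp b hb) (hcomp c hc) hr.one_lt.ne'
      (Cfsg.Agent.Lib.RelDeg.pos_of_mem b.2)
  · obtain ⟨x, hx, hx1, hx2⟩ := Cfsg.Agent.Lib.RelDeg.common_neighbour hNG a₀.2 ham b.2
      (fun h => hb ((hR _ _).mp h)) c.2 (fun h => hc ((hR _ _).mp h))
    by_cases hbx : (b : ℕ) = x
    · left
      refine ⟨fun h => hbc (Subtype.ext h), ?_⟩
      rw [← hbx] at hx2
      exact hx2
    · by_cases hxc : x = (c : ℕ)
      · left
        refine ⟨fun h => hbc (Subtype.ext h), ?_⟩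
        rw [hxc] at hx1
        exact hx1
      · right
        exact ⟨⟨x, hx⟩, ⟨hbx, hx1⟩, ⟨hxc, hx2⟩⟩

end Cfsg.Agent.S4779
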