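import Cfsg.Statements.S4839
import Cfsg.Agent.Lib.Gagola3

set_option autoImplicit false
open Cfsg

namespace Cfsg.Agent.S4839

/-- Let G be a finite group of order greater than 2 with an irreducible character χ nonzero on exactly two conjugacy classes, and let N be the normal p-subgroup of elements where χ is nonzero. Then N is the whole p-core O_p(G) if and only if G is a doubly transitive Frobenius group with kernel N: G has a Frobenius complement H whose Frobenius kernel is N and whose order is one less than that of N. -/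
theorem result {G : Type*} [Group G] [Finite G] (hG : 2 < Nat.card G) (χ : Cfsg.IrrCharacter G) (hχ : Nat.card {C : ConjClasses G // ∃ g ∈ C.carrier, (χ : G → ℂ) g ≠ 0} = 2) (p : ℕ) [Fact p.Prime] (N : Subgroup G) [N.Normal] (hN : ∀ g : G, g ∈ N ↔ (χ : G → ℂ) g ≠ 0) (hNp : IsPGroup p N) (hN1 : N ≠ ⊥) :
    N = Cfsg.pCore p G ↔ ∃ H : Subgroup G, Cfsg.IsFrobeniusComplement H ∧ Cfsg.frobeniusKernel H = (N : Set G) ∧ Nat.card H + 1 = Nat.card N := by
  obtain ⟨x, h⟩ := Lib.Gagola.exists_gag hG χ hχ
  have hNN : N = h.NN := by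
    ext g
    exact hN g
  subst hNN
  constructor
  · intro hO
    exact h.frobenius hG hNp hO
  · rintro ⟨H, hH, hK, hc⟩
    apply le_antisymm (Lib.Cores.le_pCore inferInstance hNp)
    -- `|G| = |H| |N|`
    have h1 : Nat.card (frobeniusKernel H) = H.index := Lib.FrobGroup.card_kernel hH
    have h2 : Nat.card (frobeniusKernel H) = Nat.card h.NN := by
      rw [hK]; rfl
    have h3 := H.card_mul_index
    rw [← h1, h2] at h3
    have hp : p.Prime := Fact.out
    obtain ⟨n, hn0, hn⟩ := h.card_pow hNp
    have hcN := h.card_NN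
    have hpH : ¬ p ∣ Nat.card H := by
      have h4 : Nat.card H = Lib.Gagola.Gag.kk x := by omega
      rw [h4]
      exact h.not_dvd_kk hNp
    obtain ⟨a, ha⟩ := IsPGroup.iff_card.1 (Lib.Cores.isPGroup_pCore p G)
    have h4 : Nat.card (pCore p G) ≤ Nat.card h.NN := by
      apply Nat.le_of_dvd Nat.card_pos
      have h5 : Nat.card (pCore p G) ∣ Nat.card H * Nat.card h.NN := by
        rw [h3]; exact Subgroup.card_subgroup_dvd_card _
      refine Nat.Coprime.dvd_of_dvd_mul_left ?_ h5
      rw [ha]
      exact Nat.Coprime.pow_left _ ((hp.coprime_iff_not_dvd).2 hpH)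
    exact (Subgroup.eq_of_le_of_card_ge (Lib.Cores.le_pCore inferInstance hNp) h4).ge

end Cfsg.Agent.S4839
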