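import Cfsg.Statements.S4840
import Cfsg.Agent.Lib.Gagola3
import Cfsg.Agent.Lib.GagSolv

set_option autoImplicit false
open Cfsg

namespace Cfsg.Agent.S4840

open Subgroup Lib.Gagola Lib.GagSolv

/-- Let G be a finite solvable group of order greater than 2 with an irreducible character nonzero on exactly two conjugacy classes. Then there is exactly one prime p with O_p(G) ≠ 1, and the quotient G/O_p(G) has a normal p-complement and commutative Sylow p-subgroups. -/
theorem result {G : Type*} [Group G] [Finite G] [hs : Group.IsSolvable G] (hG : 2 < Nat.card G) (χ : Cfsg.IrrCharacter G) (hχ : Nat.card {C : ConjClasses G // ∃ g ∈ C.carrier, (χ : G → ℂ) g ≠ 0} = 2) :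
    ∃ p : ℕ, p.Prime ∧ (∀ q : ℕ, q.Prime → (Cfsg.pCore q G ≠ ⊥ ↔ q = p)) ∧
      Cfsg.HasNormalPComplement p (G ⧸ Cfsg.pCore p G) ∧ ∀ Q : Sylow p (G ⧸ Cfsg.pCore p G), IsMulCommutative (Q : Subgroup (G ⧸ Cfsg.pCore p G)) := by
  classical
  obtain ⟨x, h⟩ := exists_gag hG χ hχ
  obtain ⟨p, hp, hNp, -⟩ := h.elementary
  haveI hpf : Fact p.Prime := ⟨hp⟩
  haveI hNn : h.NN.Normal := h.normal
  have hNO : h.NN ≤ pCore p G := Lib.Cores.le_pCore inferInstance hNp
  refine ⟨p, hp, ?_, ?_⟩
  · intro q hq
    constructor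
    · intro hne
      haveI : Fact q.Prime := ⟨hq⟩
      by_contra hqp
      have h1 := h.le_of_normal (K := pCore q G) inferInstance hne
      obtain ⟨j, hj⟩ := (IsPGroup.iff_orderOf.1 hNp) ⟨x, h.x_mem⟩
      obtain ⟨k, hk⟩ := (IsPGroup.iff_orderOf.1 (Lib.Cores.isPGroup_pCore q G)) ⟨x, h1 h.x_mem⟩
      rw [Subgroup.orderOf_mk] at hj hk
      exact h.x1 (eq_one_of_orders hp hq hqp hj hk)
    · rintro rfl h0
      rw [h0, le_bot_iff] at hNO
      exact h.NN_ne_bot hNO
  · -- the action of `G / O_p(G)` on `N`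
    letI hVc : CommGroup h.NN :=
      { (inferInstance : Group h.NN) with
        mul_comm := fun a b => Subtype.ext (h.comm_NN a.2 b.2) }
    haveI hVnt : Nontrivial h.NN := by
      rw [Subgroup.nontrivial_iff_ne_bot]
      exact h.NN_ne_bot
    have hO1 : pCore p G ≠ ⊥ := by
      intro h0
      rw [h0, le_bot_iff] at hNO
      exact h.NN_ne_bot hNO
    haveI hOn : (pCore p G).Normal := inferInstance
    have hZ : h.NN ≤ (Subgroup.center ↥(pCore p G)).map (pCore p G).subtype := by
      apply h.le_of_normal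
      · infer_instance
      · intro h0
        have h1 : Subgroup.center ↥(pCore p G) = ⊥ := by
          rwa [Subgroup.map_eq_bot_iff_of_injective _ (Subgroup.subtype_injective _)] at h0
        haveI : Nontrivial ↥(pCore p G) := by
          rwa [Subgroup.nontrivial_iff_ne_bot]
        have h2 := (Lib.Cores.isPGroup_pCore p G).center_nontrivial
        rw [Subgroup.nontrivial_iff_ne_bot] at h2
        exact h2 h1
    have hZc : ∀ z ∈ h.NN, ∀ g ∈ pCore p G, g * z = z * g := by
      intro z hz g hg
      obtain ⟨w, hw, rfl⟩ := hZ hz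
      exact congrArg Subtype.val ((Subgroup.mem_center_iff.1 hw) ⟨g, hg⟩)
    let act0 : G →* MulAut h.NN := MulAut.conjNormal
    let act : (G ⧸ pCore p G) →* MulAut h.NN := QuotientGroup.lift (pCore p G) act0 (by
      intro g hg
      ext z
      show ((MulAut.conjNormal g z : h.NN) : G) = z
      rw [MulAut.conjNormal_apply, hZc z z.2 g hg, mul_inv_cancel_right])
    have hS : Setup p act := by
      refine ⟨?_, Lib.Cores.pCore_quotient_pCore p G, ?_⟩
      · intro u v hv huv
        obtain ⟨g, rfl⟩ := QuotientGroup.mk_surjective u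
        have h1 : ((MulAut.conjNormal g v : h.NN) : G) = v := congrArg Subtype.val huv
        rw [MulAut.conjNormal_apply] at h1
        have h2 : g ∈ centralizer ({(v : G)} : Set G) := by
          rw [mem_centralizer_singleton_iff]
          exact mul_inv_eq_iff_eq_mul.1 h1
        obtain ⟨k, hk⟩ := (IsPGroup.iff_orderOf.1 (h.isPGroup_centralizer hNp v.2 (fun h0 => hv (Subtype.ext h0)))) ⟨g, h2⟩
        rw [Subgroup.orderOf_mk] at hk
        have h3 : orderOf (g : G ⧸ pCore p G) ∣ p ^ k := by
          rw [← hk]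
          exact orderOf_map_dvd (QuotientGroup.mk' (pCore p G)) g
        obtain ⟨j, -, hj⟩ := (Nat.dvd_prime_pow hp).1 h3
        exact ⟨j, hj⟩
      · obtain ⟨m, hm0, hm, -, hGc⟩ := h.exists_m
        obtain ⟨a, rfl⟩ := h.m_pow hNp hm0 hm hGc
        obtain ⟨n, hn0, hn⟩ := h.card_pow hNp
        obtain ⟨b, hb⟩ := IsPGroup.iff_card.1 (Lib.Cores.isPGroup_pCore p G)
        have hk : Gag.kk x = p ^ n - 1 := by omega
        have hGq : Nat.card G = Nat.card (G ⧸ pCore p G) * p ^ b := by
          rw [← hb]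
          exact (Subgroup.card_eq_card_quotient_mul_card_subgroup _)
        have h1 : Nat.card G = (p ^ n - 1) * p ^ (2 * a + n) := by
          rw [hGc, hn, hk]; ring
        have h2 : p ^ b ∣ p ^ (2 * a + n) := by
          have h3 : p ^ b ∣ (p ^ n - 1) * p ^ (2 * a + n) := by
            rw [← h1, hGq]; exact dvd_mul_left _ _
          refine Nat.Coprime.dvd_of_dvd_mul_left ?_ h3
          apply Nat.Coprime.pow_left
          rw [← hk, hp.coprime_iff_not_dvd]
          exact h.not_dvd_kk hNp
        have h4 : b ≤ 2 * a + n := (Nat.pow_dvd_pow_iff_le_right hp.one_lt).1 h2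
        refine ⟨2 * a + n - b, n, by rw [h.card_NN, hn], ?_⟩
        have h5 : p ^ (2 * a + n) = p ^ (2 * a + n - b) * p ^ b := by
          rw [← pow_add]; congr 1; omega
        have h6 : Nat.card (G ⧸ pCore p G) * p ^ b = (p ^ n - 1) * p ^ (2 * a + n - b) * p ^ b := by
          rw [← hGq, h1, h5]; ring
        exact Nat.eq_of_mul_eq_mul_right (pow_pos hp.pos b) h6
    have hsq : Group.IsSolvable (G ⧸ pCore p G) := inferInstance
    exact hS.main hsq

end Cfsg.Agent.S4840
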