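import Cfsg.Statements.S4847
import Cfsg.Agent.Lib.H16PalFin
import Cfsg.Agent.S4493

set_option autoImplicit false
open Cfsg

namespace Cfsg.Agent.S4847

/-- Let G be a finite solvable group and p, q, r three distinct primes each dividing the degree of some irreducible character of G. Then for some two of them the product divides the degree of some irreducible character of G (the character degree graph of a solvable group has no three pairwise non-adjacent vertices). -/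
theorem result {G : Type*} [Group G] [Finite G] [hs : Group.IsSolvable G] (p q r : ℕ) (hp : p.Prime) (hq : q.Prime) (hr : r.Prime) (hpq : p ≠ q) (hqr : q ≠ r) (hpr : p ≠ r)
    (hpd : ∃ χ : Cfsg.IrrCharacter G, p ∣ Cfsg.charDegree (χ : G → ℂ)) (hqd : ∃ χ : Cfsg.IrrCharacter G, q ∣ Cfsg.charDegree (χ : G → ℂ)) (hrd : ∃ χ : Cfsg.IrrCharacter G, r ∣ Cfsg.charDegree (χ : G → ℂ)) :
    (∃ χ : Cfsg.IrrCharacter G, p * q ∣ Cfsg.charDegree (χ : G → ℂ)) ∨ (∃ χ : Cfsg.IrrCharacter G, q * r ∣ Cfsg.charDegree (χ : G → ℂ)) ∨ (∃ χ : Cfsg.IrrCharacter G, p * r ∣ Cfsg.charDegree (χ : G → ℂ)) := by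
  by_contra hcon
  push Not at hcon
  obtain ⟨h1, h2, h3⟩ := hcon
  have key : ∀ {a : ℕ}, a.Prime → (∃ χ : Cfsg.IrrCharacter G, a ∣ Cfsg.charDegree (χ : G → ℂ)) →
      ¬ Cfsg.Agent.Lib.H16Pal0.NSyl G a := by
    rintro a ha ⟨χ, hχ⟩ hN
    exact (Cfsg.Agent.S4493.result hs a ha).1 hN χ hχ
  have cp : ∀ {a b n : ℕ}, a.Prime → b.Prime → a ≠ b → a ∣ n → b ∣ n → a * b ∣ n := fun ha hb hab h h' =>
    Nat.Coprime.mul_dvd_of_dvd_of_dvd ((Nat.coprime_primes ha hb).2 hab) h h'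
  exact Cfsg.Agent.Lib.H16PalFin.main _ G rfl p q r hp hq hr hpq hqr hpr (key hp hpd) (key hq hqd) (key hr hrd)
    (fun χ ha hb => h1 χ (cp hp hq hpq ha hb)) (fun χ ha hb => h2 χ (cp hq hr hqr ha hb))
    (fun χ ha hb => h3 χ (cp hp hr hpr ha hb))

end Cfsg.Agent.S4847
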