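import Cfsg.Statements.S4889
import Cfsg.Agent.Lib.AbEq4
-- import your own Cfsg.Agent.* helpers here

set_option autoImplicit false
open Cfsg

namespace Cfsg.Agent.S4889

open Cfsg Cfsg.Agent.Lib Cfsg.Agent.Lib.BlockAlg


/-- Let G be a finite group, p a prime, M a maximal ideal of the algebraic integers containing p, and B a p-block of G that has an abelian defect group and in which every irreducible character has height zero. Then all irreducible characters of B have the same degree if and only if B is a nilpotent block. -/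
theorem result {G : Type*} [Group G] [Finite G] (p : ℕ) [Fact p.Prime] (M : Ideal Cfsg.AlgInt) (hM : Cfsg.IsPModular p M) (B : Set (Cfsg.IrrCharacter G)) (hB : Cfsg.IsPBlock M B) (D : Subgroup G) (hD : Cfsg.IsDefectGroup p M B D) (hDab : IsMulCommutative ↥D) (h0 : ∀ χ : Cfsg.IrrCharacter G, χ ∈ B → Cfsg.blockHeight p B (χ : G → ℂ) = 0) : (∃ d : ℕ, ∀ χ : Cfsg.IrrCharacter G, χ ∈ B → Cfsg.charDegree (χ : G → ℂ) = d) ↔ Cfsg.IsNilpotentBlock p M B := by
  have hMm : M.IsMaximal := hM.2.1
  have hch := charP_Kf hM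
  have hab : ∀ x ∈ D, ∀ y ∈ D, x * y = y * x := by
    intro x hx y hy
    have := hDab.is_comm.comm (⟨x, hx⟩ : D) ⟨y, hy⟩
    exact congrArg Subtype.val this
  obtain ⟨c, h⟩ := H76Nil.exists_abMax hB hD hab
  constructor
  · rintro ⟨n, hn⟩
    exact AbPim.nilpotent_of_equal hM h (fun χ hχ => hn χ hχ) (fun χ hχ => h0 χ hχ)
  · intro hn
    obtain ⟨d, hd⟩ := AbPim.equal_of_nilpotent hM h hn
    exact ⟨d, fun χ hχ => hd χ hχ⟩

end Cfsg.Agent.S4889
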