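import Cfsg.Statements.S4993
import Cfsg.Agent.Lib.H72PrimChar2
import Cfsg.Agent.S0205
-- import your own Cfsg.Agent.* helpers here

set_option autoImplicit false
open Cfsg Cfsg.Agent.Lib Cfsg.Agent.Lib.CharBasic Cfsg.Agent.Lib.Clifford Cfsg.Agent.Lib.BlockDeg

namespace Cfsg.Agent.S4993

/-- Let G be a group of odd order whose order has exactly two prime divisors and whose quotient by its Fitting subgroup is nilpotent (G is metanilpotent), and let χ be a primitive irreducible complex character of G (not induced from a character of any proper subgroup). Then χ(1) divides the size of some conjugacy class of G. -/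
theorem result {G : Type*} [Group G] [Fintype G] (hodd : Odd (Nat.card G)) (h2 : (Nat.card G).primeFactors.card = 2) [hF : (Cfsg.fittingSubgroup G).Normal] (hmeta : Group.IsNilpotent (G ⧸ Cfsg.fittingSubgroup G)) (χ : Cfsg.IrrCharacter G) (hprim : ¬ ∃ (H : Subgroup G), H ≠ ⊤ ∧ ∃ θ : ↥H → ℂ, Cfsg.IsCharacter ↥H θ ∧ Cfsg.indFun H θ = (χ : G → ℂ)) : ∃ g : G, Cfsg.charDegree (χ : G → ℂ) ∣ (Subgroup.centralizer ({g} : Set G)).index := by
  classical
  have hs : Group.IsSolvable G := Cfsg.Agent.S0205.result hodd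
  set F := Cfsg.fittingSubgroup G with hFdef
  have hFn : Group.IsNilpotent F := Cfsg.Agent.Lib.Cores.isNilpotent_fittingSubgroup G
  -- the main data, for a prime `r`
  have hmain : ∀ r : ℕ, r.Prime → ∃ (P : Sylow r G) (x : G), ((P : Subgroup G) ⊔ F).Normal ∧
      ∀ k ∈ (P : Subgroup G) ⊔ F, (Cfsg.charDegree (χ : G → ℂ)).factorization r ≤
        ((Subgroup.centralizer ({x * k} : Set G)).index).factorization r := by
    intro r hr
    have : Fact r.Prime := ⟨hr⟩
    obtain ⟨P⟩ : Nonempty (Sylow r G) := inferInstance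
    have hPF : ((P : Subgroup G) ⊔ F).Normal := by
      have h1 : (((P.mapSurjective (QuotientGroup.mk'_surjective F) : Sylow r (G ⧸ F)) :
          Subgroup (G ⧸ F))).Normal := inferInstance
      have h2 : ((P : Subgroup G) ⊔ F) = (((P.mapSurjective (QuotientGroup.mk'_surjective F) :
          Sylow r (G ⧸ F)) : Subgroup (G ⧸ F))).comap (QuotientGroup.mk' F) := by
        rw [Sylow.coe_mapSurjective, Subgroup.comap_map_eq, QuotientGroup.ker_mk']
      rw [h2]
      exact h1.comap _
    have hirr : IsIrrCharacter (⊤ : Subgroup G) (fun x : (⊤ : Subgroup G) => (χ : G → ℂ) x) :=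
      (isIrrCharacter_comp_mulEquiv_iff (Subgroup.topEquiv (G := G))).mpr χ.2
    obtain ⟨a, ha1, ha2, ha3⟩ := H72PrimChar2.main_ind hs χ
      (fun N _ => H72PrimChar.homogeneous χ hprim N) r ((P : Subgroup G) ⊔ F)
      (fun L B hL hB hLB hmin hpow => H72PrimChar2.sup_central (P : Subgroup G) F hFn P.isPGroup'
        L B hL hB hLB hmin hpow) (Nat.card (⊤ : Subgroup G)) ⊤ rfl _ 1 hirr (by rw [one_smul])
    have hdeg : charDegree (fun x : (⊤ : Subgroup G) => (χ : G → ℂ) x) = charDegree (χ : G → ℂ) :=
      rfl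
    rw [hdeg, Subgroup.card_top] at ha3
    obtain ⟨x, hx⟩ : ∃ x : G, a x + (charDegree (χ : G → ℂ)).factorization r ≤
        (Nat.card G).factorization r := by
      by_contra hno
      push Not at hno
      have h5 := Finset.sum_le_sum (fun (g : G) (_ : g ∈ Finset.univ) => Nat.succ_le_of_lt (hno g))
      simp only [Nat.succ_eq_add_one, Finset.sum_add_distrib, Finset.sum_const, Finset.card_univ,
        ← Nat.card_eq_fintype_card, smul_eq_mul] at h5
      have h6 : 0 < Nat.card G := Nat.card_pos
      omega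
    refine ⟨P, x, hPF, fun k hk => ?_⟩
    have h1 := ha1 (x * k)
    rw [ha2 x k hk, inf_top_eq] at h1
    have h4 : (Nat.card G).factorization r =
        (Nat.card (Subgroup.centralizer ({x * k} : Set G))).factorization r +
        ((Subgroup.centralizer ({x * k} : Set G)).index).factorization r := by
      rw [← Subgroup.card_mul_index (Subgroup.centralizer ({x * k} : Set G)),
        Nat.factorization_mul Nat.card_pos.ne' Subgroup.index_ne_zero_of_finite]
      rfl
    omega
  obtain ⟨p, q, hpq, hpqeq⟩ := Finset.card_eq_two.mp h2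
  have hp : p.Prime := Nat.prime_of_mem_primeFactors (by rw [hpqeq]; simp)
  have hq : q.Prime := Nat.prime_of_mem_primeFactors (by rw [hpqeq]; simp)
  obtain ⟨P, x, hPn, hx⟩ := hmain p hp
  obtain ⟨Q, y, hQn, hy⟩ := hmain q hq
  have hpf : Fact p.Prime := ⟨hp⟩
  have hqf : Fact q.Prime := ⟨hq⟩
  have htop : ((P : Subgroup G) ⊔ F) ⊔ ((Q : Subgroup G) ⊔ F) = ⊤ := by
    set T := ((P : Subgroup G) ⊔ F) ⊔ ((Q : Subgroup G) ⊔ F) with hT
    apply Subgroup.eq_top_of_card_eq
    apply Nat.dvd_antisymm (Subgroup.card_subgroup_dvd_card T)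
    rw [← Nat.factorization_le_iff_dvd Nat.card_pos.ne' Nat.card_pos.ne']
    intro r
    by_cases hr : r ∈ (Nat.card G).primeFactors
    · rw [hpqeq] at hr
      rcases Finset.mem_insert.mp hr with rfl | hr
      · have h1 : Nat.card P ∣ Nat.card T := Subgroup.card_dvd_of_le (le_sup_left.trans le_sup_left)
        rw [P.card_eq_multiplicity] at h1
        exact (hp.pow_dvd_iff_le_factorization Nat.card_pos.ne').mp h1
      · rw [Finset.mem_singleton] at hr
        subst hr
        have h1 : Nat.card Q ∣ Nat.card T :=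
          Subgroup.card_dvd_of_le (le_sup_left.trans le_sup_right)
        rw [Q.card_eq_multiplicity] at h1
        exact (hq.pow_dvd_iff_le_factorization Nat.card_pos.ne').mp h1
    · rw [← Nat.support_factorization, Finsupp.notMem_support_iff] at hr
      rw [hr]
      exact Nat.zero_le _
  have hmem : x⁻¹ * y ∈ ((P : Subgroup G) ⊔ F) ⊔ ((Q : Subgroup G) ⊔ F) := by
    rw [htop]; trivial
  obtain ⟨k1, hk1, k2, hk2, hk⟩ := Subgroup.mem_sup_of_normal_left.mp hmem
  have hxy : x * k1 = y * k2⁻¹ := by
    calc x * k1 = x * (k1 * k2) * k2⁻¹ := by group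
      _ = y * k2⁻¹ := by rw [hk]; group
  refine ⟨x * k1, ?_⟩
  have hd0 : Cfsg.charDegree (χ : G → ℂ) ≠ 0 := (charDegree_pos χ.2).ne'
  rw [← Nat.factorization_le_iff_dvd hd0 Subgroup.index_ne_zero_of_finite]
  intro r
  by_cases hr : r ∈ (Nat.card G).primeFactors
  · rw [hpqeq] at hr
    rcases Finset.mem_insert.mp hr with rfl | hr
    · exact hx k1 hk1
    · rw [Finset.mem_singleton] at hr
      subst hr
      rw [hxy]
      exact hy _ (Subgroup.inv_mem _ hk2)
  · rw [← Nat.support_factorization, Finsupp.notMem_support_iff] at hr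
    have h1 := (Nat.factorization_le_iff_dvd hd0 Nat.card_pos.ne').mpr (charDegree_dvd_card χ.2) r
    rw [hr] at h1
    exact h1.trans (Nat.zero_le _)


end Cfsg.Agent.S4993
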