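import Cfsg.Statements.S4997
import Cfsg.Agent.Lib.VanPSing4

set_option autoImplicit false
open Cfsg

namespace Cfsg.Agent.S4997

/-- Let p be an odd prime and G a finite solvable group with exactly one conjugacy class consisting of vanishing elements (elements at which some irreducible complex character is zero) of order divisible by p. Let P be a Sylow p-subgroup of G. Then the order of P is at most p times the order of the largest normal p-subgroup of G. -/
theorem result {G : Type*} [Group G] [Finite G] (hsolv : Group.IsSolvable G) (p : ℕ) [Fact p.Prime] (hp : p ≠ 2) (h1 : Set.ncard {C : ConjClasses G | (∀ g ∈ C.carrier, ∃ χ : Cfsg.IrrCharacter G, (χ : G → ℂ) g = 0) ∧ ∃ g ∈ C.carrier, p ∣ orderOf g} = 1) (P : Sylow p G) : Nat.card ↥(P : Subgroup G) ≤ p * Nat.card ↥(Cfsg.pCore p G) := by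
  obtain ⟨C0, hC0⟩ := Set.ncard_eq_one.1 h1
  obtain ⟨g0, rfl⟩ := ConjClasses.exists_rep C0
  refine Cfsg.Agent.Lib.VanPSing4.card_le (orderOf g0) ?_ P
  rintro g ⟨χ, hχ⟩ hpg
  have h2 : ConjClasses.mk g ∈ {C : ConjClasses G | (∀ g ∈ C.carrier, ∃ χ : Cfsg.IrrCharacter G, (χ : G → ℂ) g = 0) ∧
      ∃ g ∈ C.carrier, p ∣ orderOf g} := by
    refine ⟨?_, g, ConjClasses.mem_carrier_mk, hpg⟩
    intro g' hg'
    rw [ConjClasses.mem_carrier_iff_mk_eq, ConjClasses.mk_eq_mk_iff_isConj, isConj_iff] at hg'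
    obtain ⟨c, hc⟩ := hg'
    refine ⟨χ, ?_⟩
    rw [← hχ, ← hc]
    exact (χ.2.isClassFunction g' c).symm
  rw [hC0, Set.mem_singleton_iff, ConjClasses.mk_eq_mk_iff_isConj, isConj_iff] at h2
  obtain ⟨c, hc⟩ := h2
  rw [← hc]
  have h3 : c * g * c⁻¹ = MulAut.conj c g := rfl
  rw [h3, MulEquiv.orderOf_eq]

end Cfsg.Agent.S4997
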