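import Cfsg.Statements.S5008
import Mathlib
import Cfsg.Agent.S4888
import Cfsg.Agent.Lib.H12Van2
import Cfsg.Agent.Lib.H76Char

set_option autoImplicit false
open Cfsg

namespace Cfsg.Agent.S5008
open Cfsg.Agent.Lib Cfsg.Agent.Lib.BlockRing


/-- Let `G` be a finite group and `p` a prime dividing the size of no vanishing conjugacy class of `G` (a class of an element on which some irreducible complex character takes the value zero). Then `G` has a normal `p`-complement and abelian Sylow `p`-subgroups. The known proof uses the classification of finite simple groups. -/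
theorem result {G : Type*} [Group G] [Finite G] (p : ℕ) [Fact p.Prime]
    (h : ∀ x : G, (∃ χ : Cfsg.IrrCharacter G, (χ : G → ℂ) x = 0) → ¬ p ∣ (Subgroup.centralizer ({x} : Set G)).index) :
    Cfsg.HasNormalPComplement p G ∧ ∀ P : Sylow p G, IsMulCommutative (P : Subgroup G) := by
  classical
  obtain ⟨M, hM⟩ := H76Char.exists_isPModular p
  have hMp := BlockRing.isPrime hM
  have hcomp : Cfsg.HasNormalPComplement p G := by
    refine (Cfsg.Agent.S4888.result p M hM).mp ⟨1, fun χ hχ _ => ?_⟩
    by_contra hne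
    obtain ⟨x, hx⟩ := H12Van2.exists_zero χ hne
    have h1 := hχ x
    unfold centralChar at h1
    rw [hx, mul_zero, zero_div, sub_zero, mul_one, div_one, idl_natCast_iff hM] at h1
    exact h x ⟨χ, hx⟩ h1
  refine ⟨hcomp, fun P => ?_⟩
  obtain ⟨P0, N, hN, hNP⟩ := hcomp
  have hcardN : ¬ p ∣ Nat.card N := by
    have h1 : N.index = Nat.card P0 := hNP.symm.index_eq_card
    intro h2
    have h3 := hNP.card_mul_card
    have h4 := P0.card_eq_multiplicity
    rw [h4] at h3
    have h5 : p ^ ((Nat.card G).factorization p + 1) ∣ Nat.card G := by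
      have h6 : p ^ ((Nat.card G).factorization p) * p ∣ p ^ ((Nat.card G).factorization p) * Nat.card N :=
        mul_dvd_mul_left _ h2
      rw [pow_succ]
      refine h6.trans (dvd_of_eq ?_)
      rw [mul_comm]
      exact h3
    exact Nat.pow_succ_factorization_not_dvd Nat.card_pos.ne' Fact.out h5
  have hab : ∀ a b : G ⧸ N, a * b = b * a := by
    by_contra hna
    have hna' : ¬ IsMulCommutative (G ⧸ N) := fun h' => hna fun a b => h'.is_comm.comm a b
    obtain ⟨ψ, hψ⟩ := H12Van2.exists_nonlinear hna'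
    obtain ⟨y, hy⟩ := H12Van2.exists_zero ψ hψ
    obtain ⟨x, rfl⟩ := QuotientGroup.mk_surjective y
    have h1 := h x ⟨⟨fun g : G => (ψ : G ⧸ N → ℂ) (g : G ⧸ N), ψ.2.inflate N⟩, hy⟩
    have h2 : (Subgroup.centralizer ({(x : G ⧸ N)} : Set (G ⧸ N))).index ∣ (Subgroup.centralizer ({x} : Set G)).index := by
      have h3 : (Subgroup.centralizer ({x} : Set G)).map (QuotientGroup.mk' N) ≤
          Subgroup.centralizer ({(x : G ⧸ N)} : Set (G ⧸ N)) := by
        rintro _ ⟨g, hg, rfl⟩
        have hg' : g ∈ Subgroup.centralizer ({x} : Set G) := hg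
        rw [Subgroup.mem_centralizer_singleton_iff] at hg' ⊢
        show (g : G ⧸ N) * (x : G ⧸ N) = (x : G ⧸ N) * (g : G ⧸ N)
        rw [← QuotientGroup.mk_mul, hg', QuotientGroup.mk_mul]
      exact (Subgroup.index_dvd_of_le h3).trans (Subgroup.index_map_dvd _ (QuotientGroup.mk'_surjective N))
    have h4 : (Subgroup.centralizer ({(x : G ⧸ N)} : Set (G ⧸ N))).index ∣ p ^ (Nat.card G).factorization p := by
      have h5 : Nat.card (G ⧸ N) = p ^ (Nat.card G).factorization p := by
        rw [← P0.card_eq_multiplicity]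
        exact hNP.symm.index_eq_card
      rw [← h5]
      exact Subgroup.index_dvd_card _
    have h6 : (Subgroup.centralizer ({(x : G ⧸ N)} : Set (G ⧸ N))).index = 1 := by
      obtain ⟨k, -, hk⟩ := (Nat.dvd_prime_pow Fact.out).mp h4
      rcases Nat.eq_zero_or_pos k with rfl | hk0
      · rw [hk, pow_zero]
      · exfalso
        apply h1
        refine Dvd.dvd.trans ?_ h2
        rw [hk]
        exact dvd_pow_self p hk0.ne'
    rw [Subgroup.index_eq_one] at h6
    refine H12Van2.ne_zero_of_central ψ (z := (x : G ⧸ N)) ?_ hy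
    rw [Subgroup.mem_center_iff]
    intro g
    have h7 : g ∈ Subgroup.centralizer ({(x : G ⧸ N)} : Set (G ⧸ N)) := by rw [h6]; trivial
    rwa [Subgroup.mem_centralizer_singleton_iff] at h7
  refine ⟨⟨fun a b => Subtype.ext ?_⟩⟩
  have h1 : (((a : G) * b) * ((b : G) * a)⁻¹) ∈ N := by
    rw [← QuotientGroup.eq_one_iff, QuotientGroup.mk_mul, QuotientGroup.mk_inv, QuotientGroup.mk_mul,
      QuotientGroup.mk_mul, hab ((a : G) : G ⧸ N) ((b : G) : G ⧸ N), mul_inv_cancel]
  have h2 : (((a : G) * b) * ((b : G) * a)⁻¹) ∈ (P : Subgroup G) :=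
    P.mul_mem (P.mul_mem a.2 b.2) (P.inv_mem (P.mul_mem b.2 a.2))
  have h3 : (((a : G) * b) * ((b : G) * a)⁻¹) = 1 := by
    obtain ⟨k, hk⟩ := P.2 ⟨_, h2⟩
    have h4 : orderOf (((a : G) * b) * ((b : G) * a)⁻¹) ∣ p ^ k := by
      apply orderOf_dvd_of_pow_eq_one
      exact congrArg Subtype.val hk
    have h5 : orderOf (((a : G) * b) * ((b : G) * a)⁻¹) ∣ Nat.card N := by
      have := orderOf_dvd_natCard (⟨_, h1⟩ : N)
      rwa [Subgroup.orderOf_mk] at this
    have h6 : Nat.Coprime (Nat.card N) (p ^ k) :=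
      Nat.Coprime.pow_right _ ((Nat.Prime.coprime_iff_not_dvd Fact.out).mpr hcardN).symm
    exact orderOf_eq_one_iff.mp (Nat.eq_one_of_dvd_coprimes h6 h5 h4)
  rw [mul_inv_eq_one] at h3
  exact h3

end Cfsg.Agent.S5008
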