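import Cfsg.Statements.S5124
import Cfsg.Agent.Lib.FusionHyper

set_option autoImplicit false
open Cfsg
open Cfsg.FusionSystem
open Cfsg.Agent.Lib.FusionBasic
open Cfsg.Agent.Lib.FusionSat
open Cfsg.Agent.Lib.FusionHyper

namespace Cfsg.Agent.S5124

/-- In a saturated fusion system over a finite p-group S the hyperfocal subgroup is strongly closed in the system. -/
theorem result {Ω : Type*} [Group Ω] {S : Subgroup Ω} [Finite S] (p : ℕ) [Fact p.Prime] (hS : IsPGroup p S) (F : Cfsg.FusionSystem S) (hF : F.IsSaturated p) : F.StronglyClosed (F.hyperfocalSubgroup p) := by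
  rw [stronglyClosed_iff]
  refine ⟨hyp_le, fun P f hP hf x hx => ?_⟩
  obtain ⟨s, hs, h1⟩ := exists_conj_mod_hyp hS hF P f hf
  have h2 := Subgroup.mul_mem _ (conj_mem_hyp (F := F) (p := p) hs (hP hx)) (h1 x hx)
  rwa [mul_inv_cancel_left] at h2

end Cfsg.Agent.S5124
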