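import Cfsg.Statements.S5178
import Cfsg.Agent.Lib.H34Exs
import Cfsg.Agent.Lib.PGroupRankThree


set_option autoImplicit false
universe u
open Cfsg

namespace Cfsg.Agent.S5178

open Cfsg Cfsg.FusionSystem Cfsg.Agent.Lib.FusionBasic Cfsg.Agent.Lib.FusionSat Cfsg.Agent.Lib.H34Exs
open scoped commutatorElement


/-- Let p be an odd prime, S a finite p-group containing an extraspecial subgroup Q of index p, and F a saturated fusion system over S whose largest subgroup normal in F is trivial. Then the centre of S equals the centre of Q. -/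
theorem result {Ω : Type u} [Group Ω] {S : Subgroup Ω} [Finite S] (p : ℕ) [Fact p.Prime] (hp : Odd p) (hS : IsPGroup p S)
    (Q : Subgroup Ω) (hQS : Q ≤ S) (hQ : Cfsg.IsExtraspecial p ↥Q) (hQi : (Q.subgroupOf S).index = p)
    (F : Cfsg.FusionSystem S) (hF : F.IsSaturated p) (hO : F.core = ⊥) :
    S ⊓ Subgroup.centralizer (S : Set Ω) = Q ⊓ Subgroup.centralizer (Q : Set Ω) := by
  have hpf : p.Prime := Fact.out
  have hp2 : p ≠ 2 := by rintro rfl; exact absurd hp (by decide)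
  have hQf : Finite Q := finite_of_le hQS
  obtain ⟨⟨hQp, -, hQc⟩, hQz⟩ := hQ
  -- the subgroup `ZQ`
  have hZQ : (Subgroup.center Q).map Q.subtype = Q ⊓ Subgroup.centralizer (Q : Set Ω) := by
    ext x
    constructor
    · rintro ⟨y, hy, rfl⟩
      refine ⟨y.2, ?_⟩
      show (y : Ω) ∈ Subgroup.centralizer (Q : Set Ω)
      rw [Subgroup.mem_centralizer_iff]
      intro v hv
      exact congrArg Subtype.val (Subgroup.mem_center_iff.1 hy ⟨v, hv⟩)
    · rintro ⟨hx, hxc⟩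
      refine ⟨⟨x, hx⟩, ?_, rfl⟩
      show (⟨x, hx⟩ : Q) ∈ Subgroup.center Q
      rw [Subgroup.mem_center_iff]
      exact fun v => Subtype.ext (Subgroup.mem_centralizer_iff.1 hxc v v.2)
  have hcardZ : Nat.card (Q ⊓ Subgroup.centralizer (Q : Set Ω) : Subgroup Ω) = p := by
    rw [← hZQ, Subgroup.card_map_of_injective Q.subtype_injective, hQz]
  have hQn : (Q.subgroupOf S).Normal := Cfsg.Agent.Lib.PGroupRankThree.normal_of_index_eq_prime hS hQi
  have hconj : ∀ s ∈ S, ∀ x ∈ Q, s * x * s⁻¹ ∈ Q := fun s hs x hx =>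
    hQn.conj_mem ⟨x, hQS hx⟩ hx ⟨s, hs⟩
  have hZc : ∀ v ∈ Q ⊓ Subgroup.centralizer (Q : Set Ω), ∀ s ∈ S, s * v = v * s := by
    have hn : ((Q ⊓ Subgroup.centralizer (Q : Set Ω)).subgroupOf S).Normal := by
      refine ⟨fun x hx g => ?_⟩
      have hx' : (x : Ω) ∈ Q ⊓ Subgroup.centralizer (Q : Set Ω) := hx
      show (g : Ω) * x * (g : Ω)⁻¹ ∈ Q ⊓ Subgroup.centralizer (Q : Set Ω)
      refine ⟨hconj g g.2 x hx'.1, Subgroup.mem_centralizer_iff.2 ?_⟩
      intro v hv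
      have h1 := hconj (g : Ω)⁻¹ (S.inv_mem g.2) v hv
      have h2 := Subgroup.mem_centralizer_iff.1 hx'.2 _ h1
      have h3 : v * ((g : Ω) * x * (g : Ω)⁻¹) = g * (((g : Ω)⁻¹ * v * (g : Ω)⁻¹⁻¹) * x) * (g : Ω)⁻¹ := by group
      rw [h3, h2]; group
    intro v hv s hs
    have hc' : Nat.card ((Q ⊓ Subgroup.centralizer (Q : Set Ω)).subgroupOf S) = p := by
      rw [← hcardZ]
      exact Nat.card_congr (Subgroup.subgroupOfEquivOfLe (inf_le_left.trans hQS)).toEquiv
    have h1 := Cfsg.Agent.Lib.FusionGESMain.central_of_card hS _ hc' (n := ⟨v, hQS hv.1⟩) hv ⟨s, hs⟩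
    exact congrArg Subtype.val h1
  refine le_antisymm ?_ ?_
  swap
  · intro v hv
    refine ⟨hQS hv.1, ?_⟩
    show v ∈ Subgroup.centralizer (S : Set Ω)
    rw [Subgroup.mem_centralizer_iff]
    exact fun s hs => hZc v hv s hs
  intro w hw
  by_contra hwZ
  have hwc : ∀ s ∈ S, s * w = w * s := fun s hs => Subgroup.mem_centralizer_iff.1 hw.2 s hs
  have hwQ : w ∉ Q := by
    intro h1
    apply hwZ
    refine ⟨h1, ?_⟩
    show w ∈ Subgroup.centralizer (Q : Set Ω)
    rw [Subgroup.mem_centralizer_iff]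
    exact fun v hv => hwc v (hQS hv)
  -- the generator `z`
  have hnt : Nontrivial (Q ⊓ Subgroup.centralizer (Q : Set Ω) : Subgroup Ω) := by
    have hf : Finite (Q ⊓ Subgroup.centralizer (Q : Set Ω) : Subgroup Ω) := finite_of_le (inf_le_left.trans hQS)
    rw [← Finite.one_lt_card_iff_nontrivial, hcardZ]; exact hpf.one_lt
  obtain ⟨⟨z, hz⟩, hz1⟩ := exists_ne (1 : (Q ⊓ Subgroup.centralizer (Q : Set Ω) : Subgroup Ω))
  have hz1' : z ≠ 1 := fun h => hz1 (Subtype.ext h)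
  have hzo : orderOf z = p := by
    have h1 := orderOf_dvd_natCard (⟨z, hz⟩ : (Q ⊓ Subgroup.centralizer (Q : Set Ω) : Subgroup Ω))
    rw [hcardZ, Subgroup.orderOf_mk] at h1
    exact (hpf.eq_one_or_self_of_dvd _ h1).resolve_left fun h2 => hz1' (orderOf_eq_one_iff.1 h2)
  have hzpow : Subgroup.zpowers z = Q ⊓ Subgroup.centralizer (Q : Set Ω) := by
    have hf : Finite (Q ⊓ Subgroup.centralizer (Q : Set Ω) : Subgroup Ω) := finite_of_le (inf_le_left.trans hQS)
    apply Subgroup.eq_of_le_of_card_ge (Subgroup.zpowers_le.2 hz)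
    rw [Nat.card_zpowers, hzo, hcardZ]
  -- decomposition
  have hdec : ∀ x ∈ S, ∃ k : ℕ, ∃ q ∈ Q, x = w ^ k * q := by
    intro x hx
    have h5 : Nat.card (S ⧸ Q.subgroupOf S) = p := hQi
    have h6 : ((⟨w, hw.1⟩ : S) : S ⧸ Q.subgroupOf S) ≠ 1 := by
      rw [Ne, QuotientGroup.eq_one_iff]
      exact fun h => hwQ h
    obtain ⟨k, hk⟩ := mem_powers_of_prime_card h5 h6 (g' := ((⟨x, hx⟩ : S) : S ⧸ Q.subgroupOf S))
    have hk' : (((⟨w, hw.1⟩ : S) ^ k : S) : S ⧸ Q.subgroupOf S) = ((⟨x, hx⟩ : S) : S ⧸ Q.subgroupOf S) := hk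
    rw [QuotientGroup.eq] at hk'
    exact ⟨k, (w ^ k)⁻¹ * x, hk', by group⟩
  have hQcomm : ∀ q ∈ Q, ∀ r ∈ Q, ∃ k : ℤ, q * r * q⁻¹ = r * z ^ k := by
    intro q hq r hr
    have h1 : ⁅(⟨q, hq⟩ : Q), (⟨r, hr⟩ : Q)⁆ ∈ commutator Q := Subgroup.commutator_mem_commutator (Subgroup.mem_top _) (Subgroup.mem_top _)
    rw [hQc] at h1
    have h2 : q * r * q⁻¹ * r⁻¹ ∈ Q ⊓ Subgroup.centralizer (Q : Set Ω) := by
      rw [← hZQ]
      exact ⟨_, h1, rfl⟩
    rw [← hzpow] at h2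
    obtain ⟨k, hk⟩ := h2
    have hk' : z ^ k = q * r * q⁻¹ * r⁻¹ := hk
    refine ⟨k, ?_⟩
    have h3 : q * r * q⁻¹ = z ^ k * r := by rw [hk']; group
    rw [h3]
    exact (((show Commute r z from hZc z hz r (hQS hr)).zpow_right k).eq).symm
  have hXS : XS S p z w := by
    refine ⟨hS, hQS hz.1, ?_, hz1', fun s hs => hZc z hz s hs, ?_, hw.1, hwc, ?_, ?_⟩
    · rw [← hzo]; exact pow_orderOf_eq_one z
    · intro x hx y hy
      obtain ⟨k, q, hq, rfl⟩ := hdec x hx
      obtain ⟨l, r, hr, rfl⟩ := hdec y hy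
      obtain ⟨m, hm⟩ := hQcomm q hq r hr
      refine ⟨m, ?_⟩
      have h1 : Commute w q := (hwc q (hQS hq)).symm
      have h2 : Commute w r := (hwc r (hQS hr)).symm
      have h3 : Commute (w ^ k) (w ^ l * r) := ((Commute.refl w).pow_pow k l).mul_right (h2.pow_left k)
      have h4 : (w ^ k * q) * (w ^ l * r) * (w ^ k * q)⁻¹ = w ^ k * (q * w ^ l * q⁻¹ * (q * r * q⁻¹)) * (w ^ k)⁻¹ := by group
      have h5 : q * w ^ l * q⁻¹ = w ^ l := by
        rw [← (h1.pow_left l).eq]; group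
      rw [h4, h5, hm]
      have h6 : Commute (w ^ k) (w ^ l * (r * z ^ m)) := by
        rw [← mul_assoc]
        exact h3.mul_right (((show Commute w z from (hwc z (hQS hz.1)).symm).pow_left k).zpow_right m)
      rw [h6.eq]; group
    · rw [hzpow]; exact hwZ
    · by_contra hcon
      push Not at hcon
      have h1 : commutator Q = ⊥ := by
        rw [commutator_def, Subgroup.commutator_eq_bot_iff_le_centralizer]
        intro x _
        rw [Subgroup.mem_centralizer_iff]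
        intro y _
        exact Subtype.ext (hcon y (hQS y.2) x (hQS x.2))
      rw [← hQc, h1, Subgroup.card_bot] at hQz
      exact hpf.one_lt.ne hQz
  exact hXS.core_ne_bot hp2 hF hO

end Cfsg.Agent.S5178
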