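import Cfsg.Statements.S5179
import Cfsg.Agent.Lib.FusionEmb
import Cfsg.Agent.Lib.FusionNormal
import Cfsg.Agent.Lib.FusionEss
import Cfsg.Agent.Lib.MetaFus
import Cfsg.Agent.Lib.FusionAbel
import Cfsg.Agent.Lib.HBBasic

set_option autoImplicit false
universe u
open Cfsg

namespace Cfsg.Agent.S5179

open Cfsg.FusionSystem Cfsg.Agent.Lib Cfsg.Agent.Lib.FusionBasic Cfsg.Agent.Lib.FusionSat Cfsg.Agent.Lib.FusionNormal
open scoped commutatorElement

section Grp

variable {X : Type*} [Group X] [Finite X] {p : ℕ} [hp : Fact p.Prime]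

/-- In an extraspecial group: an element commuting with `w` outside of a commutative subgroup. -/
theorem exists_comm_not_mem (hX : Cfsg.IsExtraspecial p X) (E : Subgroup X)
    (hab : ∀ x ∈ E, ∀ y ∈ E, x * y = y * x) (hE : E ≠ ⊤) (h5 : p ^ 4 ≤ Nat.card X) (w : X) :
    ∃ x, x * w = w * x ∧ x ∉ E := by
  by_contra hcon
  push Not at hcon
  have hXp : IsPGroup p X := hX.1.1
  have hcl : ∀ x y : X, ⁅x, y⁆ ∈ Subgroup.center X := by
    intro x y
    rw [← hX.1.2.2]
    exact Subgroup.commutator_mem_commutator (Subgroup.mem_top x) (Subgroup.mem_top y)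
  have hzc : ∀ z ∈ Subgroup.center X, ∀ x : X, x * z = z * x := fun z hz x => Subgroup.mem_center_iff.mp hz x
  -- the commutator homomorphism
  let φ : X → X →* X := fun w =>
    { toFun := fun x => ⁅x, w⁆
      map_one' := by simp [commutatorElement_def]
      map_mul' := by
        intro x y
        have h1 := hzc _ (hcl y w) x
        have h2 : ⁅x * y, w⁆ = x * ⁅y, w⁆ * x⁻¹ * ⁅x, w⁆ := by simp only [commutatorElement_def]; group
        rw [h2, h1]
        have h3 := hzc _ (hcl y w) ⁅x, w⁆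
        rw [mul_assoc ⁅y, w⁆ x, mul_inv_cancel, mul_one, h3] }
  have hφr : ∀ w, (φ w).range ≤ Subgroup.center X := by
    rintro w _ ⟨x, rfl⟩
    exact hcl x w
  have hker : ∀ w x, x ∈ (φ w).ker ↔ x * w = w * x := by
    intro w x
    rw [MonoidHom.mem_ker]
    show ⁅x, w⁆ = 1 ↔ _
    rw [commutatorElement_eq_one_iff_mul_comm]
  have hcard : ∀ w, Nat.card X ≤ Nat.card (φ w).ker * p := by
    intro w
    have h1 := (φ w).ker.card_mul_index
    rw [Subgroup.index_ker] at h1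
    rw [← h1]
    refine Nat.mul_le_mul_left _ ?_
    rw [← hX.2]
    exact Nat.card_mono (Set.toFinite _) (hφr w)
  have hkw : (φ w).ker ≤ E := fun x hx => hcon x ((hker w x).mp hx)
  have h1 : Nat.card X ≤ Nat.card E * p :=
    (hcard w).trans (Nat.mul_le_mul_right _ (Nat.card_mono (Set.toFinite _) hkw))
  obtain ⟨y, -, hy⟩ := SetLike.exists_of_lt (lt_top_iff_ne_top.mpr hE)
  have h2 : E ⊔ Subgroup.zpowers y = ⊤ := by
    apply Subgroup.eq_top_of_card_eq
    apply le_antisymm (Subgroup.card_le_card_group _)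
    refine h1.trans ?_
    have hlt : E < E ⊔ Subgroup.zpowers y := lt_of_le_of_ne le_sup_left (fun h => hy (by
      rw [h]; exact (le_sup_right : Subgroup.zpowers y ≤ _) (Subgroup.mem_zpowers y)))
    obtain ⟨a, ha⟩ := IsPGroup.iff_card.mp (hXp.to_subgroup E)
    obtain ⟨b, hb⟩ := IsPGroup.iff_card.mp (hXp.to_subgroup (E ⊔ Subgroup.zpowers y))
    have h3 : Nat.card E < Nat.card (E ⊔ Subgroup.zpowers y : Subgroup X) := by
      have := Set.Finite.card_lt_card (Set.toFinite ((E ⊔ Subgroup.zpowers y : Subgroup X) : Set X)) hlt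
      simpa using this
    rw [ha, hb] at h3 ⊢
    have h4 : a < b := (Nat.pow_lt_pow_iff_right hp.out.one_lt).mp h3
    rw [← pow_succ]
    exact Nat.pow_le_pow_right hp.out.pos h4
  -- C_E(y) ≤ Z(X)
  have h3 : E ⊓ (φ y).ker ≤ Subgroup.center X := by
    intro x hx
    rw [Subgroup.mem_center_iff]
    intro g
    have hg : g ∈ E ⊔ Subgroup.zpowers y := by rw [h2]; exact Subgroup.mem_top g
    have hle : E ⊔ Subgroup.zpowers y ≤ Subgroup.centralizer ({x} : Set X) := by
      rw [sup_le_iff]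
      refine ⟨fun e he => ?_, ?_⟩
      · rw [Subgroup.mem_centralizer_iff]
        rintro _ rfl
        exact hab _ hx.1 e he
      · rw [Subgroup.zpowers_le, Subgroup.mem_centralizer_iff]
        rintro _ rfl
        exact (hker y _).mp hx.2
    have := hle hg
    rw [Subgroup.mem_centralizer_iff] at this
    exact (this x rfl).symm
  have h4 : Nat.card E ≤ Nat.card (E ⊓ (φ y).ker : Subgroup X) * p := by
    have h5 := ((φ y).comp E.subtype).ker.card_mul_index
    rw [Subgroup.index_ker] at h5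
    rw [← h5]
    refine Nat.mul_le_mul ?_ ?_
    · refine Nat.card_le_card_of_injective
        (fun x : ((φ y).comp E.subtype).ker => (⟨((x : E) : X), (x : E).2, x.2⟩ : (E ⊓ (φ y).ker : Subgroup X))) ?_
      intro a b hab
      apply Subtype.ext; apply Subtype.ext
      exact congrArg (fun v : (E ⊓ (φ y).ker : Subgroup X) => (v : X)) hab
    · rw [← hX.2]
      refine Nat.card_mono (Set.toFinite _) ?_
      rintro _ ⟨x, rfl⟩
      exact hφr y ⟨x, rfl⟩
  have h5' : Nat.card (E ⊓ (φ y).ker : Subgroup X) ≤ p := by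
    rw [← hX.2]
    exact Nat.card_mono (Set.toFinite _) h3
  have h6 : Nat.card X ≤ p ^ 3 := by
    calc Nat.card X ≤ Nat.card E * p := h1
      _ ≤ (Nat.card (E ⊓ (φ y).ker : Subgroup X) * p) * p := Nat.mul_le_mul_right _ h4
      _ ≤ (p * p) * p := Nat.mul_le_mul_right _ (Nat.mul_le_mul_right _ h5')
      _ = p ^ 3 := by ring
  have h7 : p ^ 3 < p ^ 4 := Nat.pow_lt_pow_right hp.out.one_lt (by norm_num)
  omega

end Grp


/-- Let p be an odd prime, S a finite p-group of order at least p⁶ containing an extraspecial subgroup Q of index p, and F a saturated fusion system over S whose largest subgroup normal in F is trivial. Then no proper subgroup of Q is essential in F: an essential subgroup of F contained in Q equals Q. -/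
theorem result {Ω : Type u} [Group Ω] {S : Subgroup Ω} [Finite S] (p : ℕ) [Fact p.Prime] (hp : Odd p) (hS : IsPGroup p S)
    (Q : Subgroup Ω) (hQS : Q ≤ S) (hQ : Cfsg.IsExtraspecial p ↥Q) (hQi : (Q.subgroupOf S).index = p)
    (h6 : p ^ 6 ≤ Nat.card S)
    (F : Cfsg.FusionSystem S) (hF : F.IsSaturated p) (hO : F.core = ⊥)
    (E : Subgroup Ω) (hEQ : E ≤ Q) (hE : F.IsEssential p E) : E = Q := by
  classical
  have hp' : p.Prime := Fact.out
  have hfQ : Finite Q := Finite.of_injective (Subgroup.inclusion hQS) (Subgroup.inclusion_injective hQS)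
  have hfE : Finite E := Finite.of_injective (Subgroup.inclusion hEQ) (Subgroup.inclusion_injective hEQ)
  have hES : E ≤ S := hEQ.trans hQS
  by_contra hne
  have hQp : IsPGroup p Q := hQ.1.1
  -- the centre of Q in the ambient group
  have hcl : ∀ x ∈ Q, ∀ y ∈ Q, ∀ g ∈ Q, g * ⁅x, y⁆ = ⁅x, y⁆ * g := by
    intro x hx y hy g hg
    have h1 : ⁅(⟨x, hx⟩ : Q), (⟨y, hy⟩ : Q)⁆ ∈ Subgroup.center Q := by
      rw [← hQ.1.2.2]
      exact Subgroup.commutator_mem_commutator (Subgroup.mem_top _) (Subgroup.mem_top _)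
    exact congrArg Subtype.val (Subgroup.mem_center_iff.mp h1 ⟨g, hg⟩)
  have hpowc : ∀ x ∈ Q, ∀ g ∈ Q, g * x ^ p = x ^ p * g := by
    intro x hx g hg
    have h1 : (⟨x, hx⟩ : Q) ^ p ∈ Subgroup.center Q := by
      rw [← hQ.1.2.1]
      exact HBBasic.pow_mem_frattini hQp _
    exact congrArg Subtype.val (Subgroup.mem_center_iff.mp h1 ⟨g, hg⟩)
  set Z : Subgroup Ω := (Subgroup.center Q).map Q.subtype with hZdef
  have hZcard : Nat.card Z = p := by
    rw [hZdef, Subgroup.card_map_of_injective Q.subtype_injective]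
    exact hQ.2
  have hmemZ : ∀ z, z ∈ Z ↔ z ∈ Q ∧ ∀ g ∈ Q, g * z = z * g := by
    intro z
    constructor
    · rintro ⟨z', hz', rfl⟩
      refine ⟨z'.2, fun g hg => ?_⟩
      exact congrArg Subtype.val (Subgroup.mem_center_iff.mp hz' ⟨g, hg⟩)
    · rintro ⟨h1, h2⟩
      refine ⟨⟨z, h1⟩, ?_, rfl⟩
      show _ ∈ Subgroup.center Q
      rw [Subgroup.mem_center_iff]
      intro g
      exact Subtype.ext (h2 g g.2)
  have hcommZ : ∀ x ∈ Q, ∀ y ∈ Q, ⁅x, y⁆ ∈ Z := by
    intro x hx y hy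
    rw [hmemZ]
    refine ⟨?_, hcl x hx y hy⟩
    rw [commutatorElement_def]
    exact Q.mul_mem (Q.mul_mem (Q.mul_mem hx hy) (Q.inv_mem hx)) (Q.inv_mem hy)
  have hpowZ : ∀ x ∈ Q, x ^ p ∈ Z := by
    intro x hx
    rw [hmemZ]
    exact ⟨Q.pow_mem hx p, hpowc x hx⟩
  -- Z ≤ E
  have hCE : centralizerIn S E ≤ E := hE.1.2 E (isConj_refl F hES)
  have hZE : Z ≤ E := by
    intro z hz
    rw [hmemZ] at hz
    apply hCE
    refine ⟨hQS hz.1, ?_⟩
    show z ∈ Subgroup.centralizer (E : Set Ω)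
    rw [Subgroup.mem_centralizer_iff]
    intro g hg
    exact hz.2 g (hEQ hg)
  have hgenZ : ∀ z ∈ Z, z ≠ 1 → ∀ K : Subgroup Ω, z ∈ K → Z ≤ K := by
    intro z hz hz1 K hzK
    have h1 : Subgroup.zpowers z = Z := by
      have hle : Subgroup.zpowers z ≤ Z := Subgroup.zpowers_le.mpr hz
      have hfZ : Finite Z := Nat.finite_of_card_ne_zero (by rw [hZcard]; exact hp'.ne_zero)
      apply Subgroup.eq_of_le_of_card_ge hle
      have h2 : Nat.card (Subgroup.zpowers z) ∣ p := by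
        rw [← hZcard]; exact Subgroup.card_dvd_of_le hle
      rcases (Nat.dvd_prime hp').mp h2 with h3 | h3
      · exfalso
        apply hz1
        rw [Nat.card_zpowers, orderOf_eq_one_iff] at h3
        exact h3
      · rw [h3, hZcard]
    rw [← h1]
    exact Subgroup.zpowers_le.mpr hzK
  -- elements of Q normalise E
  have hQN : ∀ y ∈ Q, y ∈ Subgroup.normalizer (E : Set Ω) := by
    have key : ∀ y ∈ Q, ∀ x ∈ E, y * x * y⁻¹ ∈ E := by
      intro y hy x hx
      have h1 : y * x * y⁻¹ = ⁅y, x⁆ * x := by rw [commutatorElement_def]; group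
      rw [h1]
      exact E.mul_mem (hZE (hcommZ y hy x (hEQ hx))) hx
    intro y hy
    rw [Subgroup.mem_normalizer_iff]
    intro x
    refine ⟨key y hy x, fun h => ?_⟩
    have := key y⁻¹ (Q.inv_mem hy) _ h
    have h2 : y⁻¹ * (y * x * y⁻¹) * y⁻¹⁻¹ = x := by group
    rwa [h2] at this
  obtain ⟨y, hyQ, hyE⟩ := SetLike.exists_of_lt (lt_of_le_of_ne hEQ hne)
  -- Z is not inside the Frattini subgroup
  have hrad := isRadical_of_essential hS hE
  have hnot : ¬ Z ≤ (frattini ↥E).map E.subtype := by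
    intro hle
    apply hyE
    have hSE : S ⊓ E = E := inf_eq_right.mpr hES
    refine MetaFus.mem_of_frattini hS (FusionAbel.stronglyClosed_top F) hE.1 hrad (hQS hyQ) (hQN y hyQ) ?_
    rw [hSE]
    intro x hx
    apply hle
    have h1 : x⁻¹ * (y * x * y⁻¹) = ⁅x⁻¹, y⁆ := by rw [commutatorElement_def]; group
    rw [h1]
    exact hcommZ _ (Q.inv_mem (hEQ hx)) y hyQ
  have hEp : IsPGroup p E := hS.to_subgroup (E.subgroupOf S) |>.of_equiv (Subgroup.subgroupOfEquivOfLe hES)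
  have hab : ∀ x ∈ E, ∀ y ∈ E, x * y = y * x := by
    intro x hx y hy
    by_contra hxy
    apply hnot
    refine hgenZ ⁅x, y⁆ (hcommZ x (hEQ hx) y (hEQ hy)) ?_ _ ?_
    · intro h
      exact hxy (commutatorElement_eq_one_iff_mul_comm.mp h)
    · refine ⟨⁅(⟨x, hx⟩ : E), (⟨y, hy⟩ : E)⁆, ?_, rfl⟩
      apply HBBasic.commutator_le_frattini hEp
      exact Subgroup.commutator_mem_commutator (Subgroup.mem_top _) (Subgroup.mem_top _)
  -- commuting with w outside of E
  have hex : ∀ w ∈ E, ∃ x ∈ Q, x * w = w * x ∧ x ∉ E := by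
    intro w hw
    have hcardQ : p ^ 4 ≤ Nat.card Q := by
      have h1 := (Q.subgroupOf S).card_mul_index
      rw [hQi, Nat.card_congr (Subgroup.subgroupOfEquivOfLe hQS).toEquiv] at h1
      have h2 : p ^ 5 * p ≤ Nat.card Q * p := by rw [h1]; calc p ^ 5 * p = p ^ 6 := by ring
                                                               _ ≤ _ := h6
      have h3 := Nat.le_of_mul_le_mul_right h2 hp'.pos
      exact (Nat.pow_le_pow_right hp'.pos (by norm_num)).trans h3
    obtain ⟨x, hx1, hx2⟩ := exists_comm_not_mem hQ (E.subgroupOf Q)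
      (fun a ha b hb => Subtype.ext (hab a ha b hb))
      (fun h => hne (le_antisymm hEQ (Subgroup.subgroupOf_eq_top.mp h))) hcardQ ⟨w, hEQ hw⟩
    exact ⟨x, x.2, congrArg Subtype.val hx1, fun h => hx2 (Subgroup.mem_subgroupOf.mpr h)⟩
  obtain ⟨g, hg, hgc⟩ := FusionEmb.exists_not_commute hS hF hE hab
  -- a generator of Z
  obtain ⟨z, hz, hz1⟩ : ∃ z ∈ Z, z ≠ 1 := by
    have hfZ : Finite Z := Nat.finite_of_card_ne_zero (by rw [hZcard]; exact hp'.ne_zero)
    have : Nontrivial Z := Finite.one_lt_card_iff_nontrivial.mp (by rw [hZcard]; exact hp'.one_lt)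
    obtain ⟨z, hz⟩ := exists_ne (1 : Z)
    exact ⟨z, z.2, fun h => hz (Subtype.ext h)⟩
  have hcyc : ∀ w ∈ Z, ∃ n : ℤ, z ^ n = w := by
    intro w hw
    exact Subgroup.mem_zpowers_iff.mp (hgenZ z hz hz1 _ (Subgroup.mem_zpowers z) hw)
  obtain ⟨x, hxQ, hxc, hxE⟩ := hex (g ⟨z, hZE hz⟩) (g ⟨z, hZE hz⟩).2
  obtain ⟨x', hxQ', hxc', hxE'⟩ := hex (g⁻¹ ⟨z, hZE hz⟩) (g⁻¹ ⟨z, hZE hz⟩).2
  have hne1 : ∀ x (hx : x ∈ Q), x ∉ E → conjAut E x (hQN x hx) ≠ 1 := by
    intro x hx hxE h
    apply hxE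
    apply hCE
    refine ⟨hQS hx, ?_⟩
    show x ∈ Subgroup.centralizer (E : Set Ω)
    rw [Subgroup.mem_centralizer_iff]
    intro e he
    have h1 := conjAut_apply x (hQN x hx) (⟨e, he⟩ : E)
    rw [h] at h1
    have h2 : e = x * e * x⁻¹ := h1
    have h3 : e * x = x * e * x⁻¹ * x := by rw [← h2]
    rw [h3]; group
  refine hgc _ (conjAut_mem_autInducedBy (K := S) (hQN x hxQ) (hQS hxQ)) _
    (conjAut_mem_autInducedBy (K := S) (hQN x' hxQ') (hQS hxQ')) (hne1 x hxQ hxE) (hne1 x' hxQ' hxE') ?_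
  set t := conjAut E x (hQN x hxQ) with ht
  set s := conjAut E x' (hQN x' hxQ') with hs
  -- t fixes g(z), s fixes g⁻¹ z
  have htz : t (g ⟨z, hZE hz⟩) = g ⟨z, hZE hz⟩ := by
    apply Subtype.ext
    rw [ht, conjAut_apply, hxc]; group
  have hsz : s (g⁻¹ ⟨z, hZE hz⟩) = g⁻¹ ⟨z, hZE hz⟩ := by
    apply Subtype.ext
    rw [hs, conjAut_apply, hxc']; group
  -- t e = z^m * e
  have hte : ∀ e : E, ∃ n : ℤ, t e = (⟨z, hZE hz⟩ : E) ^ n * e := by
    intro e
    obtain ⟨n, hn⟩ := hcyc ⁅x, (e : Ω)⁆ (hcommZ x hxQ e (hEQ e.2))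
    refine ⟨n, Subtype.ext ?_⟩
    rw [ht, conjAut_apply]
    show _ = z ^ n * (e : Ω)
    rw [hn, commutatorElement_def]; group
  have hse : ∀ e : E, ∃ n : ℤ, s e = (⟨z, hZE hz⟩ : E) ^ n * e := by
    intro e
    obtain ⟨n, hn⟩ := hcyc ⁅x', (e : Ω)⁆ (hcommZ x' hxQ' e (hEQ e.2))
    refine ⟨n, Subtype.ext ?_⟩
    rw [hs, conjAut_apply]
    show _ = z ^ n * (e : Ω)
    rw [hn, commutatorElement_def]; group
  set zE : E := ⟨z, hZE hz⟩ with hzE
  have hr : ∀ e : E, ∃ n : ℤ, (g * s * g⁻¹) e = (g zE) ^ n * e := by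
    intro e
    obtain ⟨n, hn⟩ := hse (g⁻¹ e)
    refine ⟨n, ?_⟩
    rw [MulAut.mul_apply, MulAut.mul_apply, hn, map_mul, map_zpow, MulAut.apply_inv_self]
  have hrz : (g * s * g⁻¹) zE = zE := by
    rw [MulAut.mul_apply, MulAut.mul_apply, hsz, MulAut.apply_inv_self]
  have habE : ∀ a b : E, a * b = b * a := fun a b => Subtype.ext (hab a a.2 b b.2)
  apply MulEquiv.ext
  intro e
  obtain ⟨n, hn⟩ := hte e
  obtain ⟨m, hm⟩ := hr e
  show t ((g * s * g⁻¹) e) = (g * s * g⁻¹) (t e)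
  rw [hn, hm, map_mul, map_zpow, htz, hn, map_mul, map_zpow, hrz, hm,
    ← mul_assoc, ← mul_assoc, habE ((g zE) ^ m)]


end Cfsg.Agent.S5179
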