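import Cfsg.Statements.S5185
import Cfsg.Agent.Lib.EssTwo

set_option autoImplicit false
universe u
open Cfsg

namespace Cfsg.Agent.S5185

/-- Let F be a saturated fusion system over a finite p-group S and H an essential subgroup of order p². Then H is elementary abelian (isomorphic to C_p × C_p) and its F-automorphism group contains a subgroup isomorphic to SL(2,p). -/
theorem result {Ω : Type u} [Group Ω] {S : Subgroup Ω} [Finite S] (p : ℕ) [Fact p.Prime] (hS : IsPGroup p S)
    (F : Cfsg.FusionSystem S) (hF : F.IsSaturated p) (H : Subgroup Ω) (hH : F.IsEssential p H) (hcard : Nat.card H = p ^ 2) :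
    Cfsg.IsElementaryAbelian p H ∧
      ∃ K : Subgroup ↥(F.autGroup H), Nonempty (↥K ≃* Matrix.SpecialLinearGroup (Fin 2) (ZMod p)) := by
  have hE := Cfsg.Agent.Lib.EssChain.ess_of_essential hS hF hH
  have hHS := hH.1.1
  have hfin : Finite H := Cfsg.Agent.Lib.FusionSat.finite_of_le hHS
  obtain ⟨h1, h2, K, hK⟩ := Cfsg.Agent.Lib.EssTwo.card_two hcard hE
  refine ⟨⟨⟨⟨fun x y => h2 x y⟩⟩, fun a ha => ?_⟩, K, hK⟩
  exact congrArg Subtype.val (h1 ⟨a, ha⟩)

end Cfsg.Agent.S5185
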