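import Cfsg.Statements.S5191
-- import your own Cfsg.Agent.* helpers here

set_option autoImplicit false
open Cfsg

namespace Cfsg.Agent.S5191

/-- Fusion in a finite group G and in its quotient by O_{p'}(G) agree. Let S be a Sylow p-subgroup of G, N = O_{p'}(G) and P ≤ S. If an element of G/N conjugates the image of P into the image of S, then some element g of G conjugates P into S and induces the same map on P modulo N. (Together with the injectivity of S → G/N this says that g ↦ gN induces an isomorphism of the fusion system of G on S with that of G/N on SN/N.) -/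
theorem result {G : Type*} [Group G] [Finite G] {p : ℕ} [Fact p.Prime]
    [hN : (Cfsg.pPrimeCore p G).Normal] (S : Sylow p G) (P : Subgroup G) (hP : P ≤ (S : Subgroup G))
    (γ : G ⧸ Cfsg.pPrimeCore p G)
    (hγ : ∀ x ∈ P, γ * QuotientGroup.mk x * γ⁻¹ ∈ ((S : Subgroup G).map (QuotientGroup.mk' (Cfsg.pPrimeCore p G)))) :
    ∃ g : G, ∀ x ∈ P, g * x * g⁻¹ ∈ S ∧
      (QuotientGroup.mk (g * x * g⁻¹) : G ⧸ Cfsg.pPrimeCore p G) = γ * QuotientGroup.mk x * γ⁻¹ := by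
  obtain ⟨g₀, rfl⟩ := QuotientGroup.mk_surjective γ
  set N := Cfsg.pPrimeCore p G with hNdef
  have hSH : (S : Subgroup G) ≤ (S : Subgroup G) ⊔ N := le_sup_left
  have key : ∀ x ∈ P, g₀ * x * g₀⁻¹ ∈ (S : Subgroup G) ⊔ N := by
    intro x hx
    obtain ⟨s, hs, hse⟩ := Subgroup.mem_map.mp (hγ x hx)
    have h1 : (QuotientGroup.mk s : G ⧸ N) = QuotientGroup.mk (g₀ * x * g₀⁻¹) := hse
    have h2 : s⁻¹ * (g₀ * x * g₀⁻¹) ∈ N := QuotientGroup.eq.mp h1
    have h3 : g₀ * x * g₀⁻¹ = s * (s⁻¹ * (g₀ * x * g₀⁻¹)) := by group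
    rw [h3]
    exact Subgroup.mul_mem_sup hs h2
  let Q : Subgroup G := P.map (MulAut.conj g₀).toMonoidHom
  have hQH : Q ≤ (S : Subgroup G) ⊔ N := by
    rintro _ ⟨x, hx, rfl⟩
    exact key x hx
  have hQp : IsPGroup p Q := (S.isPGroup'.to_le hP).map _
  have hQ' : IsPGroup p (Q.subgroupOf ((S : Subgroup G) ⊔ N)) :=
    hQp.comap_of_injective _ (Subgroup.subtype_injective _)
  obtain ⟨R, hR⟩ := hQ'.exists_le_sylow
  obtain ⟨x, hx⟩ := MulAction.exists_smul_eq (↥((S : Subgroup G) ⊔ N)) R (S.subtype hSH)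
  -- x conjugates Q into S
  have hconj : ∀ y ∈ Q, (x : G) * y * (x : G)⁻¹ ∈ (S : Subgroup G) := by
    intro y hy
    have h1 : (⟨y, hQH hy⟩ : ↥((S : Subgroup G) ⊔ N)) ∈ (R : Subgroup ↥((S : Subgroup G) ⊔ N)) :=
      hR (by rw [Subgroup.mem_subgroupOf]; exact hy)
    have h2 : x * ⟨y, hQH hy⟩ * x⁻¹ ∈ ((x • R : Sylow p ↥((S : Subgroup G) ⊔ N)) :
        Subgroup ↥((S : Subgroup G) ⊔ N)) := by
      rw [Sylow.coe_subgroup_smul]
      exact Subgroup.smul_mem_pointwise_smul _ (MulAut.conj x) _ h1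
    rw [hx] at h2
    rw [Sylow.coe_subtype, Subgroup.mem_subgroupOf] at h2
    exact h2
  obtain ⟨s, hs, n, hn, hsn⟩ := (Subgroup.mem_sup_of_normal_right (s := (S : Subgroup G)) (t := N)).mp x.2
  refine ⟨n * g₀, fun y hy => ⟨?_, ?_⟩⟩
  · have h1 := hconj (g₀ * y * g₀⁻¹) ⟨y, hy, rfl⟩
    rw [← hsn] at h1
    have h2 := (S : Subgroup G).mul_mem ((S : Subgroup G).mul_mem ((S : Subgroup G).inv_mem hs) h1) hs
    have h3 : s⁻¹ * (s * n * (g₀ * y * g₀⁻¹) * (s * n)⁻¹) * s = n * g₀ * y * (n * g₀)⁻¹ := by group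
    rw [h3] at h2
    exact h2
  · have h1 : (QuotientGroup.mk n : G ⧸ N) = 1 := (QuotientGroup.eq_one_iff n).mpr hn
    show (QuotientGroup.mk (n * g₀ * y * (n * g₀)⁻¹) : G ⧸ N) = _
    rw [QuotientGroup.mk_mul, QuotientGroup.mk_mul, QuotientGroup.mk_mul, QuotientGroup.mk_inv,
      QuotientGroup.mk_mul, h1, one_mul]

end Cfsg.Agent.S5191
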