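import Cfsg.Statements.S5192
import Cfsg.Agent.Lib.FusionThompson
import Cfsg.Agent.Lib.FusionHyper

set_option autoImplicit false
open Cfsg

namespace Cfsg.Agent.S5192

/-- A Thompson-type transfer for saturated fusion systems. Let F be a saturated fusion system on a finite 2-group S, T a subgroup of S of index 2, and i an involution of S such that every fully normalized F-conjugate of i lies in S but outside T. Then i does not lie in the hyperfocal subgroup of F (the Sylow group of the 2-residual subsystem). -/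
theorem result {Ω : Type*} [Group Ω] [Finite Ω] {S : Subgroup Ω}
    (hS : IsPGroup 2 ↥S) (F : Cfsg.FusionSystem S) (hF : F.IsSaturated 2)
    (T : Subgroup Ω) (hTS : T ≤ S) (hT : T.relIndex S = 2)
    (i : Ω) (hi : i ∈ S) (hi2 : orderOf i = 2)
    (h : ∀ j : Ω, F.IsConjElt i j → F.IsFullyNormalized (Subgroup.zpowers j) → j ∉ T) :
    i ∉ F.hyperfocalSubgroup 2 := by
  classical
  have hfin : Finite S := inferInstance
  have hidx : (T.subgroupOf S).index = 2 := hT
  let φ : S →* ℤˣ := MonoidHom.mk' (fun s => if s ∈ T.subgroupOf S then 1 else -1) (by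
    intro a b
    have h1 := Subgroup.mul_mem_iff_of_index_two hidx (a := a) (b := b)
    by_cases ha : a ∈ T.subgroupOf S <;> by_cases hb : b ∈ T.subgroupOf S
    · rw [if_pos ha, if_pos hb, if_pos (h1.2 (iff_of_true ha hb)), one_mul]
    · rw [if_pos ha, if_neg hb, if_neg (fun h2 => hb ((h1.1 h2).1 ha)), one_mul]
    · rw [if_neg ha, if_pos hb, if_neg (fun h2 => ha ((h1.1 h2).2 hb)), mul_one]
    · rw [if_neg ha, if_neg hb, if_pos (h1.2 (iff_of_false ha hb))]; decide)
  have hφ : ∀ s : S, φ s = if s ∈ T.subgroupOf S then 1 else -1 := fun s => rfl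
  intro hmem
  have h2 : i * i = 1 := by rw [← pow_two, ← hi2, pow_orderOf_eq_one]
  have h3 : i ≠ 1 := by
    rintro rfl
    rw [orderOf_one] at hi2
    exact absurd hi2 (by norm_num)
  refine Cfsg.Agent.Lib.FusionThompson.not_mem_focal hS hF φ (i := ⟨i, hi⟩) (Subtype.ext h2)
    (fun h4 => h3 (congrArg Subtype.val h4)) ?_ (Cfsg.Agent.Lib.FusionHyper.hyp_le_focal hmem)
  intro j hj hj2
  rw [hφ, if_neg]
  intro h5
  exact h j hj hj2 h5

end Cfsg.Agent.S5192
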