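import Cfsg.Statements.S5193
import Cfsg.Agent.Lib.H34JCenter


set_option autoImplicit false
open Cfsg

namespace Cfsg.Agent.S5193

open Cfsg.FusionSystem Cfsg.Agent.Lib Cfsg.Agent.Lib.FusionBasic Cfsg.Agent.Lib.FusionSat Cfsg.Agent.Lib.FusionNormSat Cfsg.Agent.Lib.FusionNormal Cfsg.Agent.Lib.FusionRealized Cfsg.Agent.Lib.FusionSys Cfsg.Agent.Lib.H34Local Cfsg.Agent.Lib.H34Center Cfsg.Agent.Lib.H34Center2 Cfsg.Agent.Lib.H34JCenter


/-- Glauberman's Theorem for fusion systems. Let F be a saturated fusion system over a finite p-group S, let J(S) be the subgroup generated by the abelian subgroups of S of largest order, and let N be the normalizer fusion system of J(S) in F (a fusion system over N_S(J(S)) = S). Then every p-th power of an element of Z(S) that lies in the centre of N lies in the centre of F; and if p is odd, or if the symmetric group of degree 4 is not involved in any model of the normalizer system of a fully normalized F-centric subgroup (F is S₄-free), then the centre of N equals the centre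 of F. -/
theorem result {Ω : Type*} [Group Ω] {S : Subgroup Ω} [Finite S] (p : ℕ) [Fact p.Prime] (hS : IsPGroup p S) (F : Cfsg.FusionSystem S) (hF : F.IsSaturated p) (N : Cfsg.FusionSystem (Cfsg.FusionSystem.normalizerIn S (Cfsg.thompsonSubgroupAOf S))) (hN : F.IsNormalizerSystem (Cfsg.thompsonSubgroupAOf S) N) : Subgroup.closure ((fun z : Ω => z ^ p) '' ((S ⊓ Subgroup.centralizer (S : Set Ω) : Subgroup Ω) : Set Ω)) ⊓ N.center ≤ F.center ∧ (p ≠ 2 ∨ F.IsSectionFree p (Equiv.Perm (Fin 4)) → N.center = F.center) := by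

  have hn : S ≤ Subgroup.normalizer (Wof (fun Q _ => thompsonSubgroupA Q) S : Set Ω) :=
    le_trans Subgroup.le_normalizer (Wof_norm (inv_J p) hS)
  have hW₀S : Wof (fun Q _ => thompsonSubgroupA Q) S ≤ S := Wof_le S
  refine ⟨?_, fun h => ?_⟩
  · refine J_part hS hF _ N hN inf_le_right ?_
    intro Q hQ1 hQ2 G _ _ ι hm T hT z hz
    right; left
    obtain ⟨y, hy, rfl⟩ := exists_pow (p := p) (A := S ⊓ Subgroup.centralizer (S : Set Ω))
      (fun a ha b hb => (Subgroup.mem_centralizer_iff.1 hb.2 a ha.1)) hz.1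
    have hyc : ∀ s ∈ S, s * y * s⁻¹ = y := conj_of_mem_center hy
    have hyQ : y ∈ Q := mem_of_central hQ2 hy.1 hyc
    have hyN := (le_normalizerIn hQ1.1) hyQ
    have hyT : lift ι y ∈ (T : Subgroup G) := by
      rw [hT, lift_of_mem hyN]; exact ⟨_, rfl⟩
    refine ⟨lift ι y, ⟨hyT, ?_⟩, ?_⟩
    · show lift ι y ∈ Subgroup.centralizer ((T : Subgroup G) : Set G)
      rw [Subgroup.mem_centralizer_iff]
      intro x hx
      exact lift_comm hQ1 hQ2 hy.1 hyc (hT ▸ hx)
    · rw [lift_of_mem hyN, lift_of_mem ((normalizerIn S Q).pow_mem hyN p), ← map_pow]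
      rfl
  · apply le_antisymm
    · refine J_part hS hF _ N hN le_rfl ?_
      intro Q hQ1 hQ2 G _ _ ι hm T hT z hz
      rcases h with h | h
      · exact Or.inl h
      · exact Or.inr (Or.inr (h Q hQ1 hQ2 _ isNormalizerSystem_normSys G ι hm))
    · exact center_le_center (W₀ := Wof (fun Q _ => thompsonSubgroupA Q) S) hW₀S hn hN

end Cfsg.Agent.S5193
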