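import Cfsg.Statements.S5246
import Cfsg.Agent.Lib.FusionStable

set_option autoImplicit false
open Cfsg Cfsg.FusionSystem Cfsg.Agent.Lib Cfsg.Agent.Lib.FusionBasic Cfsg.Agent.Lib.FusionSat Cfsg.Agent.Lib.FusionStable

namespace Cfsg.Agent.S5246

/-- Let p be an odd prime, G a finite group and P a Sylow p-subgroup. Call a fusion system F p-stable when, for every fully normalized subgroup Q and every χ ∈ Aut_F(Q) acting quadratically on Q (that is, χ fixes a⁻¹χ(a) for every a ∈ Q; equivalently χ(a⁻¹)·a·χ(a⁻¹)·χ(χ(a)) = 1), χ lies in O_p(Aut_F(Q)). Then G is p-stable in the normalizer form (for every p-subgroup Q and x ∈ N_G(Q) with [Q, x, x] = 1, the image of x lies in O_p(N_G(Q)/C_G(Q))) if and only if the fusion system of G on P is p-stable. -/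
theorem result {Ω : Type*} [Group Ω] [Finite Ω] {p : ℕ} [Fact p.Prime] (hp : p ≠ 2) (P : Sylow p Ω) : Cfsg.IsNormalizerPStable p Ω ↔ (∀ Q : Subgroup Ω, (Cfsg.groupFusionSystem (P : Subgroup Ω)).IsFullyNormalized Q → ∀ χ : MulAut ↥Q, χ ∈ (Cfsg.groupFusionSystem (P : Subgroup Ω)).autGroup Q → (∀ a : ↥Q, (χ a⁻¹) * a * (χ a⁻¹) * (χ (χ a)) = 1) → χ ∈ ((Cfsg.pCore p ↥((Cfsg.groupFusionSystem (P : Subgroup Ω)).autGroup Q)).map ((Cfsg.groupFusionSystem (P : Subgroup Ω)).autGroup Q).subtype : Subgroup (MulAut ↥Q))) := by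
  set F := Cfsg.groupFusionSystem (P : Subgroup Ω) with hF
  rw [isNormalizerPStable_iff]
  have hfin : Finite (P : Subgroup Ω) := inferInstance
  have key : ∀ Q : Subgroup Ω, Q ≤ (P : Subgroup Ω) → (Stable F p Q ↔ Stable (groupFusionSystem (⊤ : Subgroup Ω)) p Q) := by
    intro Q hQ
    have h1 := autGroup_group_top (Q := Q) hQ
    exact ⟨fun h => Stable.of_le (by rw [← h1]) h, fun h => Stable.of_le (by rw [h1]) h⟩
  constructor
  · intro h Q hQ
    exact (key Q hQ.1).2 (h Q (P.2.to_le hQ.1))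
  · intro h Q hQp
    obtain ⟨u, hu⟩ := SylCard.exists_conj_mem_top P hQp
    obtain ⟨Q₁, hQ₁⟩ : ∃ Q₁, Q₁ = Q.map (MulAut.conj u).toMonoidHom := ⟨_, rfl⟩
    have hQ₁P : Q₁ ≤ (P : Subgroup Ω) := by
      rw [hQ₁]
      rintro _ ⟨x, hx, rfl⟩
      exact hu x hx
    have h1 : FIso (groupFusionSystem (⊤ : Subgroup Ω)) Q Q₁ (fun x => u * x * u⁻¹) := by
      rw [hQ₁]
      exact fiso_conj _ le_top (Subgroup.mem_top u)
    obtain ⟨Q₂, h2, h3⟩ := exists_fullyNormalized_conj F hQ₁P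
    obtain ⟨f, hf⟩ := isConj_iff_fiso.1 h2
    have h4 : FIso (groupFusionSystem (⊤ : Subgroup Ω)) Q₁ Q₂ f := by
      refine ⟨?_, hf.2⟩
      obtain ⟨-, -, g, hg⟩ := fmap_group_iff.1 hf.1
      exact fmap_group_iff.2 ⟨le_top, fun _ _ => Subgroup.mem_top _, g, hg⟩
    exact ((key Q₂ h3.1).1 (h Q₂ h3)).of_fiso (h1.trans h4)

end Cfsg.Agent.S5246
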