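import Cfsg.Statements.S5270
import Cfsg.Agent.Lib.MaxClassUpper
import Cfsg.Agent.Lib.FusionAgemoJ

set_option autoImplicit false
open Cfsg Cfsg.FusionSystem Cfsg.Agent.Lib Cfsg.Agent.Lib.FusionBasic Cfsg.Agent.Lib.FusionSat Cfsg.Agent.Lib.FusionAlperin

namespace Cfsg.Agent.S5270

/-- Let p ≥ 5 be a prime, S a finite p-group of maximal class of order p^n with n ≥ 4, and F a saturated fusion system over S. If some map of F defined on the second centre Z₂(S) with image Z₂(S) does not carry Z(S) into itself, then the centralizer C_S(Z₂(S)) is an F-essential subgroup. -/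
theorem result {Ω : Type*} [Group Ω] {S : Subgroup Ω} [Finite S] (p : ℕ) [Fact p.Prime] (hS : IsPGroup p ↥S) (n : ℕ) (hn : Nat.card S = p ^ n) (h4 : 4 ≤ n) (hmax : Subgroup.lowerCentralSeries S (n - 2) ≠ ⊥) (F : Cfsg.FusionSystem S) (hF : F.IsSaturated p) (hp : 5 ≤ p) (φ : ↥((Subgroup.upperCentralSeries ↥S 2).map S.subtype) →* Ω) (hφ : φ ∈ F.Hom ((Subgroup.upperCentralSeries ↥S 2).map S.subtype)) (hφZ : φ.range = ((Subgroup.upperCentralSeries ↥S 2).map S.subtype)) (hmove : ∃ (z : Ω) (hz : z ∈ ((Subgroup.upperCentralSeries ↥S 2).map S.subtype)), z ∈ ((Subgroup.center ↥S).map S.subtype) ∧ φ ⟨z, hz⟩ ∉ ((Subgroup.center ↥S).map S.subtype)) : F.IsEssential p (S ⊓ Subgroup.centralizer (((Subgroup.upperCentralSeries ↥S 2).map S.subtype) : Set Ω)) := by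
  have hpp : p.Prime := Fact.out
  have hX : Nat.card ↥S = p ^ n := hn
  have hmap : (⊤ : Subgroup ↥S).lowerCentralSeries (n - 2) ≠ ⊥ := by
    intro h
    apply hmax
    rw [← Subgroup.top_subtype_lowerCentralSeries, h, Subgroup.map_bot]
  have hcl := MaxClassUpper.class_of_ne_bot (by omega) hX hmap
  have hc1 : Nat.card (Subgroup.center ↥S) = p := by
    have := MaxClassUpper.card_ucs (k := 1) (by omega) hX hcl le_rfl (by omega)
    rwa [Subgroup.upperCentralSeries_one, pow_one] at this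
  have hc2 := MaxClassUpper.card_ucs (k := 2) (by omega) hX hcl (by omega) (by omega)
  have hidx := MaxClassUpper.index_centralizer_dvd hc1 hc2
  obtain ⟨Z2, hZ2⟩ : ∃ Z2, Z2 = (Subgroup.upperCentralSeries ↥S 2).map S.subtype := ⟨_, rfl⟩
  obtain ⟨Z, hZ⟩ : ∃ Z, Z = (Subgroup.center ↥S).map S.subtype := ⟨_, rfl⟩
  have hZ2S : Z2 ≤ S := by rw [hZ2]; exact Subgroup.map_subtype_le _
  have hZc : Z = centralizerIn S S := by
    rw [hZ]
    ext x
    rw [FusionJ.mem_center_iff]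
    constructor
    · rintro ⟨y, hy, rfl⟩
      refine ⟨y.2, fun x hx => ?_⟩
      have h1 := congrArg Subtype.val (Subgroup.mem_center_iff.1 hy ⟨x, hx⟩)
      have h2 : x * (y : Ω) = y * x := h1
      show (y : Ω) * x * (y : Ω)⁻¹ = x
      rw [← h2]; group
    · rintro ⟨hx, h⟩
      refine ⟨⟨x, hx⟩, Subgroup.mem_center_iff.2 fun y => Subtype.ext ?_, rfl⟩
      exact (mul_inv_eq_iff_eq_mul.1 (h y y.2)).symm
  have hZZ2 : Z ≤ Z2 := by
    rw [hZ, hZ2]
    apply Subgroup.map_mono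
    rw [← Subgroup.upperCentralSeries_one]
    exact Subgroup.upperCentralSeries_mono ↥S (by norm_num)
  have hSZ2 : S ≤ Subgroup.normalizer (Z2 : Set Ω) := by
    intro s hs
    have hfin : Finite Z2 := finite_of_le hZ2S
    refine FusionGrp.mem_normalizer_of_conj_mem fun x hx => ?_
    rw [hZ2] at hx ⊢
    obtain ⟨y, hy, rfl⟩ := hx
    have hnn : (Subgroup.upperCentralSeries ↥S 2).Normal := inferInstance
    have hyy : (⟨s, hs⟩ : ↥S) * y * (⟨s, hs⟩ : ↥S)⁻¹ ∈ Subgroup.upperCentralSeries ↥S 2 := hnn.conj_mem y hy ⟨s, hs⟩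
    exact Subgroup.mem_map.2 ⟨(⟨s, hs⟩ : ↥S) * y * (⟨s, hs⟩ : ↥S)⁻¹, hyy, rfl⟩
  have hZ2ab : ∀ x ∈ Z2, ∀ y ∈ Z2, x * y = y * x := by
    have h1 : IsMulCommutative ↥(Subgroup.upperCentralSeries ↥S 2) := IsPGroup.isMulCommutative_of_card_eq_prime_sq hc2
    intro x hx y hy
    rw [hZ2] at hx hy
    obtain ⟨a, ha, rfl⟩ := hx
    obtain ⟨b, hb, rfl⟩ := hy
    have h2 := h1.is_comm.comm ⟨a, ha⟩ ⟨b, hb⟩
    exact congrArg (fun z => ((z : ↥S) : Ω)) (congrArg Subtype.val h2)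
  obtain ⟨C, hC⟩ : ∃ C, C = centralizerIn S Z2 := ⟨_, rfl⟩
  have hgoal : F.IsEssential p C → F.IsEssential p (S ⊓ Subgroup.centralizer (((Subgroup.upperCentralSeries ↥S 2).map S.subtype) : Set Ω)) := by
    intro h
    rw [hC, hZ2] at h
    exact h
  apply hgoal
  have hCS : C ≤ S := by rw [hC]; exact centralizerIn_le S Z2
  have hZ2C : Z2 ≤ C := by
    rw [hC]
    exact fun x hx => mem_centralizerIn.2 ⟨hZ2S hx, Subgroup.mem_centralizer_iff.2 fun y hy => hZ2ab y hy x hx⟩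
  have hCidx : (C.subgroupOf S).index = p := by
    rw [← hidx]
    congr 1
    ext x
    rw [Subgroup.mem_subgroupOf, hC, mem_centralizerIn, Subgroup.mem_centralizer_iff, Subgroup.mem_centralizer_iff]
    constructor
    · rintro ⟨-, h⟩ y hy
      exact Subtype.ext (h y (by rw [hZ2]; exact ⟨y, hy, rfl⟩))
    · intro h
      refine ⟨x.2, ?_⟩
      intro y hy
      rw [hZ2] at hy
      obtain ⟨z, hz, rfl⟩ := hy
      exact congrArg Subtype.val (h z hz)
  have hCneS : C < S := by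
    refine lt_of_le_of_ne hCS fun h => ?_
    rw [h, Subgroup.subgroupOf_self, Subgroup.index_top] at hCidx
    exact hpp.one_lt.ne hCidx
  have hmaxC : ∀ T, C < T → T ≤ S → T = S := by
    intro T hCT hTS
    have h1 : (C.subgroupOf S).relIndex (T.subgroupOf S) * (T.subgroupOf S).index = p := by
      rw [← hCidx]
      exact Subgroup.relIndex_mul_index (Subgroup.comap_mono hCT.le)
    rcases (Nat.dvd_prime hpp).1 (Dvd.intro_left _ h1) with h2 | h2
    · rw [Subgroup.index_eq_one, Subgroup.subgroupOf_eq_top] at h2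
      exact le_antisymm hTS h2
    · exfalso
      rw [h2] at h1
      have h3 : (C.subgroupOf S).relIndex (T.subgroupOf S) = 1 := Nat.eq_of_mul_eq_mul_right hpp.pos (by rw [h1, one_mul])
      rw [Subgroup.relIndex_eq_one] at h3
      exact absurd hCT (not_lt_of_ge fun x hx => Subgroup.mem_subgroupOf.1 (h3 (show (⟨x, hTS hx⟩ : ↥S) ∈ T.subgroupOf S from Subgroup.mem_subgroupOf.2 hx)))
  have hSC : S ≤ Subgroup.normalizer (C : Set Ω) := by
    intro s hs
    have hfin : Finite C := finite_of_le hCS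
    refine FusionGrp.mem_normalizer_of_conj_mem fun x hx => ?_
    rw [hC] at hx ⊢
    refine mem_centralizerIn.2 ⟨S.mul_mem (S.mul_mem hs hx.1) (S.inv_mem hs), mem_centralizer_iff'.2 fun y hy => ?_⟩
    have h1 : s⁻¹ * y * s ∈ Z2 := by
      have := (Subgroup.mem_normalizer_iff.1 (hSZ2 (S.inv_mem hs)) y).1 hy
      rwa [inv_inv] at this
    have h2 := mem_centralizer_iff'.1 hx.2 _ h1
    calc s * x * s⁻¹ * y * (s * x * s⁻¹)⁻¹ = s * (x * (s⁻¹ * y * s) * x⁻¹) * s⁻¹ := by group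
      _ = y := by rw [h2]; group
  have hCn := FusionAgemoJ.fullyNormalized_of_normalizes F hCS hSC
  have hCcen : F.IsCentric C := by
    rw [isCentric_iff_of_fullyCentralized (fullyCentralized_of_fullyNormalized hS hF hCn)]
    refine le_trans ?_ hC.symm.le
    exact inf_le_inf_left S (Subgroup.centralizer_le hZ2C)
  -- the map
  obtain ⟨f, hfdef⟩ : ∃ f, f = toFun φ := ⟨_, rfl⟩
  have hf : FMap F Z2 f := by rw [hfdef, hZ2]; exact fmap_toFun.2 hφ
  have hfZ2 : FIso F Z2 Z2 f := by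
    refine hf.fiso_of_card hZ2S (fun x hx => ?_) le_rfl
    rw [hZ2] at hx
    rw [hfdef, toFun_of_mem φ hx]
    have h1 : φ ⟨x, hx⟩ ∈ φ.range := ⟨_, rfl⟩
    have h2 : φ.range = Z2 := hφZ.trans hZ2.symm
    have h3 : φ.range ≤ Z2 := h2.le
    exact h3 h1
  obtain ⟨g, hg, hgf, hgC⟩ := exists_extension_centralizer
    (receptive_of_fullyNormalized hS hF (FusionAgemoJ.fullyNormalized_of_normalizes F hZ2S hSZ2)) hfZ2
  have hgC' : FIso F C C g := by
    refine (hg.restrict (by rw [hC]; exact le_sup_right)).fiso_of_card hCS (fun x hx => ?_) le_rfl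
    rw [hC] at hx ⊢
    exact hgC x hx
  refine ⟨hCcen, hCn, inferInstance, _, strongEmb_extAuts hS hF hCneS hCn hCcen ?_⟩
  intro heq
  have hgext : hgC'.equiv ∈ extAuts F C := by rw [heq]; exact hgC'.equiv_mem_autGroup
  have hstab : ∀ α ∈ extAuts F C, ∀ x : C, (x : Ω) ∈ Z → ((α x : C) : Ω) ∈ Z := by
    intro α hα
    unfold extAuts at hα
    have hZfix : ∀ f, FMap F S f → ∀ x ∈ Z, f x ∈ Z := by
      intro f hf x hx
      rw [hZc] at hx ⊢
      exact (FusionAgemoJ.fiso_center (fiso_of_fmap_top hf)).mem hx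
    refine Subgroup.closure_induction (p := fun α _ => ∀ x : C, (x : Ω) ∈ Z → ((α x : C) : Ω) ∈ Z) ?_ ?_ ?_ ?_ hα
    · rintro α ⟨T, f, hCT, hf, hfα⟩ x hx
      have hTS := hmaxC T hCT hf.le
      subst hTS
      rw [← hfα x]
      exact hZfix f hf x hx
    · intro x hx; exact hx
    · intro α β _ _ h1 h2 x hx
      exact h1 _ (h2 x hx)
    · intro α _ h1 x hx
      -- finiteness: `α` maps `Z` into `Z`, hence onto
      have hfinZ : Finite Z := finite_of_le (hZZ2.trans hZ2S)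
      let e : Z → Z := fun z => ⟨(α ⟨z, (hZZ2.trans hZ2C) z.2⟩ : C), h1 _ z.2⟩
      have he : Function.Injective e := by
        intro a b hab
        have h3 : ((α ⟨a, (hZZ2.trans hZ2C) a.2⟩ : C) : Ω) = ((α ⟨b, (hZZ2.trans hZ2C) b.2⟩ : C) : Ω) := congrArg (fun w : Z => (w : Ω)) hab
        have h4 := α.injective (Subtype.ext h3)
        exact Subtype.ext (congrArg (fun w : C => (w : Ω)) h4)
      obtain ⟨z, hz⟩ := (Finite.injective_iff_surjective.1 he) ⟨x, hx⟩
      have h3 : α ⟨z, (hZZ2.trans hZ2C) z.2⟩ = x := Subtype.ext (congrArg (fun w : Z => (w : Ω)) hz)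
      rw [← h3, MulAut.inv_apply_self]
      exact z.2
  obtain ⟨z, hz, hzZ, hzn⟩ := hmove
  apply hzn
  have hz2 : z ∈ Z2 := by rw [hZ2]; exact hz
  have h1 := hstab _ hgext ⟨z, hZ2C hz2⟩ (by rw [hZ]; exact hzZ)
  rw [hgC'.equiv_apply] at h1
  have h2 : g z = φ ⟨z, hz⟩ := by rw [hgf z hz2, hfdef, toFun_of_mem φ hz]
  rw [← h2, ← hZ]
  exact h1

end Cfsg.Agent.S5270
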