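import Cfsg.Statements.S5272
import Cfsg.Agent.Lib.H34AxZJ


set_option autoImplicit false
open Cfsg

namespace Cfsg.Agent.S5272

open Cfsg.FusionSystem Cfsg.Agent.Lib Cfsg.Agent.Lib.FusionBasic Cfsg.Agent.Lib.FusionSat Cfsg.Agent.Lib.FusionNormSat Cfsg.Agent.Lib.FusionNormal Cfsg.Agent.Lib.FusionSys Cfsg.Agent.Lib.H34Local Cfsg.Agent.Lib.H34JCenter Cfsg.Agent.Lib.H34Inner Cfsg.Agent.Lib.FusionInner Cfsg.Agent.Lib.H34Sparse Cfsg.Agent.Lib.H34ZJCrit Cfsg.Agent.Lib.H34Reduce Cfsg.Agent.Lib.H34AxGrp Cfsg.Agent.Lib.H34AxZJ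


/-- An axiomatic Glauberman–Thompson nilpotency criterion for fusion systems. Let p be an odd prime, F a saturated fusion system over a finite p-group S, and 𝒜 a nonempty family of abelian subgroups of S. For Q ≤ S write I(Q) for the intersection of the members of 𝒜 contained in Q. Assume (invariance) that for every Q ≤ S containing a member of 𝒜, every F-automorphism of Q maps I(Q) into itself, and (replacement) that for every subgroup B of S of nilpotency class at most 2, if some member of 𝒜 contains [B,B] but not B, then B normalizes some member of 𝒜 that contains [B,B] but not B. Then F is the inner fusion system of S if and only if the normalizer fusion system of I(S) in F is the inner fusion system of N_S(I(S)). -/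
theorem result {Ω : Type*} [Group Ω] {S : Subgroup Ω} [Finite S] (p : ℕ) [Fact p.Prime] (hS : IsPGroup p ↥S) (F : Cfsg.FusionSystem S) (hF : F.IsSaturated p) (hp : p ≠ 2) (𝒜 : Set (Subgroup Ω)) (h𝒜 : ∀ A ∈ 𝒜, A ≤ S ∧ IsMulCommutative ↥A) (hne : 𝒜.Nonempty) (hinv : ∀ Q : Subgroup Ω, Q ≤ S → (∃ A ∈ 𝒜, A ≤ Q) → ∀ α ∈ F.autGroup Q, ∀ x : ↥Q, (x : Ω) ∈ (⨅ A ∈ {A : Subgroup Ω | A ∈ 𝒜 ∧ A ≤ Q}, A) → (((α : MulAut ↥Q) x : ↥Q) : Ω) ∈ (⨅ A ∈ {A : Subgroup Ω | A ∈ 𝒜 ∧ A ≤ Q}, A)) (hrep : ∀ B : Subgroup Ω, B ≤ S → ⁅⁅B, B⁆, B⁆ = ⊥ → (∃ A ∈ 𝒜, ⁅B, B⁆ ≤ A ∧ ¬ B ≤ A) → ∃ A ∈ 𝒜, ⁅B, B⁆ ≤ A ∧ ¬ B ≤ A ∧ B ≤ Subgroup.normalizer (A : Set Ω)) : (∀ P : Subgroup Ω, F.Hom P = (Cfsg.innerFusionSystem S).Hom P) ↔ ∀ N : Cfsg.FusionSystem (Cfsg.FusionSystem.normalizerIn S (⨅ A ∈ 𝒜, A)), F.IsNormalizerSystem (⨅ A ∈ 𝒜, A) N → ∀ P : Subgroup Ω, N.Hom P = (Cfsg.innerFusionSystem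 (Cfsg.FusionSystem.normalizerIn S (⨅ A ∈ 𝒜, A))).Hom P := by

  have hinv' : ∀ Q : Subgroup Ω, Q ≤ S → (∃ A ∈ 𝒜, A ≤ Q) → ∀ f, FMap F Q f → (∀ x ∈ Q, f x ∈ Q) → ∀ x ∈ Q,
      x ∈ IA 𝒜 Q → f x ∈ IA 𝒜 Q := by
    intro Q hQ hA f hf hfQ x hx hxI
    obtain ⟨α, hα, hαf⟩ := exists_aut_of_fmap hf hfQ
    have h1 := hinv Q hQ hA α hα ⟨x, hx⟩ hxI
    rw [hαf ⟨x, hx⟩] at h1
    exact h1
  have hIeq : (⨅ A ∈ 𝒜, A) = IA 𝒜 S := by
    ext x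
    rw [mem_IA]
    simp only [Subgroup.mem_iInf]
    exact ⟨fun h A hA _ => h A hA, fun h A hA => h A hA (h𝒜 A hA).1⟩
  rw [hIeq]
  obtain ⟨A₀, hA₀⟩ := hne
  set V := IA 𝒜 S with hV
  have hVS : V ≤ S := (IA_le hA₀ (h𝒜 A₀ hA₀).1).trans (h𝒜 A₀ hA₀).1
  have hVn : S ≤ Subgroup.normalizer (V : Set Ω) := by
    intro s hs
    refine FusionQuot.mem_normalizer_of_forall hVS hs ?_
    intro x hx
    exact hinv' S le_rfl ⟨A₀, hA₀, (h𝒜 A₀ hA₀).1⟩ (fun x => s * x * s⁻¹) (fmap_conj F le_rfl hs)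
      (fun y hy => S.mul_mem (S.mul_mem hs hy) (S.inv_mem hs)) x (hVS hx) hx
  constructor
  · intro h N hN
    have h1 := isInner_iff.1 h
    rw [isInner_iff]
    intro P f hf
    obtain ⟨h2, h3, g, hg, hgf, hgV⟩ := (isNormalizerSystem_iff.1 hN P f).1 hf
    obtain ⟨s, hs, h4⟩ := h1 _ g hg
    exact ⟨s, ⟨hs, hVn hs⟩, fun x hx => by rw [← hgf x hx]; exact h4 x (Subgroup.mem_sup_left hx)⟩
  · intro h
    have h1 := isInner_iff.1 (h (normSys F V hVS) isNormalizerSystem_normSys)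
    rw [isInner_iff]
    refine ax_crit hp hS hF 𝒜 h𝒜 ⟨A₀, hA₀⟩ hinv' hrep ?_
    rintro P f hf ⟨g, hg, hgf, hgV⟩
    obtain ⟨s, hs, h2⟩ := h1 P f (fmap_normSys.2 ⟨le_inf hf.le (hf.le.trans hVn),
      fun x hx => ⟨hf.map_mem hx, hVn (hf.map_mem hx)⟩, g, hg, hgf, hgV⟩)
    exact ⟨s, hs.1, h2⟩

end Cfsg.Agent.S5272
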