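import Cfsg.Statements.S5273
import Cfsg.Agent.Lib.FusionSmall

set_option autoImplicit false
open Cfsg Cfsg.FusionSystem Cfsg.Agent.Lib Cfsg.Agent.Lib.FusionBasic

namespace Cfsg.Agent.S5273

/-- Small-exponent abelian subgroups control fusion. Let E and F be saturated fusion systems over the same finite p-group S with E contained in F. Suppose that E and F have the same maps between A and B for all subgroups A, B of S that are elementary abelian when p is odd, respectively abelian of exponent dividing 4 when p = 2. Then E = F (they have the same maps on every subgroup). -/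
theorem result {Ω : Type*} [Group Ω] {S : Subgroup Ω} [Finite S] (p : ℕ) [Fact p.Prime] (hS : IsPGroup p ↥S) (E F : Cfsg.FusionSystem S) (hE : E.IsSaturated p) (hF : F.IsSaturated p) (hEF : E.IsSubsystemOf F) (hodd : p ≠ 2 → ∀ A B : Subgroup Ω, A ≤ S → B ≤ S → Cfsg.IsElementaryAbelian p A → Cfsg.IsElementaryAbelian p B → E.homSet A B = F.homSet A B) (htwo : p = 2 → ∀ A B : Subgroup Ω, A ≤ S → B ≤ S → IsMulCommutative ↥A → IsMulCommutative ↥B → (∀ a ∈ A, a ^ 4 = 1) → (∀ b ∈ B, b ^ 4 = 1) → E.homSet A B = F.homSet A B) : ∀ P : Subgroup Ω, E.Hom P = F.Hom P := by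
  have hEF' : ∀ P f, FMap E P f → FMap F P f := by
    rintro P f ⟨φ, hφ, h⟩
    exact ⟨φ, hEF P hφ, h⟩
  have key : ∀ P f, FMap F P f → FMap E P f := by
    by_cases hp : p = 2
    · refine FusionSmall.small_control (Or.inr ⟨hp, rfl⟩) _ S inferInstance hS E F hE hF hEF' ?_ rfl
      intro A f hA hf
      obtain ⟨B, hB⟩ := hf.exists_iso
      have hBs := hA.map hB
      obtain ⟨φ, hφ, h1⟩ := hf
      have h2 : φ ∈ F.homSet A B := ⟨hφ, fun x => by rw [h1]; exact hB.mem x.2⟩
      rw [← htwo hp A B hB.le_left hB.le_right ⟨⟨fun x y => Subtype.ext (hA.1 x x.2 y y.2)⟩⟩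
        ⟨⟨fun x y => Subtype.ext (hBs.1 x x.2 y y.2)⟩⟩ hA.2 hBs.2] at h2
      exact ⟨φ, h2.1, h1⟩
    · refine FusionSmall.small_control (Or.inl ⟨hp, rfl⟩) _ S inferInstance hS E F hE hF hEF' ?_ rfl
      intro A f hA hf
      obtain ⟨B, hB⟩ := hf.exists_iso
      have hBs := hA.map hB
      obtain ⟨φ, hφ, h1⟩ := hf
      have h2 : φ ∈ F.homSet A B := ⟨hφ, fun x => by rw [h1]; exact hB.mem x.2⟩
      rw [← hodd hp A B hB.le_left hB.le_right ⟨⟨⟨fun x y => Subtype.ext (hA.1 x x.2 y y.2)⟩⟩, hA.2⟩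
        ⟨⟨⟨fun x y => Subtype.ext (hBs.1 x x.2 y y.2)⟩⟩, hBs.2⟩] at h2
      exact ⟨φ, h2.1, h1⟩
  intro P
  rw [hom_eq_iff_fmap]
  exact fun f => ⟨hEF' P f, key P f⟩

end Cfsg.Agent.S5273
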