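import Cfsg.Statements.S5275
import Cfsg.Agent.Lib.H34ZJCrit


set_option autoImplicit false
open Cfsg

namespace Cfsg.Agent.S5275

open Cfsg.FusionSystem Cfsg.Agent.Lib Cfsg.Agent.Lib.FusionBasic Cfsg.Agent.Lib.FusionSat Cfsg.Agent.Lib.FusionNormSat Cfsg.Agent.Lib.FusionNormal Cfsg.Agent.Lib.FusionSys Cfsg.Agent.Lib.H34Local Cfsg.Agent.Lib.H34JCenter Cfsg.Agent.Lib.H34Inner Cfsg.Agent.Lib.FusionInner Cfsg.Agent.Lib.H34Sparse Cfsg.Agent.Lib.H34ZJCrit Cfsg.Agent.Lib.H34Reduce


/-- A Glauberman–Thompson nilpotency criterion for fusion systems relative to a strongly closed subgroup. Let p be an odd prime, F a saturated fusion system over a finite p-group S, and D a subgroup of S that is strongly closed in F. Let Z(J(D)) be the centre of the subgroup of D generated by the abelian subgroups of D of largest order. Then F is the inner fusion system of S if and only if the normalizer fusion system of Z(J(D)) in F is the inner fusion system of N_S(Z(J(D))) = S. -/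
theorem result {Ω : Type*} [Group Ω] {S : Subgroup Ω} [Finite S] (p : ℕ) [Fact p.Prime] (hS : IsPGroup p ↥S) (F : Cfsg.FusionSystem S) (hF : F.IsSaturated p) (hp : p ≠ 2) (D : Subgroup Ω) (hD : F.StronglyClosed D) : (∀ P : Subgroup Ω, F.Hom P = (Cfsg.innerFusionSystem S).Hom P) ↔ ∀ N : Cfsg.FusionSystem (Cfsg.FusionSystem.normalizerIn S (Cfsg.centerThompsonAOf D)), F.IsNormalizerSystem (Cfsg.centerThompsonAOf D) N → ∀ P : Subgroup Ω, N.Hom P = (Cfsg.innerFusionSystem (Cfsg.FusionSystem.normalizerIn S (Cfsg.centerThompsonAOf D))).Hom P := by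

  have hD : F.StronglyClosed D := hD
  have hDS := hD.1
  have hfD : Finite D := finite_of_le hDS
  set V := Cfsg.centerThompsonAOf D with hV
  have hVS : V ≤ S := by rw [hV, centerThompson_eq]; exact (Wof_le _).trans hDS
  have hVn : S ≤ Subgroup.normalizer (V : Set Ω) := by
    rw [hV, centerThompson_eq]
    exact (normalizes_of_stronglyClosed hD).trans (Wof_norm ClosedPS.isChar_Wab.2 (isPGroup_of_le hS hDS))
  constructor
  · intro h N hN
    have h1 := isInner_iff.1 h
    rw [isInner_iff]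
    intro P f hf
    obtain ⟨h2, h3, g, hg, hgf, hgV⟩ := (isNormalizerSystem_iff.1 hN P f).1 hf
    obtain ⟨s, hs, h4⟩ := h1 _ g hg
    exact ⟨s, ⟨hs, hVn hs⟩, fun x hx => by rw [← hgf x hx]; exact h4 x (Subgroup.mem_sup_left hx)⟩
  · intro h
    have h1 := isInner_iff.1 (h (normSys F V hVS) isNormalizerSystem_normSys)
    rw [isInner_iff]
    refine zj_crit hp hS hF hD ?_
    rintro P f hf ⟨g, hg, hgf, hgV⟩
    obtain ⟨s, hs, h2⟩ := h1 P f (fmap_normSys.2 ⟨le_inf hf.le (hf.le.trans hVn),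
      fun x hx => ⟨hf.map_mem hx, hVn (hf.map_mem hx)⟩, g, hg, hgf, hgV⟩)
    exact ⟨s, hs.1, h2⟩

end Cfsg.Agent.S5275
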