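import Cfsg.Statements.S5289
import Cfsg.Agent.Lib.RankTwoFusion3
import Cfsg.Agent.Lib.FusionMeta
import Cfsg.Agent.Lib.FusionAbel
import Cfsg.Agent.Lib.PGroupOmega

set_option autoImplicit false
open Cfsg

namespace Cfsg.Agent.S5289

open Cfsg Cfsg.FusionSystem Subgroup
open Cfsg.Agent.Lib.FusionBasic Cfsg.Agent.Lib.FusionSat Cfsg.Agent.Lib.FusionNormal Cfsg.Agent.Lib.FusionAlperin
open Cfsg.Agent.Lib.RankTwoHeis Cfsg.Agent.Lib.RankTwoFusion
open Cfsg.Agent.Lib.PGroupRank (isElementaryAbelian_iff)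

/-- Let p ≥ 5 be a prime and S a finite p-group of p-rank two (it has an elementary abelian subgroup of order p² and none of order p³) which is not the extraspecial group of order p³ and exponent p. Then S is resistant: for every saturated fusion system F over S, S is normal in F, that is, every map of F extends to an F-automorphism of S. -/
theorem result {Ω : Type*} [Group Ω] {S : Subgroup Ω} [Finite S] (p : ℕ) [Fact p.Prime] (hS : IsPGroup p S)
    (F : Cfsg.FusionSystem S) (hF : F.IsSaturated p)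
    (hp : 5 ≤ p)
    (hrank2 : ∃ E : Subgroup Ω, E ≤ S ∧ Cfsg.IsElementaryAbelian p E ∧ Nat.card E = p ^ 2)
    (hrank3 : ∀ E : Subgroup Ω, E ≤ S → Cfsg.IsElementaryAbelian p E → Nat.card E ≤ p ^ 2)
    (hnotE : ¬ (Nat.card S = p ^ 3 ∧ Monoid.exponent ↥S = p)) : F.IsNormal S := by
  classical
  have hp2 : p ≠ 2 := by omega
  have hpp : p.Prime := Fact.out
  have hr : Cfsg.PRankLE p 2 S := by
    intro A hA hA1
    have h1 : Cfsg.IsElementaryAbelian p (A.map S.subtype) :=
      Cfsg.Agent.Lib.PGroupRank.IsElementaryAbelian.map (show Cfsg.IsElementaryAbelian p A from ⟨hA, hA1⟩) S.subtype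
    have h2 := hrank3 _ (by rintro _ ⟨y, -, rfl⟩; exact y.2) h1
    rwa [Nat.card_congr (A.equivMapOfInjective _ S.subtype_injective).symm.toEquiv] at h2
  set O : Subgroup Ω := (Cfsg.Agent.Lib.PGroupOmega.omega p S).map S.subtype with hOdef
  have hmem : ∀ x, x ∈ O ↔ x ∈ S ∧ x ^ p = 1 := by
    intro x
    constructor
    · rintro ⟨y, hy, rfl⟩
      exact ⟨y.2, congrArg Subtype.val ((Cfsg.Agent.Lib.PGroupOmega.mem_omega_iff (by omega) hS hr).1 hy)⟩
    · rintro ⟨hx, h1⟩
      exact ⟨⟨x, hx⟩, (Cfsg.Agent.Lib.PGroupOmega.mem_omega_iff (by omega) hS hr).2 (Subtype.ext h1), rfl⟩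
  have hOcard : Nat.card O ≤ p ^ 3 := by
    rw [hOdef, Nat.card_congr (Subgroup.equivMapOfInjective _ _ S.subtype_injective).symm.toEquiv]
    exact Cfsg.Agent.Lib.PGroupOmega.card_omega_le (by omega) hS hr
  have hOS : O ≤ S := fun x hx => ((hmem x).1 hx).1
  have hfO : Finite O := finite_of_le hOS
  by_cases hab : ∀ x ∈ O, ∀ y ∈ O, x * y = y * x
  · have h1 : Nat.card O ≤ p ^ 2 := hrank3 O hOS (isElementaryAbelian_iff.2 ⟨hab, fun a ha => ((hmem a).1 ha).2⟩)
    exact Cfsg.Agent.Lib.FusionMeta.normal_of_omega_rank_two hp2 hS hF (Cfsg.Agent.Lib.FusionAbel.stronglyClosed_top F)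
      hmem hab h1
  · have hOcard3 : Nat.card O = p ^ 3 := by
      obtain ⟨k, hk⟩ := IsPGroup.iff_card.1 (isPGroup_of_le hS hOS)
      rw [hk] at hOcard ⊢
      have hk3 : k ≤ 3 := (Nat.pow_le_pow_iff_right hpp.one_lt).1 hOcard
      have hk2 : ¬ k ≤ 2 := by
        intro hk2
        apply hab
        intro x hx y hy
        have h1 : IsMulCommutative O := by
          rcases (show k = 0 ∨ k = 1 ∨ k = 2 by omega) with rfl | rfl | rfl
          · have : Subsingleton O := by
              rw [pow_zero] at hk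
              exact (Nat.card_eq_one_iff_unique.1 hk).1
            exact ⟨⟨fun a b => Subsingleton.elim _ _⟩⟩
          · rw [pow_one] at hk
            have := isCyclic_of_prime_card hk
            letI := IsCyclic.commGroup (α := O)
            exact ⟨⟨fun a b => mul_comm a b⟩⟩
          · exact ⟨⟨IsPGroup.commutative_of_card_eq_prime_sq hk⟩⟩
        exact congrArg Subtype.val (h1.is_comm.comm (⟨x, hx⟩ : O) ⟨y, hy⟩)
      rw [show k = 3 by omega]
    have hna : ∃ x ∈ O, ∃ y ∈ O, x * y ≠ y * x := by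
      push Not at hab; exact hab
    have hOm : Om p S O := ⟨hS, inferInstance, hmem, ⟨hpp, hOcard3, fun x hx => ((hmem x).1 hx).2, hna⟩⟩
    have hSO : ∃ s ∈ S, s ∉ O := by
      by_contra hcon
      push Not at hcon
      have e : S = O := le_antisymm hcon hOS
      apply hnotE
      refine ⟨by rw [e]; exact hOcard3, ?_⟩
      have h1 : Monoid.exponent S ∣ p := Monoid.exponent_dvd_of_forall_pow_eq_one fun x =>
        Subtype.ext ((hmem x).1 (hcon x x.2)).2
      rcases (Nat.dvd_prime hpp).1 h1 with h2 | h2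
      · exfalso
        obtain ⟨x, hx, y, hy, hxy⟩ := hna
        rw [Monoid.exp_eq_one_iff] at h2
        apply hxy
        have h3 : (⟨x, hOS hx⟩ : S) * ⟨y, hOS hy⟩ = ⟨y, hOS hy⟩ * ⟨x, hOS hx⟩ := Subsingleton.elim _ _
        exact congrArg Subtype.val h3
      · exact h2
    refine isNormal_of_essential hS hF fun P hP => ?_
    rcases hP with rfl | hP
    · exact ⟨le_rfl, fun a ha x hx => ha.1.map_mem hx⟩
    · exfalso
      by_cases hOE : O ≤ P
      · exact hOm.caseA hF hp hP hOE
      · exact hOm.caseB hF hp hP hOE hSO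

end Cfsg.Agent.S5289
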