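import Cfsg.Statements.S5295
import Cfsg.Agent.Lib.H34JCenter
import Cfsg.Agent.S5193
import Cfsg.Agent.S5294


set_option autoImplicit false
universe u
open Cfsg

namespace Cfsg.Agent.S5295

open Cfsg.FusionSystem Cfsg.Agent.Lib Cfsg.Agent.Lib.FusionBasic Cfsg.Agent.Lib.FusionSat Cfsg.Agent.Lib.FusionNormSat Cfsg.Agent.Lib.FusionNormal Cfsg.Agent.Lib.FusionSys Cfsg.Agent.Lib.H34Local Cfsg.Agent.Lib.H34JCenter


/-- Let F be a saturated fusion system over a finite p-group S with p odd. Then the centre Z(F) of F is a direct factor of Z(S): there is a subgroup K of Z(S) with Z(F) ∩ K = 1 and Z(F)K = Z(S). (At the prime 2 this can fail.) -/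
theorem result {Ω : Type u} [Group Ω] {S : Subgroup Ω} [Finite S] (p : ℕ) [Fact p.Prime] (hp : p ≠ 2) (hS : IsPGroup p S)
    (F : Cfsg.FusionSystem S) (hF : F.IsSaturated p) :
    ∃ K : Subgroup Ω, K ≤ (S ⊓ Subgroup.centralizer (S : Set Ω)) ∧ F.center ⊓ K = ⊥ ∧ F.center ⊔ K = (S ⊓ Subgroup.centralizer (S : Set Ω)) := by

  set J := thompsonSubgroupAOf S with hJ
  have hJS : J ≤ S := FusionJ.J_le S
  have hn : S ≤ Subgroup.normalizer (J : Set Ω) :=
    le_trans Subgroup.le_normalizer (Wof_norm (W := fun Q _ => thompsonSubgroupA Q) (inv_J p) hS)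
  have hN : F.IsNormalizerSystem J (normSys F J hJS) := isNormalizerSystem_normSys
  have hc : (normSys F J hJS).center = F.center := (S5193.result p hS F hF _ hN).2 (Or.inl hp)
  have hSe : normalizerIn S J = S := inf_eq_left.2 hn
  have hfn : F.IsFullyNormalized J := by
    refine ⟨hJS, fun R _ => ?_⟩
    rw [hSe]
    exact Nat.card_le_card_of_injective (Subgroup.inclusion (normalizerIn_le S R)) (Subgroup.inclusion_injective _)
  have hfin : Finite (normalizerIn S J) := finite_of_le (normalizerIn_le S J)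
  have e : normalizerIn S J ⊓ Subgroup.centralizer (normalizerIn S J : Set Ω) = S ⊓ Subgroup.centralizer (S : Set Ω) := by
    rw [hSe]
  have h := S5294.result p (isPGroup_of_le hS (normalizerIn_le S J)) (normSys F J hJS) (normSys_saturated hS hF hfn) (by
    rw [e]
    have h1 : J ≤ (normSys F J hJS).core := le_sSup (isNormal_normSys hJS)
    refine le_trans ?_ h1
    intro x hx
    refine ⟨⟨x, hx.1⟩, center_le_J _ ?_, rfl⟩
    rw [Subgroup.mem_center_iff]
    intro g
    apply Subtype.ext
    exact Subgroup.mem_centralizer_iff.1 hx.2 g g.2)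
  rw [e, hc] at h
  exact h

end Cfsg.Agent.S5295
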