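import Cfsg.Statements.S5296
import Cfsg.Agent.Lib.FusionSmallHyp
import Cfsg.Agent.S5124

set_option autoImplicit false
universe u
open Cfsg Cfsg.FusionSystem Cfsg.Agent.Lib Cfsg.Agent.Lib.FusionBasic

namespace Cfsg.Agent.S5296

/-- Small-exponent abelian subgroups of the hyperfocal subgroup control fusion. Let E and F be saturated fusion systems over the same finite p-group S with E contained in F. Suppose that E and F have the same maps between A and B for all subgroups A, B of the hyperfocal subgroup of F that are elementary abelian when p is odd, respectively abelian of exponent dividing 4 when p = 2. Then E = F. -/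
theorem result {Ω : Type u} [Group Ω] {S : Subgroup Ω} [Finite S] (p : ℕ) [Fact p.Prime] (hS : IsPGroup p S)
    (E F : Cfsg.FusionSystem S) (hE : E.IsSaturated p) (hF : F.IsSaturated p) (hEF : E.IsSubsystemOf F)
    (hodd : p ≠ 2 → ∀ A B : Subgroup Ω, A ≤ (F.hyperfocalSubgroup p) → B ≤ (F.hyperfocalSubgroup p) →
      Cfsg.IsElementaryAbelian p A → Cfsg.IsElementaryAbelian p B → E.homSet A B = F.homSet A B)
    (htwo : p = 2 → ∀ A B : Subgroup Ω, A ≤ (F.hyperfocalSubgroup p) → B ≤ (F.hyperfocalSubgroup p) →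
      IsMulCommutative ↥A → IsMulCommutative ↥B → (∀ a ∈ A, a ^ 4 = 1) → (∀ b ∈ B, b ^ 4 = 1) → E.homSet A B = F.homSet A B) :
    ∀ P : Subgroup Ω, E.Hom P = F.Hom P := by
  have hT : F.StronglyClosed (F.hyperfocalSubgroup p) := Cfsg.Agent.S5124.result p hS F hF
  have hEF' : ∀ P f, FMap E P f → FMap F P f := by
    rintro P f ⟨φ, hφ, h⟩
    exact ⟨φ, hEF P hφ, h⟩
  have himg : ∀ (A B : Subgroup Ω) (f : Ω → Ω), A ≤ F.hyperfocalSubgroup p → FIso F A B f →
      B ≤ F.hyperfocalSubgroup p := by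
    intro A B f hA hB x hx
    obtain ⟨y, hy, rfl⟩ := (hB.2 x).1 hx
    exact StronglyClosed.map_mem F hT hB.1 hy (hA hy)
  have key : ∀ P f, FMap F P f → FMap E P f := by
    by_cases hp : p = 2
    · refine FusionSmallHyp.small_control_in (Or.inr ⟨hp, rfl⟩) _ S inferInstance hS _ E F hE hF hT le_rfl hEF' ?_ rfl
      intro A f hAT hA hf
      obtain ⟨B, hB⟩ := hf.exists_iso
      have hBs := hA.map hB
      have hBT := himg A B f hAT hB
      obtain ⟨φ, hφ, h1⟩ := hf
      have h2 : φ ∈ F.homSet A B := ⟨hφ, fun x => by rw [h1]; exact hB.mem x.2⟩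
      rw [← htwo hp A B hAT hBT ⟨⟨fun x y => Subtype.ext (hA.1 x x.2 y y.2)⟩⟩
        ⟨⟨fun x y => Subtype.ext (hBs.1 x x.2 y y.2)⟩⟩ hA.2 hBs.2] at h2
      exact ⟨φ, h2.1, h1⟩
    · refine FusionSmallHyp.small_control_in (Or.inl ⟨hp, rfl⟩) _ S inferInstance hS _ E F hE hF hT le_rfl hEF' ?_ rfl
      intro A f hAT hA hf
      obtain ⟨B, hB⟩ := hf.exists_iso
      have hBs := hA.map hB
      have hBT := himg A B f hAT hB
      obtain ⟨φ, hφ, h1⟩ := hf
      have h2 : φ ∈ F.homSet A B := ⟨hφ, fun x => by rw [h1]; exact hB.mem x.2⟩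
      rw [← hodd hp A B hAT hBT ⟨⟨⟨fun x y => Subtype.ext (hA.1 x x.2 y y.2)⟩⟩, hA.2⟩
        ⟨⟨⟨fun x y => Subtype.ext (hBs.1 x x.2 y y.2)⟩⟩, hBs.2⟩] at h2
      exact ⟨φ, h2.1, h1⟩
  intro P
  rw [hom_eq_iff_fmap]
  exact fun f => ⟨hEF' P f, key P f⟩

end Cfsg.Agent.S5296
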