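import Cfsg.Statements.S5297
import Cfsg.Agent.Lib.FusionCyclic
import Cfsg.Agent.S5124

set_option autoImplicit false
universe u
open Cfsg Cfsg.FusionSystem Cfsg.Agent.Lib.FusionBasic Cfsg.Agent.Lib.FusionNormal Cfsg.Agent.Lib.FusionCyclic

namespace Cfsg.Agent.S5297

/-- Let F be a saturated fusion system over a finite p-group S. If every map of F between cyclic subgroups of the hyperfocal subgroup of F of order p or 4 is a map of the normalizer system of S (it extends to a map of F defined on all of S), then S is normal in F. -/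
theorem result {Ω : Type u} [Group Ω] {S : Subgroup Ω} [Finite S] (p : ℕ) [Fact p.Prime] (hS : IsPGroup p S)
    (F : Cfsg.FusionSystem S) (hF : F.IsSaturated p)
    (h : ∀ A B : Subgroup Ω, A ≤ (F.hyperfocalSubgroup p) → B ≤ (F.hyperfocalSubgroup p) → IsCyclic ↥A → (Nat.card ↥A = p ∨ Nat.card ↥A = 4) → IsCyclic ↥B → (Nat.card ↥B = p ∨ Nat.card ↥B = 4) →
      F.homSet A B ⊆ F.normalizerHom S A) :
    F.IsNormal S := by
  obtain ⟨q, hq⟩ : ∃ q, (p ≠ 2 ∧ q = p) ∨ (p = 2 ∧ q = 4) := by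
    by_cases h : p = 2
    · exact ⟨4, Or.inr ⟨h, rfl⟩⟩
    · exact ⟨p, Or.inl ⟨h, rfl⟩⟩
  have hT : F.StronglyClosed (F.hyperfocalSubgroup p) := Cfsg.Agent.S5124.result p hS F hF
  have key : ∀ x ∈ F.hyperfocalSubgroup p, x ^ q = 1 → ∀ (P : Subgroup Ω) (f : Ω → Ω), FMap F P f → x ∈ P →
      ∃ g, FIso F S S g ∧ g x = f x := by
    intro x hx hxq P f hf hxP
    by_cases hx1 : x = 1
    · exact ⟨fun y => y, FIso.refl F le_rfl, by rw [hx1, hf.map_one]⟩
    · obtain ⟨φ, hφ, hφx⟩ := elt_of_homSet hS hF hT hq (fun A => F.normalizerHom S A) h hx hxq hx1 hf hxP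
      obtain ⟨g, hg, hg2⟩ := fiso_top_of_normalizerHom hφ
      exact ⟨g, hg, by rw [← hφx, ← hg2]⟩
  obtain ⟨n, hn⟩ := exists_Z_top hS
  refine isNormal_top_of_centricRadical hS hF fun P hPn hPc hPr => ?_
  obtain ⟨D, hDP, hDT, hDq, hDinv, hDdet⟩ := exists_detect hS hq hT le_rfl hPc.1
  refine eq_top_of_chain hS hPc hPr (fun i => D ⊓ Z S i) n (by
    show D ⊓ Z S 0 = ⊥
    rw [Z_zero, inf_bot_eq]) ?_ ?_ ?_
  · rintro i α hα x ⟨hx1, hx2⟩
    refine ⟨hDinv α hα x hx1, ?_⟩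
    obtain ⟨g, hg, hgx⟩ := key x (hDT hx1) (hDq x hx1) P _ (fmap_of_autGroup hPc.1 hα) x.2
    rw [autFun_coe] at hgx
    rw [← hgx]
    exact Z_aut hg hx2
  · rintro i s hs hsn x ⟨hx1, hx2⟩ hxP
    refine ⟨D.mul_mem (D.inv_mem hx1) ?_, Z_comm hs hx2⟩
    have h1 := hDinv _ (conjAut_mem_autGroup (F := F) hPc.1 hsn hs) ⟨x, hxP⟩ hx1
    exact h1
  · intro α hα hαo hfix
    apply hDdet α hα hαo
    intro x hx
    apply hfix
    refine ⟨hx, ?_⟩
    rw [hn]
    exact hPc.1 x.2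

end Cfsg.Agent.S5297
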