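import Cfsg.Statements.S5298
import Cfsg.Agent.Lib.FusionCyclic
import Cfsg.Agent.S5124

set_option autoImplicit false
universe u
open Cfsg Cfsg.FusionSystem Cfsg.Agent.Lib.FusionBasic Cfsg.Agent.Lib.FusionSat Cfsg.Agent.Lib.FusionNormal Cfsg.Agent.Lib.FusionCyclic

namespace Cfsg.Agent.S5298

/-- Let F be a saturated fusion system over a finite p-group S. If every map of F between cyclic subgroups of the hyperfocal subgroup of F of order p or 4 is conjugation by an element of S, then F is the inner fusion system of S. -/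
theorem result {Ω : Type u} [Group Ω] {S : Subgroup Ω} [Finite S] (p : ℕ) [Fact p.Prime] (hS : IsPGroup p S)
    (F : Cfsg.FusionSystem S) (hF : F.IsSaturated p)
    (h : ∀ A B : Subgroup Ω, A ≤ (F.hyperfocalSubgroup p) → B ≤ (F.hyperfocalSubgroup p) → IsCyclic ↥A → (Nat.card ↥A = p ∨ Nat.card ↥A = 4) → IsCyclic ↥B → (Nat.card ↥B = p ∨ Nat.card ↥B = 4) →
      F.homSet A B ⊆ (Cfsg.innerFusionSystem S).Hom A) :
    ∀ P : Subgroup Ω, F.Hom P = (Cfsg.innerFusionSystem S).Hom P := by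
  obtain ⟨q, hq⟩ : ∃ q, (p ≠ 2 ∧ q = p) ∨ (p = 2 ∧ q = 4) := by
    by_cases h : p = 2
    · exact ⟨4, Or.inr ⟨h, rfl⟩⟩
    · exact ⟨p, Or.inl ⟨h, rfl⟩⟩
  have hT : F.StronglyClosed (F.hyperfocalSubgroup p) := Cfsg.Agent.S5124.result p hS F hF
  have key : ∀ x ∈ F.hyperfocalSubgroup p, x ^ q = 1 → ∀ (P : Subgroup Ω) (f : Ω → Ω), FMap F P f → x ∈ P →
      ∃ s ∈ S, s * x * s⁻¹ = f x := by
    intro x hx hxq P f hf hxP
    by_cases hx1 : x = 1
    · exact ⟨1, S.one_mem, by rw [hx1, hf.map_one]; group⟩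
    · obtain ⟨φ, hφ, hφx⟩ := elt_of_homSet hS hF hT hq (fun A => (Cfsg.innerFusionSystem S).Hom A) h hx hxq hx1 hf hxP
      have h1 : FMap (innerFusionSystem S) (Subgroup.zpowers x) (toFun φ) := fmap_toFun.2 hφ
      obtain ⟨-, s, hs, hsx⟩ := fmap_inner_iff.1 h1
      refine ⟨s, hs, ?_⟩
      rw [← hsx x (Subgroup.mem_zpowers x), ← hφx]
      exact toFun_coe φ ⟨x, Subgroup.mem_zpowers x⟩
  obtain ⟨n, hn⟩ := exists_Z_top hS
  have hA : ∀ P : Subgroup Ω, P ≤ S → IsPGroup p (F.autGroup P) := by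
    intro P hP
    have hPfin : Finite P := finite_of_le hP
    obtain ⟨D, hDP, hDT, hDq, hDinv, hDdet⟩ := exists_detect hS hq hT le_rfl hP
    refine Cfsg.Agent.Lib.FusionClosed.isPGroup_of_coprime_trivial fun c hco => ?_
    have hco' : (orderOf (c : MulAut P)).Coprime p := by rw [Subgroup.orderOf_coe]; exact hco
    have h1 : ∀ i, ∀ x : P, (x : Ω) ∈ D → (x : Ω) ∈ Z S i → (c : MulAut P) x = x := by
      intro i
      induction i with
      | zero =>
        intro x _ hx
        rw [Z_zero, Subgroup.mem_bot] at hx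
        have : x = 1 := Subtype.ext hx
        rw [this, map_one]
      | succ i ih =>
        intro x hx1 hx2
        obtain ⟨s, hs, hsx⟩ := key x (hDT hx1) (hDq x hx1) P _ (fmap_of_autGroup hP c.2) x.2
        rw [autFun_coe] at hsx
        apply Cfsg.Agent.Lib.Critical.fixed_of_fixed (hS.to_le hP) (c : MulAut P) hco'
        apply ih
        · show (x : Ω)⁻¹ * (((c : MulAut P) x : P) : Ω) ∈ D
          exact D.mul_mem (D.inv_mem hx1) (hDinv _ c.2 x hx1)
        · show (x : Ω)⁻¹ * (((c : MulAut P) x : P) : Ω) ∈ Z S i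
          rw [← hsx]
          exact Z_comm hs hx2
    apply Subtype.ext
    apply hDdet _ c.2 hco'
    intro x hx
    apply h1 n x hx
    rw [hn]
    exact hP x.2
  intro P
  rw [eq_inner_of_pGroup hS hF hA]

end Cfsg.Agent.S5298
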