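import Cfsg.Statements.S5299

set_option autoImplicit false
universe u
open Cfsg

namespace Cfsg.Agent.S5299

theorem involves_iff {H : Type*} [Group H] {G : Type*} [Group G] :
    Cfsg.Involves H G ↔ ∃ (K : Subgroup G) (f : K →* H), Function.Surjective f := by
  constructor
  · rintro ⟨K, R, hn, ⟨e⟩⟩
    exact ⟨K, e.toMonoidHom.comp (QuotientGroup.mk' _), e.surjective.comp (QuotientGroup.mk'_surjective _)⟩
  · rintro ⟨K, f, hf⟩
    have h1 : (f.ker.map K.subtype).subgroupOf K = f.ker := by
      ext x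
      rw [Subgroup.mem_subgroupOf]
      constructor
      · rintro ⟨y, hy, hyx⟩
        have : y = x := Subtype.ext hyx
        rwa [← this]
      · intro hx; exact ⟨x, hx, rfl⟩
    have hn : ((f.ker.map K.subtype).subgroupOf K).Normal := by rw [h1]; infer_instance
    exact ⟨K, f.ker.map K.subtype, hn, ⟨(QuotientGroup.quotientMulEquivOfEq h1).trans
      (QuotientGroup.quotientKerEquivOfSurjective f hf)⟩⟩

/-- A `p`-group involved in `L` is involved in any group into which a Sylow `p`-subgroup of `L` embeds. -/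
theorem involves_of_sylow {Q : Type*} [Group Q] {L : Type*} [Group L] [Finite L] {p : ℕ} [Fact p.Prime]
    (hQ : IsPGroup p Q) (h : Cfsg.Involves Q L) (T : Sylow p L) {S : Type*} [Group S] (j : (T : Subgroup L) →* S)
    (hj : Function.Injective j) : Cfsg.Involves Q S := by
  rw [involves_iff] at h ⊢
  obtain ⟨K, f, hf⟩ := h
  obtain ⟨P⟩ : Nonempty (Sylow p K) := inferInstance
  have hPQ : (P : Subgroup K).map f = ⊤ := by
    have h1 : Finite Q := Finite.of_surjective f hf
    have h2 := (Sylow.mapSurjective hf P).is_maximal' (Q := ⊤) (hQ.to_subgroup ⊤) le_top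
    rw [← Sylow.coe_mapSurjective hf P]
    exact h2.symm
  have hPL : IsPGroup p ((P : Subgroup K).map K.subtype) := P.isPGroup'.map _
  obtain ⟨T', hT'⟩ := hPL.exists_le_sylow
  obtain ⟨g, hg⟩ := MulAction.exists_smul_eq L T' T
  have hmem : ∀ x : (P : Subgroup K), g * ((x : K) : L) * g⁻¹ ∈ (T : Subgroup L) := by
    intro x
    rw [← hg, Sylow.coe_subgroup_smul]
    exact ⟨_, hT' ⟨x, x.2, rfl⟩, rfl⟩
  let c : (P : Subgroup K) →* S := j.comp
    (MonoidHom.mk' (fun x => (⟨g * ((x : K) : L) * g⁻¹, hmem x⟩ : (T : Subgroup L))) (by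
      intro x y
      apply Subtype.ext
      show g * ((x * y : K) : L) * g⁻¹ = (g * ((x : K) : L) * g⁻¹) * (g * ((y : K) : L) * g⁻¹)
      rw [Subgroup.coe_mul]
      group))
  have hc : Function.Injective c := by
    intro x y hxy
    have h3 := congrArg Subtype.val (hj hxy)
    have h4 : g * ((x : K) : L) * g⁻¹ = g * ((y : K) : L) * g⁻¹ := h3
    exact Subtype.ext (Subtype.ext (mul_left_cancel (mul_right_cancel h4)))
  refine ⟨c.range, (f.comp (P : Subgroup K).subtype).comp (MonoidHom.ofInjective hc).symm.toMonoidHom, ?_⟩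
  intro q
  have : q ∈ (P : Subgroup K).map f := by rw [hPQ]; trivial
  obtain ⟨x, hx, rfl⟩ := this
  refine ⟨MonoidHom.ofInjective hc ⟨x, hx⟩, ?_⟩
  show f (((MonoidHom.ofInjective hc).symm (MonoidHom.ofInjective hc ⟨x, hx⟩) : (P : Subgroup K)) : K) = f x
  rw [MulEquiv.symm_apply_apply]

theorem involves_subgroup {H : Type*} [Group H] {G : Type*} [Group G] (Q : Subgroup H) (h : Cfsg.Involves H G) :
    Cfsg.Involves Q G := by
  rw [involves_iff] at h ⊢
  obtain ⟨K, f, hf⟩ := h
  let K' : Subgroup G := (Q.comap f).map K.subtype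
  have hK' : K' ≤ K := Subgroup.map_subtype_le _
  refine ⟨K', (f.comp (Subgroup.inclusion hK')).codRestrict Q (by
    rintro ⟨x, hx⟩
    obtain ⟨y, hy, rfl⟩ := hx
    exact hy), ?_⟩
  rintro ⟨q, hq⟩
  obtain ⟨x, rfl⟩ := hf q
  exact ⟨⟨x, ⟨x, hq, rfl⟩⟩, rfl⟩


/-- Let F be a saturated fusion system over a finite p-group S, H a finite group and Q a p-subgroup of H. If Q is not involved in S (no section of S is isomorphic to Q), then F is H-free: H is involved in no model of the normalizer system of a fully normalized centric subgroup. -/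
theorem result {Ω : Type u} [Group Ω] {S : Subgroup Ω} [Finite S] (p : ℕ) [Fact p.Prime] (hS : IsPGroup p S)
    (F : Cfsg.FusionSystem S) (hF : F.IsSaturated p) (H : Type*) [Group H] [Finite H] (Q : Subgroup H) (hQ : IsPGroup p Q)
    (hfree : ¬ Cfsg.Involves (↥Q) (↥S)) : F.IsSectionFree p H := by
  intro R _ _ N _ L _ ι hL hinv
  obtain ⟨hfin, hreal, ⟨T, hT⟩, -⟩ := hL
  apply hfree
  have h1 : Cfsg.Involves Q L := involves_subgroup Q hinv
  have hinj := hreal.1
  have hle : Cfsg.FusionSystem.normalizerIn S R ≤ S := inf_le_left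
  have hle' : (T : Subgroup L) ≤ ι.range := hT.le
  let e := MonoidHom.ofInjective hinj
  refine involves_of_sylow hQ h1 T
    (((Subgroup.inclusion hle).comp e.symm.toMonoidHom).comp (Subgroup.inclusion hle')) ?_
  intro x y hxy
  have h2 := Subgroup.inclusion_injective hle hxy
  exact Subgroup.inclusion_injective hle' (e.symm.injective h2)

end Cfsg.Agent.S5299
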