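import Cfsg.Statements.S5316
import Cfsg.Agent.Lib.MCAsm
import Cfsg.Agent.Lib.BlackburnMain
import Cfsg.Agent.Lib.BlackburnPearl
import Cfsg.Agent.S5185
import Cfsg.Agent.S5186
-- import your own Cfsg.Agent.* helpers here

set_option autoImplicit false
open Cfsg

namespace Cfsg.Agent.S5316

/-- Let p ≥ 5 be a prime, S a finite p-group of maximal class of order p^n with n ≥ 5 (nilpotency class n − 1), F a saturated fusion system over S, and E an F-essential subgroup that is not a pearl (not elementary abelian of order p² and not extraspecial of order p³ and exponent p). Then E has order at least p⁴. -/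
theorem result {Ω : Type*} [Group Ω] {S : Subgroup Ω} [Finite S] (p : ℕ) [Fact p.Prime] (hp : 5 ≤ p) (hS : IsPGroup p ↥S) (n : ℕ) (hn : Nat.card S = p ^ n) (h5 : 5 ≤ n)
    (hmax : Subgroup.lowerCentralSeries S (n - 2) ≠ ⊥) (F : Cfsg.FusionSystem S) (hF : F.IsSaturated p)
    (E : Subgroup Ω) (hE : F.IsEssential p E)
    (hnp : ¬ ((Nat.card ↥E = p ^ 2 ∧ Cfsg.IsElementaryAbelian p E) ∨ (Nat.card ↥E = p ^ 3 ∧ Cfsg.IsExtraspecial p ↥E ∧ Monoid.exponent ↥E = p))) :
    p ^ 4 ≤ Nat.card ↥E := by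
  by_contra hlt
  push Not at hlt
  obtain ⟨G, hMC, h2, -⟩ := Cfsg.Agent.Lib.BlackburnMain.exists_chain (X := ↥S) (n := n) (by omega) hn
    (Cfsg.Agent.Lib.BlackburnPearl.class_of_lcs_ne_bot (by omega) hn hmax)
  have hp1 : 1 < p := (Fact.out : p.Prime).one_lt
  have hle : E ≤ S := hE.1.1
  have hcen : ∀ s ∈ S, (∀ x ∈ E, s * x * s⁻¹ = x) → s ∈ E := fun s hs h =>
    hE.1.2 E (Cfsg.Agent.Lib.FusionBasic.isConj_refl F hle)
      (Cfsg.Agent.Lib.FusionBasic.mem_centralizerIn.2 ⟨hs, Cfsg.Agent.Lib.FusionBasic.mem_centralizer_iff'.2 h⟩)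
  have hfE : Finite E := Cfsg.Agent.Lib.FusionSat.finite_of_le hle
  have hZS : Nat.card (Cfsg.Agent.Lib.MCBase.Gm G (n - 1)) = p := by
    rw [Cfsg.Agent.Lib.MCBase.card_Gm hMC (by omega), show n - (n - 1) = 1 by omega, pow_one]
  have hZc : ∀ c ∈ Cfsg.Agent.Lib.MCBase.Gm G (n - 1), ∀ s ∈ S, s * c = c * s := fun c hc s hs =>
    Cfsg.Agent.Lib.MCBase.comm_eq.1 (Cfsg.Agent.Lib.MCBase.mem_Gm_n hMC (by omega)
      (Cfsg.Agent.Lib.MCBase.comm_mem_Gm hMC (i := n - 1) (by omega) hs hc))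
  have hZE : Cfsg.Agent.Lib.MCBase.Gm G (n - 1) ≤ E := fun c hc =>
    hcen c (Cfsg.Agent.Lib.MCBase.Gm_le _ hc) fun x hx => by
      rw [← hZc c hc x (hle hx), mul_inv_cancel_right]
  have hnot : ¬ S ≤ E := by
    intro h
    have h1 := Subgroup.card_le_of_le h
    rw [hn] at h1
    have h3 : p ^ 4 < p ^ n := Nat.pow_lt_pow_right hp1 (by omega)
    omega
  obtain ⟨k, hk⟩ := (Cfsg.Agent.Lib.FusionSat.isPGroup_of_le hS hle).exists_card_eq
  have hk3 : k < 4 := by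
    rw [hk] at hlt
    exact (Nat.pow_lt_pow_iff_right hp1).1 hlt
  have hk0 : k ≠ 0 := by
    rintro rfl
    rw [pow_zero] at hk
    have h1 := Subgroup.card_le_of_le hZE
    rw [hZS, hk] at h1
    omega
  have hk1 : k ≠ 1 := by
    rintro rfl
    rw [pow_one] at hk
    have h1 := Subgroup.eq_of_le_of_card_ge hZE (by rw [hk, hZS])
    apply hnot
    intro s hs
    refine hcen s hs fun x hx => ?_
    rw [← h1] at hx
    rw [hZc x hx s hs, mul_inv_cancel_right]
  have hk2 : k ≠ 2 := by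
    rintro rfl
    exact hnp (Or.inl ⟨hk, (Cfsg.Agent.S5185.result p hS F hF E hE hk).1⟩)
  have hk4 : k = 3 := by omega
  subst hk4
  rcases Cfsg.Agent.S5186.result p hS F hF E hE hk with hel | ⟨-, hex, hexp⟩ | ⟨h22, -⟩
  · refine Cfsg.Agent.Lib.MCAsm.main (by omega) (F := F) (p := p) (n := n) (G := G) (E := E)
      ⟨hS, hF, hMC, h2, h5, hE, fun x hx y hy => ?_, hel.2, hk⟩
    have h1 := hel.1.is_comm.comm ⟨x, hx⟩ ⟨y, hy⟩
    exact congrArg Subtype.val h1
  · refine hnp (Or.inr ⟨hk, hex, ?_⟩)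
    have h1 : Monoid.exponent ↥E ∣ p := Monoid.exponent_dvd_of_forall_pow_eq_one fun x => Subtype.ext (hexp x x.2)
    rcases (Nat.dvd_prime (Fact.out : p.Prime)).1 h1 with h3 | h3
    · exfalso
      have h4 : Subsingleton ↥E := Monoid.exp_eq_one_iff.1 h3
      have h6 : Nat.card ↥E = 1 := Nat.card_eq_one_iff_unique.2 ⟨h4, ⟨1⟩⟩
      rw [hk] at h6
      have h7 : 1 < p ^ 3 := Nat.one_lt_pow (by norm_num) hp1
      omega
    · exact h3
  · omega

end Cfsg.Agent.S5316
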