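import Cfsg.Statements.S5343
import Cfsg.Agent.Lib.FusionPull

set_option autoImplicit false
universe u
open Cfsg

namespace Cfsg.Agent.S5343

open Cfsg.FusionSystem Cfsg.Agent.Lib.FusionBasic Cfsg.Agent.Lib.FusionPull

/-- Let F be a simple saturated fusion system over a finite p-group S that is realized by some finite group on a Sylow p-subgroup. Then F is realized by a finite simple group on a Sylow p-subgroup. -/
theorem result {Ω : Type u} [Group Ω] {S : Subgroup Ω} [Finite S] (p : ℕ) [Fact p.Prime] (hS : IsPGroup p S) (F : Cfsg.FusionSystem S) (hsimple : F.IsSimple p) (hreal : F.IsRealizable p) : ∃ (G : Type u) (_ : Group G) (_ : Finite G) (_ : IsSimpleGroup G) (ι : ↥S →* G), F.IsRealizedBy ι ∧ ∃ T : Sylow p G, (T : Subgroup G) = ι.range := by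

  classical
  have hex : ∃ n : ℕ, ∃ (G : Type u) (_ : Group G) (_ : Finite G) (ι : ↥S →* G),
      F.IsRealizedBy ι ∧ (∃ T : Sylow p G, (T : Subgroup G) = ι.range) ∧ Nat.card G = n := by
    obtain ⟨G, hG1, hG2, ι, h1, h2⟩ := hreal
    exact ⟨_, G, hG1, hG2, ι, h1, h2, rfl⟩
  obtain ⟨G, hG1, hG2, ι, hι, ⟨T, hT⟩, hcard⟩ := Nat.find_spec hex
  have hmin : ∀ (G' : Type u) [Group G'] [Finite G'] (ι' : ↥S →* G'), F.IsRealizedBy ι' →
      (∃ T' : Sylow p G', (T' : Subgroup G') = ι'.range) → Nat.card G ≤ Nat.card G' := by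
    intro G' _ _ ι' h1 h2
    rw [hcard]
    exact Nat.find_min' hex ⟨G', inferInstance, inferInstance, ι', h1, h2, rfl⟩
  have hntr : Nontrivial G := by
    by_contra h
    rw [not_nontrivial_iff_subsingleton] at h
    apply hsimple.2.1
    rw [eq_bot_iff]
    intro x hx
    rw [Subgroup.mem_bot]
    have := hι.1 (Subsingleton.elim (ι ⟨x, hx⟩) (ι 1))
    exact congrArg Subtype.val this
  have hsimp : ∀ N : Subgroup G, N.Normal → N = ⊥ ∨ N = ⊤ := by
    intro N hN
    have hE := pull_isNormalIn hι T hT N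
    rcases hsimple.2.2 _ _ hE with h | ⟨h1, h2⟩
    · left
      obtain ⟨R, hR⟩ := Cfsg.Agent.Lib.FusionNormalSubgroup.exists_sylow_inf T N
      have hTN : (T : Subgroup G) ⊓ N = ⊥ := by
        rw [eq_bot_iff]
        rintro y ⟨hy1, hy2⟩
        rw [SetLike.mem_coe, hT] at hy1
        obtain ⟨x, rfl⟩ := hy1
        have h3 : (x : Ω) ∈ T1 ι N := mem_T1.2 ⟨x.2, by rw [j_coe]; exact hy2⟩
        rw [h, Subgroup.mem_bot] at h3
        have h4 : x = 1 := Subtype.ext h3
        rw [h4, map_one]
        exact Subgroup.one_mem _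
      have hRb : (R : Subgroup N) = ⊥ := by
        rw [hR, hTN, Subgroup.bot_subgroupOf]
      have h3 : ¬ p ∣ Nat.card N := by
        have := R.not_dvd_index
        rwa [hRb, Subgroup.index_bot] at this
      obtain ⟨h4, h5⟩ := quotient_isRealizedBy hι T hT N h3
      have h6 := hmin _ _ h4 h5
      have h7 := Subgroup.card_eq_card_quotient_mul_card_subgroup N
      have h8 : 0 < Nat.card (G ⧸ N) := Nat.card_pos
      have h9 : Nat.card N = 1 := by
        have h10 : 0 < Nat.card N := Nat.card_pos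
        by_contra h11
        have : 2 ≤ Nat.card N := by omega
        nlinarith
      exact Subgroup.card_eq_one.1 h9
    · right
      have hmem : ∀ x : S, ι x ∈ N := by
        intro x
        have : (x : Ω) ∈ T1 ι N := by rw [h1]; exact x.2
        have h3 := (mem_T1.1 this).2
        rwa [j_coe] at h3
      let ι' : ↥S →* N := { toFun := fun x => ⟨ι x, hmem x⟩, map_one' := Subtype.ext (map_one ι), map_mul' := fun x y => Subtype.ext (map_mul ι x y) }
      have h3 : F.IsRealizedBy ι' := by
        refine ⟨fun x y hxy => hι.1 (congrArg Subtype.val hxy), fun P hP φ hφ => ?_⟩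
        rw [← h2 P]
        constructor
        · rintro ⟨-, -, g, hgN, hg⟩
          refine ⟨⟨g, hgN⟩, fun x => Subtype.ext ?_⟩
          have h4 := hg x
          rw [j_of_mem ι (hφ x), j_of_mem ι (hP x.2)] at h4
          exact h4
        · rintro ⟨g, hg⟩
          refine ⟨by rw [h1]; exact hP, fun x => by rw [h1]; exact hφ x, g, g.2, fun x => ?_⟩
          rw [j_of_mem ι (hφ x), j_of_mem ι (hP x.2)]
          exact congrArg Subtype.val (hg x)
      have h4 : ∃ T' : Sylow p N, (T' : Subgroup N) = ι'.range := by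
        obtain ⟨R, hR⟩ := Cfsg.Agent.Lib.FusionNormalSubgroup.exists_sylow_inf T N
        refine ⟨R, ?_⟩
        rw [hR]
        ext y
        rw [Subgroup.mem_subgroupOf, Subgroup.mem_inf, hT]
        constructor
        · rintro ⟨⟨x, hx⟩, -⟩
          exact ⟨x, Subtype.ext hx⟩
        · rintro ⟨x, rfl⟩
          exact ⟨⟨x, rfl⟩, hmem x⟩
      have h5 := hmin _ _ h3 h4
      exact Subgroup.eq_top_of_le_card N h5
  exact ⟨G, hG1, hG2, ⟨hsimp⟩, ι, hι, T, hT⟩

end Cfsg.Agent.S5343
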