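import Cfsg.Statements.S5522
import Cfsg.Agent.Lib.GolayFix

set_option autoImplicit false
open Cfsg

namespace Cfsg.Agent.S5522

open Cfsg.Agent.Lib.Golay Cfsg.Agent.Lib.GolayFix
open scoped Pointwise

theorem squareDodecad_mem : Spor.squareDodecad ∈ dodecads := by
  refine ⟨⟨qrWord 0, Submodule.subset_span (Set.mem_union_left _ ⟨0, rfl⟩), rfl⟩, ?_⟩
  rw [Spor.squareDodecad, qrWord_eq, support₂_wd, card_mset]
  decide +kernel

theorem result (g : Equiv.Perm Cfsg.GolayPt) (hg : g ∈ Cfsg.Spor.M11) (hord : (orderOf g).Prime) :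
    ∃ x : Cfsg.GolayPt, x ∉ Cfsg.Spor.squareDodecad ∧ g x = x := by
  have hgM : g ∈ M24 := hg.1.1
  have hstab : g • Spor.squareDodecad = Spor.squareDodecad := hg.1.2
  have hfix : g (some 0) = some 0 := hg.2
  have hSinv : ∀ x, g x ∈ Spor.squareDodecad ↔ x ∈ Spor.squareDodecad := by
    intro x
    conv_lhs => rw [← hstab]
    exact mem_smul_iff g _ x
  have h0 : (some 0 : GolayPt) ∈ Spor.squareDodecad := by
    rw [Spor.squareDodecad, qrWord_eq, support₂_wd, mem_mset]
    decide +kernel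
  have hD12 : Spor.squareDodecad.card = 12 := squareDodecad_mem.2
  by_contra hcon
  push Not at hcon
  set p := orderOf g with hp
  have : Fact p.Prime := ⟨hord⟩
  have hgp : g ^ p = 1 := pow_orderOf_eq_one g
  have h1 := card_modEq hgp (Finset.univ \ Spor.squareDodecad) (fun x hx => by
    rw [Finset.mem_sdiff] at hx ⊢
    exact ⟨Finset.mem_univ _, fun h => hx.2 ((hSinv x).1 h)⟩)
  have h2 : (Finset.univ \ Spor.squareDodecad).card = 12 := by
    rw [Finset.card_sdiff_of_subset (Finset.subset_univ _), Finset.card_univ, card_pt, hD12]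
  have h3 : (Finset.univ \ Spor.squareDodecad) ∩ Fix g = ∅ := by
    rw [Finset.eq_empty_iff_forall_notMem]
    intro x hx
    rw [Finset.mem_inter, Finset.mem_sdiff, mem_Fix] at hx
    exact hcon x hx.1.2 hx.2
  rw [h3, h2, Finset.card_empty] at h1
  have h4 : p ∣ 12 := (Nat.modEq_zero_iff_dvd).1 h1
  have h5 : p ∣ 2 ∨ p ∣ 3 := by
    have h6 : p ∣ 2 * 2 * 3 := h4
    rcases hord.dvd_mul.1 h6 with h | h
    · rcases hord.dvd_mul.1 h with h | h <;> exact Or.inl h
    · exact Or.inr h
  have hex : ∃ x, x ∉ Spor.squareDodecad ∧ g x = x := by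
    rcases h5 with h | h
    · have h6 : p = 2 := (Nat.prime_dvd_prime_iff_eq hord Nat.prime_two).1 h
      rw [h6] at hgp
      exact exists_fix_two hgM hgp squareDodecad_mem h0 hfix
    · have h6 : p = 3 := (Nat.prime_dvd_prime_iff_eq hord Nat.prime_three).1 h
      rw [h6] at hgp
      exact exists_fix_three hgM hgp squareDodecad_mem hSinv h0 hfix
  obtain ⟨x, hx, hx'⟩ := hex
  exact hcon x hx hx'

end Cfsg.Agent.S5522
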