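import Cfsg.Statements.S5662
import Cfsg.Agent.Lib.AschSp9

set_option autoImplicit false
open Cfsg

namespace Cfsg.Agent.S5662

/-- Subgroup structure of the finite symplectic groups. Let F be a finite field and m ≥ 2 with (m, |F|) ≠ (2, 2), and let Sp_2m(F) be the group of invertible matrices preserving the standard alternating form on F^(2m). Let H be a subgroup of Sp_2m(F) whose product with the scalar matrices ±1 is not all of Sp_2m(F) (H does not cover PSp_2m(F)). Then either H is contained in a member of one of the eight geometric classes of subgroups of Sp_2m(F) (with the conditions built into InSymplecticClass), or H is in the residual class: modulo scalars it is almost simple, and the perfect preimage of its socle acts absolutely irreducibly, is realisable over no proper subfield, and fixes no non-degenerate quadratic form and no non-degenerate unitary form on F^(2m).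 -/
theorem result {F : Type*} [Field F] [Fintype F] (m : ℕ) (hm : 2 ≤ m) (hex : ¬ (m = 2 ∧ Fintype.card F = 2)) (H : Subgroup (Matrix.GeneralLinearGroup (Fin m ⊕ Fin m) F)) (hH : H ≤ Cfsg.spGL m F) (hproper : H ⊔ (Cfsg.Geo.scalars (Fin m ⊕ Fin m) F ⊓ Cfsg.spGL m F) ≠ Cfsg.spGL m F) : (∃ M : Subgroup (Matrix.GeneralLinearGroup (Fin m ⊕ Fin m) F), Cfsg.Geo.InSymplecticClass m F M ∧ H ≤ M) ∨ Cfsg.Geo.InSymplecticResidualClass H := by
  rcases Cfsg.Agent.Lib.AschSp.spcase (by omega) hH with ⟨W, h0, hs, hle⟩ | ⟨W, h0, hs, hd, hle⟩ | ⟨t, k, D, htk, hk, hD, hle⟩ |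
    ⟨D, hodd, hD, hs, hle⟩ | ⟨r, K, hr, hrm, hK, hsa, hz, hle⟩ | ⟨K, hodd, hK, hac, hns, hle⟩ |
    ⟨n₁, n₂, e, P, f₁, f₂, hodd, h2, h3, hev, hf₁, hf₂, hst, hle⟩ | ⟨F₀, r, P, ζ, hr, hc, hζ, hrs, hle⟩ |
    ⟨R, p, k, hR, habs, hRI, hp, hodd, hc, hcard, hk, hz, hmin, hle⟩ |
    ⟨k, t, e, P, f₁, hodd, ht, h3, hk, hne, hcard, hf₁, hst, hle⟩ | ⟨Q, heven, hQ, hpol, hle⟩ | h
  · exact Or.inl ⟨_, Or.inl (Or.inl ⟨W, h0, hs, rfl⟩), le_inf hle hH⟩
  · exact Or.inl ⟨_, Or.inl (Or.inr (Or.inl ⟨W, h0, hs, hd, rfl⟩)), le_inf hle hH⟩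
  · exact Or.inl ⟨_, Or.inl (Or.inr (Or.inr (Or.inl ⟨t, k, D, hD, rfl⟩))), le_inf hle hH⟩
  · exact Or.inl ⟨_, Or.inl (Or.inr (Or.inr (Or.inr (Or.inl ⟨D, hodd, hD, hs, rfl⟩)))), le_inf hle hH⟩
  · exact Or.inl ⟨_, Or.inr (Or.inl ⟨r, K, hr, hK, hsa, hz, rfl⟩), le_inf hle hH⟩
  · exact Or.inl ⟨_, Or.inr (Or.inr (Or.inl ⟨K, hodd, hK, hac, hns, rfl⟩)), le_inf hle hH⟩
  · exact Or.inl ⟨_, Or.inr (Or.inr (Or.inr (Or.inl ⟨n₁, n₂, e, P, f₁, f₂, hodd, h3, hf₁, hf₂, hst, rfl⟩))), le_inf hle hH⟩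
  · exact Or.inl ⟨_, Or.inl (Or.inr (Or.inr (Or.inr (Or.inr (Or.inl ⟨F₀, r, P, ζ, hr, hc, hζ, hrs, rfl⟩))))), le_inf hle hH⟩
  · exact Or.inl ⟨_, Or.inl (Or.inr (Or.inr (Or.inr (Or.inr (Or.inr (Or.inl ⟨R, p, k, hR, habs, fun g hg =>
      ⟨1, fun u v => by rw [Units.val_one, one_mul]; exact hRI hg u v⟩, hp, hodd, hc, hcard, hz, hmin, rfl⟩)))))), le_inf hle hH⟩
  · exact Or.inl ⟨_, Or.inr (Or.inr (Or.inr (Or.inr ⟨k, t, e, P, f₁, hodd, ht, h3, hne, hf₁, hst, rfl⟩))), le_inf hle hH⟩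
  · exact Or.inl ⟨_, Or.inl (Or.inr (Or.inr (Or.inr (Or.inr (Or.inr (Or.inr ⟨Q, heven, hQ, hpol, rfl⟩)))))), le_inf hle hH⟩
  · exact Or.inr h

end Cfsg.Agent.S5662
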