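import Cfsg.Statements.S5726

set_option autoImplicit false
open Cfsg

namespace Cfsg.Agent.S5726

/-- If `G` is transitive on `Ω` and `p ^ a` divides `|Ω|`, every orbit of a Sylow `p`-subgroup has length divisible
by `p ^ a`. -/
theorem sylow_orbit_dvd {G Ω : Type*} [Group G] [Finite G] [MulAction G Ω] [Finite Ω]
    (htr : MulAction.IsPretransitive G Ω) (p a : ℕ) [Fact p.Prime] (hdvd : p ^ a ∣ Nat.card Ω) (P : Sylow p G) (ω : Ω) :
    p ^ a ∣ Nat.card (MulAction.orbit P ω) := by
  have h1 : Nat.card Ω * Nat.card (MulAction.stabilizer G ω) = Nat.card G := by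
    rw [← MulAction.index_stabilizer_of_transitive G ω, mul_comm]
    exact Subgroup.card_mul_index _
  have h2 : Nat.card (MulAction.orbit P ω) * Nat.card (MulAction.stabilizer P ω) = Nat.card P := by
    have := MulAction.index_stabilizer P ω
    rw [← Nat.card_coe_set_eq] at this
    rw [← this, mul_comm]
    exact Subgroup.card_mul_index _
  obtain ⟨b, hb⟩ : ∃ b, Nat.card (MulAction.stabilizer P ω) = p ^ b :=
    IsPGroup.iff_card.mp (P.2.to_subgroup _)
  have h3 : p ^ b ∣ Nat.card (MulAction.stabilizer G ω) := by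
    rw [← hb]
    let f : MulAction.stabilizer P ω →* MulAction.stabilizer G ω :=
      { toFun := fun x => ⟨(x : P), x.2⟩
        map_one' := rfl
        map_mul' := fun _ _ => rfl }
    have hf : Function.Injective f := by
      intro x y hxy
      apply Subtype.ext; apply Subtype.ext
      exact congrArg (fun z : MulAction.stabilizer G ω => (z : G)) hxy
    exact Subgroup.card_dvd_of_injective f hf
  have h4 : p ^ a * p ^ b ∣ Nat.card G := by
    rw [← h1]; exact mul_dvd_mul hdvd h3
  have h5 : p ^ a * p ^ b ∣ Nat.card P := by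
    rw [← pow_add] at h4 ⊢
    rw [P.card_eq_multiplicity]
    exact pow_dvd_pow p ((Fact.out : p.Prime).pow_dvd_iff_le_factorization (Nat.card_pos.ne') |>.mp h4)
  rw [← h2, hb] at h5
  exact Nat.dvd_of_mul_dvd_mul_right (pow_pos (Fact.out : p.Prime).pos b) h5

theorem result {G Ω : Type*} [Group G] [Finite G] [MulAction G Ω] [FaithfulSMul G Ω] [Fintype Ω] (htr : MulAction.IsPretransitive G Ω)
    (p k : ℕ) (hp : p.Prime) (hk : 1 ≤ k) (hΩ : Fintype.card Ω = p ^ k) :
    ∃ g : G, orderOf g = p ∧ ∀ ω : Ω, g • ω ≠ ω := by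
  have : Fact p.Prime := ⟨hp⟩
  have hne : Nonempty Ω := by
    apply Fintype.card_pos_iff.mp; rw [hΩ]; exact pow_pos hp.pos k
  obtain ⟨ω₀⟩ := hne
  let P : Sylow p G := default
  have hP : ∀ ω ω' : Ω, ∃ g : P, g • ω = ω' := by
    intro ω ω'
    have hd := sylow_orbit_dvd htr p k (by rw [Nat.card_eq_fintype_card, hΩ]) P ω
    have hle : Nat.card Ω ≤ Nat.card (MulAction.orbit P ω) := by
      rw [Nat.card_eq_fintype_card, hΩ]
      have : Nonempty (MulAction.orbit P ω) := ⟨⟨ω, MulAction.mem_orbit_self ω⟩⟩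
      exact Nat.le_of_dvd Nat.card_pos hd
    have huniv : MulAction.orbit P ω = Set.univ := by
      apply Set.eq_of_subset_of_ncard_le (Set.subset_univ _)
      rw [Set.ncard_univ, ← Nat.card_coe_set_eq]; exact hle
    have : ω' ∈ MulAction.orbit P ω := by rw [huniv]; trivial
    exact MulAction.mem_orbit_iff.mp this
  have hPnt : Nontrivial P := by
    have : 1 < Nat.card Ω := by
      rw [Nat.card_eq_fintype_card, hΩ]; exact Nat.one_lt_pow (by omega) hp.one_lt
    have h1 : Nat.card Ω ∣ Nat.card P := by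
      have hd := sylow_orbit_dvd htr p k (by rw [Nat.card_eq_fintype_card, hΩ]) P ω₀
      rw [Nat.card_eq_fintype_card, hΩ]
      refine hd.trans ?_
      have := MulAction.index_stabilizer P ω₀
      rw [← Nat.card_coe_set_eq] at this
      rw [← this]; exact Subgroup.index_dvd_card _
    exact Finite.one_lt_card_iff_nontrivial.mp (lt_of_lt_of_le this (Nat.le_of_dvd Nat.card_pos h1))
  have hZ : Nontrivial (Subgroup.center P) := P.2.center_nontrivial
  have hZp : IsPGroup p (Subgroup.center P) := P.2.to_subgroup _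
  have hdvd : p ∣ Nat.card (Subgroup.center P) := by
    obtain ⟨m, hm⟩ := IsPGroup.iff_card.mp hZp
    rcases Nat.eq_zero_or_pos m with h0 | h0
    · subst h0
      rw [pow_zero] at hm
      exact absurd (Finite.one_lt_card_iff_nontrivial.mpr hZ) (by omega)
    · rw [hm]; exact dvd_pow_self p (by omega)
  obtain ⟨z, hz⟩ := exists_prime_orderOf_dvd_card' (G := Subgroup.center P) p hdvd
  refine ⟨((z : P) : G), ?_, ?_⟩
  · rw [Subgroup.orderOf_coe, Subgroup.orderOf_coe, hz]
  · intro ω hω
    have h1 : ((z : P) : G) = 1 := by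
      apply FaithfulSMul.eq_of_smul_eq_smul (α := Ω)
      intro ω'
      obtain ⟨g, hg⟩ := hP ω ω'
      rw [one_smul, ← hg]
      have hc : (z : P) * g = g * (z : P) := (Subgroup.mem_center_iff.mp z.2 g).symm
      have : (z : P) • (g • ω) = g • ω := by
        rw [← mul_smul, hc, mul_smul]
        congr 1
      exact this
    have h2 : z = 1 := by
      apply Subtype.ext; apply Subtype.ext; exact h1
    rw [h2, orderOf_one] at hz
    exact hp.one_lt.ne hz

end Cfsg.Agent.S5726
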