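import Cfsg.Statements.S5727
import Cfsg.Agent.S5726

set_option autoImplicit false
open Cfsg

namespace Cfsg.Agent.S5727

theorem exists_derangement {P Ω : Type*} [Group P] [Finite P] [MulAction P Ω] [Fintype Ω] (p m : ℕ) (hp : 0 < p)
    (hidx : ∀ ω : Ω, (MulAction.stabilizer P ω).index = p) (hnorm : ∀ ω : Ω, (MulAction.stabilizer P ω).Normal)
    (hΩ : Fintype.card Ω = m * p) (hlt : m < p) : ∃ x : P, ∀ ω : Ω, x • ω ≠ ω := by
  classical
  have : Fintype P := Fintype.ofFinite P
  have horb : ∀ ω : Ω, Nat.card (MulAction.orbit P ω) = p := by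
    intro ω
    rw [Nat.card_coe_set_eq, ← MulAction.index_stabilizer P ω]; exact hidx ω
  by_contra hcon
  push Not at hcon
  have hfix : ∀ x : P, p ≤ Nat.card {ω : Ω // x • ω = ω} := by
    intro x
    obtain ⟨ω, hω⟩ := hcon x
    have key : Nat.card (MulAction.orbit P ω) ≤ Nat.card {ω : Ω // x • ω = ω} := by
      apply Nat.card_le_card_of_injective (fun y : MulAction.orbit P ω => (⟨(y : Ω), by
        obtain ⟨g, hg⟩ := MulAction.mem_orbit_iff.mp y.2
        rw [← hg]
        have h1 : g⁻¹ * x * g ∈ MulAction.stabilizer P ω := by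
          have := (hnorm ω).conj_mem x hω g⁻¹
          simpa using this
        have h2 : (g⁻¹ * x * g) • ω = ω := h1
        calc x • g • ω = g • ((g⁻¹ * x * g) • ω) := by rw [← mul_smul, ← mul_smul]; congr 1; group
          _ = g • ω := by rw [h2]⟩ : {ω : Ω // x • ω = ω}))
      intro y z hyz
      apply Subtype.ext
      simpa using hyz
    rwa [horb ω] at key
  have h1 : ∀ x : P, Nat.card {ω : Ω // x • ω = ω} = ∑ ω : Ω, if x • ω = ω then 1 else 0 := by
    intro x
    rw [Nat.card_eq_fintype_card, Fintype.card_subtype, Finset.card_filter]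
  have h2 : ∀ ω : Ω, Nat.card (MulAction.stabilizer P ω) = ∑ x : P, if x • ω = ω then 1 else 0 := by
    intro ω
    have : Nat.card (MulAction.stabilizer P ω) = Nat.card {x : P // x • ω = ω} := rfl
    rw [this, Nat.card_eq_fintype_card, Fintype.card_subtype, Finset.card_filter]
  have hsum : ∑ x : P, Nat.card {ω : Ω // x • ω = ω} = ∑ ω : Ω, Nat.card (MulAction.stabilizer P ω) := by
    rw [Finset.sum_congr rfl (fun x _ => h1 x), Finset.sum_congr rfl (fun ω _ => h2 ω), Finset.sum_comm]
  have hst : ∀ ω : Ω, Nat.card (MulAction.stabilizer P ω) * p = Nat.card P := by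
    intro ω
    rw [← hidx ω]; exact Subgroup.card_mul_index _
  have h5 : Nat.card P * p ≤ ∑ x : P, Nat.card {ω : Ω // x • ω = ω} := by
    have : ∑ x : P, p ≤ ∑ x : P, Nat.card {ω : Ω // x • ω = ω} := Finset.sum_le_sum (fun x _ => hfix x)
    rw [Finset.sum_const, Finset.card_univ, smul_eq_mul, ← Nat.card_eq_fintype_card] at this
    exact this
  have h6 : (∑ ω : Ω, Nat.card (MulAction.stabilizer P ω)) * p = Nat.card P * (m * p) := by
    rw [Finset.sum_mul, Finset.sum_congr rfl (fun ω _ => hst ω), Finset.sum_const, Finset.card_univ, smul_eq_mul, hΩ]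
    ring
  rw [hsum] at h5
  have h7 : Nat.card P * p * p ≤ Nat.card P * (m * p) := by
    rw [← h6]; exact Nat.mul_le_mul_right p h5
  have h8 : Nat.card P * m < Nat.card P * p := Nat.mul_lt_mul_of_pos_left hlt Nat.card_pos
  have h9 : Nat.card P * m * p < Nat.card P * p * p := Nat.mul_lt_mul_of_pos_right h8 hp
  rw [← mul_assoc] at h7
  omega

theorem result {G Ω : Type*} [Group G] [Finite G] [MulAction G Ω] [FaithfulSMul G Ω] [Fintype Ω] (htr : MulAction.IsPretransitive G Ω)
    (p m : ℕ) (hp : p.Prime) (hm : 1 ≤ m) (hmp : m ≤ p) (hΩ : Fintype.card Ω = m * p) :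
    ∃ g : G, orderOf g = p ∧ ∀ ω : Ω, g • ω ≠ ω := by
  rcases Nat.lt_or_ge m p with hlt | hge
  swap
  · have : m = p := le_antisymm hmp hge
    subst this
    exact Cfsg.Agent.S5726.result htr m 2 hp (by norm_num) (by rw [hΩ, sq])
  have hfact : Fact p.Prime := ⟨hp⟩
  classical
  let P : Sylow p G := default
  -- orbit lengths
  have horb : ∀ ω : Ω, Nat.card (MulAction.orbit P ω) = p := by
    intro ω
    have hd := Cfsg.Agent.S5726.sylow_orbit_dvd htr p 1 (by rw [Nat.card_eq_fintype_card, hΩ, pow_one]; exact dvd_mul_left p m) P ω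
    rw [pow_one] at hd
    have h2 : (MulAction.stabilizer P ω).index = Nat.card (MulAction.orbit P ω) := by
      rw [Nat.card_coe_set_eq]; exact MulAction.index_stabilizer P ω
    have h3 : Nat.card (MulAction.orbit P ω) ∣ Nat.card P := by
      rw [← h2]; exact Subgroup.index_dvd_card _
    obtain ⟨a, ha⟩ := IsPGroup.iff_card.mp P.2
    rw [ha] at h3
    obtain ⟨b, hb, hb'⟩ := (Nat.dvd_prime_pow hp).mp h3
    have hle : Nat.card (MulAction.orbit P ω) ≤ m * p := by
      rw [← hΩ, ← Nat.card_eq_fintype_card]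
      exact Nat.card_le_card_of_injective (fun x : MulAction.orbit P ω => (x : Ω)) Subtype.val_injective
    have hlt2 : p ^ b < p ^ 2 := by
      rw [← hb', sq]
      exact lt_of_le_of_lt hle (Nat.mul_lt_mul_of_pos_right hlt hp.pos)
    have hb2 : b < 2 := (Nat.pow_lt_pow_iff_right hp.one_lt).mp hlt2
    have hb1 : b = 1 := by
      rcases Nat.lt_or_ge b 1 with h0 | h0
      · have : b = 0 := by omega
        subst this
        rw [hb', pow_zero] at hd
        exact absurd (Nat.dvd_one.mp hd) hp.one_lt.ne'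
      · omega
    rw [hb', hb1, pow_one]
  have hidx : ∀ ω : Ω, (MulAction.stabilizer P ω).index = p := by
    intro ω
    rw [MulAction.index_stabilizer P ω, ← Nat.card_coe_set_eq]; exact horb ω
  have hnorm : ∀ ω : Ω, (MulAction.stabilizer P ω).Normal := by
    intro ω
    apply Subgroup.normal_of_index_eq_minFac_card
    rw [hidx ω]
    obtain ⟨a, ha⟩ := IsPGroup.iff_card.mp P.2
    have : a ≠ 0 := by
      intro h0
      subst h0
      have hdv : (MulAction.stabilizer P ω).index ∣ Nat.card P := Subgroup.index_dvd_card _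
      rw [hidx ω, ha, pow_zero] at hdv
      exact absurd (Nat.dvd_one.mp hdv) hp.one_lt.ne'
    rw [ha, hp.pow_minFac this]
  have hex : ∃ x : P, ∀ ω : Ω, x • ω ≠ ω := exists_derangement p m hp.pos hidx hnorm hΩ hlt
  obtain ⟨x, hx⟩ := hex
  have hxp : x ^ p = 1 := by
    apply Subtype.ext
    apply FaithfulSMul.eq_of_smul_eq_smul (α := Ω)
    intro ω
    have := hnorm ω
    have h1 : x ^ p ∈ MulAction.stabilizer P ω := by
      have := Subgroup.pow_index_mem (MulAction.stabilizer P ω) x
      rwa [hidx ω] at this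
    have h2 : (x ^ p) • ω = ω := h1
    have h3 : ((1 : P) : G) • ω = ω := by rw [Subgroup.coe_one, one_smul]
    rw [h3]
    exact h2
  have hne : Nonempty Ω := by
    apply Fintype.card_pos_iff.mp; rw [hΩ]; exact Nat.mul_pos hm hp.pos
  obtain ⟨ω₀⟩ := hne
  refine ⟨(x : G), ?_, fun ω => hx ω⟩
  rw [Subgroup.orderOf_coe]
  apply orderOf_eq_prime hxp
  rintro rfl
  exact hx ω₀ (one_smul _ _)

end Cfsg.Agent.S5727
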