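import Cfsg.Statements.S5728

set_option autoImplicit false
open Cfsg

namespace Cfsg.Agent.S5728

theorem mem_prime_field (p : ℕ) [Fact p.Prime] (u : (GaloisField p 2)ˣ) (hu : u ^ (p - 1) = 1) :
    ∃ a : (ZMod p)ˣ, algebraMap (ZMod p) (GaloisField p 2) (a : ZMod p) = (u : GaloisField p 2) := by
  classical
  have hfin : Finite (GaloisField p 2) := inferInstance
  have : Fintype (GaloisField p 2) := Fintype.ofFinite _
  let f : (ZMod p)ˣ → (GaloisField p 2)ˣ := Units.map (algebraMap (ZMod p) (GaloisField p 2) : ZMod p →* GaloisField p 2)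
  have hf : Function.Injective f := by
    intro a b hab
    apply Units.ext
    apply (algebraMap (ZMod p) (GaloisField p 2)).injective
    exact congrArg (fun z : (GaloisField p 2)ˣ => (z : GaloisField p 2)) hab
  have hp : p.Prime := Fact.out
  let S : Finset (GaloisField p 2)ˣ := Finset.univ.filter (fun u => u ^ (p - 1) = 1)
  let T : Finset (GaloisField p 2)ˣ := Finset.univ.image f
  have hS : S.card ≤ p - 1 := IsCyclic.card_pow_eq_one_le (by have := hp.two_le; omega)
  have hT : T.card = p - 1 := by
    rw [Finset.card_image_of_injective _ hf, Finset.card_univ, ZMod.card_units_eq_totient, Nat.totient_prime hp]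
  have hTS : T ⊆ S := by
    intro x hx
    obtain ⟨a, -, rfl⟩ := Finset.mem_image.mp hx
    rw [Finset.mem_filter]
    refine ⟨Finset.mem_univ _, ?_⟩
    show f a ^ (p - 1) = 1
    rw [← map_pow, ZMod.units_pow_card_sub_one_eq_one, map_one]
  have hEq : T = S := Finset.eq_of_subset_of_card_le hTS (by rw [hT]; exact hS)
  have hu' : u ∈ T := by
    rw [hEq, Finset.mem_filter]; exact ⟨Finset.mem_univ _, hu⟩
  obtain ⟨a, -, ha⟩ := Finset.mem_image.mp hu'
  exact ⟨a, congrArg (fun z : (GaloisField p 2)ˣ => (z : GaloisField p 2)) ha⟩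

theorem result (p s : ℕ) [Fact p.Prime] (hs : p = 2 ^ s - 1)
    (g : Equiv.Perm (GaloisField p 2)) (hg : g ∈ Cfsg.affineGroup (GaloisField p 2)) (hord : (orderOf g).Prime) :
    ∃ x ∈ Cfsg.affineGroup (GaloisField p 2), ∃ a b : ZMod p, a ≠ 0 ∧
      ∀ y : GaloisField p 2, (x * g * x⁻¹) y = algebraMap (ZMod p) (GaloisField p 2) a * y + algebraMap (ZMod p) (GaloisField p 2) b := by
  obtain ⟨a, b, hab⟩ := hg
  by_cases ha : a = 1
  · subst ha
    have hb : b ≠ 0 := by
      rintro rfl
      have : g = 1 := by
        ext x; rw [hab]; simp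
      rw [this, orderOf_one] at hord
      exact Nat.not_prime_one hord
    let x : Equiv.Perm (GaloisField p 2) := Equiv.mulLeft₀ b⁻¹ (inv_ne_zero hb)
    have hx : ∀ y, x y = b⁻¹ * y := fun y => rfl
    refine ⟨x, ⟨(Units.mk0 b hb)⁻¹, 0, fun y => by rw [hx]; simp⟩, 1, 1, one_ne_zero, fun y => ?_⟩
    obtain ⟨z, rfl⟩ := x.surjective y
    have h0 : (x * g * x⁻¹) (x z) = x (g z) := by
      show x (g (x.symm (x z))) = _
      rw [Equiv.symm_apply_apply]
    rw [h0, hx, hx, hab, map_one]
    field_simp
    simp
  · have ha1 : (1 - (a : GaloisField p 2)) ≠ 0 := by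
      intro h
      apply ha
      apply Units.ext
      rw [Units.val_one]
      exact (sub_eq_zero.mp h).symm
    let c : GaloisField p 2 := b / (1 - a)
    have hc : (a : GaloisField p 2) * c + b = c := by
      have h1 : c * (1 - a) = b := div_mul_cancel₀ b ha1
      linear_combination -h1
    let x : Equiv.Perm (GaloisField p 2) := Equiv.subRight c
    have hx : ∀ y, x y = y - c := fun y => rfl
    have hpow : ∀ k : ℕ, ∀ y, (g ^ k) (y + c) = (a : GaloisField p 2) ^ k * y + c := by
      intro k
      induction k with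
      | zero => intro y; simp
      | succ k ih =>
        intro y
        rw [pow_succ', Equiv.Perm.mul_apply, ih, hab]
        linear_combination hc
    have har : a ^ (orderOf g) = 1 := by
      have h1 := hpow (orderOf g) 1
      rw [pow_orderOf_eq_one, Equiv.Perm.one_apply] at h1
      apply Units.ext
      rw [Units.val_pow_eq_pow_val, Units.val_one]
      linear_combination -h1
    have hmain : ∃ a' : ZMod p, a' ≠ 0 ∧ algebraMap (ZMod p) (GaloisField p 2) a' = (a : GaloisField p 2) := by
      by_cases h2 : orderOf g = 2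
      · rw [h2] at har
        refine ⟨-1, neg_ne_zero.mpr one_ne_zero, ?_⟩
        rw [map_neg, map_one]
        have h3 : (a : GaloisField p 2) ^ 2 = 1 := by
          rw [← Units.val_pow_eq_pow_val, har, Units.val_one]
        have h4 : (1 - (a : GaloisField p 2)) * (1 + a) = 0 := by linear_combination -h3
        rcases mul_eq_zero.mp h4 with h5 | h5
        · exact absurd h5 ha1
        · linear_combination -h5
      · have hp : p.Prime := Fact.out
        have hfin : Finite (GaloisField p 2) := inferInstance
        have hfact : Fact (orderOf g).Prime := ⟨hord⟩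
        have h3 : orderOf a = orderOf g := orderOf_eq_prime har ha
        have h4 : orderOf a ∣ Nat.card (GaloisField p 2)ˣ := orderOf_dvd_natCard a
        rw [Nat.card_units, GaloisField.card p 2 two_ne_zero, h3] at h4
        have h5 : p ^ 2 - 1 = (p - 1) * 2 ^ s := by
          have h6 : p + 1 = 2 ^ s := by
            have := hp.two_le
            omega
          have h7 : p ^ 2 - 1 ^ 2 = (p + 1) * (p - 1) := Nat.sq_sub_sq p 1
          rw [one_pow] at h7
          rw [h7, h6, mul_comm]
        rw [h5] at h4
        rcases (Nat.Prime.dvd_mul hord).mp h4 with h8 | h8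
        · have h9 : a ^ (p - 1) = 1 := by
            apply orderOf_dvd_iff_pow_eq_one.mp
            rw [h3]; exact h8
          obtain ⟨a', ha'⟩ := mem_prime_field p a h9
          exact ⟨a', a'.ne_zero, ha'⟩
        · exfalso
          have h9 := hord.dvd_of_dvd_pow h8
          exact h2 ((Nat.prime_dvd_prime_iff_eq hord Nat.prime_two).mp h9)
    obtain ⟨a', ha'0, ha'⟩ := hmain
    refine ⟨x, ⟨1, -c, fun y => by rw [hx]; simp [sub_eq_add_neg]⟩, a', 0, ha'0, fun y => ?_⟩
    obtain ⟨z, rfl⟩ := x.surjective y
    have h0 : (x * g * x⁻¹) (x z) = x (g z) := by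
      show x (g (x.symm (x z))) = _
      rw [Equiv.symm_apply_apply]
    rw [h0, hx, hx, hab, ha', map_zero]
    linear_combination hc

end Cfsg.Agent.S5728
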