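import Mathlib
import Cfsg.Statements.S5736
import Cfsg.Agent.Lib.BinPslD
import Cfsg.Agent.Lib.BinPslF

set_option autoImplicit false
set_option linter.unusedSectionVars false
set_option linter.unusedVariables false
open Cfsg

namespace Cfsg.Agent.S5736

open Matrix Cfsg.Agent.Lib Cfsg.Agent.Lib.SL2Basic Cfsg.Agent.Lib.SL2Tori Cfsg.Agent.Lib.ClSL2 Cfsg.Agent.Lib.BinAct
  Cfsg.Agent.Lib.BinPslA Cfsg.Agent.Lib.BinPslC Cfsg.Agent.Lib.BinPslB Cfsg.Agent.Lib.BinPslD Cfsg.Agent.Lib.BinPslE
open MulAction (stabilizer mem_stabilizer_iff)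
open scoped MatrixGroups LinearAlgebra.Projectivization

section gen

variable {G : Type*} [Group G] (H : Subgroup G)

theorem fix_iff (g k : G) : k • (g : G ⧸ H) = (g : G ⧸ H) ↔ g⁻¹ * k * g ∈ H := by
  rw [MulAction.Quotient.smul_coe, smul_eq_mul, eq_comm, QuotientGroup.eq, mul_assoc]

theorem exists_rep (x : G ⧸ H) : ∃ g : G, x = (g : G ⧸ H) := by
  obtain ⟨g, rfl⟩ := QuotientGroup.mk_surjective x
  exact ⟨g, rfl⟩

theorem stab_eq (g : G) : stabilizer G (g : G ⧸ H) = H.map (MulAut.conj g).toMonoidHom := by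
  ext k
  rw [mem_stabilizer_iff, fix_iff]
  constructor
  · intro h
    exact ⟨_, h, by simp [MulAut.conj_apply]; group⟩
  · rintro ⟨m, hm, rfl⟩
    have : g⁻¹ * (MulAut.conj g m) * g = m := by rw [MulAut.conj_apply]; group
    change g⁻¹ * (MulAut.conj g m) * g ∈ H
    rw [this]; exact hm

theorem card_stab' (x : G ⧸ H) : Nat.card (stabilizer G x) = Nat.card H := by
  obtain ⟨g, rfl⟩ := exists_rep H x
  rw [stab_eq, Subgroup.card_map_of_injective (MulAut.conj g).injective]

theorem stab_ne_top (hH : H ≠ ⊤) (x : G ⧸ H) : stabilizer G x ≠ ⊤ := by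
  obtain ⟨g, rfl⟩ := exists_rep H x
  intro h
  apply hH
  rw [eq_top_iff]
  intro k _
  have : g * k * g⁻¹ ∈ stabilizer G (g : G ⧸ H) := by rw [h]; trivial
  rw [mem_stabilizer_iff, fix_iff] at this
  have e : g⁻¹ * (g * k * g⁻¹) * g = k := by group
  rwa [e] at this

end gen

universe u

variable {F : Type u} [Field F] [Fintype F]

local notation "SL2" => Matrix.SpecialLinearGroup (Fin 2) F
local notation "M2" => Matrix (Fin 2) (Fin 2) F
local notation "PSL2" => Matrix.ProjectiveSpecialLinearGroup (Fin 2) F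

theorem simple (h4 : 4 ≤ Fintype.card F) : IsSimpleGroup (Matrix.ProjectiveSpecialLinearGroup (Fin 2) F) :=
  Matrix.ProjectiveSpecialLinearGroup.rank_two_simple (by rw [Nat.card_eq_fintype_card]; exact h4)

/-- the setting for an arbitrary proper subgroup of even order -/
theorem setup {H : Subgroup (Matrix.ProjectiveSpecialLinearGroup (Fin 2) F)} (hH : H ≠ ⊤)
    (hB : Bin (Matrix.ProjectiveSpecialLinearGroup (Fin 2) F) (Matrix.ProjectiveSpecialLinearGroup (Fin 2) F ⧸ H))
    (he : 2 ∣ Nat.card H) :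
    Setup (Matrix.ProjectiveSpecialLinearGroup (Fin 2) F) (Matrix.ProjectiveSpecialLinearGroup (Fin 2) F ⧸ H) where
  bin := hB
  conj := fun s t hs1 hs ht1 ht => exists_conj_of_invol hs1 hs ht1 ht
  fix := fun t ht1 ht => by
    have : Fact (Nat.Prime 2) := ⟨Nat.prime_two⟩
    obtain ⟨u, hu⟩ := exists_prime_orderOf_dvd_card' 2 he
    have hu2 : (u : PSL2) * u = 1 := by
      have := pow_orderOf_eq_one u
      rw [hu, pow_two] at this
      exact congrArg Subtype.val this
    have hu1 : (u : PSL2) ≠ 1 := by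
      intro h
      have h1 : u = 1 := Subtype.ext h
      rw [h1, orderOf_one] at hu
      norm_num at hu
    obtain ⟨g, hg⟩ := exists_conj_of_invol hu1 hu2 ht1 ht
    refine ⟨(g : PSL2 ⧸ H), ?_⟩
    rw [fix_iff, ← hg]
    have : g⁻¹ * (g * (u : PSL2) * g⁻¹) * g = u := by group
    rw [this]; exact u.2
  ne_top := stab_ne_top H hH

/-! ### characteristic two -/

theorem up_of_two {X : Type*} [MulAction (Matrix.ProjectiveSpecialLinearGroup (Fin 2) F) X]
    {x : X} (hu : ∀ b : F, mk (uS b) • x = x) (hne : stabilizer (Matrix.ProjectiveSpecialLinearGroup (Fin 2) F) x ≠ ⊤) :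
    ∀ K : SL2, mk K • x = x → (K : M2) 1 0 = 0 := by
  intro K hK
  by_contra h10
  apply hne
  have h1 := US_sup_conj_eq_top h10
  let N : Subgroup SL2 := (stabilizer PSL2 x).comap (QuotientGroup.mk' (Subgroup.center SL2))
  have hN : ∀ z : SL2, z ∈ N ↔ mk z • x = x := fun z => Iff.rfl
  have hUS : US F ≤ N := by
    intro z hz
    rw [mem_US] at hz
    have : z = uS ((z : M2) 0 1) := Subtype.ext (by
      change (z : M2) = ((uS ((z : M2) 0 1) : SL2) : M2)
      rw [coe_uS]
      have := Matrix.eta_fin_two (z : M2)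
      rw [hz.1, hz.2.1, hz.2.2] at this
      exact this)
    rw [hN, this]
    exact hu _
  have htop : N = ⊤ := by
    rw [eq_top_iff, ← h1]
    apply sup_le hUS
    rintro z ⟨w, hw, rfl⟩
    change K * w * K⁻¹ ∈ N
    exact N.mul_mem (N.mul_mem hK (hUS hw)) (N.inv_mem hK)
  rw [eq_top_iff]
  intro g _
  obtain ⟨z, rfl⟩ := mk_surj g
  have : z ∈ N := by rw [htop]; trivial
  exact this

theorem even_even (h2 : (2 : F) = 0) (h4 : 4 ≤ Fintype.card F) {H : Subgroup (Matrix.ProjectiveSpecialLinearGroup (Fin 2) F)}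
    (hH : H ≠ ⊤)
    (hB : Bin (Matrix.ProjectiveSpecialLinearGroup (Fin 2) F) (Matrix.ProjectiveSpecialLinearGroup (Fin 2) F ⧸ H))
    (he : 2 ∣ Nat.card H) : Nat.card H = Fintype.card F := by
  have := simple h4
  have hS := setup hH hB he
  have hu1 : mk (uS (1 : F)) ≠ 1 := mk_uS_ne one_ne_zero
  have huu : mk (uS (1 : F)) * mk (uS 1) = 1 := by
    rw [← mk_mul, uS_mul]
    have : (1 : F) + 1 = 0 := by rw [one_add_one_eq_two, h2]
    rw [this, BinPslA.uS_zero, mk_one]
  obtain ⟨x, hx⟩ := hS.fix _ hu1 huu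
  have hu : ∀ b : F, mk (uS b) • x = x := fun b =>
    centralizer_le_KK h2 hS hu1 huu (by rw [← mk_mul, ← mk_mul, uS_mul, uS_mul, add_comm]) x hx
  have hup := up_of_two hu (hS.ne_top x)
  have hK : ∀ K : SL2, mk K • x = x → K = uS ((K : M2) 0 1) := by
    intro K hK
    have h10 := hup K hK
    have hd := det2 K
    rw [h10, mul_zero, sub_zero] at hd
    have h0 : (K : M2) 0 0 ≠ 0 := left_ne_zero_of_mul_eq_one hd
    by_cases ha : (K : M2) 0 0 = 1
    · apply ext2
      · rw [uS00, ha]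
      · rw [uS01]
      · rw [uS10, h10]
      · rw [uS11]; rw [ha, one_mul] at hd; exact hd
    · exfalso
      apply not_bin_two h2 hB hu hup (a := Units.mk0 _ h0) (fun h => ha (by
        have := congrArg Units.val h
        simpa using this))
      have e : dg (Units.mk0 _ h0) = K * uS (-((K : M2) 0 1 / (K : M2) 0 0)) := by
        apply ext2
        · rw [mul00, uS00, uS10, dg00]; simp
        · rw [mul01, uS01, uS11, dg01]; field_simp; ring
        · rw [mul10, uS00, uS10, dg10, h10]; ring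
        · rw [mul11, uS01, uS11, dg11, h10]; simp
          exact (eq_inv_of_mul_eq_one_right hd).symm
      rw [e, mk_mul, mul_smul, hu, hK]
  rw [← card_stab' H x, ← Nat.card_eq_fintype_card]
  symm
  refine Nat.card_congr (Equiv.ofBijective (fun b : F => (⟨mk (uS b), hu b⟩ : stabilizer PSL2 x)) ⟨?_, ?_⟩)
  · intro a b hab
    have h1 := mk_inj h2 (congrArg Subtype.val hab)
    have := congrArg (fun Z : SL2 => (Z : M2) 0 1) h1
    simpa [uS01] using this
  · rintro ⟨k, hk⟩
    obtain ⟨K, rfl⟩ := mk_surj k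
    exact ⟨(K : M2) 0 1, Subtype.ext (congrArg mk (hK K hk)).symm⟩

/-! ### subgroups of odd order -/

theorem two_dvd_P2 (k : Type*) [Field k] [Finite k] : 2 ∣ Nat.card (MobCount.P2 k) := by
  have hw : mk (w0 : SL(2, k)) ≠ 1 := by
    intro e
    rw [mk_eq_one, ← mem_center_iff', mem_center_iff_entries] at e
    have := e.2.1
    rw [w010] at this
    exact one_ne_zero this
  have hww : mk (w0 : SL(2, k)) * mk w0 = 1 := by
    apply invol_of_tr_zero
    rw [tr_def, w000, w011, add_zero]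
  have : orderOf (mk (w0 : SL(2, k))) = 2 := orderOf_eq_prime (by rw [pow_two, hww]) hw
  rw [← this]
  exact orderOf_dvd_natCard _

theorem odd_cases (H : Subgroup (Matrix.ProjectiveSpecialLinearGroup (Fin 2) F)) (hH : H ≠ ⊤)
    (ho : ¬ 2 ∣ Nat.card H) (p : ℕ) [Fact p.Prime] [CharP F p] :
    (IsCyclic H ∧ ¬ p ∣ Nat.card H) ∨ (p ∣ Nat.card H ∧ ∃ x : ℙ F (Fin 2 → F),
      H ≤ stabilizer (Matrix.ProjectiveSpecialLinearGroup (Fin 2) F) x) := by
  rcases MobCount.psl_cases rfl p H hH with ⟨h1, h2, _⟩ | ⟨C, _, _, _, hcC, _, _, _⟩ | ⟨_, h9, _⟩ | ⟨_, h9, _⟩ | ⟨_, h9, _⟩ |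
    ⟨h1, z, hz⟩ | ⟨g, k, m, hm, hkm, h9⟩
  · exact Or.inl ⟨h1, h2⟩
  · exact absurd ⟨_, hcC⟩ ho
  · exact absurd (h9 ▸ (by norm_num)) ho
  · exact absurd (h9 ▸ (by norm_num)) ho
  · exact absurd (h9 ▸ (by norm_num)) ho
  · exact Or.inr ⟨h1, z, hz⟩
  · exfalso
    apply ho
    rcases h9 with h9 | h9
    · rw [MobCount.card_of_range_psl H g k h9]
      exact two_dvd_P2 k
    · rw [MobCount.card_of_range_pgl H g k h9]
      refine dvd_trans (two_dvd_P2 k) ?_
      have h1 : Nat.card ((Matrix.ProjectiveSpecialLinearGroup.toPGL :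
          MobCount.P2 k →* PGL(Fin 2, k)).range) = Nat.card (MobCount.P2 k) :=
        Nat.card_congr (MonoidHom.ofInjective Matrix.ProjectiveSpecialLinearGroup.toPGL_injective).symm.toEquiv
      rw [← h1]
      exact Subgroup.card_subgroup_dvd_card _

theorem sq_ne_of_odd {G : Type*} [Group G] [Finite G] {H : Subgroup G} (ho : ¬ 2 ∣ Nat.card H) {a : G} (ha : a ∈ H)
    (ha1 : a ≠ 1) : a * a ≠ 1 := by
  intro h
  apply ho
  have : orderOf a = 2 := orderOf_eq_prime (by rw [pow_two, h]) ha1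
  rw [← this]
  exact Subgroup.orderOf_dvd_natCard H ha

theorem tr_one_of_order_three (h2 : (2 : F) = 0) {A : SL2} (h1 : mk A ≠ 1) (h3 : mk A ^ 3 = 1) : tr A = 1 := by
  have hA := noncentral h1
  have h3' : A ^ 3 = 1 := by
    apply mk_inj h2
    rw [mk_one, ← h3]; rfl
  have h4 : ((A : M2) * A) * A = 1 := by
    have := congrArg (fun Z : SL2 => (Z : M2)) h3'
    simp only [Matrix.SpecialLinearGroup.coe_pow, Matrix.SpecialLinearGroup.coe_one] at this
    rw [← this]; noncomm_ring
  rw [sq_eq, sub_mul, one_mul, smul_mul_assoc, sq_eq, smul_sub, smul_smul] at h4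
  by_contra hne
  apply hA
  rw [mem_center_iff_entries]
  have e01 := congrFun (congrFun h4 0) 1
  have e10 := congrFun (congrFun h4 1) 0
  have e00 := congrFun (congrFun h4 0) 0
  have e11 := congrFun (congrFun h4 1) 1
  simp at e01 e10 e00 e11
  have hc : (tr A * tr A - 1) ≠ 0 := by
    intro h
    have : (tr A - 1) * (tr A - 1) = 0 := by linear_combination h - (tr A - 1) * h2
    exact hne (sub_eq_zero.1 (mul_self_eq_zero.1 this))
  refine ⟨?_, ?_, ?_⟩
  · exact (mul_eq_zero.1 (show (tr A * tr A - 1) * (A : M2) 0 1 = 0 by linear_combination e01)).resolve_left hc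
  · exact (mul_eq_zero.1 (show (tr A * tr A - 1) * (A : M2) 1 0 = 0 by linear_combination e10)).resolve_left hc
  · exact mul_left_cancel₀ hc (by linear_combination e00 - e11)

theorem order_three_of_tr (h2 : (2 : F) = 0) {A : SL2} (h : tr A = 1) : mk A ^ 3 = 1 := by
  change mk (A ^ 3) = 1
  rw [mk_eq_one]
  right
  apply Subtype.ext
  rw [Matrix.SpecialLinearGroup.coe_pow]
  have : (A : M2) ^ 3 = ((A : M2) * A) * A := by noncomm_ring
  rw [this, sq_eq, h, one_smul, sub_mul, one_mul, sq_eq, h, one_smul]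
  change (A : M2) - 1 - A = -1
  abel

/-- odd order, even characteristic -/
theorem even_odd (h2 : (2 : F) = 0) {n : ℕ} (hn : Fintype.card F = 2 ^ n)
    {H : Subgroup (Matrix.ProjectiveSpecialLinearGroup (Fin 2) F)} (hH : H ≠ ⊤) (hH1 : H ≠ ⊥)
    (hB : Bin (Matrix.ProjectiveSpecialLinearGroup (Fin 2) F) (Matrix.ProjectiveSpecialLinearGroup (Fin 2) F ⧸ H))
    (ho : ¬ 2 ∣ Nat.card H) : Nat.card H = 3 ∧ Odd n := by
  have hc2 : CharP F 2 := CharTwo.of_one_ne_zero_of_two_eq_zero one_ne_zero h2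
  have : Fact (Nat.Prime 2) := ⟨Nat.prime_two⟩
  have hcyc : IsCyclic H := by
    rcases odd_cases H hH ho 2 with h | h
    · exact h.1
    · exact absurd h.1 ho
  obtain ⟨c, hc⟩ := hcyc.exists_generator
  have hab : ∀ a b : PSL2, a ∈ H → b ∈ H → a * b = b * a := by
    intro a b ha hb
    obtain ⟨i, hi⟩ := hc ⟨a, ha⟩
    obtain ⟨j, hj⟩ := hc ⟨b, hb⟩
    have := (Commute.refl c).zpow_zpow i j
    have h3 := congrArg Subtype.val this.eq
    simp only at hi hj
    rw [hi, hj] at h3
    exact h3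
  have hc1 : (c : PSL2) ≠ 1 := by
    intro h
    apply hH1
    rw [eq_bot_iff]
    intro a ha
    obtain ⟨i, hi⟩ := hc ⟨a, ha⟩
    have h3 : c = 1 := Subtype.ext h
    simp only [h3, _root_.one_zpow] at hi
    rw [Subgroup.mem_bot]
    exact (congrArg Subtype.val hi).symm
  obtain ⟨A, hA⟩ := mk_surj (c : PSL2)
  let x : PSL2 ⧸ H := ((1 : PSL2) : PSL2 ⧸ H)
  have hx : ∀ a : PSL2, a • x = x ↔ a ∈ H := by
    intro a
    rw [fix_iff]; simp
  have hno : ¬ Trip A := by
    intro hT
    refine not_bin_of_trip (x := x) (fun a b ha hb => hab a b ((hx a).1 ha) ((hx b).1 hb))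
      (fun a _ _ => Or.inl h2) (A := A) ((hx _).2 (by rw [hA]; exact c.2)) hT hB
  have hA1 : mk A ≠ 1 := by rw [hA]; exact hc1
  have htr0 : tr A ≠ 0 := by
    intro h
    have := invol_of_tr_zero h
    rw [hA] at this
    exact sq_ne_of_odd ho c.2 hc1 this
  have htr1 : tr A = 1 := by
    by_contra h
    exact hno (trip_two h2 htr0 h)
  have h3 : (c : PSL2) ^ 3 = 1 := by rw [← hA]; exact order_three_of_tr h2 htr1
  have h4 : orderOf (c : PSL2) = 3 := by
    have : Fact (Nat.Prime 3) := ⟨Nat.prime_three⟩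
    exact orderOf_eq_prime h3 hc1
  refine ⟨?_, ?_⟩
  · rw [← h4, Subgroup.orderOf_coe]
    exact (orderOf_eq_card_of_forall_mem_zpowers hc).symm
  · by_contra hne
    rw [Nat.not_odd_iff_even] at hne
    obtain ⟨r, hr⟩ := hne
    -- a cube root of unity
    have h5 : 3 ∣ Nat.card Fˣ := by
      rw [Nat.card_units, Nat.card_eq_fintype_card, hn, hr, ← two_mul, pow_mul]
      have : (2 : ℕ) ^ 2 = 4 := by norm_num
      rw [this]
      have h6 : 4 ^ r % 3 = 1 := by
        rw [Nat.pow_mod]; simp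
      omega
    have : Fact (Nat.Prime 3) := ⟨Nat.prime_three⟩
    obtain ⟨w, hw⟩ := exists_prime_orderOf_dvd_card' 3 h5
    have hw3 : (w : F) ^ 3 = 1 := by
      have := pow_orderOf_eq_one w
      rw [hw] at this
      have := congrArg Units.val this
      simpa using this
    have hw1 : (w : F) ≠ 1 := by
      intro h
      have : w = 1 := Units.ext h
      rw [this, orderOf_one] at hw
      norm_num at hw
    have hw2 : (w : F) ^ 2 + w + 1 = 0 := by
      have : ((w : F) - 1) * ((w : F) ^ 2 + w + 1) = 0 := by linear_combination hw3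
      exact (mul_eq_zero.1 this).resolve_left (sub_ne_zero.2 hw1)
    exact hno (trip_three h2 htr1 hw2)

/-! ### odd characteristic -/

theorem pow_tri {K : SL2} (h10 : (K : M2) 1 0 = 0) (m : ℕ) : ((K ^ m : SL2) : M2) 1 0 = 0 ∧
    ((K ^ m : SL2) : M2) 0 0 = (K : M2) 0 0 ^ m := by
  induction m with
  | zero => simp
  | succ m ih =>
    rw [pow_succ, mul10, mul00, ih.1, ih.2, h10]
    constructor
    · ring
    · ring

theorem odd_odd (hodd : Odd (Fintype.card F))
    {H : Subgroup (Matrix.ProjectiveSpecialLinearGroup (Fin 2) F)} (hH : H ≠ ⊤) (hH1 : H ≠ ⊥)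
    (hB : Bin (Matrix.ProjectiveSpecialLinearGroup (Fin 2) F) (Matrix.ProjectiveSpecialLinearGroup (Fin 2) F ⧸ H))
    (ho : ¬ 2 ∣ Nat.card H) : False := by
  obtain ⟨p, hp⟩ := CharP.exists F
  have hpp : Fact p.Prime := ⟨CharP.char_is_prime F p⟩
  have h2 := two_ne hodd
  rcases odd_cases H hH ho p with ⟨hcyc, hpn⟩ | ⟨hpd, z, hz⟩
  · obtain ⟨c, hc⟩ := hcyc.exists_generator
    have hab : ∀ a b : PSL2, a ∈ H → b ∈ H → a * b = b * a := by
      intro a b ha hb
      obtain ⟨i, hi⟩ := hc ⟨a, ha⟩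
      obtain ⟨j, hj⟩ := hc ⟨b, hb⟩
      have := (Commute.refl c).zpow_zpow i j
      have h3 := congrArg Subtype.val this.eq
      simp only at hi hj
      rw [hi, hj] at h3
      exact h3
    have hc1 : (c : PSL2) ≠ 1 := by
      intro h
      apply hH1
      rw [eq_bot_iff]
      intro a ha
      obtain ⟨i, hi⟩ := hc ⟨a, ha⟩
      have h3 : c = 1 := Subtype.ext h
      simp only [h3, _root_.one_zpow] at hi
      rw [Subgroup.mem_bot]
      exact (congrArg Subtype.val hi).symm
    obtain ⟨A, hA⟩ := mk_surj (c : PSL2)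
    let x : PSL2 ⧸ H := ((1 : PSL2) : PSL2 ⧸ H)
    have hx : ∀ a : PSL2, a • x = x ↔ a ∈ H := by
      intro a
      rw [fix_iff]; simp
    have hno : ¬ Trip A := by
      intro hT
      refine not_bin_of_trip (x := x) (fun a b ha hb => hab a b ((hx a).1 ha) ((hx b).1 hb))
        (fun a ha ha1 => Or.inr (sq_ne_of_odd ho ((hx a).1 ha) ha1)) (A := A) ((hx _).2 (by rw [hA]; exact c.2)) hT hB
    have htr0 : tr A ≠ 0 := by
      intro h
      have := invol_of_tr_zero h
      rw [hA] at this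
      exact sq_ne_of_odd ho c.2 hc1 this
    have htr4 : tr A ^ 2 ≠ 4 := by
      intro h
      have h1 : (c : PSL2) ^ p = 1 := by
        rw [← hA]
        change mk (A ^ p) = 1
        exact mk_eq_one.2 (pow_char_of_tr_sq h)
      apply hpn
      have h3 : orderOf (c : PSL2) = p := orderOf_eq_prime h1 hc1
      rw [← h3]
      exact Subgroup.orderOf_dvd_natCard H c.2
    exact hno (trip_odd h2 (Nat.odd_iff.1 hodd) htr4 htr0)
  · -- Borel
    let v1 : Fin 2 → F := ![1, 0]
    have hv1 : v1 ≠ 0 := by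
      intro h
      have := congrFun h 0
      simp [v1] at this
    obtain ⟨g, hg⟩ := MulAction.exists_smul_eq (MobCount.P2 F) z (Projectivization.mk F v1 hv1)
    let x : PSL2 ⧸ H := ((g : PSL2) : PSL2 ⧸ H)
    have hx : ∀ a : PSL2, a • x = x ↔ g⁻¹ * a * g ∈ H := fun a => fix_iff H g a
    have hup : ∀ K : SL2, mk K • x = x → (K : M2) 1 0 = 0 := by
      intro K hK
      rw [hx] at hK
      have h1 : (g⁻¹ * mk K * g) • z = z := hz hK
      have h3 : mk K • Projectivization.mk F v1 hv1 = Projectivization.mk F v1 hv1 := by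
        rw [← hg]
        have e : mk K • (g • z) = g • ((g⁻¹ * mk K * g) • z) := by
          rw [← mul_smul, ← mul_smul]
          congr 1
          group
        rw [e, h1]
      rw [fixed_iff'] at h3
      obtain ⟨l, hl⟩ := h3
      have := congrFun hl 1
      simpa [v1, Matrix.mulVec, dotProduct, Fin.sum_univ_two] using this
    obtain ⟨u, hu⟩ := exists_prime_orderOf_dvd_card' p hpd
    have hup1 : (u : PSL2) ^ p = 1 := by
      have := pow_orderOf_eq_one u
      rw [hu] at this
      exact congrArg Subtype.val this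
    have hu1 : (u : PSL2) ≠ 1 := by
      intro h
      have h1 : u = 1 := Subtype.ext h
      rw [h1, orderOf_one] at hu
      exact hpp.out.one_lt.ne hu
    obtain ⟨K, hK⟩ := mk_surj (g * (u : PSL2) * g⁻¹)
    have hKx : mk K • x = x := by
      rw [hx, hK]
      have : g⁻¹ * (g * (u : PSL2) * g⁻¹) * g = u := by group
      rw [this]; exact u.2
    have hK1 : mk K ≠ 1 := by
      rw [hK]
      intro h
      exact hu1 (conj_eq_one_iff.1 h)
    have hKp : mk (K ^ p) = 1 := by
      change mk K ^ p = 1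
      rw [hK, conj_pow, hup1]; group
    have h10 := hup K hKx
    have h00 : (K : M2) 0 0 ^ 2 = 1 := by
      have e := (pow_tri h10 p).2
      have e2 : ((K : M2) 0 0 ^ 2) ^ p = 1 := by
        rw [← pow_mul, mul_comm, pow_mul, ← e]
        rcases mk_eq_one.1 hKp with h | h
        · rw [h]; simp
        · rw [h]; simp
      have e3 : ((K : M2) 0 0 ^ 2 - 1) ^ p = 0 := by
        rw [sub_pow_char, e2, one_pow, sub_self]
      exact sub_eq_zero.1 (pow_eq_zero_iff hpp.out.ne_zero |>.1 e3)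
    have hd := det2 K
    rw [h10, mul_zero, sub_zero] at hd
    have hK00 : (K : M2) 0 0 ≠ 0 := left_ne_zero_of_mul_eq_one hd
    have h11 : (K : M2) 1 1 = (K : M2) 0 0 := by
      apply mul_left_cancel₀ hK00
      rw [hd, ← pow_two, h00]
    let b : F := (K : M2) 0 0 * (K : M2) 0 1
    have hKb : mk K = mk (uS b) := by
      rw [mk_eq]
      have hcase : ((K : M2) 0 0 - 1) * ((K : M2) 0 0 + 1) = 0 := by linear_combination h00
      rcases mul_eq_zero.1 hcase with h | h
      · left
        have h' := sub_eq_zero.1 h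
        apply ext2
        · rw [uS00, h']
        · rw [uS01]; simp only [b]; rw [h', one_mul]
        · rw [uS10, h10]
        · rw [uS11, h11, h']
      · right
        have h' := eq_neg_of_add_eq_zero_left h
        apply ext2
        · rw [Matrix.SpecialLinearGroup.coe_neg, Matrix.neg_apply, uS00, h']
        · rw [Matrix.SpecialLinearGroup.coe_neg, Matrix.neg_apply, uS01]; simp only [b]; rw [h']; ring
        · rw [Matrix.SpecialLinearGroup.coe_neg, Matrix.neg_apply, uS10, h10, neg_zero]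
        · rw [Matrix.SpecialLinearGroup.coe_neg, Matrix.neg_apply, uS11, h11, h']
    have hb : b ≠ 0 := by
      intro h
      apply hK1
      rw [hKb, h, BinPslA.uS_zero, mk_one]
    by_cases hall : ∀ b : F, mk (uS b) • x = x
    · exact not_bin_full h2 hB hall hup
    · push Not at hall
      obtain ⟨b0, hb0⟩ := hall
      obtain ⟨w, hw⟩ := exists_z hup hb0
      exact not_bin_part h2 hB hup hb (by rw [← hKb]; exact hKx) hw

/-! ### the binary actions -/

theorem bin_bot {G : Type*} [Group G] : Bin G (G ⧸ (⊥ : Subgroup G)) := by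
  apply bin_of
  intro x0 x1 x2 h0 h1 h2 e0 _ _ _ _
  obtain ⟨g, rfl⟩ := exists_rep _ x0
  rw [fix_iff, Subgroup.mem_bot] at e0
  have : h0 = 1 := by
    calc h0 = g * (g⁻¹ * h0 * g) * g⁻¹ := by group
      _ = 1 := by rw [e0]; group
  rw [this, one_smul]

theorem bin_sylow (h2 : (2 : F) = 0) (P : Sylow 2 (Matrix.ProjectiveSpecialLinearGroup (Fin 2) F)) :
    Bin (Matrix.ProjectiveSpecialLinearGroup (Fin 2) F)
      (Matrix.ProjectiveSpecialLinearGroup (Fin 2) F ⧸ (P : Subgroup (Matrix.ProjectiveSpecialLinearGroup (Fin 2) F))) := by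
  have : Fact (Nat.Prime 2) := ⟨Nat.prime_two⟩
  -- `P` is elementary abelian
  have h2P : 2 ∣ Nat.card (P : Subgroup PSL2) := by
    apply P.dvd_card_of_dvd_card
    exact two_dvd_P2 F
  have hnt : Nontrivial (P : Subgroup PSL2) := by
    rw [← Finite.one_lt_card_iff_nontrivial]
    exact lt_of_lt_of_le (by norm_num) (Nat.le_of_dvd Nat.card_pos h2P)
  have hcnt : Nontrivial (Subgroup.center (P : Subgroup PSL2)) := P.2.center_nontrivial
  have hc2 : 2 ∣ Nat.card (Subgroup.center (P : Subgroup PSL2)) := by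
    have hp : IsPGroup 2 (Subgroup.center (P : Subgroup PSL2)) := P.2.to_subgroup _
    obtain ⟨n, hn0, hn⟩ := hp.nontrivial_iff_card.1 hcnt
    rw [hn]
    exact dvd_pow_self 2 hn0.ne'
  obtain ⟨z, hz⟩ := exists_prime_orderOf_dvd_card' 2 hc2
  have hzP : ((z : (P : Subgroup PSL2)) : PSL2) ∈ (P : Subgroup PSL2) := (z : (P : Subgroup PSL2)).2
  have hzz : ((z : (P : Subgroup PSL2)) : PSL2) * ((z : (P : Subgroup PSL2)) : PSL2) = 1 := by
    have := pow_orderOf_eq_one z
    rw [hz, pow_two] at this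
    exact congrArg (fun w : Subgroup.center (P : Subgroup PSL2) => ((w : (P : Subgroup PSL2)) : PSL2)) this
  have hz1 : ((z : (P : Subgroup PSL2)) : PSL2) ≠ 1 := by
    intro h
    have h1 : z = 1 := Subtype.ext (Subtype.ext h)
    rw [h1, orderOf_one] at hz
    norm_num at hz
  have hzc : ∀ a ∈ (P : Subgroup PSL2), a * ((z : (P : Subgroup PSL2)) : PSL2) = ((z : (P : Subgroup PSL2)) : PSL2) * a := by
    intro a ha
    have := Subgroup.mem_center_iff.1 z.2 ⟨a, ha⟩
    exact congrArg Subtype.val this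
  have hsq : ∀ a ∈ (P : Subgroup PSL2), a * a = 1 := fun a ha => sq_of_comm h2 hz1 hzz (hzc a ha)
  have hab : ∀ a ∈ (P : Subgroup PSL2), ∀ b ∈ (P : Subgroup PSL2), a * b = b * a := fun a ha b hb =>
    comm_of_comm hz1 (Or.inl h2) (hzc a ha) (hzc b hb)
  -- the same for the point stabilizers
  have hfix : ∀ (g a : PSL2), a • ((g : PSL2) : PSL2 ⧸ (P : Subgroup PSL2)) = (g : PSL2 ⧸ (P : Subgroup PSL2)) ↔
      g⁻¹ * a * g ∈ (P : Subgroup PSL2) := fun g a => fix_iff _ g a
  have hsq' : ∀ (x : PSL2 ⧸ (P : Subgroup PSL2)) (a : PSL2), a • x = x → a * a = 1 := by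
    intro x a ha
    obtain ⟨g, rfl⟩ := exists_rep _ x
    have h1 := hsq _ ((hfix g a).1 ha)
    calc a * a = g * ((g⁻¹ * a * g) * (g⁻¹ * a * g)) * g⁻¹ := by group
      _ = 1 := by rw [h1]; group
  have hstab : ∀ (x : PSL2 ⧸ (P : Subgroup PSL2)) (a : PSL2), a ≠ 1 → a • x = x → stabilizer PSL2 x = cen a := by
    intro x a ha1 ha
    obtain ⟨g, rfl⟩ := exists_rep _ x
    have hle : stabilizer PSL2 ((g : PSL2) : PSL2 ⧸ (P : Subgroup PSL2)) ≤ cen a := by
      intro b hb
      rw [mem_stabilizer_iff] at hb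
      have h1 := hab _ ((hfix g b).1 hb) _ ((hfix g a).1 ha)
      rw [mem_cen]
      calc b * a = g * ((g⁻¹ * b * g) * (g⁻¹ * a * g)) * g⁻¹ := by group
        _ = g * ((g⁻¹ * a * g) * (g⁻¹ * b * g)) * g⁻¹ := by rw [h1]
        _ = a * b := by group
    have h2g : IsPGroup 2 (cen a) := by
      intro b
      refine ⟨1, Subtype.ext ?_⟩
      have := sq_of_comm h2 ha1 (hsq' _ a ha) (mem_cen.1 b.2)
      simpa [pow_two] using this
    let Q : Sylow 2 PSL2 := g • P
    have hQ : (Q : Subgroup PSL2) = stabilizer PSL2 ((g : PSL2) : PSL2 ⧸ (P : Subgroup PSL2)) := by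
      rw [stab_eq]; rfl
    rw [← hQ] at hle ⊢
    exact (Q.is_maximal' h2g hle).symm
  apply bin_of
  intro x0 x1 x2 h0 h1 h2' e0 e1 e2 he hne
  by_cases c1 : h1 = 1
  · rw [he, c1, one_mul, e2]
  by_cases c0 : h0 = 1
  · rw [c0, one_smul]
  exfalso
  apply hne
  have i0 := hsq' x0 h0 e0
  have i1 := hsq' x1 h1 e1
  have i2 := hsq' x2 h2' e2
  have j0 : h0⁻¹ = h0 := inv_eq_of_mul_eq_one_left i0
  have j1 : h1⁻¹ = h1 := inv_eq_of_mul_eq_one_left i1
  have j2 : h2'⁻¹ = h2' := inv_eq_of_mul_eq_one_left i2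
  have hcomm : h1 * h2' = h2' * h1 := by
    rw [← he, ← j0, he, _root_.mul_inv_rev, j1, j2]
  have h01 : h0 * h1 = h1 * h0 := by
    rw [he, mul_assoc, ← hcomm]
  rw [hstab x0 h0 c0 e0, hstab x1 h1 c1 e1]
  ext k
  rw [mem_cen, mem_cen]
  constructor
  · intro hk
    exact comm_of_comm c0 (Or.inl h2) hk h01.symm
  · intro hk
    exact comm_of_comm c1 (Or.inl h2) hk h01

theorem eq_of_traces (h2 : (2 : F) = 0) (hno : ∀ c : F, c ^ 2 + c + 1 ≠ 0) {A B : SL2} (hA : tr A = 1) (hB : tr B = 1)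
    (hAB : tr (A * B) = 1) : A = B := by
  have hAc : A ∉ Subgroup.center SL2 := by
    intro h
    rw [mem_center_iff'] at h
    have : tr A = 0 := by
      rcases h with h | h
      · rw [h, tr_one, h2]
      · rw [h, tr_neg, tr_one, h2, neg_zero]
    rw [this] at hA
    exact one_ne_zero hA.symm
  obtain ⟨g, hg⟩ := exists_glConj_comp hAc
  rw [hA] at hg
  set B' := glConj g B with hB'
  have t1 : tr B' = 1 := by rw [hB', tr_glConj, hB]
  have t2 : tr (comp 1 * B') = 1 := by rw [← hg, hB', ← glConj_mul, tr_glConj, hAB]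
  have hdet := det2 B'
  have c00 : ((comp 1 : SL2) : M2) 0 0 = 0 := rfl
  have c01 : ((comp 1 : SL2) : M2) 0 1 = -1 := rfl
  have c10 : ((comp 1 : SL2) : M2) 1 0 = 1 := rfl
  have c11 : ((comp 1 : SL2) : M2) 1 1 = 1 := rfl
  rw [tr_def] at t1
  rw [tr_def, mul00, mul11, c00, c01, c10, c11] at t2
  set a := (B' : M2) 0 0 with ha
  set b := (B' : M2) 0 1 with hb
  set c := (B' : M2) 1 0 with hc
  set d := (B' : M2) 1 1 with hd
  -- substitute
  have hd' : d = 1 - a := by linear_combination t1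
  have ha' : a = b - c := by rw [hd'] at t2; linear_combination -t2
  have key : (b - 1) ^ 2 + (b - 1) * (c - 1) + (c - 1) ^ 2 = 0 := by
    rw [hd', ha'] at hdet
    linear_combination -hdet + (1 - b - 2 * c + b * c) * h2
  have hbc : b = 1 ∧ c = 1 := by
    by_cases hc1 : c = 1
    · rw [hc1] at key
      refine ⟨?_, hc1⟩
      have : (b - 1) ^ 2 = 0 := by linear_combination key
      exact sub_eq_zero.1 (pow_eq_zero_iff two_ne_zero |>.1 this)
    · exfalso
      have hc1' : c - 1 ≠ 0 := sub_ne_zero.2 hc1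
      apply hno ((b - 1) / (c - 1))
      field_simp
      linear_combination key
  have hBc : B' = comp 1 := by
    apply ext2
    · rw [c00, ← ha, ha', hbc.1, hbc.2, sub_self]
    · rw [c01, ← hb, hbc.1]; linear_combination h2
    · rw [c10, ← hc, hbc.2]
    · rw [c11, ← hd, hd', ha', hbc.1, hbc.2]; ring
  have h3 : glConj g A = glConj g B := by rw [hg, ← hBc]
  have h4 := congrArg (glConj g⁻¹) h3
  rwa [glConj_glConj, glConj_glConj, inv_mul_cancel, glConj_id, glConj_id] at h4

theorem bin_three (h2 : (2 : F) = 0) {n : ℕ} (hn : Fintype.card F = 2 ^ n) (hodd : Odd n)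
    {H : Subgroup (Matrix.ProjectiveSpecialLinearGroup (Fin 2) F)} (hH : Nat.card H = 3) :
    Bin (Matrix.ProjectiveSpecialLinearGroup (Fin 2) F) (Matrix.ProjectiveSpecialLinearGroup (Fin 2) F ⧸ H) := by
  have hno : ∀ c : F, c ^ 2 + c + 1 ≠ 0 := by
    intro c hc
    have hc0 : c ≠ 0 := by rintro rfl; simp at hc
    have hc3 : c ^ 3 = 1 := by linear_combination (c - 1) * hc
    have hc1 : c ≠ 1 := by
      rintro rfl
      have : (1 : F) = 0 := by linear_combination hc - h2
      exact one_ne_zero this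
    have : Fact (Nat.Prime 3) := ⟨Nat.prime_three⟩
    have h3 : orderOf (Units.mk0 c hc0) = 3 := by
      apply orderOf_eq_prime
      · apply Units.ext; simpa using hc3
      · intro h
        exact hc1 (by have := congrArg Units.val h; simpa using this)
    have h4 : 3 ∣ Nat.card Fˣ := by rw [← h3]; exact orderOf_dvd_natCard _
    rw [Nat.card_units, Nat.card_eq_fintype_card, hn] at h4
    obtain ⟨r, hr⟩ := hodd
    rw [hr, pow_succ, pow_mul] at h4
    have h5 : (2 : ℕ) ^ 2 = 4 := by norm_num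
    rw [h5] at h4
    have h6 : 4 ^ r % 3 = 1 := by rw [Nat.pow_mod]; simp
    omega
  have hcube : ∀ (x : PSL2 ⧸ H) (a : PSL2), a • x = x → a ^ 3 = 1 := by
    intro x a ha
    have h1 : a ∈ stabilizer PSL2 x := ha
    have h3 := card_stab' H x
    rw [hH] at h3
    have := pow_card_eq_one' (G := stabilizer PSL2 x) (x := ⟨a, h1⟩)
    rw [h3] at this
    exact congrArg Subtype.val this
  have hzp : ∀ (x : PSL2 ⧸ H) (a : PSL2), a ≠ 1 → a • x = x → stabilizer PSL2 x = Subgroup.zpowers a := by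
    intro x a ha1 ha
    have h3 := card_stab' H x
    rw [hH] at h3
    symm
    apply Subgroup.eq_of_le_of_card_ge
    · rw [Subgroup.zpowers_le]; exact ha
    · rw [h3, Nat.card_zpowers]
      have : Fact (Nat.Prime 3) := ⟨Nat.prime_three⟩
      rw [orderOf_eq_prime (hcube x a ha) ha1]
  apply bin_of
  intro x0 x1 x2 h0 h1 h2' e0 e1 e2 he hne
  by_cases c1 : h1 = 1
  · rw [he, c1, one_mul, e2]
  by_cases c0 : h0 = 1
  · rw [c0, one_smul]
  exfalso
  by_cases c2 : h2' = 1
  · rw [c2, mul_one] at he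
    apply hne
    rw [hzp x0 h0 c0 e0, hzp x1 h1 c1 e1, he]
  · obtain ⟨A, rfl⟩ := mk_surj h1
    obtain ⟨B, rfl⟩ := mk_surj h2'
    rw [← mk_mul] at he
    have tA := tr_one_of_order_three h2 c1 (hcube x1 _ e1)
    have tB := tr_one_of_order_three h2 c2 (hcube x2 _ e2)
    have tAB := tr_one_of_order_three h2 (A := A * B) (by rw [← he]; exact c0) (by rw [← he]; exact hcube x0 _ e0)
    have hAB := eq_of_traces h2 hno tA tB tAB
    apply hne
    have h5 : h0 • x1 = x1 := by rw [he, ← hAB, mk_mul, mul_smul, e1, e1]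
    rw [hzp x0 h0 c0 e0, hzp x1 h0 c0 h5]

/-- Let F be a finite field with q ≥ 4 elements, q ≠ 5, let G = PSL₂(F) and let H be a proper subgroup of G. Then the action of G on the cosets of H is binary if and only if H is trivial, or q is a power of 2 and H is a Sylow 2-subgroup, or q = 2^a with a odd and H has order 3. Here an action is binary (relational complexity 2) when, for every n ≥ 2 and all n-tuples I, J of points, if for every pair of positions some group element carries the corresponding pair of entries of I to those of J, then a single group element carries I to J. -/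
theorem result {F : Type*} [Field F] [Fintype F] (h4 : 4 ≤ Fintype.card F) (h5 : Fintype.card F ≠ 5)
    (H : Subgroup (Matrix.ProjectiveSpecialLinearGroup (Fin 2) F)) (hH : H ≠ ⊤) :
    (∀ (n : ℕ) (I J : Fin n → Matrix.ProjectiveSpecialLinearGroup (Fin 2) F ⧸ H), 2 ≤ n →
        (∀ i j : Fin n, i ≠ j → ∃ g : Matrix.ProjectiveSpecialLinearGroup (Fin 2) F, g • I i = J i ∧ g • I j = J j) → ∃ g : Matrix.ProjectiveSpecialLinearGroup (Fin 2) F, ∀ i, g • I i = J i) ↔
      (H = ⊥ ∨ ((∃ a : ℕ, Fintype.card F = 2 ^ a) ∧ ∃ P : Sylow 2 (Matrix.ProjectiveSpecialLinearGroup (Fin 2) F), H = P) ∨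
        ((∃ a : ℕ, Odd a ∧ Fintype.card F = 2 ^ a) ∧ Nat.card H = 3)) := by
  have htwo : ∀ a : ℕ, Fintype.card F = 2 ^ a → (2 : F) = 0 := by
    intro a ha
    have h1 : ((Fintype.card F : ℕ) : F) = 0 := by
      rw [FiniteField.cast_card_eq_zero]
    rw [ha] at h1
    push_cast at h1
    exact eq_zero_of_pow_eq_zero h1
  constructor
  · intro hB'
    have hB : Bin (Matrix.ProjectiveSpecialLinearGroup (Fin 2) F)
      (Matrix.ProjectiveSpecialLinearGroup (Fin 2) F ⧸ H) := hB'
    by_cases hH1 : H = ⊥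
    · exact Or.inl hH1
    right
    obtain ⟨p, hp⟩ := CharP.exists F
    have hpp : Fact p.Prime := ⟨CharP.char_is_prime F p⟩
    obtain ⟨n, _, hn⟩ := FiniteField.card F p
    rcases MobCount.gcd_cases (F := F) rfl p with ⟨rfl, heven, hgcd⟩ | ⟨_, hodd, _⟩
    · have h2 : (2 : F) = 0 := htwo n hn
      by_cases he : 2 ∣ Nat.card H
      · left
        refine ⟨⟨n, hn⟩, ?_⟩
        have hc := even_even h2 h4 hH hB he
        have hG := MobCount.card_P2 (F := F) rfl
        rw [hgcd, one_mul] at hG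
        have hfac : (Nat.card (Matrix.ProjectiveSpecialLinearGroup (Fin 2) F)).factorization 2 = n := by
          have h6 : Nat.card (Matrix.ProjectiveSpecialLinearGroup (Fin 2) F) =
            Fintype.card F * (Fintype.card F ^ 2 - 1) := hG
          have h8 : ¬ 2 ∣ Fintype.card F ^ 2 - 1 := by
            obtain ⟨r, hr⟩ := heven
            have h9 : 2 ∣ Fintype.card F ^ 2 := dvd_pow (by omega) (by norm_num)
            have h10 : 0 < Fintype.card F ^ 2 := pow_pos Fintype.card_pos _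
            omega
          have h9 : Fintype.card F ^ 2 - 1 ≠ 0 := by
            intro h
            rw [h] at h8
            exact h8 (dvd_zero _)
          rw [h6, Nat.factorization_mul (by have := Fintype.card_pos (α := F); omega) h9, Finsupp.add_apply,
            Nat.factorization_eq_zero_of_not_dvd h8, add_zero, hn, Nat.factorization_pow, Finsupp.smul_apply,
            Nat.prime_two.factorization_self, smul_eq_mul, mul_one]
        exact ⟨Sylow.ofCard H (by rw [hfac, hc, hn]), rfl⟩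
      · right
        obtain ⟨h6, h7⟩ := even_odd h2 hn hH hH1 hB he
        exact ⟨⟨n, h7, hn⟩, h6⟩
    · exfalso
      by_cases he : 2 ∣ Nat.card H
      · have := simple h4
        have h7 : 7 ≤ Fintype.card F := by
          obtain ⟨r, hr⟩ := hodd; omega
        exact BinPslF.no_fixed hodd h7 (setup hH hB he)
      · exact odd_odd hodd hH hH1 hB he
  · rintro (rfl | ⟨⟨a, ha⟩, P, rfl⟩ | ⟨⟨a, hao, ha⟩, hc⟩)
    · exact bin_bot
    · exact bin_sylow (htwo a ha) P
    · exact bin_three (htwo a ha) ha hao hc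

end Cfsg.Agent.S5736
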