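import Cfsg.Statements.S5825
import Cfsg.Agent.Lib.LowOrBridge
import Cfsg.Agent.Lib.OrthPoint
import Cfsg.Agent.Lib.FldOBrH94
import Cfsg.Agent.Lib.OrthFour2H94
-- import your own Cfsg.Agent.* helpers here

set_option autoImplicit false
open Cfsg

namespace Cfsg.Agent.S5825


open Cfsg.Agent.Lib.Quad Cfsg.Agent.Lib.OrthBridge Cfsg.Agent.Lib.OrthNdBridge Cfsg.Agent.Lib.OrthNd
  Cfsg.Agent.Lib.GeoBridge Cfsg.Agent.Lib.OrthPoint Cfsg.Agent.Lib.FldOH94 Cfsg.Agent.Lib.OrthFourH94 Cfsg.Agent.Lib

/-- Maximal subgroups of Ω_8^-(q) of geometric type (any q). Let F be a finite field with q elements, Q a non-degenerate quadratic form on F^8 (non-degenerate polar form) of minus type (Witt index 3: no totally singular 4-space), and Ω = Ω_8^-(q) the commutator subgroup of the isometry group of Q, inside GL_8(F). Each of the following, intersected with Ω, is a maximal subgroup of Ω: (1) the stabiliser of any non-zero subspace on which Q vanishes identically (totally singular 1-, 2- and 3-spaces);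 (2) for q odd, the stabiliser of any proper subspace of odd dimension (1, 3, 5 or 7) on which the polar form of Q is non-degenerate; (3) the stabiliser of any non-degenerate 2-space of minus type (containing no non-zero singular vector); (4) for q ≥ 4, the stabiliser of any non-degenerate 2-space of plus type (containing a non-zero singular vector); (5) the stabiliser of any non-degenerate 4-space (its orthogonal complement is then a non-degenerate 4-space of the opposite type); (6) for q even, the stabiliser of the 1-space spanned by any non-singular vector v (Q(v) ≠ 0); (7) for q odd, the normaliser of any degree-2 subfield K of the matrix algebra whose elements are self-adjoint for the polar form of Q (Q is then the trace of a quadratic form over K); (8) every subfield group for a subfield F₀ of odd prime index r in F whose F₀-structure carries a non-zero scalar multiple of Q. -/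
theorem result {F : Type*} [Field F] [Fintype F] (Q : (Fin 8 → F) → F) (hQ : Cfsg.Geo.IsNondegenerateQuadraticForm Q) (hminus : ¬ Cfsg.Geo.IsPlusTypeOn Q ⊤) :
    (∀ W : Submodule F (Fin 8 → F), W ≠ ⊥ → Cfsg.Geo.IsTotallySingularQuad Q W → Cfsg.Geo.IsMaximalIn (Cfsg.Geo.omegaGL Q) (Cfsg.Geo.subspaceStabilizer W ⊓ Cfsg.Geo.omegaGL Q)) ∧
    (Odd (Fintype.card F) → ∀ W : Submodule F (Fin 8 → F), W ≠ ⊥ → W ≠ ⊤ → Odd (Module.finrank F W) → Cfsg.Geo.IsNondegenerateOn (QuadraticMap.polar Q) W → Cfsg.Geo.IsMaximalIn (Cfsg.Geo.omegaGL Q) (Cfsg.Geo.subspaceStabilizer W ⊓ Cfsg.Geo.omegaGL Q)) ∧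
    (∀ W : Submodule F (Fin 8 → F), Module.finrank F W = 2 → Cfsg.Geo.IsNondegenerateOn (QuadraticMap.polar Q) W → ¬ Cfsg.Geo.IsPlusTypeOn Q W → Cfsg.Geo.IsMaximalIn (Cfsg.Geo.omegaGL Q) (Cfsg.Geo.subspaceStabilizer W ⊓ Cfsg.Geo.omegaGL Q)) ∧
    (4 ≤ Fintype.card F → ∀ W : Submodule F (Fin 8 → F), Module.finrank F W = 2 → Cfsg.Geo.IsNondegenerateOn (QuadraticMap.polar Q) W → Cfsg.Geo.IsPlusTypeOn Q W → Cfsg.Geo.IsMaximalIn (Cfsg.Geo.omegaGL Q) (Cfsg.Geo.subspaceStabilizer W ⊓ Cfsg.Geo.omegaGL Q)) ∧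
    (∀ W : Submodule F (Fin 8 → F), Module.finrank F W = 4 → Cfsg.Geo.IsNondegenerateOn (QuadraticMap.polar Q) W → Cfsg.Geo.IsMaximalIn (Cfsg.Geo.omegaGL Q) (Cfsg.Geo.subspaceStabilizer W ⊓ Cfsg.Geo.omegaGL Q)) ∧
    (¬ Odd (Fintype.card F) → ∀ v : (Fin 8 → F), Q v ≠ 0 → Cfsg.Geo.IsMaximalIn (Cfsg.Geo.omegaGL Q) (Cfsg.Geo.subspaceStabilizer (Submodule.span F {v}) ⊓ Cfsg.Geo.omegaGL Q)) ∧
    (Odd (Fintype.card F) → ∀ K : Subalgebra F (Matrix (Fin 8) (Fin 8) F), Cfsg.Geo.IsFieldSubalgebra 2 K → Cfsg.Geo.IsSelfAdjointFor (QuadraticMap.polar Q) K → Cfsg.Geo.IsMaximalIn (Cfsg.Geo.omegaGL Q) (Cfsg.Geo.subalgebraNormalizer K ⊓ Cfsg.Geo.omegaGL Q)) ∧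
    (∀ (F₀ : Subfield F) (r : ℕ) (P : Matrix.GeneralLinearGroup (Fin 8) F) (ζ : F), r.Prime → Odd r → Fintype.card F = Nat.card F₀ ^ r → ζ ≠ 0 → Cfsg.Geo.IsQuadFormRationalStructure (fun v : Fin 8 → F => ζ * Q v) F₀ P → Cfsg.Geo.IsMaximalIn (Cfsg.Geo.omegaGL Q) (Cfsg.Geo.subfieldSubgroup F₀ P ⊓ Cfsg.Geo.omegaGL Q)) := by
  have hfr : Module.finrank F (Fin 8 → F) = 8 := Module.finrank_fin_fun F
  have hnd := nd_qf hQ
  have hgen : GenHyp (qf hQ) := Or.inr (Or.inl (by omega))
  have hnoT : ¬ ∃ U : Submodule F (Fin 8 → F), (∀ x ∈ U, qf hQ x = 0) ∧ Module.finrank F U = 4 := by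
    rintro ⟨U, hU, hUd⟩
    exact hminus ⟨U, le_top, hU, by rw [finrank_top, hfr, hUd]⟩
  have hndm : ∀ W : Submodule F (Fin 8 → F), W ≠ ⊥ → W ≠ ⊤ → NDs (qf hQ) W →
      5 ≤ Module.finrank F (perp (qf hQ) W) →
      (Module.finrank F W = 2 → 4 ≤ Nat.card F ∨ ∀ w ∈ W, qf hQ w = 0 → w = 0) →
      Cfsg.Geo.IsMaximalIn (Cfsg.Geo.omegaGL Q) (Cfsg.Geo.subspaceStabilizer W ⊓ Cfsg.Geo.omegaGL Q) := by
    intro W hW0 hW1 hW h5 hexc
    have hd := hnd.finrank_add_finrank_perp W
    refine Om_stab_max_of (Q := qf hQ) hnd (by omega) hW0 hW1 ?_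
    intro M hM hH hex
    refine LowNd.nd_stab_max5 hnd hgen (hM.trans Om_le) hW h5 hH hex ?_ hexc
    intro g hg hgw
    have hle' : (perp (qf hQ) W).map g.toLinearMap ≤ W := by
      rintro _ ⟨x, hx, rfl⟩; exact hgw x hx
    have h3 : Module.finrank F ((perp (qf hQ) W).map g.toLinearMap) = Module.finrank F (perp (qf hQ) W) :=
      LinearEquiv.finrank_map_eq g _
    have h4 := Submodule.finrank_mono hle'
    omega
  refine ⟨?_, ?_, ?_, ?_, ?_, ?_, ?_, ?_⟩
  · intro W hW0 hW
    refine Om_ts_max (Q := qf hQ) hnd (by omega) hW0 hW ?_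
    intro C hC _ h
    have h1 := two_finrank_le hnd hC
    rw [hfr] at h h1
    by_contra hcon
    exact hminus ⟨C, le_top, hC, by rw [finrank_top, hfr]; omega⟩
  · intro hodd W hW0 hW1 hWo hWn
    have h2 : (2 : F) ≠ 0 := two_ne_zero_of_odd rfl hodd
    have hW := nds_of_nondeg (Q := qf hQ) hWn
    have hd := hnd.finrank_add_finrank_perp W
    rw [hfr] at hd
    have hpp := hnd.perp_perp W
    obtain ⟨k, hk⟩ := hWo
    rcases Nat.lt_or_ge (Module.finrank F W) 4 with h4 | h4
    · exact hndm W hW0 hW1 hW (by omega) (by intro h; omega)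
    · refine Om_stab_max_of (Q := qf hQ) hnd (by omega) hW0 hW1 ?_
      intro M hM hH hex
      refine LowNd.nd_stab_max5 (W := perp (qf hQ) W) hnd hgen (hM.trans Om_le) (nds_perp hnd hW)
        (by rw [hpp]; omega) ?_ ?_ ?_ ?_
      · intro g hg hgw
        refine hH g hg ?_
        have := stab_perp (Om_le hg) hgw
        rwa [hpp] at this
      · obtain ⟨g, hg, w, hw, hgw⟩ := hex
        by_contra hcon
        push Not at hcon
        have := stab_perp (Om_le (hM hg)) (hcon g hg)
        rw [hpp] at this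
        exact hgw (this w hw)
      · intro g hg hgw
        rw [hpp] at hgw
        have hle' : W.map g.toLinearMap ≤ perp (qf hQ) W := by
          rintro _ ⟨x, hx, rfl⟩; exact hgw x hx
        have h3 : Module.finrank F (W.map g.toLinearMap) = Module.finrank F W := LinearEquiv.finrank_map_eq g _
        have h4 := Submodule.finrank_mono hle'
        omega
      · intro h; omega
  · intro W hW2 hWn hWan
    have hW := nds_of_nondeg (Q := qf hQ) hWn
    have hd := hnd.finrank_add_finrank_perp W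
    rw [hfr] at hd
    refine hndm W ?_ ?_ hW (by omega) ?_
    · rintro rfl; rw [finrank_bot] at hW2; omega
    · rintro rfl; rw [finrank_top] at hW2; omega
    · intro _
      right
      by_contra hcon
      exact hWan (plus_of_not (Q := qf hQ) hW2 hcon)
  · intro h4 W hW2 hWn _
    have hW := nds_of_nondeg (Q := qf hQ) hWn
    have hd := hnd.finrank_add_finrank_perp W
    rw [hfr] at hd
    refine hndm W ?_ ?_ hW (by omega) ?_
    · rintro rfl; rw [finrank_bot] at hW2; omega
    · rintro rfl; rw [finrank_top] at hW2; omega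
    · intro _
      left
      rw [Nat.card_eq_fintype_card]; exact h4
  · intro W hW4 hWn
    have hW := nds_of_nondeg (Q := qf hQ) hWn
    have hd := hnd.finrank_add_finrank_perp W
    rw [hfr] at hd
    have hpp := hnd.perp_perp W
    refine Om_stab_max_of (Q := qf hQ) hnd (by omega) ?_ ?_ ?_
    · rintro rfl; rw [finrank_bot] at hW4; omega
    · rintro rfl; rw [finrank_top] at hW4; omega
    · intro M hM hH hex
      rcases ts2_or hnd hW hW4 (by omega) hnoT with ⟨h1, h2⟩ | ⟨h1, h2⟩
      · exact FD.main (A := W) ⟨hnd, hgen, hM.trans Om_le, hW, hW4, by omega, h1, h2, hH⟩ hex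
      · refine FD.main (A := perp (qf hQ) W) ⟨hnd, hgen, hM.trans Om_le, nds_perp hnd hW, by omega,
          by rw [hpp]; exact hW4, h1, by rw [hpp]; exact h2, ?_⟩ ?_
        · intro g hg hgw
          refine hH g hg ?_
          have := stab_perp (Om_le hg) hgw
          rwa [hpp] at this
        · obtain ⟨g, hg, w, hw, hgw⟩ := hex
          by_contra hcon
          push Not at hcon
          have := stab_perp (Om_le (hM hg)) (hcon g hg)
          rw [hpp] at this
          exact hgw (this w hw)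
  · intro hchar v hv
    have hv0 : v ≠ 0 := by rintro rfl; exact hv (QuadraticMap.map_zero (qf hQ))
    refine Om_stab_max_of (Q := qf hQ) hnd (by omega) (by simpa using hv0) ?_ ?_
    · intro h
      have h1 : Module.finrank F (Submodule.span F {v}) = 1 := finrank_span_singleton hv0
      rw [h, finrank_top, hfr] at h1
      omega
    · intro M hM hH ⟨g, hg, w, hw, hgw⟩
      refine point_max hnd hgen (by omega) (hM.trans Om_le) hv0 ?_ ?_
      · intro x hx hxv
        apply hH x hx
        intro w hw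
        obtain ⟨c, rfl⟩ := Submodule.mem_span_singleton.1 hw
        rw [LinearEquiv.map_smul, hxv]
        exact hw
      · refine ⟨g, hg, fun hcon => hgw ?_⟩
        obtain ⟨c, rfl⟩ := Submodule.mem_span_singleton.1 hw
        rw [LinearEquiv.map_smul]
        exact Submodule.smul_mem _ _ hcon
  · intro hodd K hK hsa
    have h2 : (2 : F) ≠ 0 := two_ne_zero_of_odd rfl hodd
    have : Nonempty (Fin 8) := ⟨⟨0, by omega⟩⟩
    exact matrix_main (Q := qf hQ) hnd h2 Nat.prime_two (by rw [Fintype.card_fin]) hK hsa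
  · intro F₀ r P ζ hr _ hcard hζ hP
    exact LowOrBridge.subf_gen (by rw [Fintype.card_fin]; omega) (qf hQ) hnd F₀ r hr hcard P ζ hζ
      (fun u hu => hP u hu)


end Cfsg.Agent.S5825
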