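import Cfsg.Statements.S5840
import Cfsg.Agent.Lib.SU10i1
import Cfsg.Agent.Lib.SU10i12
import Cfsg.Agent.Lib.SU10i13
import Cfsg.Agent.Lib.SU10i14
import Cfsg.Agent.Lib.UfW
import Cfsg.Agent.Lib.TenUBr12
import Cfsg.Agent.Lib.FV_BR
import Cfsg.Agent.Lib.FV1H46
import Cfsg.Agent.Lib.FV_DAT
import Cfsg.Agent.Lib.FV_LIN
import Cfsg.Agent.Lib.FV_SM
import Cfsg.Agent.Lib.FV_ALG
import Cfsg.Agent.Lib.FV_BE
import Cfsg.Agent.Lib.FV_ALL
import Cfsg.Agent.Lib.FV_ST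
import Cfsg.Agent.Lib.FV_CNT
import Cfsg.Agent.Lib.FV_SPR
import Cfsg.Agent.Lib.FV_SL
import Cfsg.Agent.Lib.FV_MAX

set_option autoImplicit false
open Cfsg

namespace Cfsg.Agent.S5840

section FVMain

open Module Cfsg.Agent.Lib.FV46 Cfsg.Agent.Lib.UnTrans Cfsg.Agent.Lib.UnMax Cfsg.Agent.Lib.ExtFldH94 Cfsg.Agent.Lib.FldUH94
open Cfsg.Agent.Lib.SpTrans (isom mem_isom)

variable {F K V : Type*} [Field F] [Field K] [Algebra F K] [AddCommGroup V] [Module F V] [Module K V]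
  [IsScalarTower F K V] [FiniteDimensional F K] [FiniteDimensional K V] [FiniteDimensional F V]
  {σ : F →+* F} {τ : K →+* K} {h : V → V → F} {C : V → V → K} {Hh : HS σ h} {HC : HS τ C} {b : Dual F K}
  {M : Subgroup (V ≃ₗ[F] V)}

theorem fvMain [Finite K] (S : FV Hh HC b M) : tgrp Hh ⊤ ≤ M ∨ ∀ g ∈ M, ∀ a : K, ∃ c : K, ∀ x, g (a • x) = c • g x := by
  by_cases hsp : ∀ U U' : Submodule F V, Mem C M U → Mem C M U' → U ≠ U' → U ⊓ U' = ⊥
  · right
    intro g hg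
    apply semilinear2 S hg
    intro v hv0 hv
    obtain ⟨v', h1, h2, h3⟩ := spread_lines S
      (fun he0 he hf hfe _ hT hTn _ _ hl0 hl hc _ hg hgT => stab_pm S hsp he0 he hf hfe hT hTn hl0 hl hc hg hgT)
      (card_iso S) hsp (U := (Ln K v).map (g : V →ₗ[F] V)) ⟨g, hg, v, hv0, hv, rfl⟩
    exact ⟨v', h1, h2, h3⟩
  · left
    push Not at hsp
    obtain ⟨U, U', hU, hU', hne, hbot⟩ := hsp
    obtain ⟨w, hw0, hwr, hmax, v, hv0, hv, U₂, hU₂, hfr⟩ := exists_max S ⟨U, U', hU, hU', hne, hbot⟩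
    have hw4 : w = 4 := by
      obtain ⟨W, L, -, -, hWw, hd, hperp, hP⟩ := w_data S hw0 hwr hmax hv0 hv hU₂ hfr
      have hr := S.hr
      have := lin45 S hd (by omega) (by omega) hperp hP
      omega
    subst hw4
    obtain ⟨H, hH0, hHr, hB⟩ := exists_small S hmax
      (fun hv0 hv _ hU' hfr => w_data S hw0 hwr hmax hv0 hv hU' hfr) hv0 hv hU₂ hfr
    apply all_of_BE S hv0 hv
    exact alg_full S (fun _ h => be_skh S hv0 hv h) (fun _ _ h h' => be_add S hv h h') (fun _ h => be_neg S hv h)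
      (fun c hc => be_mul S hv hc) (fun k hk0 hk _ h => be_torus S hv0 hv hk0 hk h) hH0 hHr hB

end FVMain

/-- Maximal subgroups of SU_10(q) of geometric type (any prime power q). Let F be the field with q² elements (characteristic p), f the standard unitary form Σ u_i v_i^q on F^10 and SU_10(q) its determinant-one isometry group inside GL_10(F). Each of the following, intersected with SU_10(q), is a maximal subgroup of SU_10(q): (1) the stabiliser of any non-zero subspace on which f vanishes identically (totally isotropic subspaces, of dimension 1 to 5); (2) the stabiliser of any non-zero non-degenerate subspace W with 2 dim W < 10 (dimension 1 to 4); (3) the stabiliser of any decomposition of F^10 into 10 mutually orthogonal non-degenerate 1-spaces; (4) for q ≥ 3, the stabiliser of any decomposition of F^10 into 5 mutually orthogonal non-degenerate 2-spaces; (5) the stabiliser of any decomposition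 of F^10 into 2 mutually orthogonal non-degenerate 5-spaces; (6) the stabiliser of any decomposition into two totally isotropic 5-spaces; (7) the normaliser of any degree-5 subfield of the matrix algebra closed under adjoints for f; (8) for q ≥ 3, the stabiliser of any tensor decomposition of f as (unitary form on F^2) ⊗ (unitary form on F^5) up to a scalar; (9) every subfield group for a subfield F₀ of odd prime index in F whose F₀-structure carries f; (10) every subfield group for the subfield F₀ of index 2 whose F₀-structure carries ζ f, vanishing on pairs (u, u), for a non-zero ζ with ζ + ζ^q = 0 (symplectic type); (11) for q odd, every subfield group for the subfield F₀ of index 2 whose F₀-structure carries f (orthogonal type, either sign). -/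
theorem result {F : Type*} [Field F] [Fintype F] (q : ℕ) (hF : Fintype.card F = q ^ 2) :
    (∀ W : Submodule F (Fin 10 → F), W ≠ ⊥ → Cfsg.Geo.IsTotallySingularFor (Cfsg.hermForm 10 F q) W → Cfsg.Geo.IsMaximalIn (Cfsg.GU 10 F q ⊓ Cfsg.Geo.specialLinear (Fin 10) F) (Cfsg.Geo.subspaceStabilizer W ⊓ (Cfsg.GU 10 F q ⊓ Cfsg.Geo.specialLinear (Fin 10) F))) ∧
    (∀ W : Submodule F (Fin 10 → F), W ≠ ⊥ → Cfsg.Geo.IsNondegenerateOn (Cfsg.hermForm 10 F q) W → 2 * Module.finrank F W < 10 → Cfsg.Geo.IsMaximalIn (Cfsg.GU 10 F q ⊓ Cfsg.Geo.specialLinear (Fin 10) F) (Cfsg.Geo.subspaceStabilizer W ⊓ (Cfsg.GU 10 F q ⊓ Cfsg.Geo.specialLinear (Fin 10) F))) ∧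
    (∀ D : Fin 10 → Submodule F (Fin 10 → F), Cfsg.Geo.IsNondegenerateMDecomposition (Cfsg.hermForm 10 F q) 1 D → Cfsg.Geo.IsMaximalIn (Cfsg.GU 10 F q ⊓ Cfsg.Geo.specialLinear (Fin 10) F) (Cfsg.Geo.decompositionStabilizer D ⊓ (Cfsg.GU 10 F q ⊓ Cfsg.Geo.specialLinear (Fin 10) F))) ∧
    (3 ≤ q → ∀ D : Fin 5 → Submodule F (Fin 10 → F), Cfsg.Geo.IsNondegenerateMDecomposition (Cfsg.hermForm 10 F q) 2 D → Cfsg.Geo.IsMaximalIn (Cfsg.GU 10 F q ⊓ Cfsg.Geo.specialLinear (Fin 10) F) (Cfsg.Geo.decompositionStabilizer D ⊓ (Cfsg.GU 10 F q ⊓ Cfsg.Geo.specialLinear (Fin 10) F))) ∧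
    (∀ D : Fin 2 → Submodule F (Fin 10 → F), Cfsg.Geo.IsNondegenerateMDecomposition (Cfsg.hermForm 10 F q) 5 D → Cfsg.Geo.IsMaximalIn (Cfsg.GU 10 F q ⊓ Cfsg.Geo.specialLinear (Fin 10) F) (Cfsg.Geo.decompositionStabilizer D ⊓ (Cfsg.GU 10 F q ⊓ Cfsg.Geo.specialLinear (Fin 10) F))) ∧
    (∀ D : Fin 2 → Submodule F (Fin 10 → F), Cfsg.Geo.IsMDecomposition 5 D → (∀ i, Cfsg.Geo.IsTotallySingularFor (Cfsg.hermForm 10 F q) (D i)) → Cfsg.Geo.IsMaximalIn (Cfsg.GU 10 F q ⊓ Cfsg.Geo.specialLinear (Fin 10) F) (Cfsg.Geo.decompositionStabilizer D ⊓ (Cfsg.GU 10 F q ⊓ Cfsg.Geo.specialLinear (Fin 10) F))) ∧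
    (∀ K : Subalgebra F (Matrix (Fin 10) (Fin 10) F), Cfsg.Geo.IsFieldSubalgebra 5 K → Cfsg.Geo.IsAdjointClosedFor (Cfsg.hermForm 10 F q) K → Cfsg.Geo.IsMaximalIn (Cfsg.GU 10 F q ⊓ Cfsg.Geo.specialLinear (Fin 10) F) (Cfsg.Geo.subalgebraNormalizer K ⊓ (Cfsg.GU 10 F q ⊓ Cfsg.Geo.specialLinear (Fin 10) F))) ∧
    (3 ≤ q → ∀ (e : Fin 10 ≃ Fin 2 × Fin 5) (P : Matrix.GeneralLinearGroup (Fin 10) F) (f₁ : (Fin 2 → F) → (Fin 2 → F) → F) (f₂ : (Fin 5 → F) → (Fin 5 → F) → F), Cfsg.Geo.IsUnitaryFormPow q f₁ → Cfsg.Geo.IsUnitaryFormPow q f₂ → Cfsg.Geo.IsTensorFormStructure (fun x : F => x ^ q) (Cfsg.hermForm 10 F q) f₁ f₂ e P → Cfsg.Geo.IsMaximalIn (Cfsg.GU 10 F q ⊓ Cfsg.Geo.specialLinear (Fin 10) F) (Cfsg.Geo.tensorProductSubgroup 2 5 e P ⊓ (Cfsg.GU 10 F q ⊓ Cfsg.Geo.specialLinear (Fin 10) F))) ∧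
    (∀ (F₀ : Subfield F) (r : ℕ) (P : Matrix.GeneralLinearGroup (Fin 10) F), r.Prime → Odd r → Fintype.card F = Nat.card F₀ ^ r → Cfsg.Geo.IsFormRationalStructure (Cfsg.hermForm 10 F q) F₀ 1 P → Cfsg.Geo.IsMaximalIn (Cfsg.GU 10 F q ⊓ Cfsg.Geo.specialLinear (Fin 10) F) (Cfsg.Geo.subfieldSubgroup F₀ P ⊓ (Cfsg.GU 10 F q ⊓ Cfsg.Geo.specialLinear (Fin 10) F))) ∧
    (∀ (F₀ : Subfield F) (P : Matrix.GeneralLinearGroup (Fin 10) F) (ζ : F), Fintype.card F = Nat.card F₀ ^ 2 → ζ ≠ 0 → ζ + ζ ^ q = 0 → Cfsg.Geo.IsFormRationalStructure (Cfsg.hermForm 10 F q) F₀ ζ P → (∀ u : Fin 10 → F, (∀ i, u i ∈ F₀) → (Cfsg.hermForm 10 F q) (Matrix.mulVec (P : Matrix (Fin 10) (Fin 10) F) u) (Matrix.mulVec (P : Matrix (Fin 10) (Fin 10) F) u) = 0) → Cfsg.Geo.IsMaximalIn (Cfsg.GU 10 F q ⊓ Cfsg.Geo.specialLinear (Fin 10) F) (Cfsg.Geo.subfieldSubgroup F₀ P ⊓ (Cfsg.GU 10 F q ⊓ Cfsg.Geo.specialLinear (Fin 10) F))) ∧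
    (Odd q → ∀ (F₀ : Subfield F) (P : Matrix.GeneralLinearGroup (Fin 10) F), Fintype.card F = Nat.card F₀ ^ 2 → Cfsg.Geo.IsFormRationalStructure (Cfsg.hermForm 10 F q) F₀ 1 P → Cfsg.Geo.IsMaximalIn (Cfsg.GU 10 F q ⊓ Cfsg.Geo.specialLinear (Fin 10) F) (Cfsg.Geo.subfieldSubgroup F₀ P ⊓ (Cfsg.GU 10 F q ⊓ Cfsg.Geo.specialLinear (Fin 10) F))) := by
  refine ⟨?_, ?_, ?_, ?_, ?_, ?_, ?_, ?_, ?_, ?_, ?_⟩
  · intro W h0 h1
    exact Cfsg.Agent.Lib.SU10.it1 10 q hF le_rfl W h0 h1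
  · intro W h0 h1 h2
    exact Cfsg.Agent.Lib.SU10.it2 10 q hF le_rfl W h0 h1 h2
  · intro D hD
    exact Cfsg.Agent.Lib.Uf98.nondeg_decomp_max10 10 q hF (by norm_num) 1 D hD (by omega)
  · intro hq D hD
    exact Cfsg.Agent.Lib.Uf98.nondeg_decomp_max10 10 q hF (by norm_num) 2 D hD (by omega)
  · intro D hD
    exact Cfsg.Agent.Lib.Uf98.nondeg_decomp_max10 10 q hF (by norm_num) 5 D hD (by omega)
  · intro D hD hs
    exact Cfsg.Agent.Lib.SU10.it8 10 q hF le_rfl 5 (by norm_num) D hD hs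
  · intro K hK hac
    exact Cfsg.Agent.Lib.FV46.c3_of_main10 hF K hK hac (fun L V => fun S => fvMain S)
  · intro hq e P f₁ f₂ h1 h2 hT
    exact Cfsg.Agent.Lib.TenUH94.ten_max5 hF (by norm_num) (by norm_num) (by norm_num) (by omega) e P h1 h2 hT
  · intro F₀ r P hr hro hc hP
    exact Cfsg.Agent.Lib.SU10.it12 10 q hF le_rfl F₀ r hr hro hc P hP
  · intro F₀ P ζ hc h0 h1 hP halt
    exact Cfsg.Agent.Lib.SU10.it13 10 q hF le_rfl (by decide) F₀ hc ζ h0 h1 P hP halt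
  · intro hodd F₀ P hc hP
    exact Cfsg.Agent.Lib.SU10.it14 10 q hF le_rfl hodd F₀ hc P hP

end Cfsg.Agent.S5840
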