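import Cfsg.Statements.S5870
import Cfsg.Agent.Lib.OrthList2H94
import Cfsg.Agent.Lib.TSPairQH94
import Cfsg.Agent.Lib.TenSpBrLowH94
-- import your own Cfsg.Agent.* helpers here

set_option autoImplicit false
open Cfsg

namespace Cfsg.Agent.S5870


open Cfsg.Agent.Lib.Quad Cfsg.Agent.Lib.OrthBridge Cfsg.Agent.Lib.OrthNdBridge Cfsg.Agent.Lib.OrthNd
  Cfsg.Agent.Lib.GeoBridge Cfsg.Agent.Lib.FldOH94 Cfsg.Agent.Lib Cfsg.Agent.Lib.Dk2H94
  Cfsg.Agent.Lib.TSPairH94 Cfsg.Agent.Lib.TSPairQH94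

/-- Maximal subgroups of Ω_12^+(q) of geometric type (any q). Let F be a finite field with q elements (characteristic p), Q a non-degenerate quadratic form on F^12 (non-degenerate polar form) of plus type (Witt index 6: some totally singular 6-space), and Ω = Ω_12^+(q) the commutator subgroup of the isometry group of Q, inside GL_12(F). Each of the following, intersected with Ω, is a maximal subgroup of Ω: (1) the stabiliser of any non-zero subspace on which Q vanishes identically other than those of dimension 5 (totally singular subspaces, dimensions 1, 2, 3, 4 and 6); (2) for q odd, the stabiliser of any subspace of odd dimension on which the polar form of Q is non-degenerate; (3) the stabiliser of any non-degenerate 2-space of minus type (containing no non-zero singular vector); (4) for q ≥ 4, the stabiliser of any non-degenerate 2-space of plus type (containing a non-zero singular vector); (5) the stabiliser of any non-degenerate 4-space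 (either type); (6) for q even, the stabiliser of the 1-space spanned by any non-singular vector v (Q(v) ≠ 0); (7) for q = p an odd prime, the stabiliser of any decomposition of F^12 into 12 pairwise orthogonal, pairwise Q-isometric non-degenerate 1-spaces; (8) for q ≥ 7, the stabiliser of any decomposition of F^12 into 6 pairwise orthogonal, pairwise Q-isometric non-degenerate 2-spaces of plus type; (9) for q ≠ 3, the stabiliser of any decomposition of F^12 into 6 pairwise orthogonal, pairwise Q-isometric non-degenerate 2-spaces of minus type; (10) for q odd with q ≥ 5, the stabiliser of any decomposition of F^12 into 4 pairwise orthogonal, pairwise Q-isometric non-degenerate 3-spaces; (11) for q ≥ 3, the stabiliser of any decomposition of F^12 into 3 pairwise orthogonal, pairwise Q-isometric non-degenerate 4-spaces; (12) the stabiliser of any decomposition of F^12 into 2 pairwise orthogonal, pairwise Q-isometric non-degenerate 6-spaces;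 (13) the stabiliser of any decomposition into two totally singular 6-spaces; (14) for q odd, the normaliser of any degree-2 subfield K of the matrix algebra whose elements are self-adjoint for the polar form of Q (Q is then the trace of a quadratic form over K); (15) for q odd, the normaliser of any degree-3 subfield K of the matrix algebra whose elements are self-adjoint for the polar form of Q (Q is then the trace of a quadratic form over K); (16) the normaliser of any degree-2 subfield K of the matrix algebra, closed under adjoints for the polar form but not self-adjoint, whose elements act as similarities of Q (so F^12 becomes a 6-dimensional space over K with a hermitian form, and the subgroup is of the type of the unitary group GU_6(q)); (17) for q ≥ 3, the stabiliser of any tensor decomposition F^12 = F^2 ⊗ F^6 in which the polar form of Q is (alternating form) ⊗ (alternating form) up to a scalar and Q vanishes on all pure tensors;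 (18) every subfield group for a subfield F₀ with |F| = |F₀|^r, r prime, whose F₀-structure carries a non-zero scalar multiple of Q. -/
theorem result {F : Type*} [Field F] [Fintype F] (Q : (Fin 12 → F) → F) (hQ : Cfsg.Geo.IsNondegenerateQuadraticForm Q) (hplus : Cfsg.Geo.IsPlusTypeOn Q ⊤) :
    (∀ W : Submodule F (Fin 12 → F), W ≠ ⊥ → Cfsg.Geo.IsTotallySingularQuad Q W → Module.finrank F W ≠ 5 → Cfsg.Geo.IsMaximalIn (Cfsg.Geo.omegaGL Q) (Cfsg.Geo.subspaceStabilizer W ⊓ Cfsg.Geo.omegaGL Q)) ∧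
    (Odd (Fintype.card F) → ∀ W : Submodule F (Fin 12 → F), W ≠ ⊥ → W ≠ ⊤ → Odd (Module.finrank F W) → 2 * Module.finrank F W ≠ 12 → Cfsg.Geo.IsNondegenerateOn (QuadraticMap.polar Q) W → Cfsg.Geo.IsMaximalIn (Cfsg.Geo.omegaGL Q) (Cfsg.Geo.subspaceStabilizer W ⊓ Cfsg.Geo.omegaGL Q)) ∧
    (∀ W : Submodule F (Fin 12 → F), Module.finrank F W = 2 → Cfsg.Geo.IsNondegenerateOn (QuadraticMap.polar Q) W → ¬ Cfsg.Geo.IsPlusTypeOn Q W → Cfsg.Geo.IsMaximalIn (Cfsg.Geo.omegaGL Q) (Cfsg.Geo.subspaceStabilizer W ⊓ Cfsg.Geo.omegaGL Q)) ∧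
    (4 ≤ Fintype.card F → ∀ W : Submodule F (Fin 12 → F), Module.finrank F W = 2 → Cfsg.Geo.IsNondegenerateOn (QuadraticMap.polar Q) W → Cfsg.Geo.IsPlusTypeOn Q W → Cfsg.Geo.IsMaximalIn (Cfsg.Geo.omegaGL Q) (Cfsg.Geo.subspaceStabilizer W ⊓ Cfsg.Geo.omegaGL Q)) ∧
    (∀ W : Submodule F (Fin 12 → F), Module.finrank F W = 4 → Cfsg.Geo.IsNondegenerateOn (QuadraticMap.polar Q) W → Cfsg.Geo.IsMaximalIn (Cfsg.Geo.omegaGL Q) (Cfsg.Geo.subspaceStabilizer W ⊓ Cfsg.Geo.omegaGL Q)) ∧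
    (¬ Odd (Fintype.card F) → ∀ v : (Fin 12 → F), Q v ≠ 0 → Cfsg.Geo.IsMaximalIn (Cfsg.Geo.omegaGL Q) (Cfsg.Geo.subspaceStabilizer (Submodule.span F {v}) ⊓ Cfsg.Geo.omegaGL Q)) ∧
    ((∃ p : ℕ, p.Prime ∧ Odd p ∧ Fintype.card F = p) → ∀ D : Fin 12 → Submodule F (Fin 12 → F), Cfsg.Geo.IsOrthogonalMDecomposition Q 1 D → Cfsg.Geo.IsMaximalIn (Cfsg.Geo.omegaGL Q) (Cfsg.Geo.decompositionStabilizer D ⊓ Cfsg.Geo.omegaGL Q)) ∧
    (7 ≤ Fintype.card F → ∀ D : Fin 6 → Submodule F (Fin 12 → F), Cfsg.Geo.IsOrthogonalMDecomposition Q 2 D → (∀ i, Cfsg.Geo.IsPlusTypeOn Q (D i)) → Cfsg.Geo.IsMaximalIn (Cfsg.Geo.omegaGL Q) (Cfsg.Geo.decompositionStabilizer D ⊓ Cfsg.Geo.omegaGL Q)) ∧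
    (Fintype.card F ≠ 3 → ∀ D : Fin 6 → Submodule F (Fin 12 → F), Cfsg.Geo.IsOrthogonalMDecomposition Q 2 D → (∀ i, ¬ Cfsg.Geo.IsPlusTypeOn Q (D i)) → Cfsg.Geo.IsMaximalIn (Cfsg.Geo.omegaGL Q) (Cfsg.Geo.decompositionStabilizer D ⊓ Cfsg.Geo.omegaGL Q)) ∧
    (Odd (Fintype.card F) ∧ 5 ≤ Fintype.card F → ∀ D : Fin 4 → Submodule F (Fin 12 → F), Cfsg.Geo.IsOrthogonalMDecomposition Q 3 D → Cfsg.Geo.IsMaximalIn (Cfsg.Geo.omegaGL Q) (Cfsg.Geo.decompositionStabilizer D ⊓ Cfsg.Geo.omegaGL Q)) ∧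
    (3 ≤ Fintype.card F → ∀ D : Fin 3 → Submodule F (Fin 12 → F), Cfsg.Geo.IsOrthogonalMDecomposition Q 4 D → Cfsg.Geo.IsMaximalIn (Cfsg.Geo.omegaGL Q) (Cfsg.Geo.decompositionStabilizer D ⊓ Cfsg.Geo.omegaGL Q)) ∧
    (∀ D : Fin 2 → Submodule F (Fin 12 → F), Cfsg.Geo.IsOrthogonalMDecomposition Q 6 D → Cfsg.Geo.IsMaximalIn (Cfsg.Geo.omegaGL Q) (Cfsg.Geo.decompositionStabilizer D ⊓ Cfsg.Geo.omegaGL Q)) ∧
    (∀ D : Fin 2 → Submodule F (Fin 12 → F), Cfsg.Geo.IsMDecomposition 6 D → (∀ i, Cfsg.Geo.IsTotallySingularQuad Q (D i)) → Cfsg.Geo.IsMaximalIn (Cfsg.Geo.omegaGL Q) (Cfsg.Geo.decompositionStabilizer D ⊓ Cfsg.Geo.omegaGL Q)) ∧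
    (Odd (Fintype.card F) → ∀ K : Subalgebra F (Matrix (Fin 12) (Fin 12) F), Cfsg.Geo.IsFieldSubalgebra 2 K → Cfsg.Geo.IsSelfAdjointFor (QuadraticMap.polar Q) K → Cfsg.Geo.IsMaximalIn (Cfsg.Geo.omegaGL Q) (Cfsg.Geo.subalgebraNormalizer K ⊓ Cfsg.Geo.omegaGL Q)) ∧
    (Odd (Fintype.card F) → ∀ K : Subalgebra F (Matrix (Fin 12) (Fin 12) F), Cfsg.Geo.IsFieldSubalgebra 3 K → Cfsg.Geo.IsSelfAdjointFor (QuadraticMap.polar Q) K → Cfsg.Geo.IsMaximalIn (Cfsg.Geo.omegaGL Q) (Cfsg.Geo.subalgebraNormalizer K ⊓ Cfsg.Geo.omegaGL Q)) ∧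
    (∀ K : Subalgebra F (Matrix (Fin 12) (Fin 12) F), Cfsg.Geo.IsFieldSubalgebra 2 K → Cfsg.Geo.IsAdjointClosedFor (QuadraticMap.polar Q) K → ¬ Cfsg.Geo.IsSelfAdjointFor (QuadraticMap.polar Q) K → (∀ k ∈ K, ∃ c : F, ∀ v : (Fin 12 → F), Q (Matrix.mulVec k v) = c * Q v) → Cfsg.Geo.IsMaximalIn (Cfsg.Geo.omegaGL Q) (Cfsg.Geo.subalgebraNormalizer K ⊓ Cfsg.Geo.omegaGL Q)) ∧
    (3 ≤ Fintype.card F → ∀ (e : Fin 12 ≃ Fin 2 × Fin 6) (P : Matrix.GeneralLinearGroup (Fin 12) F) (f₁ : (Fin 2 → F) → (Fin 2 → F) → F) (f₂ : (Fin 6 → F) → (Fin 6 → F) → F), Cfsg.Geo.IsSymplecticForm f₁ → Cfsg.Geo.IsSymplecticForm f₂ → Cfsg.Geo.IsTensorFormStructure id (QuadraticMap.polar Q) f₁ f₂ e P → (∀ (x₁ : Fin 2 → F) (x₂ : Fin 6 → F), Q (Matrix.mulVec (P : Matrix (Fin 12) (Fin 12) F) ((fun a : Fin 2 × Fin 6 => x₁ a.1 * x₂ a.2) ∘ e)) = 0) → Cfsg.Geo.IsMaximalIn (Cfsg.Geo.omegaGL Q) (Cfsg.Geo.tensorProductSubgroup 2 6 e P ⊓ Cfsg.Geo.omegaGL Q)) ∧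
    (∀ (F₀ : Subfield F) (r : ℕ) (P : Matrix.GeneralLinearGroup (Fin 12) F) (ζ : F), r.Prime → Fintype.card F = Nat.card F₀ ^ r → ζ ≠ 0 → Cfsg.Geo.IsQuadFormRationalStructure (fun v : Fin 12 → F => ζ * Q v) F₀ P → Cfsg.Geo.IsMaximalIn (Cfsg.Geo.omegaGL Q) (Cfsg.Geo.subfieldSubgroup F₀ P ⊓ Cfsg.Geo.omegaGL Q)) := by
  have hnd := nd_qf hQ
  have hfr : Module.finrank F (Fin 12 → F) = 12 := Module.finrank_fin_fun F
  have hne6 := card_ne_six (F := F)
  refine ⟨?_, ?_, ?_, ?_, ?_, ?_, ?_, ?_, ?_, ?_, ?_, ?_, ?_, ?_, ?_, ?_, ?_, ?_⟩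
  · intro W hW0 hW h4
    exact OrthListH94.ts hQ (by omega) hW0 hW (Or.inr (by omega))
  · intro hodd W hW0 hW1 hWo hne hWn
    obtain ⟨k, hk⟩ := hWo
    exact OrthListH94.nd_any hQ (by omega) hW0 hW1 hWn hne (by omega) (by omega)
  · intro W hW2 hWn hWan
    exact OrthListH94.nd_two hQ (by omega) hW2 hWn (Or.inr hWan)
  · intro h4 W hW2 hWn _
    exact OrthListH94.nd_two hQ (by omega) hW2 hWn (Or.inl h4)
  · intro W hW4 hWn
    exact OrthListH94.nd_four hQ (by omega) hW4 hWn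
  · intro _ v hv
    exact OrthListH94.point hQ (by omega) hv
  · intro hp D hD
    exact OrthListH94.lines hQ (Or.inr rfl) hp hD
  · intro h7 D hD _
    refine dk_bridge_low (Q := qf hQ) hnd (by omega) (by omega) (fun _ => by omega) hD ?_ (fun _ => by omega) ?_ ?_ ?_
    · intro h
      exact absurd h (by decide)
    · intro _ hpl
      exact ⟨by omega, by omega, by omega⟩
    · intro h; omega
    · intro h; omega
  · intro h3 D hD hm
    refine dk_bridge_low (Q := qf hQ) hnd (by omega) (by omega) (fun _ => by omega) hD ?_ (fun _ => h3) ?_ ?_ ?_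
    · intro h
      exact absurd h (by decide)
    · intro _ hpl
      exact absurd (hpl 0) (hm 0)
    · intro h; omega
    · intro h; omega
  · rintro ⟨hodd, h5⟩ D hD
    exact dk_bridge_low (Q := qf hQ) hnd (by omega) (by omega) (fun h => by omega) hD (fun _ => hodd)
      (fun h => by omega) (fun h => by omega) (fun h => by omega) (fun h => by omega)
  · intro h3 D hD
    exact dk_bridge_low (Q := qf hQ) hnd (by omega) (by omega) (fun h => by omega) hD (fun h => absurd h (by decide))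
      (fun h => by omega) (fun h => by omega) (fun h => by omega) (fun h => by omega)
  · intro D hD
    exact dk_bridge_low (Q := qf hQ) hnd (by omega) (by omega) (fun h => by omega) hD (fun h => absurd h (by decide))
      (fun h => by omega) (fun h => by omega) (fun h => by omega) (fun h => by omega)
  · intro D hD hts
    have hgen : GenHyp (qf hQ) := Or.inr (Or.inl (by omega))
    obtain ⟨hdec, hint⟩ := dec_of hD.indep hD.iSup_eq_top
    have hdd : Module.finrank F (D 0) = Module.finrank F (D 1) := by rw [hD.finrank_eq, hD.finrank_eq]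
    have P0 : ∀ M : Subgroup ((Fin 12 → F) ≃ₗ[F] (Fin 12 → F)),
        M ≤ O (qf hQ) →
        (∀ g ∈ Om (qf hQ), (∀ a ∈ D 0, g a ∈ D 0) → (∀ b ∈ D 1, g b ∈ D 1) → g ∈ M) →
        (∀ g ∈ Om (qf hQ), (∀ a ∈ D 0, g a ∈ D 1) → (∀ b ∈ D 1, g b ∈ D 0) → g ∈ M) →
        QPair (qf hQ) M (D 0) (D 1) := by
      intro M hM h1 h3
      exact ⟨hnd, hgen, hM, hts 0, hts 1, hdec, hint, by rw [hD.finrank_eq]; omega, hdd,
        by rw [hD.finrank_eq]; exact ⟨3, rfl⟩, h1, h3⟩
    refine Om_max_of (Q := qf hQ) (P := fun g => ∃ σ : Equiv.Perm (Fin 2), ∀ i, (D i).map g.toLinearMap = D (σ i))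
      (mem_decompositionStabilizer_iff D) ?_ ?_
    · obtain ⟨g, hg, hg1, hg2⟩ := (P0 (Om (qf hQ)) Om_le (fun g hg _ _ => hg) (fun g hg _ _ => hg)).exists_not
      refine ⟨g, hg, fun hcon => ?_⟩
      rcases (perm_iff hdd g).1 hcon with h4 | h4
      · exact hg1 h4
      · exact hg2 h4
    · intro M hM hH ⟨x, hx, hxP⟩
      have P := P0 M (hM.trans Om_le)
        (fun y hy h1 h3 => hH y hy ((perm_iff hdd y).2 (Or.inl ⟨h1, h3⟩)))
        (fun y hy h1 h3 => hH y hy ((perm_iff hdd y).2 (Or.inr ⟨h1, h3⟩)))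
      exact P.main ⟨x, hx, by rw [← not_or, ← perm_iff hdd]; exact hxP⟩
  · intro hodd K hK hsa
    have h2 : (2 : F) ≠ 0 := two_ne_zero_of_odd rfl hodd
    have : Nonempty (Fin 12) := ⟨⟨0, by omega⟩⟩
    exact matrix_main (Q := qf hQ) hnd h2 Nat.prime_two (by rw [Fintype.card_fin]; omega) hK hsa
  · intro hodd K hK hsa
    have h2 : (2 : F) ≠ 0 := two_ne_zero_of_odd rfl hodd
    have : Nonempty (Fin 12) := ⟨⟨0, by omega⟩⟩
    exact matrix_main (Q := qf hQ) hnd h2 Nat.prime_three (by rw [Fintype.card_fin]) hK hsa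
  · intro K hK hac hnsa hsc
    exact OrthListH94.unitary hQ (by omega) K hK hac hnsa hsc
  · intro h3 e P f₁ f₂ hf₁ hf₂ hT hpure
    exact Cfsg.Agent.Lib.TenSpH94.br_main_low (by omega) hQ (by omega) (fun h => by omega) e P hf₁ hf₂ hT hpure
  · intro F₀ r P ζ hr hcard hζ hP
    exact LowOrBridge.subf_gen (by rw [Fintype.card_fin]; omega) (qf hQ) hnd F₀ r hr hcard P ζ hζ
      (fun u hu => hP u hu)


end Cfsg.Agent.S5870
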