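import Cfsg.Statements.S5947
import Cfsg.Agent.S2904

set_option autoImplicit false
open Cfsg

namespace Cfsg.Agent.S5947

/-- a suitable primitive prime divisor -/
theorem exists_ppd (q n : ℕ) (hq : IsPrimePow q) (hn : 2 ≤ n) (hex1 : ¬ (n = 6 ∧ q = 2))
    (hex2 : ¬ (n = 2 ∧ q.Prime ∧ ∃ a : ℕ, q + 1 = 2 ^ a)) :
    ∃ r : ℕ, r.Prime ∧ r ∣ q ^ n - 1 ∧ ∀ i : ℕ, 0 < i → i < n → ¬ r ∣ q ^ i - 1 := by
  obtain ⟨p, k, hp, hk, rfl⟩ := (isPrimePow_nat_iff q).1 hq
  by_cases h6 : p = 2 ∧ k * n = 6
  · obtain ⟨rfl, h6⟩ := h6
    have hkn : k ∣ 6 := ⟨n, h6.symm⟩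
    have hk6 : k ≤ 6 := Nat.le_of_dvd (by norm_num) hkn
    interval_cases k
    · exfalso; exact hex1 ⟨by omega, rfl⟩
    · obtain rfl : n = 3 := by omega
      refine ⟨7, by norm_num, by norm_num, fun i hi hi3 => ?_⟩
      interval_cases i <;> norm_num
    · obtain rfl : n = 2 := by omega
      refine ⟨3, by norm_num, by norm_num, fun i hi hi3 => ?_⟩
      interval_cases i; norm_num
    · omega
    · omega
    · omega
  · obtain ⟨r, hr, h1, h2⟩ := Cfsg.Agent.S2904.result p (k * n) hp.one_lt (by nlinarith) (fun h => h6 h) (by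
      rintro ⟨hkn, a, ha⟩
      have hk1 : k = 1 := by
        by_contra hk1
        have : 2 ≤ k := by omega
        nlinarith
      subst hk1
      exact hex2 ⟨by omega, by rwa [pow_one], a, by rwa [pow_one]⟩)
    refine ⟨r, hr, by rwa [← pow_mul], fun i hi hin h => ?_⟩
    rw [← pow_mul] at h
    exact h2 (k * i) (Nat.mul_pos hk hi) (Nat.mul_lt_mul_of_pos_left hin hk) h

theorem card_fix {F V : Type*} [Field F] [AddCommGroup V] [Module F V] [Finite V] (f : V →ₗ[F] V) (r : ℕ)
    [Fact r.Prime] (hf : f ^ r = 1) : Nat.card V ≡ Nat.card (LinearMap.ker (f - 1)) [MOD r] := by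
  classical
  have : Fintype V := Fintype.ofFinite V
  let g : Function.End V := fun v => f v
  have hg : ∀ k : ℕ, (g ^ k : Function.End V) = fun v => (f ^ k) v := by
    intro k
    induction k with
    | zero => rfl
    | succ k ih =>
      funext v
      change (g ^ (k + 1) : Function.End V) v = _
      rw [pow_succ]
      change (g ^ k : Function.End V) (g v) = _
      rw [ih]
      change (f ^ k) (f v) = _
      rw [pow_succ]; rfl
  have h1 : g ^ r ^ 1 = 1 := by
    rw [pow_one, hg, hf]; rfl
  have h2 := Equiv.Perm.card_fixedPoints_modEq h1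
  rw [Nat.card_eq_fintype_card]
  have h3 : Nat.card (LinearMap.ker (f - 1)) = Fintype.card (Function.fixedPoints g) := by
    rw [← Nat.card_eq_fintype_card]
    apply Nat.card_congr
    refine Equiv.subtypeEquivRight (fun v => ?_)
    rw [LinearMap.mem_ker, LinearMap.sub_apply, sub_eq_zero]
    rfl
  rw [h3]; exact h2

/-- Let F ⊆ K be finite fields with |F| = q and [K : F] = n ≥ 2, regard K as an n-dimensional F-vector space, and let M ≤ GL_F(K) be the Singer group of multiplications by non-zero elements of K (cyclic of order q^n − 1). Assume (n, q) ≠ (6, 2), and that it is not the case that n = 2 with q a prime such that q + 1 is a power of 2. Then every abelian subgroup of GL_F(K) of order q^n − 1 is conjugate to M. -/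
theorem result {F K : Type*} [Field F] [Fintype F] [Field K] [Fintype K] [Algebra F K] (n : ℕ) (hn : 2 ≤ n) (hdim : Module.finrank F K = n)
    (hex1 : ¬ (n = 6 ∧ Fintype.card F = 2))
    (hex2 : ¬ (n = 2 ∧ (Fintype.card F).Prime ∧ ∃ a : ℕ, Fintype.card F + 1 = 2 ^ a))
    (U : Subgroup (Module.End F K)ˣ) (hU : IsMulCommutative U) (hcard : Nat.card U = Fintype.card K - 1) :
    ∃ g : (Module.End F K)ˣ, U.map (MulAut.conj g).toMonoidHom = (Units.map ((Algebra.lmul F K : K →ₐ[F] Module.End F K) : K →* Module.End F K)).range := by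
  classical
  have hqpp : IsPrimePow (Fintype.card F) := FiniteField.isPrimePow_card F
  obtain ⟨r, hr, hrn, hri⟩ := exists_ppd _ n hqpp hn (fun h => hex1 ⟨h.1, h.2⟩) hex2
  have : Fact r.Prime := ⟨hr⟩
  set q := Fintype.card F with hq
  have hq1 : 1 < q := Fintype.one_lt_card
  have hKcard : Fintype.card K = q ^ n := by rw [← hdim, hq]; exact Module.card_eq_pow_finrank
  have hrq : ¬ r ∣ q := by
    intro h
    have h1 : r ∣ q ^ n := dvd_pow h (by omega)
    have h2 : r ∣ q ^ n - (q ^ n - 1) := Nat.dvd_sub h1 hrn
    have h3 : q ^ n - (q ^ n - 1) = 1 := by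
      have : 0 < q ^ n := Nat.pow_pos (by omega)
      omega
    rw [h3] at h2
    exact hr.one_lt.ne' (Nat.dvd_one.1 h2)
  have hrU : r ∣ Nat.card U := by rw [hcard, hKcard]; exact hrn
  have : Finite (Module.End F K) := DFunLike.finite _
  obtain ⟨u, hu⟩ := exists_prime_orderOf_dvd_card' (G := U) r hrU
  -- u as an endomorphism
  set f : Module.End F K := ((u : (Module.End F K)ˣ) : Module.End F K) with hfdef
  have hfr : f ^ r = 1 := by
    have h1 : u ^ r = 1 := by rw [← hu]; exact pow_orderOf_eq_one u
    have h2 : ((u : (Module.End F K)ˣ)) ^ r = 1 := by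
      have := congrArg Subtype.val h1
      simpa using this
    rw [hfdef, ← Units.val_pow_eq_pow_val, h2, Units.val_one]
  have hf1 : f ≠ 1 := by
    intro h
    have h1 : u = 1 := by
      apply Subtype.ext
      apply Units.ext
      exact h
    rw [h1, orderOf_one] at hu
    exact hr.one_lt.ne hu
  have hcardW : ∀ W : Submodule F K, Nat.card W = q ^ Module.finrank F W := by
    intro W
    have : Fintype W := Fintype.ofFinite W
    rw [Nat.card_eq_fintype_card]; exact Module.card_eq_pow_finrank
  have hmod : ∀ a b : ℕ, b < a → q ^ a ≡ q ^ b [MOD r] → r ∣ q ^ (a - b) - 1 := by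
    intro a b hab h
    have h1 : r ∣ q ^ a - q ^ b := (Nat.modEq_iff_dvd' (Nat.pow_le_pow_right (by omega) hab.le)).1 h.symm
    have h2 : q ^ a - q ^ b = q ^ b * (q ^ (a - b) - 1) := by
      rw [Nat.mul_sub, mul_one, ← pow_add, Nat.add_sub_cancel' hab.le]
    rw [h2] at h1
    rcases (Nat.Prime.dvd_mul hr).1 h1 with h3 | h3
    · exact absurd (hr.dvd_of_dvd_pow h3) hrq
    · exact h3
  -- no fixed vectors
  have hker : LinearMap.ker (f - 1) = ⊥ := by
    have h1 := card_fix f r hfr
    rw [hcardW, Nat.card_eq_fintype_card, hKcard] at h1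
    set m := Module.finrank F (LinearMap.ker (f - 1)) with hm
    have hmn : m ≤ n := by rw [← hdim]; exact Submodule.finrank_le _
    rcases Nat.lt_or_ge m n with h | h
    · have h2 := hmod n m h h1
      by_contra hne
      have hm0 : 0 < m := by
        rw [Nat.pos_iff_ne_zero]
        intro h0
        exact hne (Submodule.finrank_eq_zero.1 h0)
      exact hri (n - m) (by omega) (by omega) h2
    · exfalso
      have h2 : m = Module.finrank F K := by omega
      have h3 : LinearMap.ker (f - 1) = ⊤ := Submodule.eq_top_of_finrank_eq (by rw [← hm, h2])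
      apply hf1
      have h4 : f - 1 = 0 := LinearMap.ker_eq_top.1 h3
      exact sub_eq_zero.1 h4
  -- simplicity
  have hsimple : ∀ W : Submodule F K, (∀ w ∈ W, f w ∈ W) → W = ⊥ ∨ W = ⊤ := by
    intro W hW
    by_contra hcon
    push Not at hcon
    let g : W →ₗ[F] W := f.restrict hW
    have hgk : ∀ (k : ℕ) (w : W), ((g ^ k) w : K) = (f ^ k) w := by
      intro k
      induction k with
      | zero => intro w; rfl
      | succ k ih =>
        intro w
        rw [pow_succ, pow_succ]
        change ((g ^ k) (g w) : K) = (f ^ k) (f w)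
        rw [ih]; rfl
    have hgr : g ^ r = 1 := by
      ext w
      rw [hgk, hfr]; rfl
    have h1 := card_fix g r hgr
    have h2 : LinearMap.ker (g - 1) = ⊥ := by
      rw [LinearMap.ker_eq_bot']
      intro w hw
      have h3 : (w : K) ∈ LinearMap.ker (f - 1) := by
        rw [LinearMap.mem_ker, LinearMap.sub_apply]
        have := congrArg Subtype.val hw
        exact this
      rw [hker, Submodule.mem_bot] at h3
      exact Subtype.ext h3
    rw [h2, hcardW] at h1
    have h4 : Nat.card (⊥ : Submodule F W) = 1 := by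
      rw [Nat.card_eq_one_iff_unique]; exact ⟨inferInstance, inferInstance⟩
    rw [h4] at h1
    set m := Module.finrank F W with hm
    have hm0 : 0 < m := by
      rw [Nat.pos_iff_ne_zero]
      intro h0
      exact hcon.1 (Submodule.finrank_eq_zero.1 h0)
    have hmn : m < n := by rw [← hdim]; exact Submodule.finrank_lt hcon.2
    have h5 := hmod m 0 hm0 (by rwa [pow_zero])
    exact hri m hm0 hmn h5
  -- the algebra generated by U
  let s : Set (Module.End F K) := (fun v : (Module.End F K)ˣ => (v : Module.End F K)) '' (U : Set (Module.End F K)ˣ)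
  have hs : ∀ a ∈ s, ∀ b ∈ s, a * b = b * a := by
    rintro _ ⟨a, ha, rfl⟩ _ ⟨b, hb, rfl⟩
    have := hU.is_comm.comm ⟨a, ha⟩ ⟨b, hb⟩
    have h1 : a * b = b * a := congrArg Subtype.val this
    change (a : Module.End F K) * b = b * a
    rw [← Units.val_mul, h1, Units.val_mul]
  letI : CommRing (Algebra.adjoin F s) := Algebra.adjoinCommRingOfComm F hs
  have hfs : f ∈ Algebra.adjoin F s := Algebra.subset_adjoin ⟨u, u.2, rfl⟩
  have hinj : ∀ a : Algebra.adjoin F s, a ≠ 0 → LinearMap.ker (a : Module.End F K) = ⊥ := by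
    intro a ha
    rcases hsimple (LinearMap.ker (a : Module.End F K)) (by
      intro w hw
      rw [LinearMap.mem_ker] at hw ⊢
      have h1 : (a : Module.End F K) * f = f * a := congrArg Subtype.val (mul_comm a ⟨f, hfs⟩)
      have h2 : (a : Module.End F K) (f w) = f ((a : Module.End F K) w) := by
        have := LinearMap.congr_fun h1 w
        exact this
      rw [h2, hw, map_zero]) with h | h
    · exact h
    · exfalso; apply ha
      apply Subtype.ext
      exact LinearMap.ker_eq_top.1 h
  let ev : Algebra.adjoin F s →ₗ[F] K :=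
    { toFun := fun a => (a : Module.End F K) 1
      map_add' := fun a b => rfl
      map_smul' := fun c a => rfl }
  have hevinj : Function.Injective ev := by
    rw [injective_iff_map_eq_zero]
    intro a ha
    by_contra hne
    have h1 : (1 : K) ∈ LinearMap.ker (a : Module.End F K) := LinearMap.mem_ker.2 ha
    rw [hinj a hne, Submodule.mem_bot] at h1
    exact one_ne_zero h1
  have hevsurj : Function.Surjective ev := by
    rw [← LinearMap.range_eq_top]
    rcases hsimple (LinearMap.range ev) (by
      rintro _ ⟨a, rfl⟩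
      exact ⟨⟨f, hfs⟩ * a, rfl⟩) with h | h
    · exfalso
      have h1 : ev 1 ∈ LinearMap.range ev := ⟨1, rfl⟩
      rw [h, Submodule.mem_bot] at h1
      exact one_ne_zero h1
    · exact h
  have : Nontrivial (Algebra.adjoin F s) := ⟨⟨0, 1, fun h => by
    have := congrArg (fun a : Algebra.adjoin F s => ev a) h
    simp only [map_zero] at this
    exact zero_ne_one (α := K) this⟩⟩
  have : NoZeroDivisors (Algebra.adjoin F s) := ⟨fun {a b} hab => by
    by_contra hcon
    push Not at hcon
    have h1 : (b : Module.End F K) 1 ∈ LinearMap.ker (a : Module.End F K) := by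
      rw [LinearMap.mem_ker]
      have := congrArg (fun a : Algebra.adjoin F s => ev a) hab
      simp only [map_zero] at this
      exact this
    rw [hinj a hcon.1, Submodule.mem_bot] at h1
    have h2 : (1 : K) ∈ LinearMap.ker (b : Module.End F K) := LinearMap.mem_ker.2 h1
    rw [hinj b hcon.2, Submodule.mem_bot] at h2
    exact one_ne_zero h2⟩
  have : IsDomain (Algebra.adjoin F s) := NoZeroDivisors.to_isDomain _
  have hfinA : Finite (Algebra.adjoin F s) := Finite.of_injective ev hevinj
  letI : Field (Algebra.adjoin F s) := (Finite.isField_of_domain (Algebra.adjoin F s)).toField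
  let evE : Algebra.adjoin F s ≃ₗ[F] K := LinearEquiv.ofBijective ev ⟨hevinj, hevsurj⟩
  have hfr2 : Module.finrank F (Algebra.adjoin F s) = Module.finrank F K := evE.finrank_eq
  obtain ⟨φ⟩ : Nonempty (Algebra.adjoin F s →ₐ[F] K) := by
    rw [FiniteField.nonempty_algHom_iff_finrank_dvd]
    rw [hfr2]
  have hφinj : Function.Injective φ := φ.toRingHom.injective
  have hφbij : Function.Bijective φ := by
    rw [Nat.bijective_iff_injective_and_card]
    exact ⟨hφinj, Nat.card_congr evE.toEquiv⟩
  let φE : Algebra.adjoin F s ≃ₗ[F] K := LinearEquiv.ofBijective φ.toLinearMap hφbij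
  let G : K ≃ₗ[F] K := evE.symm.trans φE
  let g : (Module.End F K)ˣ := ⟨G.toLinearMap, G.symm.toLinearMap, by ext x; simp, by ext x; simp⟩
  refine ⟨g, ?_⟩
  apply Subgroup.eq_of_le_of_card_ge
  · rintro _ ⟨v, hv, rfl⟩
    have hvs : (v : Module.End F K) ∈ Algebra.adjoin F s := Algebra.subset_adjoin ⟨v, hv, rfl⟩
    set b : Algebra.adjoin F s := ⟨v, hvs⟩ with hb
    have hb0 : φ b ≠ 0 := by
      intro h
      have h1 : b = 0 := hφinj (by rw [h, map_zero])
      have h2 : (v : Module.End F K) = 0 := congrArg Subtype.val h1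
      exact v.ne_zero h2
    refine ⟨Units.mk0 (φ b) hb0, ?_⟩
    apply Units.ext
    apply LinearMap.ext
    intro x
    change φ b * x = ((g * v * g⁻¹ : (Module.End F K)ˣ) : Module.End F K) x
    obtain ⟨c, rfl⟩ := hφbij.2 x
    have h1 : ((g⁻¹ : (Module.End F K)ˣ) : Module.End F K) (φ c) = ev c := by
      change G.symm (φ c) = _
      rw [LinearEquiv.symm_apply_eq]
      change φ c = φE (evE.symm (evE c))
      rw [LinearEquiv.symm_apply_apply]; rfl
    have h2 : ((g * v * g⁻¹ : (Module.End F K)ˣ) : Module.End F K) (φ c) = G ((v : Module.End F K) (ev c)) := by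
      change (g : Module.End F K) ((v : Module.End F K) (((g⁻¹ : (Module.End F K)ˣ) : Module.End F K) (φ c))) = _
      rw [h1]; rfl
    have h3 : (v : Module.End F K) (ev c) = evE (b * c) := rfl
    rw [h2, h3]
    change _ = φE (evE.symm (evE (b * c)))
    rw [LinearEquiv.symm_apply_apply]
    change _ = φ (b * c)
    rw [map_mul]
  · have h1 : Nat.card (U.map (MulAut.conj g).toMonoidHom) = Nat.card U :=
      Subgroup.card_map_of_injective (MulAut.conj g).injective
    rw [h1, hcard]
    have h2 : Function.Injective (Units.map ((Algebra.lmul F K : K →ₐ[F] Module.End F K) : K →* Module.End F K)) := by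
      apply Units.map_injective
      intro a b hab
      have := LinearMap.congr_fun hab 1
      simpa using this
    rw [← Nat.card_congr (MonoidHom.ofInjective h2).toEquiv, Nat.card_eq_fintype_card, Fintype.card_units]

end Cfsg.Agent.S5947
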